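import Mathlib
import Groth.Agent.H06Unram.EtaleLift

/-!
# Topological invariance of sections of etale morphisms

Maps to an etale scheme extend uniquely along integral, universally injective, surjective morphisms.
-/

universe u

set_option linter.style.haveILetI false

open CategoryTheory Limits MorphismProperty AlgebraicGeometry

namespace Groth.Agent.H18Et.TopInv

attribute [local simp] pullback.lift_fst pullback.lift_snd pullback.lift_fst_assoc pullback.lift_snd_assoc

open Groth.Agent.H06Unram (hom_ext_of_surjective)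

theorem isIso_of_etale_of_isIso_baseChange {W T T₀ : Scheme.{u}} (q : W ⟶ T) [Etale q]
    (i : T₀ ⟶ T) [IsIntegralHom i] [UniversallyInjective i] [Surjective i] [IsIso (pullback.snd q i)] : IsIso q := by
  haveI : Surjective q := ⟨fun t => by
    obtain ⟨t₀, rfl⟩ := i.surjective t
    obtain ⟨z, rfl⟩ := (pullback.snd q i).surjective t₀
    exact ⟨pullback.fst q i z, by rw [← Scheme.Hom.comp_apply, pullback.condition, Scheme.Hom.comp_apply]⟩⟩
  haveI : Surjective (pullback.diagonal q) := by
    refine ⟨fun z => ?_⟩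
    let e₁ : pullback (pullback.fst q q ≫ q) i ⟶ pullback q q := pullback.fst _ _
    obtain ⟨z', hz'⟩ := (inferInstance : Surjective e₁).surj z
    have c1 : (e₁ ≫ pullback.fst q q) ≫ q = pullback.snd (pullback.fst q q ≫ q) i ≫ i :=
      (Category.assoc _ _ _).trans pullback.condition
    have c2 : (e₁ ≫ pullback.snd q q) ≫ q = pullback.snd (pullback.fst q q ≫ q) i ≫ i := by
      rw [Category.assoc, ← pullback.condition (f := q) (g := q), ← Category.assoc, c1]
    have h1 : pullback.lift (e₁ ≫ pullback.fst q q) (pullback.snd _ i) c1 =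
        pullback.lift (e₁ ≫ pullback.snd q q) (pullback.snd _ i) c2 := by
      rw [← cancel_mono (pullback.snd q i)]
      simp
    have h2 : e₁ ≫ pullback.fst q q = e₁ ≫ pullback.snd q q := by
      simpa using congr($h1 ≫ pullback.fst q i)
    refine ⟨(e₁ ≫ pullback.fst q q) z', ?_⟩
    rw [← Scheme.Hom.comp_apply, ← hz']
    have h3 : (e₁ ≫ pullback.fst q q) ≫ pullback.diagonal q = e₁ := by
      apply pullback.hom_ext
      · simp
      · simp [h2]
    rw [h3]
  haveI : IsIso (pullback.diagonal q) :=
    (isIso_iff_isOpenImmersion_and_surjective _).mpr ⟨inferInstance, inferInstance⟩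
  haveI : Mono q := (pullback.isIso_diagonal_iff q).mp inferInstance
  haveI := IsOpenImmersion.of_flat_of_mono q
  exact (isIso_iff_isOpenImmersion_and_surjective q).mpr ⟨inferInstance, inferInstance⟩

/-- Sections of an etale morphism over a surjective closed subscheme extend uniquely. -/
theorem exists_section {P T T₀ : Scheme.{u}} (q : P ⟶ T) [Etale q] (i : T₀ ⟶ T)
    [IsIntegralHom i] [UniversallyInjective i] [Surjective i] (σ₀ : T₀ ⟶ P) (h : σ₀ ≫ q = i) :
    ∃ σ : T ⟶ P, σ ≫ q = 𝟙 T ∧ i ≫ σ = σ₀ := by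
  let σ' : T₀ ⟶ pullback q i := pullback.lift σ₀ (𝟙 _) (by simp [h])
  haveI : Etale (pullback.snd q i) := inferInstance
  haveI : Etale (σ' ≫ pullback.snd q i) := by simp [σ']; infer_instance
  haveI : Etale σ' := Etale.of_comp σ' (pullback.snd q i)
  haveI : Mono σ' := by
    haveI : Mono (σ' ≫ pullback.snd q i) := by simp [σ']; infer_instance
    exact mono_of_mono σ' (pullback.snd q i)
  haveI : IsOpenImmersion σ' := IsOpenImmersion.of_flat_of_mono σ'
  haveI : Surjective (pullback.fst q i) := inferInstance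
  haveI : UniversallyInjective (pullback.fst q i) := MorphismProperty.of_isPullback (P := @UniversallyInjective) (IsPullback.of_hasPullback q i).flip ‹_›
  haveI : IsIntegralHom (pullback.fst q i) := inferInstance
  have hemb : Topology.IsClosedEmbedding (pullback.fst q i) :=
    .of_continuous_injective_isClosedMap (pullback.fst q i).continuous
      (pullback.fst q i).injective (pullback.fst q i).isClosedMap
  let W : P.Opens := ⟨pullback.fst q i '' Set.range σ', by
    rw [← isClosed_compl_iff]
    have : (pullback.fst q i '' Set.range σ')ᶜ = pullback.fst q i '' (Set.range σ')ᶜ :=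
      (Set.image_compl_eq ⟨hemb.injective, (pullback.fst q i).surjective⟩).symm
    rw [this]
    exact hemb.isClosedMap _ σ'.isOpenEmbedding.isOpen_range.isClosed_compl⟩
  haveI : Etale (W.ι ≫ q) := inferInstance
  have hσW : Set.range σ₀ ⊆ Set.range W.ι := by
    rw [Scheme.Opens.range_ι]
    rintro _ ⟨t, rfl⟩
    exact ⟨σ' t, ⟨t, rfl⟩, by rw [← Scheme.Hom.comp_apply, pullback.lift_fst]⟩
  let τ : T₀ ⟶ W := IsOpenImmersion.lift W.ι σ₀ hσW
  have hτ : τ ≫ W.ι = σ₀ := IsOpenImmersion.lift_fac _ _ _
  let τ' : T₀ ⟶ pullback (W.ι ≫ q) i := pullback.lift τ (𝟙 _) (by simp [reassoc_of% hτ, h])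
  haveI : IsIso (pullback.snd (W.ι ≫ q) i) := by
    let j : pullback (W.ι ≫ q) i ⟶ pullback q i :=
      pullback.map _ _ _ _ W.ι (𝟙 _) (𝟙 _) (by simp) (by simp)
    have hj : Set.range j ⊆ Set.range σ' := by
      rintro _ ⟨z, rfl⟩
      have h1 : pullback.fst q i (j z) = W.ι (pullback.fst (W.ι ≫ q) i z) := by
        rw [← Scheme.Hom.comp_apply, ← Scheme.Hom.comp_apply]
        simp [j, pullback.map]
      obtain ⟨w, hw, hwe⟩ : pullback.fst q i (j z) ∈ (W : Set P) := by
        rw [h1]; exact (pullback.fst (W.ι ≫ q) i z).2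
      rwa [← hemb.injective hwe]
    let k := IsOpenImmersion.lift σ' j hj
    have hk : k ≫ σ' = j := IsOpenImmersion.lift_fac _ _ _
    have hk' : k = pullback.snd (W.ι ≫ q) i := by
      simpa [σ', j, pullback.map] using congr($hk ≫ pullback.snd q i)
    refine ⟨τ', ?_, by simp [τ']⟩
    apply pullback.hom_ext
    · rw [← cancel_mono W.ι]
      have := congr($hk ≫ pullback.fst q i)
      simp [σ', j, hk', pullback.map] at this
      simp [τ', hτ, this]
    · simp [τ']
  haveI : IsIso (W.ι ≫ q) := isIso_of_etale_of_isIso_baseChange (W.ι ≫ q) i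
  refine ⟨inv (W.ι ≫ q) ≫ W.ι, by simp, ?_⟩
  have : i ≫ inv (W.ι ≫ q) = τ := by
    rw [IsIso.comp_inv_eq, ← Category.assoc, hτ, h]
  rw [← Category.assoc, this, hτ]

theorem existsUnique_lift {X S T T₀ : Scheme.{u}} (p : X ⟶ S) [Etale p]
    (g : T ⟶ S) (i : T₀ ⟶ T) [IsIntegralHom i] [UniversallyInjective i] [Surjective i]
    (f₀ : T₀ ⟶ X) (h₀ : f₀ ≫ p = i ≫ g) : ∃! f : T ⟶ X, f ≫ p = g ∧ i ≫ f = f₀ := by
  haveI : Etale (pullback.snd p g) := inferInstance
  obtain ⟨σ, hσ, hσi⟩ := exists_section (pullback.snd p g) i (pullback.lift f₀ i h₀) (by simp)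
  refine ⟨σ ≫ pullback.fst p g, ⟨?_, ?_⟩, fun f hf => ?_⟩
  · rw [Category.assoc, pullback.condition, reassoc_of% hσ]
  · simp [reassoc_of% hσi]
  · refine hom_ext_of_surjective p i _ _ ?_ ?_
    · rw [hf.1, Category.assoc, pullback.condition, reassoc_of% hσ]
    · rw [hf.2, reassoc_of% hσi, pullback.lift_fst]

theorem isOpenImmersion_of_etale_of_universallyInjective {X Y : Scheme.{u}} (f : X ⟶ Y) [Etale f]
    [UniversallyInjective f] : IsOpenImmersion f := by
  haveI : Surjective (pullback.diagonal f) :=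
    (UniversallyInjective.iff_diagonal (f := f)).mp inferInstance
  haveI : IsIso (pullback.diagonal f) :=
    (isIso_iff_isOpenImmersion_and_surjective _).mpr ⟨inferInstance, inferInstance⟩
  haveI : Mono f := (pullback.isIso_diagonal_iff f).mp inferInstance
  exact IsOpenImmersion.of_flat_of_mono f

theorem overPullback_map_bijective {S S' : Scheme.{u}} (g : S' ⟶ S) [IsIntegralHom g]
    [UniversallyInjective g] [Surjective g] (X Y : Over S) [Etale X.hom] :
    Function.Bijective (fun φ : Y ⟶ X => (Over.pullback g).map φ) := by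
  let i : pullback Y.hom g ⟶ Y.left := pullback.fst Y.hom g
  haveI : IsIntegralHom i := inferInstanceAs (IsIntegralHom (pullback.fst Y.hom g))
  haveI : UniversallyInjective i := MorphismProperty.of_isPullback (P := @UniversallyInjective) (IsPullback.of_hasPullback Y.hom g).flip ‹_›
  haveI : Surjective i := inferInstanceAs (Surjective (pullback.fst Y.hom g))
  have hmap : ∀ φ : Y ⟶ X,
      ((Over.pullback g).map φ).left ≫ pullback.fst X.hom g = i ≫ φ.left :=
    fun φ => pullback.lift_fst _ _ _
  have hsnd : ∀ m : (Over.pullback g).obj Y ⟶ (Over.pullback g).obj X,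
      m.left ≫ pullback.snd X.hom g = pullback.snd Y.hom g := fun m => Over.w m
  refine ⟨fun φ₁ φ₂ h => ?_, fun ψ => ?_⟩
  · refine Over.OverMorphism.ext (hom_ext_of_surjective X.hom i _ _
      ((Over.w φ₁).trans (Over.w φ₂).symm) ?_)
    rw [← hmap, ← hmap]
    exact congrArg (fun m => m.left ≫ pullback.fst X.hom g) h
  · have hψ : (ψ.left ≫ pullback.fst X.hom g) ≫ X.hom = i ≫ Y.hom :=
      (Category.assoc _ _ _).trans ((congrArg (ψ.left ≫ ·) pullback.condition).trans
        ((Category.assoc _ _ _).symm.trans ((congrArg (· ≫ g) (hsnd ψ)).trans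
          pullback.condition.symm)))
    obtain ⟨f, ⟨hf, hfi⟩, -⟩ := existsUnique_lift X.hom Y.hom i _ hψ
    refine ⟨Over.homMk f hf, Over.OverMorphism.ext (pullback.hom_ext ?_ ?_)⟩
    · exact (hmap _).trans hfi
    · exact (hsnd _).trans (hsnd ψ).symm

end Groth.Agent.H18Et.TopInv

namespace Groth.Agent.H18Et.TopInv

/-- Base change of etale schemes along a universal homeomorphism is fully faithful, in any full
subcategory of etale schemes. -/
theorem pullback_full_faithful {S S' : Scheme.{u}} (g : S' ⟶ S) [IsIntegralHom g]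
    [UniversallyInjective g] [Surjective g] (P : MorphismProperty Scheme.{u})
    [P.IsStableUnderBaseChange] (hP : ∀ {A B : Scheme.{u}} (m : A ⟶ B), P m → Etale m) :
    (MorphismProperty.Over.pullback P ⊤ g).Full ∧ (MorphismProperty.Over.pullback P ⊤ g).Faithful := by
  let F := MorphismProperty.Over.forget P ⊤ S ⋙ Over.pullback g
  have hb : ∀ X Y : P.Over ⊤ S, Function.Bijective (fun φ : Y ⟶ X => F.map φ) := by
    intro X Y
    haveI : Etale ((MorphismProperty.Over.forget P ⊤ S).obj X).hom := hP _ X.prop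
    exact (overPullback_map_bijective g _ _).comp
      ⟨(MorphismProperty.Over.forget P ⊤ S).map_injective, (MorphismProperty.Over.forget P ⊤ S).map_surjective⟩
  haveI : F.Full := ⟨fun {Y X} ψ => (hb X Y).2 ψ⟩
  haveI : F.Faithful := ⟨fun {Y X} φ₁ φ₂ h => (hb X Y).1 h⟩
  let e : MorphismProperty.Over.pullback P ⊤ g ⋙ MorphismProperty.Over.forget P ⊤ S' ≅ F :=
    MorphismProperty.Over.pullbackCompForgetIso (P := P) (Q := ⊤) g
  haveI := Functor.Full.of_iso e.symm
  haveI := Functor.Faithful.of_iso e.symm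
  exact ⟨Functor.Full.of_comp_faithful _ (MorphismProperty.Over.forget P ⊤ S'),
    Functor.Faithful.of_comp _ (MorphismProperty.Over.forget P ⊤ S')⟩

end Groth.Agent.H18Et.TopInv
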