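import Mathlib.RingTheory.TotallySplit
import Mathlib.RingTheory.Etale.Descent
import Mathlib.RingTheory.Flat.Equalizer
import Mathlib.RingTheory.Flat.EquationalCriterion
import Mathlib.RingTheory.Flat.Localization
import Mathlib.RingTheory.Smooth.Fiber
import Mathlib.RingTheory.Finiteness.ModuleFinitePresentation
import Mathlib.RingTheory.LocalRing.Module
import Mathlib.LinearAlgebra.Matrix.ToLin
import Mathlib.LinearAlgebra.FreeModule.PID
import Groth.Agent.H3CAlg.FiniteAlg

/-!
# Equalizers of maps of finite etale algebras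

For `f g : B →ₐ[R] A` with `A`, `B` finite etale over `R`: the linear map `δ = f - g` has projective
cokernel, hence `eq(f, g)` is finite etale and commutes with every base change.
-/

set_option autoImplicit false

universe u v w

open TensorProduct

namespace Groth.Agent.H18Et.FEtEq

section Combinatorics

variable {R : Type u} [CommRing R] {n m : ℕ}

/-- The difference matrix of two maps of index sets. -/
def incMat (φ ψ : Fin m → Fin n) (S : Type u) [CommRing S] : Matrix (Fin m) (Fin n) S :=
  Matrix.of fun i j => (if φ i = j then 1 else 0) - (if ψ i = j then 1 else 0)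

theorem incMat_mulVec (φ ψ : Fin m → Fin n) (b : Fin n → R) (i : Fin m) :
    (incMat φ ψ R).mulVec b i = b (φ i) - b (ψ i) := by
  simp [incMat, Matrix.mulVec, dotProduct, sub_mul, Finset.sum_sub_distrib]

theorem incMat_saturated (φ ψ : Fin m → Fin n) (k : ℤ) (hk : k ≠ 0) (a : Fin m → ℤ)
    (ha : k • a ∈ LinearMap.range (Matrix.toLin' (incMat φ ψ ℤ))) :
    a ∈ LinearMap.range (Matrix.toLin' (incMat φ ψ ℤ)) := by
  obtain ⟨b, hb⟩ := ha
  have hb' : ∀ i, b (φ i) - b (ψ i) = k * a i := fun i => by
    have := congrFun hb i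
    rwa [Matrix.toLin'_apply, incMat_mulVec, Pi.smul_apply, smul_eq_mul] at this
  -- choose a class-wise constant lift of `b` modulo `k`
  refine ⟨fun j => b j / k, funext fun i => ?_⟩
  rw [Matrix.toLin'_apply, incMat_mulVec]
  have h1 : b (φ i) % k = b (ψ i) % k :=
    Int.ModEq.symm (Int.modEq_iff_dvd.mpr ⟨a i, hb' i⟩)
  have h2 := Int.emod_add_mul_ediv (b (φ i)) k
  have h3 := Int.emod_add_mul_ediv (b (ψ i)) k
  have h4 : k * (b (φ i) / k - b (ψ i) / k) = k * a i := by
    rw [mul_sub, ← hb' i]; linarith
  exact mul_left_cancel₀ hk h4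

/-- The difference map admits an integral generalized inverse. -/
theorem exists_incMat_regular (φ ψ : Fin m → Fin n) :
    ∃ σ : Matrix (Fin n) (Fin m) ℤ, incMat φ ψ ℤ * σ * incMat φ ψ ℤ = incMat φ ψ ℤ := by
  let L := Matrix.toLin' (incMat φ ψ ℤ)
  have : Module.IsTorsionFree ℤ ((Fin m → ℤ) ⧸ LinearMap.range L) := by
    rw [Module.isTorsionFree_iff_smul_eq_zero]
    intro k q hq
    obtain ⟨a, rfl⟩ := Submodule.mkQ_surjective _ q
    by_cases hk : k = 0
    · exact Or.inl hk
    · right
      rw [Submodule.mkQ_apply, ← Submodule.Quotient.mk_smul, Submodule.Quotient.mk_eq_zero] at hq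
      rw [Submodule.mkQ_apply, Submodule.Quotient.mk_eq_zero]
      exact incMat_saturated φ ψ k hk a hq
  have : Module.Free ℤ ((Fin m → ℤ) ⧸ LinearMap.range L) :=
    Module.free_of_finite_type_torsion_free'
  obtain ⟨s, hs⟩ := Module.projective_lifting_property (LinearMap.range L).mkQ LinearMap.id
    (Submodule.mkQ_surjective _)
  have : Module.Free ℤ (LinearMap.range L) := inferInstance
  obtain ⟨t, ht⟩ := Module.projective_lifting_property L.rangeRestrict LinearMap.id
    L.surjective_rangeRestrict
  let r : (Fin m → ℤ) →ₗ[ℤ] LinearMap.range L :=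
    (LinearMap.id - s ∘ₗ (LinearMap.range L).mkQ).codRestrict _ (fun a => by
      rw [← (Submodule.Quotient.mk_eq_zero _ : _ ↔ _)]
      have := LinearMap.congr_fun hs ((LinearMap.range L).mkQ a)
      simp only [LinearMap.coe_comp, Function.comp_apply, LinearMap.id_coe, id_eq,
        Submodule.mkQ_apply] at this
      simp [this])
  refine ⟨LinearMap.toMatrix' (t ∘ₗ r), ?_⟩
  apply Matrix.toLin'.injective
  rw [Matrix.toLin'_mul, Matrix.toLin'_mul, Matrix.toLin'_toMatrix']
  refine LinearMap.ext fun b => ?_
  have h1 : r (L b) = ⟨L b, LinearMap.mem_range_self L b⟩ := by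
    apply Subtype.ext
    simp [r, (Submodule.Quotient.mk_eq_zero _).mpr (LinearMap.mem_range_self L b)]
  have h2 := congrArg Subtype.val (LinearMap.congr_fun ht ⟨L b, LinearMap.mem_range_self L b⟩)
  simp only [LinearMap.coe_comp, Function.comp_apply]
  change L (t (r (L b))) = L b
  rw [h1]
  exact h2

theorem flat_coker_incMat (φ ψ : Fin m → Fin n) :
    Module.Flat R ((Fin m → R) ⧸ LinearMap.range (Matrix.toLin' (incMat φ ψ R))) := by
  obtain ⟨σ, hσ⟩ := exists_incMat_regular φ ψ
  have hL : (incMat φ ψ ℤ).map (Int.castRingHom R) = incMat φ ψ R := by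
    ext i j
    simp only [incMat, Matrix.map_apply, Matrix.of_apply]
    split_ifs <;> simp
  let τ := σ.map (Int.castRingHom R)
  have hτ : incMat φ ψ R * τ * incMat φ ψ R = incMat φ ψ R := by
    rw [← hL, ← Matrix.map_mul, ← Matrix.map_mul, hσ]
  let L := Matrix.toLin' (incMat φ ψ R)
  let P : (Fin m → R) →ₗ[R] (Fin m → R) := LinearMap.id - L ∘ₗ Matrix.toLin' τ
  have hP : ∀ x ∈ LinearMap.range L, P x = 0 := by
    rintro _ ⟨b, rfl⟩
    have := LinearMap.congr_fun (congrArg Matrix.toLin' hτ) b
    rw [Matrix.toLin'_mul, Matrix.toLin'_mul] at this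
    simp only [P, LinearMap.sub_apply, LinearMap.id_coe, id_eq, LinearMap.coe_comp,
      Function.comp_apply]
    exact sub_eq_zero.mpr this.symm
  refine Module.Flat.of_retract ((LinearMap.range L).liftQ P hP) (LinearMap.range L).mkQ ?_
  refine Submodule.linearMap_qext _ (LinearMap.ext fun x => ?_)
  change Submodule.Quotient.mk (x - L (Matrix.toLin' τ x)) = Submodule.Quotient.mk x
  rw [Submodule.Quotient.eq, sub_sub_cancel_left]
  exact neg_mem (LinearMap.mem_range_self L _)

end Combinatorics

section SplitLocal

variable {R : Type u} [CommRing R]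

theorem exists_eq_eval [IsLocalRing R] {n : ℕ} (h : (Fin n → R) →ₐ[R] R) :
    ∃ j, ∀ b, h b = b j := by
  classical
  have hsum : ∀ b : Fin n → R, h b = ∑ j, b j * h (Pi.single j 1) := fun b => by
    conv_lhs => rw [show b = ∑ j, b j • (Pi.single j 1 : Fin n → R) by
      ext k; simp [Pi.single_apply]]
    simp [map_sum]
  have hidem : ∀ j, h (Pi.single j 1) = 0 ∨ h (Pi.single j 1) = 1 := fun j => by
    have he : IsIdempotentElem (h (Pi.single j 1)) := by
      rw [IsIdempotentElem, ← map_mul, ← Pi.single_mul, mul_one]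
    rcases IsLocalRing.isUnit_or_isUnit_one_sub_self (h (Pi.single j 1)) with hu | hu
    · exact Or.inr (hu.mul_eq_left.mp he)
    · refine Or.inl (hu.mul_right_eq_zero.mp ?_)
      rw [sub_mul, one_mul, he.eq, sub_self]
  have hone := hsum 1
  rw [map_one] at hone
  obtain ⟨j, hj⟩ : ∃ j, h (Pi.single j 1) = 1 := by
    by_contra hne
    push Not at hne
    rw [Finset.sum_eq_zero fun j _ => by rw [(hidem j).resolve_right (hne j), mul_zero]] at hone
    exact one_ne_zero hone
  refine ⟨j, fun b => ?_⟩
  rw [hsum b, Finset.sum_eq_single j ?_ (by simp), hj, mul_one]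
  intro k _ hk
  have : h (Pi.single k 1) * h (Pi.single j 1) = 0 := by
    rw [← map_mul]
    convert map_zero h
    ext l
    by_cases hlk : l = k
    · subst hlk; simp [Pi.single_eq_of_ne hk]
    · simp [Pi.single_eq_of_ne hlk]
  rw [hj, mul_one] at this
  rw [this, mul_zero]

variable {A B : Type v} [CommRing A] [CommRing B] [Algebra R A] [Algebra R B]

theorem flat_coker_of_isFiniteSplit [IsLocalRing R] [Algebra.IsFiniteSplit R A]
    [Algebra.IsFiniteSplit R B] (f g : B →ₐ[R] A) :
    Module.Flat R (A ⧸ LinearMap.range (f.toLinearMap - g.toLinearMap)) := by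
  obtain ⟨m, ⟨eA⟩⟩ := Algebra.IsFiniteSplit.nonempty_algEquiv_fun R A
  obtain ⟨n, ⟨eB⟩⟩ := Algebra.IsFiniteSplit.nonempty_algEquiv_fun R B
  choose φ hφ using fun i => exists_eq_eval
    ((Pi.evalAlgHom R (fun _ : Fin m => R) i).comp (eA.toAlgHom.comp (f.comp eB.symm.toAlgHom)))
  choose ψ hψ using fun i => exists_eq_eval
    ((Pi.evalAlgHom R (fun _ : Fin m => R) i).comp (eA.toAlgHom.comp (g.comp eB.symm.toAlgHom)))
  have hrange : (LinearMap.range (f.toLinearMap - g.toLinearMap)).map (eA.toLinearEquiv : A →ₗ[R] _)
      = LinearMap.range (Matrix.toLin' (incMat φ ψ R)) := by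
    rw [← LinearMap.range_comp]
    have : Matrix.toLin' (incMat φ ψ R) =
        ((eA.toLinearEquiv : A →ₗ[R] _) ∘ₗ (f.toLinearMap - g.toLinearMap)) ∘ₗ
          (eB.symm.toLinearEquiv : _ →ₗ[R] B) := by
      refine LinearMap.ext fun b => funext fun i => ?_
      rw [Matrix.toLin'_apply, incMat_mulVec, ← hφ i b, ← hψ i b]
      simp
    rw [this, LinearMap.range_comp_of_range_eq_top _ (LinearEquiv.range _)]
  have := flat_coker_incMat (R := R) φ ψ
  exact Module.Flat.of_linearEquiv
    (Submodule.Quotient.equiv _ _ eA.toLinearEquiv hrange)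

end SplitLocal

section General

variable {R : Type u} [CommRing R]
variable {A B : Type u} [CommRing A] [CommRing B] [Algebra R A] [Algebra R B]

/-- base change of the cokernel of `f - g`. -/
theorem flat_baseChange_coker_iff (f g : B →ₐ[R] A) (L : Type u) [CommRing L] [Algebra R L] :
    Module.Flat L (L ⊗[R] (A ⧸ LinearMap.range (f.toLinearMap - g.toLinearMap))) ↔
    Module.Flat L ((L ⊗[R] A) ⧸ LinearMap.range
      ((Algebra.TensorProduct.map (AlgHom.id L L) f).toLinearMap -
        (Algebra.TensorProduct.map (AlgHom.id L L) g).toLinearMap)) := by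
  let δ := f.toLinearMap - g.toLinearMap
  have hδ : (Algebra.TensorProduct.map (AlgHom.id L L) f).toLinearMap -
      (Algebra.TensorProduct.map (AlgHom.id L L) g).toLinearMap = δ.baseChange L := by
    refine TensorProduct.AlgebraTensorModule.ext fun l x => ?_
    simp [δ, tmul_sub]
  rw [hδ]
  have hex : Function.Exact (δ.baseChange L) ((LinearMap.range δ).mkQ.baseChange L) := by
    intro x
    exact lTensor_exact L (LinearMap.exact_map_mkQ_range δ) (Submodule.mkQ_surjective _) x
  have hsurj : Function.Surjective ((LinearMap.range δ).mkQ.baseChange L) :=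
    LinearMap.lTensor_surjective L (Submodule.mkQ_surjective _)
  let e := hex.linearEquivOfSurjective hsurj
  exact ⟨fun _ => Module.Flat.of_linearEquiv e, fun _ => Module.Flat.of_linearEquiv e.symm⟩

theorem isFiniteSplit_baseChange_tower (L L' : Type u) [CommRing L] [CommRing L'] [Algebra R L]
    [Algebra R L'] [Algebra L L'] [IsScalarTower R L L'] [Algebra.IsFiniteSplit L (L ⊗[R] A)] :
    Algebra.IsFiniteSplit L' (L' ⊗[R] A) :=
  .of_algEquiv (Algebra.TensorProduct.cancelBaseChange R L L' L' A)

variable (A) in
/-- Locally, a finite etale algebra is split after a faithfully flat extension. -/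
theorem exists_split_of_isLocalRing [Module.Finite R A] [Algebra.Etale R A] (L : Type u)
    [CommRing L] [IsLocalRing L] [Algebra R L] :
    ∃ (T : Type u) (_ : CommRing T) (_ : Algebra L T) (_ : Module.FaithfullyFlat L T),
      Algebra.IsFiniteSplit T (T ⊗[L] (L ⊗[R] A)) := by
  have : Module.Free L (L ⊗[R] A) := Module.free_of_flat_of_isLocalRing
  obtain ⟨T, i1, i2, i3, -, -, h⟩ :=
    Algebra.IsFiniteSplit.exists_tensorProduct_of_etale (R := L) (S := L ⊗[R] A)
      (n := Module.finrank L (L ⊗[R] A)) Module.rankAtStalk_eq_finrank_of_free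
  exact ⟨T, i1, i2, i3, h⟩

variable [Module.Finite R A] [Algebra.Etale R A] [Module.Finite R B] [Algebra.Etale R B]
  (f g : B →ₐ[R] A)

/-- The property to be propagated: flatness of the base changed cokernel. -/
abbrev FlatCoker (L : Type u) [CommRing L] [Algebra R L] : Prop :=
  Module.Flat L (L ⊗[R] (A ⧸ LinearMap.range (f.toLinearMap - g.toLinearMap)))

omit [Module.Finite R A] [Algebra.Etale R A] [Module.Finite R B] [Algebra.Etale R B] in
theorem flatCoker_of_localizations (L : Type u) [CommRing L] [Algebra R L]
    (h : ∀ (P : Ideal L) [P.IsMaximal], FlatCoker f g (Localization.AtPrime P)) :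
    FlatCoker f g L := by
  refine Module.flat_of_localized_maximal _ fun P hP => ?_
  have := h P
  let C := A ⧸ LinearMap.range (f.toLinearMap - g.toLinearMap)
  have h1 : Module.Flat (Localization.AtPrime P) (Localization.AtPrime P ⊗[L] (L ⊗[R] C)) :=
    Module.Flat.of_linearEquiv (AlgebraTensorModule.cancelBaseChange R L (Localization.AtPrime P)
      (Localization.AtPrime P) C)
  have h2 : Module.Flat (Localization P.primeCompl)
      (LocalizedModule P.primeCompl (L ⊗[R] C)) :=
    Module.Flat.of_linearEquiv (LocalizedModule.equivTensorProduct P.primeCompl (L ⊗[R] C))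
  exact Module.Flat.trans L (Localization P.primeCompl) _

omit [Module.Finite R A] [Algebra.Etale R A] [Module.Finite R B] [Algebra.Etale R B] in
theorem flatCoker_descent (L L' : Type u) [CommRing L] [CommRing L'] [Algebra R L] [Algebra R L']
    [Algebra L L'] [IsScalarTower R L L'] [Module.FaithfullyFlat L L'] (h : FlatCoker f g L') :
    FlatCoker f g L := by
  let C := A ⧸ LinearMap.range (f.toLinearMap - g.toLinearMap)
  have : Module.Flat L' (L' ⊗[L] (L ⊗[R] C)) :=
    Module.Flat.of_linearEquiv (AlgebraTensorModule.cancelBaseChange R L L' L' C)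
  exact Module.Flat.of_flat_tensorProduct _ _ L'

omit [Module.Finite R A] [Algebra.Etale R A] [Module.Finite R B] [Algebra.Etale R B] in
theorem flatCoker_of_split (L : Type u) [CommRing L] [IsLocalRing L] [Algebra R L]
    [Algebra.IsFiniteSplit L (L ⊗[R] A)] [Algebra.IsFiniteSplit L (L ⊗[R] B)] :
    FlatCoker f g L :=
  (flat_baseChange_coker_iff f g L).mpr (flat_coker_of_isFiniteSplit _ _)

theorem flatCoker_of_isLocalRing (L : Type u) [CommRing L] [IsLocalRing L] [Algebra R L]
    [Algebra.IsFiniteSplit L (L ⊗[R] A)] : FlatCoker f g L := by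
  obtain ⟨T, _, _, _, hT⟩ := exists_split_of_isLocalRing (R := R) (A := B) L
  letI : Algebra R T := ((algebraMap L T).comp (algebraMap R L)).toAlgebra
  haveI : IsScalarTower R L T := .of_algebraMap_eq fun _ => rfl
  have : Algebra.IsFiniteSplit T (T ⊗[R] B) :=
    .of_algEquiv (Algebra.TensorProduct.cancelBaseChange R L T T B)
  refine flatCoker_descent f g L T (flatCoker_of_localizations f g T fun P _ => ?_)
  have : Algebra.IsFiniteSplit (Localization.AtPrime P) (Localization.AtPrime P ⊗[R] B) :=
    isFiniteSplit_baseChange_tower T (Localization.AtPrime P)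
  have : IsScalarTower R L (Localization.AtPrime P) := inferInstance
  have : Algebra.IsFiniteSplit (Localization.AtPrime P) (Localization.AtPrime P ⊗[R] A) :=
    isFiniteSplit_baseChange_tower L (Localization.AtPrime P)
  exact flatCoker_of_split f g _

theorem flatCoker_all (L : Type u) [CommRing L] [Algebra R L] : FlatCoker f g L := by
  refine flatCoker_of_localizations f g L fun P _ => ?_
  let L₀ := Localization.AtPrime P
  obtain ⟨T, _, _, _, hT⟩ := exists_split_of_isLocalRing (R := R) (A := A) L₀
  letI : Algebra R T := ((algebraMap L₀ T).comp (algebraMap R L₀)).toAlgebra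
  haveI : IsScalarTower R L₀ T := .of_algebraMap_eq fun _ => rfl
  have : Algebra.IsFiniteSplit T (T ⊗[R] A) :=
    .of_algEquiv (Algebra.TensorProduct.cancelBaseChange R L₀ T T A)
  refine flatCoker_descent f g L₀ T (flatCoker_of_localizations f g T fun Q _ => ?_)
  have : Algebra.IsFiniteSplit (Localization.AtPrime Q) (Localization.AtPrime Q ⊗[R] A) :=
    isFiniteSplit_baseChange_tower T (Localization.AtPrime Q)
  exact flatCoker_of_isLocalRing f g _

omit [Module.Finite R A] [Algebra.Etale R A] [Module.Finite R B] [Algebra.Etale R B] in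
theorem projective_of_finiteEtale (A : Type u) [CommRing A] [Algebra R A] [Module.Finite R A]
    [Algebra.Etale R A] : Module.Projective R A := by
  have : Module.FinitePresentation R A :=
    Module.FinitePresentation.of_finite_of_finitePresentation R A
  exact Module.Flat.projective_of_finitePresentation

theorem projective_coker :
    Module.Projective R (A ⧸ LinearMap.range (f.toLinearMap - g.toLinearMap)) := by
  have := flatCoker_all f g R
  have : Module.Flat R (A ⧸ LinearMap.range (f.toLinearMap - g.toLinearMap)) :=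
    Module.Flat.of_linearEquiv (TensorProduct.lid R _).symm
  have := projective_of_finiteEtale (R := R) A
  have : Module.FinitePresentation R A := Module.finitePresentation_of_projective R A
  have : Module.FinitePresentation R (A ⧸ LinearMap.range (f.toLinearMap - g.toLinearMap)) :=
    Module.finitePresentation_of_surjective _ (Submodule.mkQ_surjective _) (by
      rw [Submodule.ker_mkQ, LinearMap.range_eq_map]
      exact Module.Finite.fg_top.map _)
  exact Module.Flat.projective_of_finitePresentation

/-- `f - g` is von Neumann regular. -/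
theorem exists_section :
    ∃ σ : A →ₗ[R] B, (f.toLinearMap - g.toLinearMap) ∘ₗ σ ∘ₗ (f.toLinearMap - g.toLinearMap) =
      f.toLinearMap - g.toLinearMap := by
  let δ := f.toLinearMap - g.toLinearMap
  have := projective_coker f g
  have := projective_of_finiteEtale (R := R) A
  have := projective_of_finiteEtale (R := R) B
  obtain ⟨s, hs⟩ := Module.projective_lifting_property (LinearMap.range δ).mkQ LinearMap.id
    (Submodule.mkQ_surjective _)
  let r : A →ₗ[R] LinearMap.range δ :=
    (LinearMap.id - s ∘ₗ (LinearMap.range δ).mkQ).codRestrict _ (fun a => by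
      rw [← (Submodule.Quotient.mk_eq_zero _ : _ ↔ _)]
      have := LinearMap.congr_fun hs ((LinearMap.range δ).mkQ a)
      simp only [LinearMap.coe_comp, Function.comp_apply, LinearMap.id_coe, id_eq,
        Submodule.mkQ_apply] at this
      simp [this])
  have hr : ∀ y : LinearMap.range δ, r y.1 = y := fun y => by
    apply Subtype.ext
    simp [r, (Submodule.Quotient.mk_eq_zero _).mpr y.2]
  have : Module.Projective R (LinearMap.range δ) :=
    Module.Projective.of_split (LinearMap.range δ).subtype r (LinearMap.ext hr)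
  obtain ⟨t, ht⟩ := Module.projective_lifting_property δ.rangeRestrict LinearMap.id
    δ.surjective_rangeRestrict
  refine ⟨t ∘ₗ r, LinearMap.ext fun b => ?_⟩
  change δ (t (r (δ b))) = δ b
  rw [hr ⟨δ b, LinearMap.mem_range_self δ b⟩]
  exact congrArg Subtype.val (LinearMap.congr_fun ht ⟨δ b, LinearMap.mem_range_self δ b⟩)

omit [Module.Finite R A] [Algebra.Etale R A] [Module.Finite R B] [Algebra.Etale R B] in
theorem exists_retraction (σ : A →ₗ[R] B)
    (hσ : (f.toLinearMap - g.toLinearMap) ∘ₗ σ ∘ₗ (f.toLinearMap - g.toLinearMap) =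
      f.toLinearMap - g.toLinearMap) :
    ∃ π : B →ₗ[R] AlgHom.equalizer f g, (∀ e : AlgHom.equalizer f g, π (e : B) = e) ∧
      ∀ b, ((π b : B)) = b - σ (f b - g b) := by
  let δ := f.toLinearMap - g.toLinearMap
  refine ⟨(LinearMap.id - σ ∘ₗ δ).codRestrict (Subalgebra.toSubmodule (AlgHom.equalizer f g))
    (fun b => ?mem), fun e => Subtype.ext ?fix, fun b => rfl⟩
  case mem =>
    have h : δ (σ (δ b)) = δ b := LinearMap.congr_fun hσ b
    rw [Subalgebra.mem_toSubmodule, AlgHom.mem_equalizer, ← sub_eq_zero]
    change δ (b - σ (δ b)) = 0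
    rw [map_sub, h, sub_self]
  case fix =>
    have : δ (e : B) = 0 := sub_eq_zero.mpr e.2
    change (e : B) - σ (δ (e : B)) = e
    rw [this, map_zero, sub_zero]

theorem bijective_tensorEqualizer (S : Type u) [CommRing S] [Algebra R S] :
    Function.Bijective (f.tensorEqualizer R S g) := by
  obtain ⟨σ, hσ⟩ := exists_section f g
  obtain ⟨π, hπ, hπ'⟩ := exists_retraction f g σ hσ
  let ι : AlgHom.equalizer f g →ₗ[R] B := (AlgHom.equalizer f g).val.toLinearMap
  have hcoe : ∀ x, (f.tensorEqualizer R S g x : S ⊗[R] B) = ι.lTensor S x := fun x => by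
    rw [AlgHom.coe_tensorEqualizer]
    induction x with
    | zero => simp
    | tmul => simp [ι]
    | add x y hx hy => simp [hx, hy]
  constructor
  · intro x y hxy
    have := congrArg (fun z => π.lTensor S z.1) hxy
    simp only [hcoe, ← LinearMap.comp_apply, ← LinearMap.lTensor_comp] at this
    rwa [show π ∘ₗ ι = LinearMap.id from LinearMap.ext hπ, LinearMap.lTensor_id] at this
  · rintro ⟨x, hx⟩
    refine ⟨π.lTensor S x, Subtype.ext ?_⟩
    rw [hcoe, ← LinearMap.comp_apply, ← LinearMap.lTensor_comp]
    have h1 : ι ∘ₗ π = LinearMap.id - σ ∘ₗ (f.toLinearMap - g.toLinearMap) :=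
      LinearMap.ext fun b => hπ' b
    rw [h1, LinearMap.lTensor_sub, LinearMap.lTensor_id, LinearMap.lTensor_comp,
      LinearMap.lTensor_sub]
    have h2 : f.toLinearMap.lTensor S x = g.toLinearMap.lTensor S x := hx
    simp [h2]

theorem finite_equalizer : Module.Finite R (AlgHom.equalizer f g) := by
  obtain ⟨σ, hσ⟩ := exists_section f g
  obtain ⟨π, hπ, -⟩ := exists_retraction f g σ hσ
  exact Module.Finite.of_surjective π fun e => ⟨_, hπ e⟩

theorem projective_equalizer : Module.Projective R (AlgHom.equalizer f g) := by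
  have := projective_of_finiteEtale (R := R) B
  obtain ⟨σ, hσ⟩ := exists_section f g
  obtain ⟨π, hπ, -⟩ := exists_retraction f g σ hσ
  exact Module.Projective.of_split (AlgHom.equalizer f g).val.toLinearMap π (LinearMap.ext hπ)

theorem etale_equalizer : Algebra.Etale R (AlgHom.equalizer f g) := by
  have := finite_equalizer f g
  have := projective_equalizer f g
  have : Module.FinitePresentation R (AlgHom.equalizer f g) :=
    Module.finitePresentation_of_projective R _
  have : Algebra.FinitePresentation R (AlgHom.equalizer f g) :=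
    Algebra.FinitePresentation.of_finitePresentation R _
  have : Algebra.FormallyUnramified R (AlgHom.equalizer f g) := by
    constructor
    let E := AlgHom.equalizer f g
    have : Module.Finite R Ω[E⁄R] := Module.Finite.trans E _
    rw [← Module.support_eq_empty_iff (R := R), Set.eq_empty_iff_forall_notMem]
    intro p hp
    rw [Module.mem_support_iff_nontrivial_residueField_tensorProduct] at hp
    let k := p.asIdeal.ResidueField
    let K := AlgebraicClosure k
    have hred : IsReduced (K ⊗[R] E) := by
      have : IsReduced (K ⊗[R] B) := Algebra.FormallyUnramified.isReduced_of_field K _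
      exact isReduced_of_injective
        ((AlgHom.equalizer _ _).val.comp (f.tensorEqualizer R K g))
        (Subtype.val_injective.comp (bijective_tensorEqualizer f g K).1)
    have : Algebra.FormallyEtale K (K ⊗[R] E) :=
      H3CAlg.formallyEtale_of_finite_isReduced K _
    let _ : Algebra E (K ⊗[R] E) := Algebra.TensorProduct.rightAlgebra
    have hsub : Subsingleton (K ⊗[R] Ω[E⁄R]) :=
      (KaehlerDifferential.tensorKaehlerEquivBase R K E (K ⊗[R] E)).subsingleton
    have : Subsingleton (K ⊗[k] (k ⊗[R] Ω[E⁄R])) :=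
      (AlgebraTensorModule.cancelBaseChange R k K K Ω[E⁄R]).subsingleton
    have : Subsingleton (k ⊗[R] Ω[E⁄R]) :=
      Module.FaithfullyFlat.lTensor_reflects_triviality k K _
    exact not_nontrivial _ hp
  exact Algebra.Etale.of_formallyUnramified_of_flat

end General

end Groth.Agent.H18Et.FEtEq
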