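import Mathlib.AlgebraicGeometry.ColimitsOver
import Mathlib.AlgebraicGeometry.Morphisms.Etale
import Mathlib.AlgebraicGeometry.Morphisms.Finite
import Mathlib.CategoryTheory.MorphismProperty.OverAdjunction
import Groth.Agent.H18Et.FEtEq

/-!
# Coequalizers of schemes affine over a base

Coequalizers in the category of schemes affine over an affine base are spectra of equalizers;
they commute with a base change as soon as the equalizer does.
-/

set_option autoImplicit false

universe u

open CategoryTheory CategoryTheory.Limits AlgebraicGeometry TensorProduct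

namespace Groth.Agent.H18Et.FEtAff

/-- Affine morphisms as a morphism property. -/
abbrev affProp : MorphismProperty Scheme.{u} := @IsAffineHom

/-- Schemes affine over `S`. -/
abbrev Aff (S : Scheme.{u}) : Type (u + 1) := affProp.{u}.Over ⊤ S

section Ring

/-- Base change of equalizers along `j` is bijective for the algebras `a`, `b`. -/
def StableEq {R R' A B : CommRingCat.{u}} (j : R ⟶ R') (a : R ⟶ A) (b : R ⟶ B) : Prop :=
  letI := j.hom.toAlgebra
  letI := a.hom.toAlgebra
  letI := b.hom.toAlgebra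
  ∀ f g : B →ₐ[R] A, Function.Bijective (f.tensorEqualizer R R' g)

theorem stableEq_of_flat {R R' A B : CommRingCat.{u}} (j : R ⟶ R') (a : R ⟶ A) (b : R ⟶ B)
    (h : j.hom.Flat) : StableEq j a b := by
  intro f g
  let _ := j.hom.toAlgebra
  let _ := a.hom.toAlgebra
  let _ := b.hom.toAlgebra
  have : Module.Flat R R' := h
  exact (f.tensorEqualizerEquiv R R' g).bijective

theorem stableEq_of_finiteEtale {R R' A B : CommRingCat.{u}} (j : R ⟶ R') (a : R ⟶ A) (b : R ⟶ B)
    (ha : a.hom.Finite) (ha' : a.hom.Etale) (hb : b.hom.Finite) (hb' : b.hom.Etale) :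
    StableEq j a b := by
  intro f g
  let _ := j.hom.toAlgebra
  let _ := a.hom.toAlgebra
  let _ := b.hom.toAlgebra
  have : Module.Finite R A := ha
  have : Module.Finite R B := hb
  have : Algebra.Etale R A := RingHom.etale_algebraMap.mp ha'
  have : Algebra.Etale R B := RingHom.etale_algebraMap.mp hb'
  exact FEtEq.bijective_tensorEqualizer f g R'

/-- `ι : E → B` is an equalizer of `f, g` at the level of elements. -/
def EqRing {E B A : CommRingCat.{u}} (ι : E ⟶ B) (f g : B ⟶ A) : Prop :=
  Function.Injective ι ∧ ∀ x, f x = g x → ∃ q, ι q = x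

theorem eqRing_baseChange {R R' A B E A' B' E' : CommRingCat.{u}} (j : R ⟶ R')
    {a : R ⟶ A} {b : R ⟶ B} {e : R ⟶ E} {a' : R' ⟶ A'} {b' : R' ⟶ B'} {e' : R' ⟶ E'}
    {pA : A ⟶ A'} {pB : B ⟶ B'} {pE : E ⟶ E'}
    (hA : IsPushout j a a' pA) (hB : IsPushout j b b' pB) (hE : IsPushout j e e' pE)
    {f g : B ⟶ A} (hf : b ≫ f = a) (hg : b ≫ g = a)
    {f' g' : B' ⟶ A'} (hf' : b' ≫ f' = a') (hg' : b' ≫ g' = a')
    (hfp : pB ≫ f' = f ≫ pA) (hgp : pB ≫ g' = g ≫ pA)
    {ι : E ⟶ B} (hι : e ≫ ι = b) (hι0 : ι ≫ f = ι ≫ g)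
    {ι' : E' ⟶ B'} (hι' : e' ≫ ι' = b') (hιp : pE ≫ ι' = ι ≫ pB)
    (H : EqRing ι f g) (hst : StableEq j a b) : EqRing ι' f' g' := by
  let _ : Algebra R R' := j.hom.toAlgebra
  let _ : Algebra R A := a.hom.toAlgebra
  let _ : Algebra R B := b.hom.toAlgebra
  let _ : Algebra R E := e.hom.toAlgebra
  let _ : Algebra R' A' := a'.hom.toAlgebra
  let _ : Algebra R' B' := b'.hom.toAlgebra
  let _ : Algebra R' E' := e'.hom.toAlgebra
  let _ : Algebra A A' := pA.hom.toAlgebra
  let _ : Algebra B B' := pB.hom.toAlgebra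
  let _ : Algebra E E' := pE.hom.toAlgebra
  let _ : Algebra R A' := (j ≫ a').hom.toAlgebra
  let _ : Algebra R B' := (j ≫ b').hom.toAlgebra
  let _ : Algebra R E' := (j ≫ e').hom.toAlgebra
  have : IsScalarTower R R' A' := .of_algebraMap_eq fun _ => rfl
  have : IsScalarTower R R' B' := .of_algebraMap_eq fun _ => rfl
  have : IsScalarTower R R' E' := .of_algebraMap_eq fun _ => rfl
  have : IsScalarTower R A A' := .of_algebraMap_eq fun x => congr($hA.w x)
  have : IsScalarTower R B B' := .of_algebraMap_eq fun x => congr($hB.w x)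
  have : IsScalarTower R E E' := .of_algebraMap_eq fun x => congr($hE.w x)
  have : Algebra.IsPushout R R' A A' := CommRingCat.isPushout_iff_isPushout.mp hA
  have : Algebra.IsPushout R R' B B' := CommRingCat.isPushout_iff_isPushout.mp hB
  have : Algebra.IsPushout R R' E E' := CommRingCat.isPushout_iff_isPushout.mp hE
  let eA := Algebra.IsPushout.equiv R R' A A'
  let eB := Algebra.IsPushout.equiv R R' B B'
  let eE := Algebra.IsPushout.equiv R R' E E'
  let fa : B →ₐ[R] A := ⟨f.hom, fun r => congr($hf r)⟩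
  let ga : B →ₐ[R] A := ⟨g.hom, fun r => congr($hg r)⟩
  let ιa : E →ₐ[R] B := ⟨ι.hom, fun r => congr($hι r)⟩
  let ιq : E →ₐ[R] AlgHom.equalizer fa ga := ιa.codRestrict _ fun q => congr($hι0 q)
  have hιq : Function.Bijective ιq :=
    ⟨fun x y h => H.1 (congrArg Subtype.val h), fun ⟨x, hx⟩ =>
      (H.2 x hx).imp fun q hq => Subtype.ext hq⟩
  let T := (fa.tensorEqualizer R R' ga).comp
    (Algebra.TensorProduct.congr AlgEquiv.refl (AlgEquiv.ofBijective ιq hιq)).toAlgHom
  have hT : Function.Bijective T :=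
    (hst fa ga).comp (AlgEquiv.bijective _)
  have hTval : ∀ s, (T s : R' ⊗[R] B) = Algebra.TensorProduct.map (AlgHom.id R R') ιa s := by
    intro s
    induction s with
    | zero => simp
    | tmul r x => simp [T, ιq]
    | add x y hx hy => simp [hx, hy]
  have cE : ∀ s, ι' (eE s) = eB (Algebra.TensorProduct.map (AlgHom.id R R') ιa s) := by
    intro s
    induction s with
    | zero => simp
    | tmul r x =>
      simp only [eE, eB, Algebra.IsPushout.equiv_tmul, Algebra.TensorProduct.map_tmul,
        AlgHom.coe_id, id_eq]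
      rw [map_mul]
      exact congrArg₂ (· * ·) congr($hι' r) congr($hιp x)
    | add x y hx hy => simp [hx, hy]
  have cf : ∀ (h : B →ₐ[R] A) (h' : B' ⟶ A'), b' ≫ h' = a' →
      (∀ x, h' (pB x) = pA (h x)) →
      ∀ t, h' (eB t) = eA (Algebra.TensorProduct.map (AlgHom.id R R') h t) := by
    intro h h' hb hp t
    induction t with
    | zero => simp
    | tmul r x =>
      simp only [eA, eB, Algebra.IsPushout.equiv_tmul, Algebra.TensorProduct.map_tmul,
        AlgHom.coe_id, id_eq]
      rw [map_mul]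
      exact congrArg₂ (· * ·) congr($hb r) (hp x)
    | add x y hx hy => simp [hx, hy]
  constructor
  · intro q₁ q₂ hq
    obtain ⟨s₁, rfl⟩ := eE.surjective q₁
    obtain ⟨s₂, rfl⟩ := eE.surjective q₂
    rw [cE, cE] at hq
    refine congrArg eE (hT.1 (Subtype.ext ?_))
    rw [hTval, hTval]
    exact eB.injective hq
  · intro y hy
    obtain ⟨t, rfl⟩ := eB.surjective y
    rw [cf fa f' hf' (fun x => congr($hfp x)), cf ga g' hg' (fun x => congr($hgp x))] at hy
    obtain ⟨s, hs⟩ := hT.2 ⟨t, eA.injective hy⟩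
    exact ⟨eE s, by rw [cE, ← hTval, hs]⟩

end Ring

section Affine

set_option backward.isDefEq.respectTransparency false

variable {S : Scheme.{u}}

theorem isAffine_left [IsAffine S] (A : Aff S) : IsAffine A.left :=
  haveI : IsAffineHom A.hom := A.prop
  @isAffine_of_isAffineHom _ _ A.hom _ (show IsAffine S from inferInstance)

theorem exists_hom_appTop {X Y : Scheme.{u}} [IsAffine Y] (χ : Γ(Y, ⊤) ⟶ Γ(X, ⊤)) :
    ∃ m : X ⟶ Y, m.appTop = χ := by
  refine ⟨X.toSpecΓ ≫ Spec.map χ ≫ Y.isoSpec.inv, ?_⟩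
  have h1 : Y.isoSpec.inv.appTop = (Scheme.ΓSpecIso Γ(Y, ⊤)).inv := by
    have h : Y.isoSpec.inv.appTop ≫ Y.isoSpec.hom.appTop = 𝟙 _ := by
      rw [← Scheme.Hom.comp_appTop]; simp
    rw [show Y.isoSpec.hom = Y.toSpecΓ from rfl, Scheme.toSpecΓ_appTop] at h
    exact (Iso.comp_hom_eq_id _).mp h
  rw [Scheme.Hom.comp_appTop, Scheme.Hom.comp_appTop, h1, Scheme.toSpecΓ_appTop, Category.assoc]
  rw [Scheme.ΓSpecIso_naturality]
  simp

theorem app_w {A B : Aff S} (f : A ⟶ B) : B.hom.appTop ≫ f.left.appTop = A.hom.appTop := by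
  rw [← Scheme.Hom.comp_appTop, show f.left ≫ B.hom = A.hom from Over.w f.hom]

/-- The cofork is an equalizer on global sections. -/
def EqProp {A B : Aff S} {f g : A ⟶ B} (c : Cofork f g) : Prop :=
  EqRing c.π.left.appTop f.left.appTop g.left.appTop

/-- Over an affine base, `EqProp` implies coequalizer. -/
theorem nonempty_isColimit_of_eqProp [IsAffine S] {A B : Aff S} {f g : A ⟶ B} {c : Cofork f g}
    (H : EqProp c) : Nonempty (IsColimit c) := by
  refine ⟨Cofork.IsColimit.mk' c fun s => Classical.indefiniteDescription _ ?_⟩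
  have := isAffine_left s.pt
  have := isAffine_left c.pt
  let ψ := s.π.left.appTop
  have hψ : ∀ z, f.left.appTop (ψ z) = g.left.appTop (ψ z) := fun z => by
    have := congrArg (fun k => Scheme.Hom.appTop k.left) s.condition
    simp only [MorphismProperty.Comma.comp_left, Scheme.Hom.comp_appTop] at this
    exact congr($this z)
  choose χ hχ using fun z => H.2 (ψ z) (hψ z)
  let χ' : Γ(s.pt.left, ⊤) →+* Γ(c.pt.left, ⊤) :=
    { toFun := χ
      map_one' := H.1 (by rw [hχ, map_one, map_one])
      map_mul' := fun x y => H.1 (by rw [hχ, map_mul, map_mul, hχ, hχ])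
      map_zero' := H.1 (by rw [hχ, map_zero, map_zero])
      map_add' := fun x y => H.1 (by rw [hχ, map_add, map_add, hχ, hχ]) }
  obtain ⟨m, hm⟩ := exists_hom_appTop (CommRingCat.ofHom χ')
  have hπm : c.π.left ≫ m = s.π.left := by
    refine ext_of_isAffine ?_
    rw [Scheme.Hom.comp_appTop, hm]
    ext z
    exact hχ z
  have hw : m ≫ s.pt.hom = c.pt.hom := by
    refine @ext_of_isAffine _ _ (show IsAffine S from inferInstance) _ _ ?_
    ext r
    apply H.1
    have h1 := app_w s.π
    have h2 := app_w c.π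
    rw [Scheme.Hom.comp_appTop, hm]
    exact (hχ _).trans ((congr($h1 r)).trans (congr($h2 r)).symm)
  refine ⟨MorphismProperty.Over.homMk m hw trivial, ?_, fun {m'} hm' => ?_⟩
  · ext
    exact hπm
  · ext
    change m'.left = m
    refine ext_of_isAffine ?_
    rw [hm]
    ext z
    apply H.1
    have := congrArg (fun k => Scheme.Hom.appTop k.left) hm'
    simp only [MorphismProperty.Comma.comp_left, Scheme.Hom.comp_appTop] at this
    exact (congr($this z)).trans (hχ z).symm

/-- The equalizer of the global sections. -/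
noncomputable def eqRingObj {A B : Aff S} (f g : A ⟶ B) : CommRingCat.{u} :=
  CommRingCat.of (RingHom.eqLocus f.left.appTop.hom g.left.appTop.hom)

theorem exists_cofork [IsAffine S] {A B : Aff S} (f g : A ⟶ B) :
    ∃ c : Cofork f g, EqProp c ∧ ∃ (h : Γ(S, ⊤) ⟶ eqRingObj f g)
      (e : eqRingObj f g ≅ Γ(c.pt.left, ⊤)),
      (∀ r, (h r).1 = B.hom.appTop r) ∧ c.pt.hom.appTop = h ≫ e.hom := by
  have := isAffine_left B
  have := isAffine_left A
  let E := eqRingObj f g
  let h : Γ(S, ⊤) ⟶ E := CommRingCat.ofHom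
    (B.hom.appTop.hom.codRestrict _ fun r =>
      (congr($(app_w f) r)).trans (congr($(app_w g) r)).symm)
  let incl : E ⟶ Γ(B.left, ⊤) := CommRingCat.ofHom (Subring.subtype _)
  obtain ⟨q, hq⟩ := exists_hom_appTop (X := Spec E) (h ≫ (Scheme.ΓSpecIso E).inv)
  obtain ⟨p, hp⟩ := exists_hom_appTop (X := B.left) (Y := Spec E)
    ((Scheme.ΓSpecIso E).hom ≫ incl)
  let Q : Aff S := MorphismProperty.Over.mk ⊤ q (isAffineHom_of_isAffine q)
  have hpq : p ≫ q = B.hom := by
    refine ext_of_isAffine ?_
    rw [Scheme.Hom.comp_appTop, hq, hp, Category.assoc, Iso.inv_hom_id_assoc]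
    rfl
  let π : B ⟶ Q := MorphismProperty.Over.homMk p hpq trivial
  have hcond : f ≫ π = g ≫ π := by
    ext
    change f.left ≫ p = g.left ≫ p
    refine ext_of_isAffine ?_
    rw [Scheme.Hom.comp_appTop, Scheme.Hom.comp_appTop, hp]
    ext z
    exact ((Scheme.ΓSpecIso E).hom z).2
  refine ⟨Cofork.ofπ π hcond, ⟨?_, ?_⟩, h, (Scheme.ΓSpecIso E).symm, fun r => rfl, hq⟩
  · change Function.Injective p.appTop
    rw [hp]
    exact Subtype.val_injective.comp
      (ConcreteCategory.bijective_of_isIso (Scheme.ΓSpecIso E).hom).1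
  · intro x hx
    refine ⟨(Scheme.ΓSpecIso E).inv ⟨x, hx⟩, ?_⟩
    change p.appTop _ = x
    rw [hp]
    exact congrArg Subtype.val (congr($((Scheme.ΓSpecIso E).inv_hom_id) (⟨x, hx⟩ : E)))

variable {S' : Scheme.{u}}

theorem isPushout_pullback [IsAffine S] [IsAffine S'] (j : S' ⟶ S) (X : Aff S) :
    IsPushout j.appTop X.hom.appTop
      ((MorphismProperty.Over.pullback affProp ⊤ j).obj X).hom.appTop
      (pullback.fst X.hom j).appTop := by
  have : IsAffine ((𝟭 Scheme).obj X.left) := isAffine_left X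
  have : IsAffine ((Functor.fromPUnit S).obj X.right) := (show IsAffine S from inferInstance)
  exact (isPushout_appTop_of_isPullback (IsPullback.of_hasPullback X.hom j)).flip

theorem comp_fst_pullback_map (j : S' ⟶ S) {X Y : Aff S} (k : X ⟶ Y) :
    (pullback.fst Y.hom j).appTop ≫
      ((MorphismProperty.Over.pullback affProp ⊤ j).map k).left.appTop =
        k.left.appTop ≫ (pullback.fst X.hom j).appTop := by
  have h : ((MorphismProperty.Over.pullback affProp ⊤ j).map k).left ≫ pullback.fst Y.hom j =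
      pullback.fst X.hom j ≫ k.left := pullback.lift_fst _ _ _
  have := congrArg Scheme.Hom.appTop h
  rwa [Scheme.Hom.comp_appTop, Scheme.Hom.comp_appTop] at this

theorem appTop_condition {A B : Aff S} {f g : A ⟶ B} (c : Cofork f g) :
    c.π.left.appTop ≫ f.left.appTop = c.π.left.appTop ≫ g.left.appTop := by
  have := congrArg (fun k => Scheme.Hom.appTop k.left) c.condition
  simp only [MorphismProperty.Comma.comp_left, Scheme.Hom.comp_appTop] at this
  exact this

theorem eqProp_pullback [IsAffine S] [IsAffine S'] (j : S' ⟶ S) {A B : Aff S} {f g : A ⟶ B}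
    {c : Cofork f g} (H : EqProp c) (hst : StableEq j.appTop A.hom.appTop B.hom.appTop) :
    EqProp (Cofork.ofπ ((MorphismProperty.Over.pullback affProp ⊤ j).map c.π)
      (by rw [← Functor.map_comp, c.condition, Functor.map_comp]) :
        Cofork ((MorphismProperty.Over.pullback affProp ⊤ j).map f)
          ((MorphismProperty.Over.pullback affProp ⊤ j).map g)) :=
  eqRing_baseChange j.appTop (isPushout_pullback j A) (isPushout_pullback j B)
    (isPushout_pullback j c.pt) (app_w f) (app_w g) (app_w _) (app_w _)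
    (comp_fst_pullback_map j f) (comp_fst_pullback_map j g) (app_w c.π) (appTop_condition c)
    (app_w _) (comp_fst_pullback_map j c.π) H hst

theorem preservesColimit_parallelPair [IsAffine S] [IsAffine S'] (j : S' ⟶ S) {A B : Aff S}
    (f g : A ⟶ B) (hst : StableEq j.appTop A.hom.appTop B.hom.appTop) :
    PreservesColimit (parallelPair f g) (MorphismProperty.Over.pullback affProp ⊤ j) := by
  obtain ⟨c, hc, -⟩ := exists_cofork f g
  obtain ⟨h1⟩ := nonempty_isColimit_of_eqProp hc
  obtain ⟨h2⟩ := nonempty_isColimit_of_eqProp (eqProp_pullback j hc hst)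
  exact preservesColimit_of_preserves_colimit_cocone h1
    ((isColimitMapCoconeCoforkEquiv _ c.condition).symm h2 |>.ofIsoColimit
      ((Cocone.functoriality _ _).mapIso (Cofork.isoCoforkOfπ c).symm))

instance hasColimitsOfShape_affine [IsAffine S] :
    HasColimitsOfShape WalkingParallelPair (Aff S) :=
  haveI : ∀ {A B : Aff S} {f g : A ⟶ B}, HasColimit (parallelPair f g) := fun {A B f g} =>
    ⟨⟨⟨_, (nonempty_isColimit_of_eqProp (exists_cofork f g).choose_spec.1).some⟩⟩⟩
  hasCoequalizers_of_hasColimit_parallelPair _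

theorem preservesColimit_of_stableEq [IsAffine S] [IsAffine S'] (j : S' ⟶ S)
    (D : WalkingParallelPair ⥤ Aff S)
    (hst : StableEq j.appTop (D.obj .zero).hom.appTop (D.obj .one).hom.appTop) :
    PreservesColimit D (MorphismProperty.Over.pullback affProp ⊤ j) :=
  haveI := preservesColimit_parallelPair j (D.map WalkingParallelPairHom.left)
    (D.map WalkingParallelPairHom.right) hst
  preservesColimit_of_iso_diagram _ (diagramIsoParallelPair D).symm

end Affine

end Groth.Agent.H18Et.FEtAff
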