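import Groth.Prelude.Def_FEt
import Mathlib.CategoryTheory.Limits.Constructions.FiniteProductsOfBinaryProducts
import Groth.Agent.H18Et.FEtAff

/-!
# Colimits of finite etale covers

Coequalizers in `Aff X` exist and are computed locally; finite etale covers are stable under them and
they commute with arbitrary base change; finite coproducts are disjoint unions.
-/

set_option autoImplicit false

universe u

open CategoryTheory CategoryTheory.Limits AlgebraicGeometry

namespace Groth.Agent.H18Et.FEtGlobal

open FEtAff

set_option backward.isDefEq.respectTransparency false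

section AffColim

variable {X : Scheme.{u}}

theorem prop_trans {i j : X.directedAffineCover.I₀} (hij : i ⟶ j) :
    affProp (X.directedAffineCover.trans hij) := by
  have h1 : IsAffine (X.directedAffineCover.X i) := i.2
  have h2 : IsAffine (X.directedAffineCover.X j) := j.2
  exact isAffineHom_of_isAffine _

theorem hasColimitsOfShape_affineCover (i : X.directedAffineCover.I₀) :
    HasColimitsOfShape WalkingParallelPair (Aff (X.directedAffineCover.X i)) :=
  haveI : IsAffine (X.directedAffineCover.X i) := i.2
  hasColimitsOfShape_affine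

theorem preservesColimits_trans {i j : X.directedAffineCover.I₀} (hij : i ⟶ j) :
    PreservesColimitsOfShape WalkingParallelPair
      (MorphismProperty.Over.pullback affProp ⊤ (X.directedAffineCover.trans hij)) := by
  have h1 : IsAffine (X.directedAffineCover.X i) := i.2
  have h2 : IsAffine (X.directedAffineCover.X j) := j.2
  exact ⟨fun {D} => preservesColimit_of_stableEq _ D
    (stableEq_of_flat _ _ _ (HasRingHomProperty.appTop @Flat _ inferInstance))⟩

instance hasColimitsOfShape_aff : HasColimitsOfShape WalkingParallelPair (Aff X) :=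
  haveI := fun i => hasColimitsOfShape_affineCover (X := X) i
  haveI := fun {i j : X.directedAffineCover.I₀} (hij : i ⟶ j) => preservesColimits_trans hij
  ⟨fun D => X.directedAffineCover.hasColimit_of_locallyDirected D prop_trans⟩

/-- Colimits of parallel pairs in `Aff X` restrict to affine opens. -/
theorem preservesColimit_ι (D : WalkingParallelPair ⥤ Aff X) {U : X.Opens} (hU : IsAffineOpen U) :
    PreservesColimit D (MorphismProperty.Over.pullback affProp ⊤ U.ι) := by
  haveI := fun i => hasColimitsOfShape_affineCover (X := X) i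
  haveI := fun {i j : X.directedAffineCover.I₀} (hij : i ⟶ j) => preservesColimits_trans hij
  let d : Scheme.Cover.ColimitGluingData D X.directedAffineCover :=
    { cocone _ := colimit.cocone _
      isColimit _ := colimit.isColimit _
      prop_trans := prop_trans }
  let i : X.directedAffineCover.I₀ := ⟨U, hU⟩
  refine preservesColimit_of_preserves_colimit_cocone d.isColimitGluedCocone ?_
  refine (d.isColimit i).ofIsoColimit (Cocone.ext (d.pullbackGluedIso i).symm fun a => ?_)
  ext
  apply pullback.hom_ext
  · refine (Category.assoc _ _ _).trans ?_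
    refine (congrArg (_ ≫ ·) (d.pullbackGluedIso_inv_fst i)).trans ?_
    exact (d.fst_gluedCocone_ι a i).symm.trans (pullback.lift_fst _ _ _).symm
  · refine (Category.assoc _ _ _).trans ?_
    refine (congrArg (_ ≫ ·) (d.pullbackGluedIso_inv_snd i)).trans ?_
    exact (Over.w ((d.cocone i).ι.app a).hom).trans (pullback.lift_snd _ _ _).symm

theorem isIso_of_forall_isIso_pullback {P Q : Aff X} (h : P ⟶ Q) (𝒰 : X.OpenCover)
    (H : ∀ i, IsIso ((MorphismProperty.Over.pullback affProp ⊤ (𝒰.f i)).map h)) : IsIso h := by
  have hl : IsIso h.left := by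
    change MorphismProperty.isomorphisms Scheme h.left
    rw [IsZariskiLocalAtTarget.iff_of_openCover (P := MorphismProperty.isomorphisms Scheme)
      (𝒰.pullback₁ Q.hom)]
    intro i
    let G := MorphismProperty.Over.pullback affProp ⊤ (𝒰.f i)
    have hw : (G.map h).left ≫ pullback.snd Q.hom (𝒰.f i) = pullback.snd P.hom (𝒰.f i) :=
      pullback.lift_snd _ _ _
    have hP : h.left ≫ Q.hom = P.hom := Over.w h.hom
    have sq : IsPullback (G.map h).left (pullback.fst P.hom (𝒰.f i)) (pullback.fst Q.hom (𝒰.f i))
        h.left := by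
      refine IsPullback.of_right (h₁₂ := pullback.snd Q.hom (𝒰.f i)) (h₂₂ := Q.hom) ?_
        (pullback.lift_fst _ _ _) (IsPullback.of_hasPullback Q.hom (𝒰.f i)).flip
      rw [hw, hP]
      exact (IsPullback.of_hasPullback P.hom (𝒰.f i)).flip
    have := H i
    have : IsIso (G.map h).left :=
      inferInstanceAs (IsIso ((MorphismProperty.Over.forget _ _ _ ⋙ Over.forget _).map (G.map h)))
    change IsIso (pullback.snd h.left (pullback.fst Q.hom (𝒰.f i)))
    rw [← (Iso.inv_comp_eq _).mpr sq.flip.isoPullback_hom_snd.symm]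
    exact IsIso.comp_isIso
  have : IsIso ((MorphismProperty.Over.forget affProp ⊤ X ⋙ Over.forget X).map h) := hl
  exact isIso_of_reflects_iso h (MorphismProperty.Over.forget affProp ⊤ X ⋙ Over.forget X)

end AffColim

section Incl

theorem prop_le_affProp : FEt.prop.{u} ≤ affProp.{u} := fun _ _ f hf =>
  haveI : IsFinite f := hf.1
  show IsAffineHom f from inferInstance

/-- Finite etale covers inside schemes affine over the base. -/
noncomputable abbrev incl (X : Scheme.{u}) : FEt.Cat X ⥤ Aff X :=
  MorphismProperty.Comma.changeProp _ _ prop_le_affProp le_rfl le_rfl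

/-- `restrict` is the restriction of base change of affine schemes. -/
noncomputable def inclRestrictIso {X Y : Scheme.{u}} (f : X ⟶ Y) :
    FEt.restrict f ⋙ incl X ≅ incl Y ⋙ MorphismProperty.Over.pullback affProp ⊤ f :=
  NatIso.ofComponents (fun _ => MorphismProperty.Over.isoMk (Iso.refl _) (Category.id_comp _))
    fun {_ _} g => by
      ext
      exact (Category.comp_id _).trans (Category.id_comp _).symm

theorem appTop_finite_etale {X Y : Scheme.{u}} [IsAffine Y] (f : X ⟶ Y) (h : FEt.prop f) :
    f.appTop.hom.Finite ∧ f.appTop.hom.Etale := by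
  have : IsFinite f := h.1
  have : IsAffine X := isAffine_of_isAffineHom f
  exact ⟨f.finite_appTop, (HasRingHomProperty.iff_of_isAffine (P := @Etale)).mp h.2⟩

theorem prop_of_appTop {X Y : Scheme.{u}} [IsAffine X] [IsAffine Y] (f : X ⟶ Y)
    (h1 : f.appTop.hom.Finite) (h2 : f.appTop.hom.Etale) : FEt.prop f :=
  ⟨(HasAffineProperty.iff_of_isAffine (P := @IsFinite)).mpr ⟨inferInstance, h1⟩,
    (HasRingHomProperty.iff_of_isAffine (P := @Etale)).mpr h2⟩

theorem prop_cofork {S : Scheme.{u}} [IsAffine S] {A B : Aff S} (f g : A ⟶ B)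
    (hA : FEt.prop A.hom) (hB : FEt.prop B.hom) :
    ∃ c : Cofork f g, Nonempty (IsColimit c) ∧ FEt.prop c.pt.hom := by
  obtain ⟨c, hc, h, e, hh, he⟩ := exists_cofork f g
  have hS : IsAffine ((Functor.fromPUnit S).obj c.pt.right) := (show IsAffine S from inferInstance)
  have := isAffine_left c.pt
  obtain ⟨a1, a2⟩ := appTop_finite_etale (Y := S) A.hom hA
  obtain ⟨b1, b2⟩ := appTop_finite_etale (Y := S) B.hom hB
  let _ : Algebra Γ(S, ⊤) Γ(A.left, ⊤) := A.hom.appTop.hom.toAlgebra
  let _ : Algebra Γ(S, ⊤) Γ(B.left, ⊤) := B.hom.appTop.hom.toAlgebra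
  have : Module.Finite Γ(S, ⊤) Γ(A.left, ⊤) := a1
  have : Module.Finite Γ(S, ⊤) Γ(B.left, ⊤) := b1
  have : Algebra.Etale Γ(S, ⊤) Γ(A.left, ⊤) := RingHom.etale_algebraMap.mp a2
  have : Algebra.Etale Γ(S, ⊤) Γ(B.left, ⊤) := RingHom.etale_algebraMap.mp b2
  let fa : Γ(B.left, ⊤) →ₐ[Γ(S, ⊤)] Γ(A.left, ⊤) :=
    ⟨f.left.appTop.hom, fun r => congr($(app_w f) r)⟩
  let ga : Γ(B.left, ⊤) →ₐ[Γ(S, ⊤)] Γ(A.left, ⊤) :=
    ⟨g.left.appTop.hom, fun r => congr($(app_w g) r)⟩
  let e0 : AlgHom.equalizer fa ga ≃+* eqRingObj f g :=
    { toFun := fun x => ⟨x.1, x.2⟩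
      invFun := fun x => ⟨x.1, x.2⟩
      left_inv := fun _ => rfl
      right_inv := fun _ => rfl
      map_mul' := fun _ _ => rfl
      map_add' := fun _ _ => rfl }
  have hh' : h.hom = e0.toRingHom.comp (algebraMap _ _) :=
    RingHom.ext fun r => Subtype.ext (hh r)
  have hfin : (h ≫ e.hom).hom.Finite := by
    rw [CommRingCat.hom_comp, hh', ← RingHom.comp_assoc]
    exact RingHom.finite_respectsIso.left _
      (e0.trans e.commRingCatIsoToRingEquiv) (RingHom.finite_algebraMap.mpr
        (FEtEq.finite_equalizer fa ga))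
  have het : (h ≫ e.hom).hom.Etale := by
    rw [CommRingCat.hom_comp, hh', ← RingHom.comp_assoc]
    exact RingHom.Etale.respectsIso.left _
      (e0.trans e.commRingCatIsoToRingEquiv) (RingHom.etale_algebraMap.mpr
        (FEtEq.etale_equalizer fa ga))
  exact ⟨c, nonempty_isColimit_of_eqProp hc, prop_of_appTop (X := c.pt.left) (Y := S) c.pt.hom (he ▸ hfin) (he ▸ het)⟩

theorem stableEq_finiteEtale {S S' : Scheme.{u}} [IsAffine S] (j : S' ⟶ S) {A B : Aff S}
    (hA : FEt.prop A.hom) (hB : FEt.prop B.hom) :
    StableEq j.appTop A.hom.appTop B.hom.appTop :=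
  have hS : IsAffine ((Functor.fromPUnit S).obj A.right) := (show IsAffine S from inferInstance)
  stableEq_of_finiteEtale _ _ _ (appTop_finite_etale (Y := S) A.hom hA).1 (appTop_finite_etale (Y := S) A.hom hA).2
    (appTop_finite_etale (Y := S) B.hom hB).1 (appTop_finite_etale (Y := S) B.hom hB).2

variable {X Y : Scheme.{u}}

theorem prop_pullback_obj (f : X ⟶ Y) {A : Aff Y} (hA : FEt.prop A.hom) :
    FEt.prop ((MorphismProperty.Over.pullback affProp ⊤ f).obj A).hom :=
  MorphismProperty.pullback_snd (P := FEt.prop) A.hom f hA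

theorem prop_colimit (D : WalkingParallelPair ⥤ Aff X) (hA : FEt.prop (D.obj .zero).hom)
    (hB : FEt.prop (D.obj .one).hom) : FEt.prop (colimit D).hom := by
  have : IsZariskiLocalAtTarget FEt.prop.{u} := inferInstance
  rw [IsZariskiLocalAtTarget.iff_of_openCover (P := FEt.prop) X.directedAffineCover]
  intro i
  have hUi : IsAffine (X.directedAffineCover.X i) := i.2
  let G := MorphismProperty.Over.pullback affProp ⊤ (X.directedAffineCover.f i)
  have : PreservesColimit D G := preservesColimit_ι D i.2
  obtain ⟨c, ⟨hc⟩, hp⟩ := prop_cofork ((D ⋙ G).map WalkingParallelPairHom.left)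
    ((D ⋙ G).map WalkingParallelPairHom.right) (prop_pullback_obj _ hA) (prop_pullback_obj _ hB)
  let e : G.obj (colimit D) ≅ c.pt :=
    (isColimitOfPreserves G (colimit.isColimit D)).coconePointsIsoOfNatIso hc
      (diagramIsoParallelPair _)
  exact (FEt.prop.over_iso_iff
    ((MorphismProperty.Over.forget affProp ⊤ _).mapIso e)).mpr hp

/-- The cover of `X` by affine opens mapping into affine opens of `Y`. -/
theorem exists_affine_cover (f : X ⟶ Y) (x : X) :
    ∃ p : X.affineOpens × Y.affineOpens, p.1.1 ≤ f ⁻¹ᵁ p.2.1 ∧ x ∈ p.1.1 := by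
  obtain ⟨_, ⟨V, hV, rfl⟩, hxV, -⟩ :=
    Y.isBasis_affineOpens.exists_subset_of_mem_open (Set.mem_univ (f x)) isOpen_univ
  obtain ⟨_, ⟨U, hU, rfl⟩, hxU, hUV⟩ :=
    X.isBasis_affineOpens.exists_subset_of_mem_open hxV (f ⁻¹ᵁ V).isOpen
  exact ⟨(⟨U, hU⟩, ⟨V, hV⟩), hUV, hxU⟩

/-- Base change preserves coequalizers of finite etale schemes. -/
theorem preservesColimit_pullback (f : X ⟶ Y) (D : WalkingParallelPair ⥤ Aff Y)
    (hA : FEt.prop (D.obj .zero).hom) (hB : FEt.prop (D.obj .one).hom) :
    PreservesColimit D (MorphismProperty.Over.pullback affProp ⊤ f) := by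
  let F := MorphismProperty.Over.pullback affProp ⊤ f
  let c' := F.mapCocone (colimit.cocone D)
  let m := (colimit.isColimit (D ⋙ F)).desc c'
  choose p hp hxp using exists_affine_cover f
  let 𝒰 : X.OpenCover := X.openCoverOfIsOpenCover (fun x => (p x).1.1)
    (eq_top_iff.mpr fun x _ => TopologicalSpace.Opens.mem_iSup.mpr ⟨x, hxp x⟩)
  have : IsIso m := by
    refine isIso_of_forall_isIso_pullback m 𝒰 fun x => ?_
    let U := (p x).1
    let V := (p x).2
    have hU : IsAffine U.1.toScheme := U.2
    have hV : IsAffine V.1.toScheme := V.2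
    let j : U.1.toScheme ⟶ V.1.toScheme := f.resLE V.1 U.1 (hp x)
    let GV := MorphismProperty.Over.pullback affProp ⊤ V.1.ι
    let GU := MorphismProperty.Over.pullback affProp ⊤ U.1.ι
    let Gj := MorphismProperty.Over.pullback affProp ⊤ j
    have : PreservesColimit D GV := preservesColimit_ι D V.2
    have : PreservesColimit (D ⋙ GV) Gj := preservesColimit_of_stableEq j _
      (stableEq_finiteEtale j (prop_pullback_obj _ hA) (prop_pullback_obj _ hB))
    have e : GV ⋙ Gj ≅ F ⋙ GU :=
      (MorphismProperty.Over.pullbackComp j V.1.ι).symm ≪≫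
        MorphismProperty.Over.pullbackCongr (Scheme.Hom.resLE_comp_ι f (hp x)) ≪≫
        MorphismProperty.Over.pullbackComp U.1.ι f
    have : PreservesColimit D (F ⋙ GU) := preservesColimit_of_natIso _ e
    have : PreservesColimit (D ⋙ F) GU := preservesColimit_ι _ U.2
    have h1 := isColimitOfPreserves GU (colimit.isColimit (D ⋙ F))
    have h2 : IsColimit (GU.mapCocone c') :=
      (isColimitOfPreserves (F ⋙ GU) (colimit.isColimit D))
    have hm : GU.map m = (h1.coconePointUniqueUpToIso h2).hom := by
      refine h1.hom_ext fun k => ?_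
      refine Eq.trans ?_ (h1.comp_coconePointUniqueUpToIso_hom h2 k).symm
      exact (GU.map_comp _ _).symm.trans
        (congrArg GU.map ((colimit.isColimit (D ⋙ F)).fac c' k))
    change IsIso (GU.map m)
    rw [hm]
    infer_instance
  exact preservesColimit_of_preserves_colimit_cocone (colimit.isColimit D)
    ((colimit.isColimit (D ⋙ F)).ofPointIso)

instance hasCoequalizers_cat : HasColimitsOfShape WalkingParallelPair (FEt.Cat X) where
  has_colimit D := by
    have : CreatesColimit D (incl X) :=
      createsColimitOfFullyFaithfulOfIso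
        { toComma := (colimit (D ⋙ incl X)).toComma
          prop := prop_colimit (D ⋙ incl X) (D.obj .zero).prop (D.obj .one).prop } (Iso.refl _)
    exact hasColimit_of_created D (incl X)

theorem preservesColimitsOfShape_restrict (f : X ⟶ Y) :
    PreservesColimitsOfShape WalkingParallelPair (FEt.restrict f) where
  preservesColimit {D} := by
    have : PreservesColimit D (incl Y) := by
      have : CreatesColimit D (incl Y) :=
        createsColimitOfFullyFaithfulOfIso
          { toComma := (colimit (D ⋙ incl Y)).toComma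
            prop := prop_colimit (D ⋙ incl Y) (D.obj .zero).prop (D.obj .one).prop } (Iso.refl _)
      infer_instance
    have : PreservesColimit (D ⋙ incl Y) (MorphismProperty.Over.pullback affProp ⊤ f) :=
      preservesColimit_pullback f _ (D.obj .zero).prop (D.obj .one).prop
    have : PreservesColimit D (FEt.restrict f ⋙ incl X) :=
      preservesColimit_of_natIso _ (inclRestrictIso f).symm
    exact preservesColimit_of_reflects_of_preserves (FEt.restrict f) (incl X)

end Incl

section Coproducts

instance : MorphismProperty.HasOfPostcompProperty FEt.prop.{u} FEt.prop.{u} where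
  of_postcomp f g hg hfg :=
    haveI : IsFinite g := hg.1
    haveI : Etale g := hg.2
    haveI : IsFinite (f ≫ g) := hfg.1
    haveI : Etale (f ≫ g) := hfg.2
    ⟨IsFinite.of_comp f g, Etale.of_comp f g⟩

variable {X Y : Scheme.{u}}

instance : HasFiniteLimits (FEt.Cat X) :=
  MorphismProperty.Over.hasFiniteLimits (P := FEt.prop) X

theorem preservesFiniteLimits_restrict (f : X ⟶ Y) : PreservesFiniteLimits (FEt.restrict f) :=
  inferInstanceAs (PreservesFiniteLimits (MorphismProperty.Over.pullback FEt.prop ⊤ f))

/-- A cofan in `Cat X` whose legs are disjoint covering open immersions is a coproduct. -/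
theorem nonempty_isColimit_binaryCofan_of_isCompl {A B P : FEt.Cat X} (i : A ⟶ P) (j : B ⟶ P)
    [IsOpenImmersion i.left] [IsOpenImmersion j.left]
    (h : IsCompl i.left.opensRange j.left.opensRange) :
    Nonempty (IsColimit (BinaryCofan.mk i j)) := by
  obtain ⟨hc⟩ := nonempty_isColimit_binaryCofanMk_of_isCompl i.left j.left h
  refine ⟨BinaryCofan.IsColimit.mk _ (fun {T} a b => MorphismProperty.Over.homMk
    (hc.desc (BinaryCofan.mk a.left b.left)) ?_ trivial) (fun {T} a b => ?_) (fun {T} a b => ?_)
    (fun {T} a b m h1 h2 => ?_)⟩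
  · refine BinaryCofan.IsColimit.hom_ext hc ?_ ?_
    · refine (Category.assoc _ _ _).symm.trans ?_
      refine (congrArg (· ≫ T.hom) (hc.fac (BinaryCofan.mk a.left b.left) ⟨.left⟩)).trans ?_
      exact (Over.w a.hom).trans (Over.w i.hom).symm
    · refine (Category.assoc _ _ _).symm.trans ?_
      refine (congrArg (· ≫ T.hom) (hc.fac (BinaryCofan.mk a.left b.left) ⟨.right⟩)).trans ?_
      exact (Over.w b.hom).trans (Over.w j.hom).symm
  · ext
    exact hc.fac (BinaryCofan.mk a.left b.left) ⟨.left⟩
  · ext
    exact hc.fac (BinaryCofan.mk a.left b.left) ⟨.right⟩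
  · ext
    refine BinaryCofan.IsColimit.hom_ext hc ?_ ?_
    · exact (congrArg (fun k => k.left) h1).trans
        (hc.fac (BinaryCofan.mk a.left b.left) ⟨.left⟩).symm
    · exact (congrArg (fun k => k.left) h2).trans
        (hc.fac (BinaryCofan.mk a.left b.left) ⟨.right⟩).symm

theorem prop_coprodDesc {U V : Scheme.{u}} (f : U ⟶ X) (g : V ⟶ X) (hf : FEt.prop f)
    (hg : FEt.prop g) : FEt.prop (coprod.desc f g) := by
  have : IsFinite f := hf.1
  have : IsFinite g := hg.1
  refine ⟨(inferInstance : IsFinite (coprod.desc f g)), ?_⟩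
  rw [IsZariskiLocalAtSource.iff_of_openCover (P := @Etale) (coprodOpenCover.{u, 0} U V)]
  rintro (⟨⟨⟩⟩ | ⟨⟨⟩⟩)
  · simpa [coprodOpenCover] using hf.2
  · simpa [coprodOpenCover] using hg.2

/-- The disjoint union of two covers. -/
noncomputable def sumObj (A B : FEt.Cat X) : FEt.Cat X :=
  MorphismProperty.Over.mk ⊤ (coprod.desc A.hom B.hom) (prop_coprodDesc _ _ A.prop B.prop)

/-- Left injection. -/
noncomputable def sumInl (A B : FEt.Cat X) : A ⟶ sumObj A B :=
  MorphismProperty.Over.homMk coprod.inl (coprod.inl_desc _ _) trivial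

/-- Right injection. -/
noncomputable def sumInr (A B : FEt.Cat X) : B ⟶ sumObj A B :=
  MorphismProperty.Over.homMk coprod.inr (coprod.inr_desc _ _) trivial

/-- The disjoint union is the coproduct. -/
noncomputable def isColimitSum (A B : FEt.Cat X) :
    IsColimit (BinaryCofan.mk (sumInl A B) (sumInr A B)) :=
  haveI : IsOpenImmersion (sumInl A B).left := inferInstanceAs (IsOpenImmersion coprod.inl)
  haveI : IsOpenImmersion (sumInr A B).left := inferInstanceAs (IsOpenImmersion coprod.inr)
  (nonempty_isColimit_binaryCofan_of_isCompl (sumInl A B) (sumInr A B)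
    (isCompl_opensRange_inl_inr _ _)).some

instance : HasBinaryCoproducts (FEt.Cat X) :=
  haveI : ∀ {A B : FEt.Cat X}, HasColimit (pair A B) := fun {A B} => ⟨⟨⟨_, isColimitSum A B⟩⟩⟩
  hasBinaryCoproducts_of_hasColimit_pair _

/-- A cover with empty source is initial. -/
noncomputable def isInitialOfIsEmpty (A : FEt.Cat X) [IsEmpty A.left] : IsInitial A :=
  IsInitial.ofUniqueHom
    (fun T => MorphismProperty.Over.homMk
      ((AlgebraicGeometry.isInitialOfIsEmpty (X := A.left)).to _)
      ((AlgebraicGeometry.isInitialOfIsEmpty (X := A.left)).hom_ext _ _) trivial)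
    fun T m => by
      ext
      exact (AlgebraicGeometry.isInitialOfIsEmpty (X := A.left)).hom_ext _ _

theorem prop_emptyTo (X : Scheme.{u}) : FEt.prop X.emptyTo := by
  have : IsClosedImmersion X.emptyTo := by
    have : IsPreimmersion X.emptyTo := inferInstance
    exact IsClosedImmersion.of_isPreimmersion _ (by rw [Set.range_eq_empty]; exact isClosed_empty)
  exact ⟨(inferInstance : IsFinite X.emptyTo), (inferInstance : Etale X.emptyTo)⟩

/-- The empty cover. -/
noncomputable def emptyObj (X : Scheme.{u}) : FEt.Cat X :=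
  MorphismProperty.Over.mk ⊤ X.emptyTo (prop_emptyTo X)

instance : IsEmpty (emptyObj X).left := inferInstanceAs (IsEmpty (∅ : Scheme.{u}))

instance : HasInitial (FEt.Cat X) := (isInitialOfIsEmpty (emptyObj X)).hasInitial

instance : HasFiniteCoproducts (FEt.Cat X) := hasFiniteCoproducts_of_has_binary_and_initial

instance : HasFiniteColimits (FEt.Cat X) :=
  hasFiniteColimits_of_hasCoequalizers_and_finite_coproducts

theorem preservesBinary_restrict (f : X ⟶ Y) :
    PreservesColimitsOfShape (Discrete WalkingPair) (FEt.restrict f) where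
  preservesColimit {K} := by
    let A := K.obj ⟨.left⟩
    let B := K.obj ⟨.right⟩
    let F := FEt.restrict f
    have : PreservesColimit (pair A B) F := by
      refine preservesColimit_of_preserves_colimit_cocone (isColimitSum A B)
        ((isColimitMapCoconeBinaryCofanEquiv F _ _).symm ?_)
      let C : FEt.Cat Y := sumObj A B
      have hsq : ∀ {W : FEt.Cat Y} (k : W ⟶ C),
          IsPullback (pullback.fst W.hom f) (F.map k).left k.left (pullback.fst C.hom f) := by
        intro W k
        have hw : (F.map k).left ≫ pullback.snd C.hom f = pullback.snd W.hom f :=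
          pullback.lift_snd _ _ _
        have hW : k.left ≫ C.hom = W.hom := Over.w k.hom
        refine (IsPullback.of_right (h₁₂ := pullback.snd C.hom f) (h₂₂ := C.hom) ?_
          (pullback.lift_fst _ _ _) (IsPullback.of_hasPullback C.hom f).flip).flip
        rw [pullback.lift_snd, hW]
        exact (IsPullback.of_hasPullback W.hom f).flip
      have hl : IsOpenImmersion (sumInl A B).left := inferInstanceAs (IsOpenImmersion coprod.inl)
      have hr : IsOpenImmersion (sumInr A B).left := inferInstanceAs (IsOpenImmersion coprod.inr)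
      have hl' : IsOpenImmersion (F.map (sumInl A B)).left :=
        MorphismProperty.of_isPullback (P := @IsOpenImmersion) (hsq (sumInl A B)) hl
      have hr' : IsOpenImmersion (F.map (sumInr A B)).left :=
        MorphismProperty.of_isPullback (P := @IsOpenImmersion) (hsq (sumInr A B)) hr
      refine (nonempty_isColimit_binaryCofan_of_isCompl _ _ ?_).some
      have hrange : ∀ {W : FEt.Cat Y} (k : W ⟶ C) [IsOpenImmersion k.left]
          [IsOpenImmersion (F.map k).left],
          (F.map k).left.opensRange = pullback.fst C.hom f ⁻¹ᵁ k.left.opensRange := by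
        intro W k _ _
        have h := (hsq k).isoPullback_hom_snd
        apply TopologicalSpace.Opens.ext
        change Set.range (F.map k).left = pullback.fst C.hom f ⁻¹' Set.range k.left
        have hs : Function.Surjective (hsq k).isoPullback.hom :=
          (hsq k).isoPullback.hom.surjective
        rw [← h, Scheme.Hom.comp_base, TopCat.coe_comp]
        exact (hs.range_comp _).trans (IsOpenImmersion.range_pullbackSnd _ _)
      have hc : IsCompl (sumInl A B).left.opensRange (sumInr A B).left.opensRange :=
        isCompl_opensRange_inl_inr _ _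
      rw [hrange, hrange]
      exact IsCompl.of_eq (by rw [← Scheme.Hom.preimage_inf, hc.inf_eq_bot]; rfl)
        (by rw [← Scheme.Hom.preimage_sup, hc.sup_eq_top]; rfl)
    exact preservesColimit_of_iso_diagram F (diagramIsoPair K).symm

theorem preservesEmpty_restrict (f : X ⟶ Y) :
    PreservesColimitsOfShape (Discrete PEmpty.{1}) (FEt.restrict f) := by
  have h : PreservesColimit (Functor.empty (FEt.Cat Y)) (FEt.restrict f) := by
    refine preservesColimit_of_preserves_colimit_cocone (isInitialOfIsEmpty (emptyObj Y))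
      ((isColimitMapCoconeEmptyCoconeEquiv _ _).symm ?_)
    have h0 : IsEmpty ↥((𝟭 Scheme).obj (emptyObj Y).left) :=
      (inferInstanceAs (IsEmpty (∅ : Scheme.{u})))
    have : IsEmpty ((FEt.restrict f).obj (emptyObj Y)).left :=
      Function.isEmpty (fun x => pullback.fst (emptyObj Y).hom f x)
    exact isInitialOfIsEmpty _
  exact preservesColimitsOfShape_pempty_of_preservesInitial _

theorem preservesFiniteColimits_restrict (f : X ⟶ Y) :
    PreservesFiniteColimits (FEt.restrict f) :=
  haveI := preservesBinary_restrict f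
  haveI := preservesEmpty_restrict f
  haveI : PreservesFiniteCoproducts (FEt.restrict f) :=
    ⟨fun n => PreservesFiniteCoproducts.of_preserves_binary_and_initial _ (Fin n)⟩
  haveI := preservesColimitsOfShape_restrict f
  preservesFiniteColimits_of_preservesCoequalizers_and_finiteCoproducts _

end Coproducts

end Groth.Agent.H18Et.FEtGlobal
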