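import Mathlib
import Groth.Agent.H12AlgSp.EtaleSourceAlg

/-!
Etale morphisms to a closed subscheme lift Zariski locally to the ambient scheme.
-/

set_option autoImplicit false
open CategoryTheory CategoryTheory.Limits AlgebraicGeometry Opposite TensorProduct
universe u

namespace Groth.Agent.H18Et

set_option backward.isDefEq.respectTransparency.types false in
/-- An etale morphism to a closed subscheme of `Y` is, near each point of the source, the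
restriction of an etale morphism to `Y`. -/
theorem exists_etale_lift_closed {Z Y U : Scheme.{u}} (i : Z ⟶ Y) [IsClosedImmersion i]
    (p : U ⟶ Z) [Etale p] (x : U) :
    ∃ (V : Scheme.{u}) (q : V ⟶ Y) (U' : Scheme.{u}) (j : U' ⟶ U) (a : U' ⟶ V),
      IsAffine V ∧ Etale q ∧ IsOpenImmersion j ∧ x ∈ Set.range j.base ∧
        IsPullback a (j ≫ p) q i := by
  obtain ⟨W, hW, hxW, -⟩ := TopologicalSpace.Opens.isBasis_iff_nbhd.mp Y.isBasis_affineOpens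
    (TopologicalSpace.Opens.mem_top (i.base (p.base x)))
  have hZW : IsAffineOpen (i ⁻¹ᵁ W) := hW.preimage i
  obtain ⟨U₁, hU₁, hxU₁, hle⟩ := TopologicalSpace.Opens.isBasis_iff_nbhd.mp U.isBasis_affineOpens
    (show x ∈ p ⁻¹ᵁ (i ⁻¹ᵁ W) from hxW)
  let φ := i.app W
  let ψ := p.appLE (i ⁻¹ᵁ W) U₁ hle
  let : Algebra Γ(Y, W) Γ(Z, i ⁻¹ᵁ W) := φ.hom.toAlgebra
  let : Algebra Γ(Z, i ⁻¹ᵁ W) Γ(U, U₁) := ψ.hom.toAlgebra
  have het : Algebra.Etale Γ(Z, i ⁻¹ᵁ W) Γ(U, U₁) :=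
    HasRingHomProperty.appLE @Etale p ‹_› ⟨_, hZW⟩ ⟨_, hU₁⟩ hle
  obtain ⟨f, hf, hst⟩ := Algebra.IsEtaleAt.exists_isStandardEtale (R := Γ(Z, i ⁻¹ᵁ W))
    (hU₁.primeIdealOf ⟨x, hxU₁⟩).asIdeal
  have hU₂ : IsAffineOpen (U.basicOpen f) := hU₁.basicOpen f
  have hxU₂ : x ∈ U.basicOpen f := by
    have : hU₁.primeIdealOf ⟨x, hxU₁⟩ ∈ hU₁.fromSpec ⁻¹ᵁ U.basicOpen f := by
      rw [hU₁.fromSpec_preimage_basicOpen]; exact hf
    have := show hU₁.fromSpec (hU₁.primeIdealOf ⟨x, hxU₁⟩) ∈ U.basicOpen f from this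
    rwa [hU₁.fromSpec_primeIdealOf] at this
  have hle₂ : U.basicOpen f ≤ p ⁻¹ᵁ (i ⁻¹ᵁ W) := (U.basicOpen_le f).trans hle
  let ψ₂ := p.appLE (i ⁻¹ᵁ W) (U.basicOpen f) hle₂
  let : Algebra Γ(Z, i ⁻¹ᵁ W) Γ(U, U.basicOpen f) := ψ₂.hom.toAlgebra
  have htow : IsScalarTower Γ(Z, i ⁻¹ᵁ W) Γ(U, U₁) Γ(U, U.basicOpen f) :=
    .of_algebraMap_eq' congr($((Scheme.Hom.appLE_map p hle (homOfLE (U.basicOpen_le f)).op).symm).hom)
  have := hU₁.isLocalization_basicOpen f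
  have hst₂ : Algebra.IsStandardEtale Γ(Z, i ⁻¹ᵁ W) Γ(U, U.basicOpen f) :=
    .of_equiv ((IsLocalization.algEquiv (Submonoid.powers f) (Localization.Away f)
      Γ(U, U.basicOpen f)).restrictScalars Γ(Z, i ⁻¹ᵁ W))
  obtain ⟨Tl, _, _, hTl, ⟨e⟩⟩ := H12AlgSp.EtaleSource.exists_standardEtale_lift
    (P := Γ(Y, W)) (S := Γ(Z, i ⁻¹ᵁ W)) (T := Γ(U, U.basicOpen f))
    (i.app_surjective W hW)
  let σ : CommRingCat.of Tl ⟶ Γ(U, U.basicOpen f) :=
    CommRingCat.ofHom (e.toRingEquiv.toRingHom.comp Algebra.TensorProduct.includeRight.toRingHom)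
  have hpo : IsPushout φ (CommRingCat.ofHom (algebraMap Γ(Y, W) Tl)) ψ₂ σ :=
    (CommRingCat.isPushout_tensorProduct Γ(Y, W) Γ(Z, i ⁻¹ᵁ W) Tl).of_iso (Iso.refl _)
      (Iso.refl _) (Iso.refl _) e.toRingEquiv.toCommRingCatIso (by cat_disch) (by cat_disch)
      (by ext s; simpa [Algebra.TensorProduct.algebraMap_apply, RingHom.algebraMap_toAlgebra]
            using e.commutes s)
      (by ext t; rfl)
  refine ⟨Spec (.of Tl), Spec.map (CommRingCat.ofHom (algebraMap Γ(Y, W) Tl)) ≫ hW.fromSpec,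
    Spec Γ(U, U.basicOpen f), hU₂.fromSpec, Spec.map σ, inferInstance, ?_, inferInstance,
    ⟨hU₂.primeIdealOf ⟨x, hxU₂⟩, hU₂.fromSpec_primeIdealOf _⟩, ?_⟩
  · have : Etale (Spec.map (CommRingCat.ofHom (algebraMap Γ(Y, W) Tl))) :=
      (HasRingHomProperty.Spec_iff (P := @Etale)).2
        (RingHom.etale_algebraMap.mpr inferInstance)
    infer_instance
  · have h2 : IsPullback (Spec.map φ) hZW.fromSpec hW.fromSpec i :=
      IsOpenImmersion.isPullback _ _ _ _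
        ((IsAffineOpen.SpecMap_appLE_fromSpec i hW hZW le_rfl).symm.trans
          congr(Spec.map $((Scheme.Hom.app_eq_appLE i).symm) ≫ hW.fromSpec))
        (by rw [hW.opensRange_fromSpec, hZW.opensRange_fromSpec])
    have h3 := (isPullback_SpecMap_of_isPushout _ _ _ _ hpo).flip.paste_vert h2
    rwa [show Spec.map ψ₂ ≫ hZW.fromSpec = hU₂.fromSpec ≫ p from
      IsAffineOpen.SpecMap_appLE_fromSpec p hZW hU₂ hle₂] at h3

end Groth.Agent.H18Et
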