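import Groth.Agent.H18Et.Stalk
import Groth.Prelude.Def_EtCore
import Groth.Prelude.Def_SGA4b

/-!
# Consequences of the stalk criterion: inverse images, sheaves of sets
-/

universe u

open CategoryTheory CategoryTheory.Limits AlgebraicGeometry Opposite

namespace Groth.Agent.H18Et

variable {X Y : Scheme.{u}}

scoped instance stalkSh_preservesFiniteLimits {Ω : Type u} [Field Ω] [IsSepClosed Ω]
    (ξ : Spec (CommRingCat.of Ω) ⟶ X) :
    PreservesFiniteLimits ((Scheme.pointSmallEtale ξ).sheafFiber (A := Type (u + 1))) := by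
  have : AB5OfSize.{u, u} (Type (u + 1)) := AB5OfSize_of_univLE.{u, u, u + 1, u + 1} _
  infer_instance

theorem mono_of_stalkSh {F G : EtDesc.Sh X} (φ : F ⟶ G)
    (h : ∀ x : X, ∃ (Ω : Type u) (_ : Field Ω) (_ : IsSepClosed Ω)
      (ξ : Spec (CommRingCat.of Ω) ⟶ X), ξ.base default = x ∧
        Function.Injective ((Scheme.pointSmallEtale ξ).sheafFiber.map φ)) : Mono φ := by
  refine Sheaf.mono_of_injective φ fun U s t hst => ?_
  refine sect_ext' (A := Type (u + 1)) (F := F) (U := unop U) s t fun x => ?_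
  obtain ⟨Ω, i₁, i₂, ξ, hξ, hinj⟩ := h x
  refine ⟨Ω, i₁, i₂, ξ, hξ, fun z => ?_⟩
  apply hinj
  rw [germ_naturality, germ_naturality]
  exact congrArg _ hst

theorem mono_iff_stalkSh {F G : EtDesc.Sh X} (φ : F ⟶ G) :
    Mono φ ↔ ∀ (Ω : Type u) [Field Ω] [IsSepClosed Ω] (ξ : Spec (CommRingCat.of Ω) ⟶ X),
      Function.Injective ((Scheme.pointSmallEtale ξ).sheafFiber.map φ) :=
  ⟨fun _ Ω _ _ ξ => (CategoryTheory.mono_iff_injective _).1 inferInstance,
    fun h => mono_of_stalkSh φ fun x => ⟨_, _, _, geomPt x, geomPt_base x, h _ (geomPt x)⟩⟩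

theorem epi_of_stalkSh {F G : EtDesc.Sh X} (φ : F ⟶ G)
    (h : ∀ x : X, ∃ (Ω : Type u) (_ : Field Ω) (_ : IsSepClosed Ω)
      (ξ : Spec (CommRingCat.of Ω) ⟶ X), ξ.base default = x ∧
        Function.Surjective ((Scheme.pointSmallEtale ξ).sheafFiber.map φ)) : Epi φ := by
  have := isLocallySurjective_of_stalk φ h
  exact Sheaf.epi_of_isLocallySurjective φ

theorem epi_iff_stalkSh {F G : EtDesc.Sh X} (φ : F ⟶ G) :
    Epi φ ↔ ∀ (Ω : Type u) [Field Ω] [IsSepClosed Ω] (ξ : Spec (CommRingCat.of Ω) ⟶ X),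
      Function.Surjective ((Scheme.pointSmallEtale ξ).sheafFiber.map φ) :=
  ⟨fun _ Ω _ _ ξ => (CategoryTheory.epi_iff_surjective _).1 inferInstance,
    fun h => epi_of_stalkSh φ fun x => ⟨_, _, _, geomPt x, geomPt_base x, h _ (geomPt x)⟩⟩

/-- The stalk of an inverse image of a sheaf of sets is the stalk at the image point. -/
noncomputable def stalkPullShIso {Ω : Type u} [Field Ω] [IsSepClosed Ω] (f : X ⟶ Y)
    (ξ : Spec (CommRingCat.of Ω) ⟶ X) :
    EtDesc.pullSh f ⋙ (Scheme.pointSmallEtale ξ).sheafFiber (A := Type (u + 1)) ≅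
      (Scheme.pointSmallEtale (ξ ≫ f)).sheafFiber :=
  ((Scheme.pointSmallEtale ξ).sheafFiberComapIso (EtCoh.bc f) (EtCoh.coverPreserving_bc f)
      (Type (u + 1))).symm ≪≫
    { hom := (pointCompIso f ξ).inv.sheafFiber
      inv := (pointCompIso f ξ).hom.sheafFiber
      hom_inv_id := by
        rw [← GrothendieckTopology.Point.Hom.sheafFiber_comp, Iso.hom_inv_id,
          GrothendieckTopology.Point.Hom.sheafFiber_id]
      inv_hom_id := by
        rw [← GrothendieckTopology.Point.Hom.sheafFiber_comp, Iso.inv_hom_id,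
          GrothendieckTopology.Point.Hom.sheafFiber_id] }

theorem pull_map_stalk_iff {F G : EtCoh.Ab Y} (φ : F ⟶ G) (f : X ⟶ Y)
    (P : MorphismProperty AddCommGrpCat.{u + 1}) [P.RespectsIso] {Ω : Type u} [Field Ω] [IsSepClosed Ω]
    (ξ : Spec (CommRingCat.of Ω) ⟶ X) :
    P ((EtCoh.stalk ξ).map ((EtCoh.pull f).map φ)) ↔ P ((EtCoh.stalk (ξ ≫ f)).map φ) :=
  P.arrow_mk_iso_iff (Arrow.isoMk ((stalkPullIso f ξ).app F) ((stalkPullIso f ξ).app G)
    ((stalkPullIso f ξ).hom.naturality φ).symm)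

instance pull_preservesMonomorphisms (f : X ⟶ Y) : (EtCoh.pull f).PreservesMonomorphisms where
  preserves {F G} φ _ := (mono_iff_stalk _).2 fun Ω _ _ ξ =>
    (pull_map_stalk_iff φ f (MorphismProperty.monomorphisms _) ξ).2
      ((mono_iff_stalk φ).1 inferInstance Ω (ξ ≫ f))

theorem pull_preservesFiniteLimits (f : X ⟶ Y) : PreservesFiniteLimits (EtCoh.pull f) :=
  ((EtCoh.pull f).preservesFiniteLimits_tfae.out 0 3 rfl rfl).1 fun S hS => by
    have := hS.mono_f
    refine ⟨(exact_iff_stalk _).2 fun Ω _ _ ξ => ?_, inferInstance⟩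
    exact (ShortComplex.exact_iff_of_iso (ShortComplex.mapNatIso S (stalkPullIso f ξ))).2
      ((exact_iff_stalk S).1 hS.exact Ω (ξ ≫ f))

end Groth.Agent.H18Et
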