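import Groth.Agent.H18Et.Support
import Groth.Agent.H18Et.StalkSets
import Groth.Agent.H18Et.ClosedLift

/-!
# Stalks of direct images along morphisms along which etale neighbourhoods lift
-/

universe w u

open CategoryTheory CategoryTheory.Limits AlgebraicGeometry Opposite

namespace Groth.Agent.H18Et

section General

variable {C D : Type*} [Category C] [Category D] {J : GrothendieckTopology C}
  {K : GrothendieckTopology D} (Φ : GrothendieckTopology.Point.{w} K) (F : C ⥤ D)

/-- The functor on neighbourhoods induced by `F`. -/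
def comapElements : (F ⋙ Φ.fiber).Elements ⥤ Φ.fiber.Elements where
  obj p := ⟨F.obj p.1, p.2⟩
  map g := ⟨F.map g.1, g.2⟩
  map_id p := Subtype.ext (F.map_id p.1)
  map_comp g h := Subtype.ext (F.map_comp g.1 h.1)

variable [RepresentablyFlat F] (hF : CoverPreserving J K F)
  [InitiallySmall.{w} (F ⋙ Φ.fiber).Elements] (A : Type*) [Category A]
  [HasColimitsOfSize.{w, w} A] [Functor.IsContinuous F J K]

/-- Evaluation of the germ of a direct image. -/
noncomputable def pushFiberApp (G : Sheaf K A) :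
    (Φ.comap F hF).sheafFiber.obj ((F.sheafPushforwardContinuous A J K).obj G) ⟶
      Φ.sheafFiber.obj G :=
  (Φ.comap F hF).presheafFiberDesc (P := F.op ⋙ G.obj)
    (fun c x => Φ.toPresheafFiber (F.obj c) x G.obj)
    (fun _ _ g x => Φ.toPresheafFiber_w (F.map g) x G.obj)

theorem toPresheafFiber_pushFiberApp (G : Sheaf K A) (c : C) (x : Φ.fiber.obj (F.obj c)) :
    (Φ.comap F hF).toPresheafFiber c x (F.op ⋙ G.obj) ≫ pushFiberApp Φ F hF A G =
      Φ.toPresheafFiber (F.obj c) x G.obj :=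
  (Φ.comap F hF).toPresheafFiber_presheafFiberDesc (P := F.op ⋙ G.obj)
    (fun c x => Φ.toPresheafFiber (F.obj c) x G.obj)
    (fun _ _ g x => Φ.toPresheafFiber_w (F.map g) x G.obj) c x

/-- Evaluation of the germ of a direct image, as a natural transformation. -/
noncomputable def pushFiberHom :
    F.sheafPushforwardContinuous A J K ⋙ (Φ.comap F hF).sheafFiber ⟶ Φ.sheafFiber where
  app := pushFiberApp Φ F hF A
  naturality G G' φ := by
    refine GrothendieckTopology.Point.presheafFiber_hom_ext _ fun c x => ?_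
    refine Eq.trans ((Φ.comap F hF).toPresheafFiber_naturality_assoc _ c x _) ?_
    refine Eq.trans (congrArg (_ ≫ ·) (toPresheafFiber_pushFiberApp Φ F hF A G' c x)) ?_
    refine Eq.trans ?_ (Category.assoc _ _ _)
    refine Eq.trans ?_ (congrArg (· ≫ _) (toPresheafFiber_pushFiberApp Φ F hF A G c x).symm)
    exact ((Φ.toPresheafFiber_naturality φ.hom (F.obj c) x)).symm

theorem isIso_pushFiberHom [(comapElements Φ F).Initial] : IsIso (pushFiberHom Φ F hF A) := by
  have h : ∀ G, IsIso ((pushFiberHom Φ F hF A).app G) := fun G =>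
    (inferInstance : IsIso (colimit.pre ((CategoryOfElements.π Φ.fiber).op ⋙ G.obj)
      (comapElements Φ F).op))
  exact NatIso.isIso_of_isIso_app _

end General

variable {Z X : Scheme.{u}}

/-- Etale neighbourhoods in the source of `f` come, locally, from etale neighbourhoods in the
target. -/
def LiftsEtale (f : Z ⟶ X) : Prop :=
  ∀ {U : Scheme.{u}} (p : U ⟶ Z), Etale p → ∀ u : U, ∃ (V : Scheme.{u}) (q : V ⟶ X),
    Etale q ∧ ∃ a : pullback q f ⟶ U, a ≫ p = pullback.snd q f ∧ u ∈ Set.range a.base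

/-- `LiftsEtale` after every etale base change. -/
def LiftsEtaleUniv (f : Z ⟶ X) : Prop :=
  ∀ {X' : Scheme.{u}} (e : X' ⟶ X), Etale e → LiftsEtale (pullback.fst e f)

theorem liftsEtale_of_isClosedImmersion (f : Z ⟶ X) [IsClosedImmersion f] : LiftsEtale f := by
  intro U p hp u
  obtain ⟨V, q, U', j, a, -, hq, hj, ⟨u', rfl⟩, hpb⟩ := exists_etale_lift_closed f p u
  refine ⟨V, q, hq, hpb.isoPullback.inv ≫ j,
    (Category.assoc _ _ _).trans hpb.isoPullback_inv_snd, hpb.isoPullback.hom.base u', ?_⟩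
  exact (Scheme.Hom.comp_apply _ _ _).symm.trans
    (congrArg (fun g : U' ⟶ U => g.base u') (Iso.hom_inv_id_assoc hpb.isoPullback j))

theorem liftsEtaleUniv_of_isClosedImmersion (f : Z ⟶ X) [IsClosedImmersion f] : LiftsEtaleUniv f :=
  fun _ _ => liftsEtale_of_isClosedImmersion _

theorem liftsEtale_of_isOpenImmersion (f : Z ⟶ X) [IsOpenImmersion f] : LiftsEtale f := by
  intro U p hp u
  refine ⟨U, p ≫ f, inferInstance, pullback.fst (p ≫ f) f, ?_, ?_⟩
  · rw [← cancel_mono f, Category.assoc]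
    exact pullback.condition
  · exact ⟨(pullback.lift (𝟙 U) p (Category.id_comp _) : U ⟶ pullback (p ≫ f) f).base u,
      (Scheme.Hom.comp_apply _ _ _).symm.trans
        ((congrArg (fun g : U ⟶ U => g.base u) (pullback.lift_fst _ _ _)).trans rfl)⟩

theorem liftsEtaleUniv_of_isOpenImmersion (f : Z ⟶ X) [IsOpenImmersion f] : LiftsEtaleUniv f :=
  fun _ _ => liftsEtale_of_isOpenImmersion _

variable {Ω : Type u} [Field Ω] [IsSepClosed Ω]

/-- The relative form of lifting of etale neighbourhoods. -/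
theorem exists_nbhd_lift {f : Z ⟶ X} (hf : LiftsEtaleUniv f) (ζ : Spec (CommRingCat.of Ω) ⟶ Z)
    (V : X.Etale) (U : Z.Etale) (g : U ⟶ (EtCoh.bc f).obj V)
    (z : (Scheme.pointSmallEtale ζ).fiber.obj U) :
    ∃ (V' : X.Etale) (h : V' ⟶ V) (a : (EtCoh.bc f).obj V' ⟶ U)
      (x : (Scheme.pointSmallEtale ζ).fiber.obj ((EtCoh.bc f).obj V')),
      a ≫ g = (EtCoh.bc f).map h ∧ (Scheme.pointSmallEtale ζ).fiber.map a x = z := by
  have hV : Etale V.hom := V.prop
  obtain ⟨W, q, hq, a, ha, w, hw⟩ :=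
    hf V.hom hV (show U.left ⟶ pullback V.hom f from g.left) (etale_left g) (ptOf z)
  let V' : X.Etale := MorphismProperty.Over.mk ⊤ (q ≫ V.hom) (inferInstanceAs (Etale (q ≫ V.hom)))
  let h : V' ⟶ V := MorphismProperty.Over.homMk q rfl trivial
  have sq := (EtCoh.isPullback_bc_map f h).flip
  let a' : ((EtCoh.bc f).obj V').left ⟶ U.left := sq.isoPullback.hom ≫ a
  have h1 : a' ≫ g.left = ((EtCoh.bc f).map h).left :=
    (Category.assoc _ _ _).trans ((congrArg (sq.isoPullback.hom ≫ ·) ha).trans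
      sq.isoPullback_hom_snd)
  have h2 : a' ≫ U.hom = ((EtCoh.bc f).obj V').hom := by
    have hg : g.left ≫ ((EtCoh.bc f).obj V).hom = U.hom := Over.w g.hom
    have hh : ((EtCoh.bc f).map h).left ≫ ((EtCoh.bc f).obj V).hom = ((EtCoh.bc f).obj V').hom :=
      Over.w ((EtCoh.bc f).map h).hom
    rw [← hg, ← Category.assoc, h1, hh]
  let α : (EtCoh.bc f).obj V' ⟶ U := MorphismProperty.Over.homMk a' h2 trivial
  obtain ⟨x, hx⟩ := exists_fiber_lift α z (sq.isoPullback.inv.base w)
    ((Scheme.Hom.comp_apply _ _ _).symm.trans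
      ((congrArg (fun k : pullback q (pullback.fst V.hom f) ⟶ U.left => k.base w)
        (Iso.inv_hom_id_assoc sq.isoPullback a)).trans hw))
  refine ⟨V', h, α, x, ?_, hx⟩
  apply (Scheme.Etale.forget _).map_injective
  exact Over.OverMorphism.ext h1

theorem initial_comapElements {f : Z ⟶ X} (hf : LiftsEtaleUniv f)
    (ζ : Spec (CommRingCat.of Ω) ⟶ Z) :
    (comapElements (Scheme.pointSmallEtale ζ) (EtCoh.bc f)).Initial := by
  have : IsCofiltered (EtCoh.bc f ⋙ (Scheme.pointSmallEtale ζ).fiber).Elements :=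
    ((Scheme.pointSmallEtale ζ).comap (EtCoh.bc f) (EtCoh.coverPreserving_bc f)).isCofiltered
  apply Functor.initial_of_exists_of_isCofiltered
  · rintro ⟨U, z⟩
    have g : U ⟶ (EtCoh.bc f).obj (EtCoh.top X) :=
      MorphismProperty.Over.homMk (pullback.lift (U.hom ≫ f) U.hom (Category.comp_id _))
        (pullback.lift_snd _ _ _) trivial
    obtain ⟨V', -, a, x, -, hx⟩ := exists_nbhd_lift hf ζ _ U g z
    exact ⟨⟨V', x⟩, ⟨⟨a, hx⟩⟩⟩
  · rintro ⟨U, z⟩ ⟨V, x⟩ s s'
    let k := IsCofiltered.eqHom s s'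
    obtain ⟨V', h, a, x', hah, hx'⟩ :=
      exists_nbhd_lift hf ζ V (IsCofiltered.eq s s').1 k.1 (IsCofiltered.eq s s').2
    have hk : (Scheme.pointSmallEtale ζ).fiber.map k.1 (IsCofiltered.eq s s').2 = x := k.2
    refine ⟨⟨V', x'⟩, ⟨h, ?_⟩, Subtype.ext ?_⟩
    · exact ((congrArg (fun m => (Scheme.pointSmallEtale ζ).fiber.map m x') hah.symm).trans
        ((ConcreteCategory.congr_hom ((Scheme.pointSmallEtale ζ).fiber.map_comp a k.1) x').trans
          (congrArg ((Scheme.pointSmallEtale ζ).fiber.map k.1) hx'))).trans hk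
    · exact ((congrArg (· ≫ s.1) hah.symm).trans (Category.assoc a k.1 s.1)).trans
        ((congrArg (a ≫ ·) (congrArg Subtype.val (IsCofiltered.eq_condition s s'))).trans
          ((Category.assoc a k.1 s'.1).symm.trans (congrArg (· ≫ s'.1) hah)))

end Groth.Agent.H18Et
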