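import Groth.Agent.H18Et.EtaleLocalRing
import Groth.Agent.H18Et.PushStalk
import Mathlib.AlgebraicGeometry.Morphisms.Integral
import Mathlib.AlgebraicGeometry.Morphisms.Affine
import Mathlib.FieldTheory.PurelyInseparable.Basic
import Mathlib.FieldTheory.AlgebraicClosure
import Mathlib.LinearAlgebra.Basis.VectorSpace

/-!
# The geometric fibre of an integral morphism

For an integral `f : X ⟶ Y` and a geometric point `η` with algebraically closed field `Ω`, every
point of `pullback f η` is rational, and every open subset comes, near each point, from an etale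
neighbourhood of `η`.
-/

universe u

open CategoryTheory CategoryTheory.Limits AlgebraicGeometry Opposite TensorProduct

namespace Groth.Agent.H18Et

section Eval

variable {Ω : Type u} [Field Ω] {T : Scheme.{u}}

/-- The value of a global function at a geometric point. -/
noncomputable abbrev evalPt (l : Spec (CommRingCat.of Ω) ⟶ T) : Γ(T, ⊤) ⟶ CommRingCat.of Ω :=
  l.appTop ≫ (Scheme.ΓSpecIso (CommRingCat.of Ω)).hom

theorem evalPt_comp {S : Scheme.{u}} (l : Spec (CommRingCat.of Ω) ⟶ T) (m : T ⟶ S) (a : Γ(S, ⊤)) :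
    evalPt (l ≫ m) a = evalPt l (m.appTop a) := by
  unfold evalPt
  rw [Scheme.Hom.comp_appTop]
  rfl

theorem asIdeal_eq_bot_of_field (p : PrimeSpectrum Ω) : p.asIdeal = ⊥ := Ideal.eq_bot_of_prime _

theorem mem_basicOpen_iff_evalPt (l : Spec (CommRingCat.of Ω) ⟶ T) (a : Γ(T, ⊤)) :
    l.base default ∈ T.basicOpen a ↔ evalPt l a ≠ 0 := by
  have h := Scheme.preimage_basicOpen_top l a
  rw [basicOpen_eq_of_affine'] at h
  refine Iff.trans (Iff.of_eq (congrArg (fun O : (Spec (CommRingCat.of Ω)).Opens =>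
    (default : Spec (CommRingCat.of Ω)) ∈ O) h)) ?_
  refine not_congr ?_
  exact (Iff.of_eq (congrArg (fun I : Ideal Ω => evalPt l a ∈ I) (asIdeal_eq_bot_of_field
    (default : Spec (CommRingCat.of Ω))))).trans Ideal.mem_bot

end Eval

variable {X Y : Scheme.{u}} (f : X ⟶ Y) {Ω : Type u} [Field Ω]
  (η : Spec (CommRingCat.of Ω) ⟶ Y)

/-- The geometric points over `η`. -/
abbrev Pts : Type u := {ξ : Spec (CommRingCat.of Ω) ⟶ X // ξ ≫ f = η}

variable {f η}

/-- The section of the geometric fibre given by a geometric point over `η`. -/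
noncomputable abbrev secPt (ξ : Pts f η) : Spec (CommRingCat.of Ω) ⟶ pullback f η :=
  pullback.lift ξ.1 (𝟙 _) (ξ.2.trans (Category.id_comp _).symm)

/-- The point of the geometric fibre given by a geometric point over `η`. -/
noncomputable abbrev qOf (ξ : Pts f η) : ↥(pullback f η) := (secPt ξ).base default

section Rational

variable [IsIntegralHom f] [IsAlgClosed Ω]

theorem surjective_qOf : Function.Surjective (qOf : Pts f η → ↥(pullback f η)) := by
  intro q
  have : IsAffine (pullback f η) := isAffine_of_isAffineHom (pullback.snd f η)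
  let P := pullback f η
  let ψ : CommRingCat.of Ω ⟶ Γ(P, ⊤) :=
    (Scheme.ΓSpecIso (CommRingCat.of Ω)).inv ≫ (pullback.snd f η).appTop
  let q' : PrimeSpectrum Γ(P, ⊤) := P.isoSpec.hom.base q
  let S := Γ(P, ⊤) ⧸ q'.asIdeal
  let : Algebra Ω S := ((Ideal.Quotient.mk q'.asIdeal).comp ψ.hom).toAlgebra
  have : Algebra.IsIntegral Ω S := by
    constructor
    refine fun s => ?_
    obtain ⟨s, rfl⟩ := Ideal.Quotient.mk_surjective s
    have hi : ((pullback.snd f η).appTop).hom.IsIntegral :=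
      (pullback.snd f η).isIntegral_app ⊤ (isAffineOpen_top _)
    obtain ⟨F, hF, hF'⟩ := hi s
    refine ⟨F.map (Scheme.ΓSpecIso (CommRingCat.of Ω)).hom.hom, hF.map _, ?_⟩
    rw [Polynomial.eval₂_map]
    have h := congrArg (Ideal.Quotient.mk q'.asIdeal) hF'
    rw [Polynomial.hom_eval₂, map_zero] at h
    refine (congrArg (fun g => Polynomial.eval₂ g _ F) ?_).trans h
    refine RingHom.ext fun a => congrArg (fun c => Ideal.Quotient.mk q'.asIdeal
      ((pullback.snd f η).appTop c)) ?_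
    exact ConcreteCategory.congr_hom (Scheme.ΓSpecIso (CommRingCat.of Ω)).hom_inv_id a
  have hbij := IsAlgClosed.algebraMap_bijective_of_isIntegral (k := Ω) (K := S)
  let e : Ω ≃+* S := RingEquiv.ofBijective _ hbij
  let χ : Γ(P, ⊤) ⟶ CommRingCat.of Ω :=
    CommRingCat.ofHom (e.symm.toRingHom.comp (Ideal.Quotient.mk q'.asIdeal))
  have hχ : ψ ≫ χ = 𝟙 _ := by
    ext a
    exact e.symm_apply_apply a
  let l : Spec (CommRingCat.of Ω) ⟶ P := Spec.map χ ≫ P.isoSpec.inv
  have hl : l ≫ pullback.snd f η = 𝟙 _ := by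
    have : IsAffine P := ‹_›
    refine ext_of_isAffine ?_
    rw [Scheme.Hom.comp_appTop, Scheme.Hom.id_appTop]
    have h1 : l.appTop = χ ≫ (Scheme.ΓSpecIso (CommRingCat.of Ω)).inv := by
      simp only [l, Scheme.Hom.comp_appTop, isoSpec_inv_appTop]
      exact (Scheme.ΓSpecIso_inv_naturality χ).symm
    rw [h1, ← cancel_epi (Scheme.ΓSpecIso (CommRingCat.of Ω)).inv]
    exact (congrArg (· ≫ (Scheme.ΓSpecIso (CommRingCat.of Ω)).inv) hχ).trans (by simp)
  have hξ : (l ≫ pullback.fst f η) ≫ f = η :=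
    (Category.assoc _ _ _).trans ((congrArg (l ≫ ·) pullback.condition).trans
      ((Category.assoc _ _ _).symm.trans ((congrArg (· ≫ η) hl).trans (Category.id_comp _))))
  refine ⟨⟨_, hξ⟩, ?_⟩
  · have hs : secPt (f := f) (η := η) ⟨_, hξ⟩ = l :=
      pullback.hom_ext (pullback.lift_fst _ _ _) ((pullback.lift_snd _ _ _).trans hl.symm)
    refine (congrArg (fun k => k.base default) hs).trans ?_
    have hq : (Spec.map χ).base default = q' := by
      apply PrimeSpectrum.ext
      refine (congrArg (Ideal.comap χ.hom)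
        (asIdeal_eq_bot_of_field (default : Spec (CommRingCat.of Ω)))).trans ?_
      rw [← RingHom.ker_eq_comap_bot]
      refine (RingHom.ker_comp_of_injective _ e.symm.injective).trans (Ideal.mk_ker)
    refine (congrArg (P.isoSpec.inv.base) hq).trans ?_
    exact (Scheme.Hom.comp_apply _ _ _).symm.trans
      (congrArg (fun k : P ⟶ P => k.base q) P.isoSpec.hom_inv_id)

omit [IsAlgClosed Ω] in
theorem injective_qOf : Function.Injective (qOf : Pts f η → ↥(pullback f η)) := by
  intro ξ ξ' h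
  have : IsAffine (pullback f η) := isAffine_of_isAffineHom (pullback.snd f η)
  let ψ : CommRingCat.of Ω ⟶ Γ(pullback f η, ⊤) :=
    (Scheme.ΓSpecIso (CommRingCat.of Ω)).inv ≫ (pullback.snd f η).appTop
  have hψ : ∀ (ζ : Pts f η) (c : Ω), evalPt (secPt ζ) (ψ c) = c := fun ζ c => by
    refine (evalPt_comp _ _ _).symm.trans ?_
    rw [pullback.lift_snd]
    exact ConcreteCategory.congr_hom (Scheme.ΓSpecIso (CommRingCat.of Ω)).inv_hom_id c
  have hs : secPt ξ = secPt ξ' := by
    refine ext_of_isAffine ((cancel_mono (Scheme.ΓSpecIso (CommRingCat.of Ω)).hom).1 ?_)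
    ext a
    have h2 := mem_basicOpen_iff_evalPt (secPt ξ) (a - ψ (evalPt (secPt ξ) a))
    have h3 := mem_basicOpen_iff_evalPt (secPt ξ') (a - ψ (evalPt (secPt ξ) a))
    change qOf ξ ∈ _ ↔ _ at h2
    change qOf ξ' ∈ _ ↔ _ at h3
    rw [← h, h2, map_sub, map_sub, hψ, hψ, sub_self] at h3
    exact (sub_eq_zero.1 (not_not.1 fun hn => h3.2 hn rfl)).symm
  refine Subtype.ext ?_
  exact (pullback.lift_fst _ _ _).symm.trans
    ((congrArg (· ≫ pullback.fst f η) hs).trans (pullback.lift_fst _ _ _))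

omit [IsAlgClosed Ω] in
theorem finite_pts {X Y : Scheme.{u}} (f : X ⟶ Y) [IsFinite f]
    (η : Spec (CommRingCat.of Ω) ⟶ Y) : Finite (Pts f η) := by
  have : Finite ↥(pullback f η) := by
    have h := (pullback.snd f η).finite_preimage_singleton (default : Spec (CommRingCat.of Ω))
    refine Set.finite_univ_iff.1 (h.subset fun x _ => ?_)
    exact Subsingleton.elim _ _
  exact Finite.of_injective _ (injective_qOf (f := f) (η := η))

end Rational

section Nbhd

variable [IsSepClosed Ω]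

theorem fiber_w {V : Y.Etale} (v : (Scheme.pointSmallEtale η).fiber.obj V) :
    (show Spec (CommRingCat.of Ω) ⟶ V.left from v.left) ≫ V.hom = η :=
  Over.w v

/-- The geometric fibre maps to the base change of each neighbourhood. -/
noncomputable def ιFib (V : Y.Etale) (v : (Scheme.pointSmallEtale η).fiber.obj V) :
    pullback f η ⟶ ((EtCoh.bc f).obj V).left :=
  pullback.lift (pullback.snd f η ≫ v.left) (pullback.fst f η)
    ((Category.assoc _ _ _).trans ((congrArg (pullback.snd f η ≫ ·) (fiber_w v)).trans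
      pullback.condition.symm))

theorem ιFib_fst (V : Y.Etale) (v : (Scheme.pointSmallEtale η).fiber.obj V) :
    ιFib (f := f) V v ≫ pullback.fst V.hom f = pullback.snd f η ≫ v.left :=
  pullback.lift_fst _ _ _

theorem ιFib_snd (V : Y.Etale) (v : (Scheme.pointSmallEtale η).fiber.obj V) :
    ιFib (f := f) V v ≫ pullback.snd V.hom f = pullback.fst f η :=
  pullback.lift_snd _ _ _

theorem isPullback_ιFib (V : Y.Etale) (v : (Scheme.pointSmallEtale η).fiber.obj V) :
    IsPullback (ιFib (f := f) V v) (pullback.snd f η) (pullback.fst V.hom f) v.left := by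
  refine IsPullback.of_right (h₁₂ := pullback.snd V.hom f) (v₁₃ := f) (h₂₂ := V.hom) ?_
    (ιFib_fst V v) (IsPullback.of_hasPullback V.hom f).flip
  exact (congrArg₂ (fun k l => IsPullback k (pullback.snd f η) f l) (ιFib_snd V v)
    (fiber_w v)).mpr (IsPullback.of_hasPullback f η)

set_option maxHeartbeats 1000000 in
theorem ιFib_naturality {V V' : Y.Etale} (g : V' ⟶ V) {v' : (Scheme.pointSmallEtale η).fiber.obj V'}
    {v : (Scheme.pointSmallEtale η).fiber.obj V}
    (h : (Scheme.pointSmallEtale η).fiber.map g v' = v) :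
    ιFib (f := f) V' v' ≫ ((EtCoh.bc f).map g).left = ιFib V v := by
  subst h
  refine pullback.hom_ext ?_ ?_
  · refine (Category.assoc _ _ _).trans ?_
    refine (congrArg (_ ≫ ·) (EtCoh.isPullback_bc_map f g).w).trans ?_
    refine ((Category.assoc _ _ _).symm.trans (congrArg (· ≫ g.left) (ιFib_fst V' v'))).trans ?_
    exact (Category.assoc _ _ _).trans
      (ιFib_fst (f := f) (η := η) V ((Scheme.pointSmallEtale η).fiber.map g v')).symm
  · refine (Category.assoc _ _ _).trans ?_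
    refine (congrArg (_ ≫ ·) (Over.w ((EtCoh.bc f).map g).hom)).trans ?_
    exact (ιFib_snd V' v').trans
      (ιFib_snd (f := f) (η := η) V ((Scheme.pointSmallEtale η).fiber.map g v')).symm

/-- The point over `ξ` of the base change of a neighbourhood of `η`. -/
noncomputable def bcPt (ξ : Pts f η) (V : Y.Etale) (v : (Scheme.pointSmallEtale η).fiber.obj V) :
    (Scheme.pointSmallEtale ξ.1).fiber.obj ((EtCoh.bc f).obj V) :=
  Over.homMk (secPt ξ ≫ ιFib V v) (by
    refine (Category.assoc _ _ _).trans ?_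
    exact (congrArg (secPt ξ ≫ ·) (ιFib_snd V v)).trans (pullback.lift_fst _ _ _))

theorem bcPt_map (ξ : Pts f η) {V V' : Y.Etale} (g : V' ⟶ V)
    {v' : (Scheme.pointSmallEtale η).fiber.obj V'} {v : (Scheme.pointSmallEtale η).fiber.obj V}
    (h : (Scheme.pointSmallEtale η).fiber.map g v' = v) :
    (Scheme.pointSmallEtale ξ.1).fiber.map ((EtCoh.bc f).map g) (bcPt ξ V' v') = bcPt ξ V v :=
  Over.OverMorphism.ext ((Category.assoc _ _ _).trans
    (congrArg (secPt ξ ≫ ·) (ιFib_naturality g h)))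

theorem exists_bcPt (ξ : Pts f η) (V : Y.Etale)
    (z : (Scheme.pointSmallEtale ξ.1).fiber.obj ((EtCoh.bc f).obj V)) :
    ∃ v, bcPt ξ V v = z := by
  have hz : (show Spec (CommRingCat.of Ω) ⟶ pullback V.hom f from z.left) ≫ pullback.snd V.hom f = ξ.1 :=
    Over.w z
  refine ⟨Over.homMk ((show Spec (CommRingCat.of Ω) ⟶ pullback V.hom f from z.left) ≫
    pullback.fst V.hom f) ?_, Over.OverMorphism.ext (pullback.hom_ext ?_ ?_)⟩
  · refine (Category.assoc _ _ _).trans ?_
    refine (congrArg (_ ≫ ·) pullback.condition).trans ?_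
    exact (Category.assoc _ _ _).symm.trans ((congrArg (· ≫ f) hz).trans ξ.2)
  · refine (Category.assoc _ _ _).trans ((congrArg (secPt ξ ≫ ·) (ιFib_fst V _)).trans ?_)
    exact (Category.assoc _ _ _).symm.trans ((congrArg (· ≫ _) (pullback.lift_snd _ _ _)).trans
      (Category.id_comp _))
  · refine (Category.assoc _ _ _).trans ((congrArg (secPt ξ ≫ ·) (ιFib_snd V _)).trans ?_)
    exact (pullback.lift_fst _ _ _).trans hz.symm

theorem ptOf_bcPt (ξ : Pts f η) (V : Y.Etale) (v : (Scheme.pointSmallEtale η).fiber.obj V) :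
    ptOf (bcPt ξ V v) = (ιFib V v).base (qOf ξ) :=
  Scheme.Hom.comp_apply _ _ _

omit [IsSepClosed Ω] in
theorem exists_generators [IsAffine Y] [IsAffineHom f] {P : Scheme.{u}} {a : P ⟶ X}
    {b : P ⟶ Spec (CommRingCat.of Ω)} {η : Spec (CommRingCat.of Ω) ⟶ Y}
    (h : IsPullback a b f η) (x : Γ(P, ⊤)) :
    ∃ s : Finset (Γ(X, ⊤) × Ω), x = ∑ p ∈ s,
      a.appTop p.1 * b.appTop ((Scheme.ΓSpecIso (CommRingCat.of Ω)).inv p.2) := by
  have : IsAffine X := isAffine_of_isAffineHom f
  have hp := isPushout_appTop_of_isPullback h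
  let i₁ : Γ(X, ⊤) →+* Γ(P, ⊤) := a.appTop.hom
  let i₂ : Ω →+* Γ(P, ⊤) := ((Scheme.ΓSpecIso (CommRingCat.of Ω)).inv ≫ b.appTop).hom
  let L : Γ(X, ⊤) ⊗[ℤ] Ω →ₐ[ℤ] Γ(P, ⊤) :=
    Algebra.TensorProduct.lift i₁.toIntAlgHom i₂.toIntAlgHom fun _ _ => .all _ _
  let S : Subring Γ(P, ⊤) := L.toRingHom.range
  let j₁ : Γ(X, ⊤) ⟶ CommRingCat.of S := CommRingCat.ofHom (i₁.codRestrict S fun c =>
    ⟨c ⊗ₜ 1, (Algebra.TensorProduct.lift_tmul _ _ _ _ _).trans
      ((congrArg (i₁ c * ·) (map_one i₂)).trans (mul_one _))⟩)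
  let j₂ : Γ(Spec (CommRingCat.of Ω), ⊤) ⟶ CommRingCat.of S :=
    (Scheme.ΓSpecIso (CommRingCat.of Ω)).hom ≫ CommRingCat.ofHom (i₂.codRestrict S fun c =>
    ⟨(1 : Γ(X, ⊤)) ⊗ₜ c, (Algebra.TensorProduct.lift_tmul _ _ _ _ _).trans
      ((congrArg (· * i₂ c) (map_one i₁)).trans (one_mul _))⟩)
  have h1 : j₁ ≫ CommRingCat.ofHom S.subtype = a.appTop := rfl
  have h2 : j₂ ≫ CommRingCat.ofHom S.subtype = b.appTop :=
    (Category.assoc _ _ _).trans
      (Iso.hom_inv_id_assoc (Scheme.ΓSpecIso (CommRingCat.of Ω)) b.appTop)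
  have h3 : (f.appTop ≫ j₁) ≫ CommRingCat.ofHom S.subtype =
      (η.appTop ≫ j₂) ≫ CommRingCat.ofHom S.subtype := by
    rw [Category.assoc, Category.assoc, h1, h2]; exact hp.w
  have hj : f.appTop ≫ j₁ = η.appTop ≫ j₂ :=
    CommRingCat.hom_ext (RingHom.ext fun c => Subtype.ext (ConcreteCategory.congr_hom h3 c))
  have hid : hp.desc j₁ j₂ hj ≫ CommRingCat.ofHom S.subtype = 𝟙 _ := by
    refine hp.hom_ext ?_ ?_
    · rw [hp.inl_desc_assoc, Category.comp_id, h1]
    · rw [hp.inr_desc_assoc, Category.comp_id, h2]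
  obtain ⟨t, ht⟩ := (hp.desc j₁ j₂ hj x).2
  obtain ⟨s, rfl⟩ := TensorProduct.exists_finset t
  refine ⟨s, ?_⟩
  rw [map_sum] at ht
  refine (ConcreteCategory.congr_hom hid x).symm.trans (ht.symm.trans ?_)
  exact Finset.sum_congr rfl fun p _ => Algebra.TensorProduct.lift_tmul _ _ _ _ _

set_option maxHeartbeats 1000000 in
/-- Opens of the geometric fibre come from etale neighbourhoods. -/
theorem exists_nbhd_open [IsIntegralHom f] [IsAlgClosed Ω] (O : (pullback f η).Opens) (ξ : Pts f η)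
    (hξ : qOf ξ ∈ O) :
    ∃ (V : Y.Etale) (v : (Scheme.pointSmallEtale η).fiber.obj V)
      (O' : ((EtCoh.bc f).obj V).left.Opens),
      (ιFib V v).base (qOf ξ) ∈ O' ∧ ιFib V v ⁻¹ᵁ O' ≤ O := by
  classical
  obtain ⟨W', hW, hyW, -⟩ := TopologicalSpace.Opens.isBasis_iff_nbhd.mp Y.isBasis_affineOpens
    (TopologicalSpace.Opens.mem_top (η.base default))
  let W : Y.Opens := W'
  let V₀ : Y.Etale := MorphismProperty.Over.mk ⊤ W.ι (inferInstanceAs (Etale W.ι))
  obtain ⟨v₀, -⟩ := exists_fiber_over (U := V₀) (⟨η.base default, hyW⟩ : W.toScheme) η rfl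
  have : IsAffine W.toScheme := hW
  let π₀ : ((EtCoh.bc f).obj V₀).left ⟶ W.toScheme := pullback.fst V₀.hom f
  let l₀ : Spec (CommRingCat.of Ω) ⟶ W.toScheme := v₀.left
  have : IsIntegralHom π₀ :=
    inferInstanceAs (IsIntegralHom (pullback.fst V₀.hom f))
  have hsq : IsPullback (ιFib (f := f) V₀ v₀) (pullback.snd f η) π₀ l₀ := isPullback_ιFib V₀ v₀
  have : IsAffine (pullback f η) := isAffine_of_isAffineHom (pullback.snd f η)
  obtain ⟨x, hxle, hqx⟩ := (isAffineOpen_top (pullback f η)).exists_basicOpen_le (V := O)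
    ⟨qOf ξ, hξ⟩ trivial
  obtain ⟨s, hs⟩ := exists_generators hsq x
  obtain ⟨hR, hsep⟩ := isStrictlyHenselian_etaleLocalRing η
  let R := EtBase.etaleLocalRing η
  let k := IsLocalRing.ResidueField R
  have : IsLocalHom (valueHom η).hom := ⟨fun r hr => isUnit_of_valueHom_ne_zero η r hr.ne_zero⟩
  let : Algebra k Ω := (IsLocalRing.ResidueField.lift (valueHom η).hom).toAlgebra
  let L := algebraicClosure k Ω
  let φ : Pts f η → ((Γ(((EtCoh.bc f).obj V₀).left, ⊤) : CommRingCat) ⟶ CommRingCat.of Ω) :=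
    fun ζ => evalPt (secPt ζ ≫ ιFib V₀ v₀)
  have hφ : ∀ ζ b, φ ζ b ∈ L := by
    intro ζ b
    rw [mem_algebraicClosure_iff']
    obtain ⟨F, hF, hF'⟩ := π₀.isIntegral_app ⊤ (isAffineOpen_top _) b
    refine ⟨F.map ((IsLocalRing.residue R).comp (funGerm η V₀ v₀).hom), hF.map _, ?_⟩
    refine (Polynomial.eval₂_map _ _ _).trans ?_
    have h := (Polynomial.hom_eval₂ F π₀.appTop.hom (φ ζ).hom b).symm.trans
      ((congrArg (φ ζ).hom hF').trans (map_zero _))
    refine (congrArg (fun g => Polynomial.eval₂ g _ F) ?_).trans h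
    refine RingHom.ext fun c => ?_
    refine (funGerm_valueHom η V₀ v₀ c).trans ?_
    refine Eq.trans ?_ (evalPt_comp _ π₀ c)
    refine congrArg (fun m => evalPt m c) ?_
    refine Eq.symm ((Category.assoc _ _ _).trans ?_)
    refine (congrArg (secPt ζ ≫ ·) (ιFib_fst V₀ v₀)).trans ?_
    exact (Category.assoc _ _ _).symm.trans
      ((congrArg (· ≫ _) (pullback.lift_snd _ _ _)).trans (Category.id_comp _))
  have hx : ∀ ζ, evalPt (secPt ζ) x = ∑ p ∈ s, φ ζ p.1 * p.2 := by
    intro ζ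
    rw [hs, map_sum]
    refine Finset.sum_congr rfl fun p _ => ?_
    rw [map_mul]
    refine congrArg₂ (· * ·) (evalPt_comp _ _ _).symm ((evalPt_comp _ _ _).symm.trans ?_)
    rw [pullback.lift_snd]
    simp [evalPt]
  let e := Module.Basis.ofVectorSpace L Ω
  have hrepr : ∀ ζ i, ((e.repr (evalPt (secPt ζ) x) i : L) : Ω) =
      ∑ p ∈ s, φ ζ p.1 * (e.repr p.2 i : L) := by
    intro ζ i
    have h : evalPt (secPt ζ) x = ∑ p ∈ s, (⟨φ ζ p.1, hφ ζ p.1⟩ : L) • p.2 := hx ζ
    rw [h, map_sum, Finset.sum_apply']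
    refine (map_sum L.val _ _).trans ?_
    refine Finset.sum_congr rfl fun p _ => ?_
    rw [map_smul, Finsupp.smul_apply]
    rfl
  obtain ⟨i, hi⟩ : ∃ i, ((e.repr (evalPt (secPt ξ) x) i : L) : Ω) ≠ 0 := by
    have h0 := (mem_basicOpen_iff_evalPt (secPt ξ) x).1 hqx
    by_contra! hall
    exact h0 (e.repr.injective (Finsupp.ext fun i =>
      (Subtype.ext (hall i)).trans (congrArg (fun m => m i) (map_zero e.repr)).symm))
  let q := ringExpChar k
  have : ExpChar Ω q := expChar_of_injective_algebraMap (algebraMap k Ω).injective q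
  have hpow : ∀ p : Γ(((EtCoh.bc f).obj V₀).left, ⊤) × Ω,
      ∃ n, (e.repr p.2 i) ^ q ^ n ∈ (algebraMap k L).range := fun p =>
    IsPurelyInseparable.pow_mem k q _
  choose n hn using hpow
  let N := s.sup n
  have hN : ∀ p ∈ s, ∃ r : R, valueHom η r = ((e.repr p.2 i : L) : Ω) ^ q ^ N := by
    intro p hp
    obtain ⟨c, hc⟩ := hn p
    obtain ⟨r, hr⟩ := IsLocalRing.residue_surjective (c ^ q ^ (N - n p))
    refine ⟨r, ?_⟩
    have h1 : valueHom η r = algebraMap k Ω (IsLocalRing.residue R r) := rfl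
    rw [h1, hr, map_pow, IsScalarTower.algebraMap_apply k L Ω, hc, map_pow, ← pow_mul, ← pow_add,
      Nat.add_sub_cancel' (Finset.le_sup hp)]
    rfl
  choose! r hr using hN
  obtain ⟨U, z, -, hU⟩ := exists_common_stage η (s.image r)
  choose! c hc using fun p (hp : p ∈ s) => hU (r p) (Finset.mem_image_of_mem r hp)
  obtain ⟨⟨V, v⟩, ⟨g, hg⟩, ⟨g', hg'⟩, -⟩ := IsCofilteredOrEmpty.cone_objs
    (C := (Scheme.pointSmallEtale η).fiber.Elements) ⟨V₀, v₀⟩ ⟨U, z⟩
  dsimp at g g' hg hg'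
  let π : ((EtCoh.bc f).obj V).left ⟶ V.left := pullback.fst V.hom f
  let a : Γ(((EtCoh.bc f).obj V).left, ⊤) := ∑ p ∈ s,
    π.appTop (g'.left.appTop (c p)) * ((EtCoh.bc f).map g).left.appTop (p.1 ^ q ^ N)
  have ha : ∀ ζ : Pts f η, evalPt (secPt ζ ≫ ιFib V v) a =
      ((e.repr (evalPt (secPt ζ) x) i : L) : Ω) ^ q ^ N := by
    intro ζ
    rw [hrepr, sum_pow_char_pow, map_sum]
    refine Finset.sum_congr rfl fun p hp => ?_
    rw [map_mul, mul_pow, mul_comm]
    refine congrArg₂ (· * ·) ?_ ?_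
    · rw [← evalPt_comp, Category.assoc, ιFib_naturality g hg, map_pow]
    · rw [← evalPt_comp, ← hr p hp, ← hc p hp, ← hg', ← funGerm_map, funGerm_valueHom,
        Category.assoc, ιFib_fst]
      refine congrArg (fun m => evalPt m _) ?_
      exact (Category.assoc _ _ _).symm.trans
        ((congrArg (· ≫ _) (pullback.lift_snd _ _ _)).trans (Category.id_comp _))
  refine ⟨V, v, Scheme.basicOpen _ a, ?_, fun q' hq' => ?_⟩
  · refine (Iff.of_eq (congrArg (· ∈ _) (Scheme.Hom.comp_apply _ _ _))).1 ?_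
    rw [mem_basicOpen_iff_evalPt, ha]
    exact pow_ne_zero _ hi
  · obtain ⟨ζ, rfl⟩ := surjective_qOf q'
    refine hxle ((mem_basicOpen_iff_evalPt (secPt ζ) x).2 fun h0 => ?_)
    have h1 := (mem_basicOpen_iff_evalPt (secPt ζ ≫ ιFib V v) a).1
      ((Iff.of_eq (congrArg (· ∈ _) (Scheme.Hom.comp_apply _ _ _))).2 hq')
    rw [ha, h0, map_zero] at h1
    exact h1 (zero_pow (pow_ne_zero _ (expChar_pos Ω q).ne'))

end Nbhd

end Groth.Agent.H18Et
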