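import Mathlib.CategoryTheory.Galois.Basic
import Mathlib.AlgebraicGeometry.Morphisms.FlatMono
import Groth.Agent.H18Et.FEtGlobal
import Groth.Agent.H18Et.FibrePoints

/-!
# The Galois category of finite etale covers of a connected scheme
-/

set_option autoImplicit false

universe u

open CategoryTheory CategoryTheory.Limits AlgebraicGeometry

open scoped Groth.Agent.H18Et

namespace Groth.Agent.H18Et.FEtGalois

open FEtGlobal

set_option backward.isDefEq.respectTransparency false

variable {X : Scheme.{u}} {Ω : Type u} [Field Ω]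

theorem isFinite_hom (Y : FEt.Cat X) : IsFinite Y.hom := Y.prop.1

theorem etale_hom (Y : FEt.Cat X) : Etale Y.hom := Y.prop.2

theorem finite_fiberObj (ξ : Spec (CommRingCat.of Ω) ⟶ X) (Y : FEt.Cat X) :
    Finite (FEt.fiberObj ξ Y) :=
  haveI := isFinite_hom Y
  finite_pts (X := Y.left) (Y := X) Y.hom ξ

/-- The fibre functor with values in finite sets. -/
noncomputable def fibF (ξ : Spec (CommRingCat.of Ω) ⟶ X) : FEt.Cat X ⥤ FintypeCat.{u} :=
  ObjectProperty.lift _ (FEt.fiber ξ) fun Y => finite_fiberObj ξ Y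

/-- It lifts `FEt.fiber`. -/
noncomputable def fibFInclIso (ξ : Spec (CommRingCat.of Ω) ⟶ X) :
    fibF ξ ⋙ FintypeCat.incl ≅ FEt.fiber ξ :=
  Iso.refl _

/-- The fibre is the fibre of the pulled back cover. -/
noncomputable def restrictPtsEquiv (ξ : Spec (CommRingCat.of Ω) ⟶ X) (Y : FEt.Cat X) :
    FEt.fiberObj (𝟙 (Spec (CommRingCat.of Ω))) ((FEt.restrict ξ).obj Y) ≃ FEt.fiberObj ξ Y where
  toFun s := ⟨s.1 ≫ pullback.fst Y.hom ξ, (Category.assoc _ _ _).trans
    ((congrArg (s.1 ≫ ·) pullback.condition).trans ((Category.assoc _ _ _).symm.trans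
      ((congrArg (· ≫ ξ) s.2).trans (Category.id_comp _))))⟩
  invFun t := ⟨pullback.lift t.1 (𝟙 _) (t.2.trans (Category.id_comp _).symm),
    pullback.lift_snd _ _ _⟩
  left_inv s := Subtype.ext (pullback.hom_ext (pullback.lift_fst _ _ _)
    ((pullback.lift_snd _ _ _).trans s.2.symm))
  right_inv t := Subtype.ext (pullback.lift_fst _ _ _)

/-- Fibre = restriction to the geometric point followed by points. -/
noncomputable def fibFIso (ξ : Spec (CommRingCat.of Ω) ⟶ X) :
    FEt.restrict ξ ⋙ fibF (𝟙 (Spec (CommRingCat.of Ω))) ≅ fibF ξ :=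
  NatIso.ofComponents (fun Y => FintypeCat.equivEquivIso (restrictPtsEquiv ξ Y))
    fun {Y Y'} φ => by
      ext s
      refine Subtype.ext ?_
      exact (Category.assoc _ _ _).trans
        ((congrArg (s.1 ≫ ·) (pullback.lift_fst _ _ _)).trans (Category.assoc _ _ _).symm)

section Point

variable [IsAlgClosed Ω]

local notation "S₀" => Spec (CommRingCat.of Ω)

theorem surjective_base (Y : FEt.Cat S₀) (y : Y.left) :
    ∃ s : FEt.fiberObj (𝟙 S₀) Y, s.1.base default = y := by
  have := isFinite_hom Y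
  obtain ⟨q, hq⟩ := (pullback.fst Y.hom (𝟙 S₀)).surjective y
  obtain ⟨s, hs⟩ := surjective_qOf (f := Y.hom) (η := 𝟙 S₀) q
  refine ⟨s, ?_⟩
  rw [← hq, ← hs]
  exact (congrArg (fun k : S₀ ⟶ Y.left => k.base default) (pullback.lift_fst _ _ _)).symm

theorem injective_base (Y : FEt.Cat S₀) :
    Function.Injective fun s : FEt.fiberObj (𝟙 S₀) Y => s.1.base default := by
  intro s t h
  have := isFinite_hom Y
  apply injective_qOf (f := Y.hom) (η := 𝟙 S₀)
  apply (pullback.fst Y.hom (𝟙 S₀)).injective
  exact ((congrArg (fun k : S₀ ⟶ Y.left => k.base default) (pullback.lift_fst _ _ _)).trans h).trans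
    (congrArg (fun k : S₀ ⟶ Y.left => k.base default) (pullback.lift_fst _ _ _)).symm

theorem isOpenImmersion_pt (Y : FEt.Cat S₀) (s : FEt.fiberObj (𝟙 S₀) Y) :
    IsOpenImmersion s.1 := by
  have : Etale Y.hom := etale_hom Y
  have : Etale (s.1 ≫ Y.hom) := by rw [s.2]; infer_instance
  have : Etale s.1 := Etale.of_comp s.1 Y.hom
  have : IsSplitMono s.1 := IsSplitMono.mk' ⟨Y.hom, s.2⟩
  exact IsOpenImmersion.of_flat_of_mono s.1

theorem nonempty_isColimit_pts (Y : FEt.Cat S₀) :
    Nonempty (IsColimit (Cofan.mk (Y.left : Scheme.{u})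
      fun s : FEt.fiberObj (𝟙 S₀) Y => s.1)) := by
  have := fun s => isOpenImmersion_pt Y s
  refine nonempty_isColimit_cofanMk_of _ (eq_top_iff.mpr fun y _ => ?_) fun s t hst => ?_
  · obtain ⟨s, hs⟩ := surjective_base Y y
    exact TopologicalSpace.Opens.mem_iSup.mpr ⟨s, default, hs⟩
  · rw [Function.onFun, disjoint_iff]
    apply TopologicalSpace.Opens.ext
    refine Set.eq_empty_iff_forall_notMem.mpr ?_
    rintro y ⟨⟨a, ha⟩, ⟨b, hb⟩⟩
    refine hst (injective_base Y ?_)
    rw [Subsingleton.elim default a] at *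
    exact ha.trans (hb.symm.trans (congrArg t.1.base (Subsingleton.elim b a)))

instance faithful_fibF_id : (fibF (𝟙 S₀)).Faithful where
  map_injective {Y Y'} f g h := by
    ext
    refine Cofan.IsColimit.hom_ext (nonempty_isColimit_pts Y).some _ _ fun s => ?_
    exact congrArg Subtype.val (ConcreteCategory.congr_hom h s)

instance full_fibF_id : (fibF (𝟙 S₀)).Full where
  map_surjective {Y Y'} φ := by
    let hc := (nonempty_isColimit_pts Y).some
    let m : Y.left ⟶ Y'.left := Cofan.IsColimit.desc hc fun s => (φ s).1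
    have hm : ∀ s, s.1 ≫ m = (φ s).1 := fun s => Cofan.IsColimit.fac hc _ s
    refine ⟨MorphismProperty.Over.homMk m ?_ trivial, ?_⟩
    · refine Cofan.IsColimit.hom_ext hc _ _ fun s => ?_
      refine (Category.assoc _ _ _).symm.trans ?_
      refine (congrArg (· ≫ Y'.hom) (hm s)).trans ?_
      exact (φ s).2.trans s.2.symm
    · ext s
      exact Subtype.ext (hm s)

/-- The constant cover with `n` sheets. -/
noncomputable def constObj (Ω : Type u) [Field Ω] (n : ℕ) :
    FEt.Cat (Spec (CommRingCat.of Ω)) :=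
  MorphismProperty.Over.mk ⊤
    (Spec.map (CommRingCat.ofHom (algebraMap Ω (Fin n → Ω))))
    ⟨(IsFinite.SpecMap_iff _).mpr (RingHom.finite_algebraMap.mpr inferInstance),
      (HasRingHomProperty.Spec_iff (P := @Etale)).mpr (RingHom.etale_algebraMap.mpr inferInstance)⟩

omit [IsAlgClosed Ω] in
theorem bijective_constPts (n : ℕ) :
    Function.Bijective fun i : Fin n =>
      (⟨Spec.map (CommRingCat.ofHom (Pi.evalRingHom (fun _ : Fin n => Ω) i)), by
        refine (Spec.map_comp _ _).symm.trans ?_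
        exact (congrArg Spec.map (by ext; rfl)).trans (Spec.map_id _)⟩ :
        FEt.fiberObj (𝟙 S₀) (constObj Ω n)) := by
  constructor
  · intro i j h
    have h1 := congr($(Spec.map_injective (congrArg Subtype.val h)) (Pi.single i (1 : Ω)))
    by_contra hij
    simp [Pi.single_eq_of_ne (Ne.symm hij)] at h1
  · intro s
    obtain ⟨φ, hφ⟩ : ∃ φ, Spec.map φ = s.1 := ⟨Spec.preimage _, Spec.map_preimage _⟩
    have h2 : CommRingCat.ofHom (algebraMap Ω (Fin n → Ω)) ≫ φ = 𝟙 _ := by
      apply Spec.map_injective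
      rw [Spec.map_comp, hφ, Spec.map_id]
      exact s.2
    obtain ⟨i, hi⟩ := FEtEq.exists_eq_eval
      (⟨φ.hom, fun r => congr($h2 r)⟩ : (Fin n → Ω) →ₐ[Ω] Ω)
    refine ⟨i, Subtype.ext ?_⟩
    rw [← hφ]
    exact congrArg Spec.map (CommRingCat.hom_ext (RingHom.ext fun b => (hi b).symm))

instance essSurj_fibF_id : (fibF (𝟙 S₀)).EssSurj where
  mem_essImage T := by
    obtain ⟨n, ⟨e⟩⟩ := Finite.exists_equiv_fin T.obj
    exact ⟨constObj Ω n, ⟨(FintypeCat.equivEquivIso
      (e.trans (Equiv.ofBijective _ (bijective_constPts (Ω := Ω) n)))).symm⟩⟩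

instance isEquivalence_fibF_id : (fibF (𝟙 S₀)).IsEquivalence where

end Point

section Fiber

variable [IsAlgClosed Ω] (ξ : Spec (CommRingCat.of Ω) ⟶ X)

theorem preservesFiniteLimits_fibF : PreservesFiniteLimits (fibF ξ) :=
  haveI := preservesFiniteLimits_restrict ξ
  ⟨fun J _ _ => preservesLimitsOfShape_of_natIso (fibFIso ξ)⟩

theorem preservesFiniteColimits_fibF : PreservesFiniteColimits (fibF ξ) :=
  haveI := preservesFiniteColimits_restrict ξ
  ⟨fun J _ _ => preservesColimitsOfShape_of_natIso (fibFIso ξ)⟩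

theorem eq_empty_of_isClopen [PreconnectedSpace X] (A : FEt.Cat X) (W : Set A.left)
    (hW : IsClopen W) (h : ∀ s : FEt.fiberObj ξ A, s.1.base default ∉ W) : W = ∅ := by
  by_contra hne
  obtain ⟨w, hw⟩ := Set.nonempty_iff_ne_empty.mpr hne
  have : IsFinite A.hom := isFinite_hom A
  have : Etale A.hom := etale_hom A
  have himg : A.hom '' W = Set.univ :=
    IsClopen.eq_univ (α := X) ⟨A.hom.isClosedMap _ hW.1, A.hom.isOpenMap _ hW.2⟩ ⟨_, w, hw, rfl⟩
  obtain ⟨w', hw', hf⟩ := himg.ge (Set.mem_univ (ξ.base default))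
  obtain ⟨q, hq, -⟩ := Scheme.Pullback.exists_preimage_pullback (f := A.hom) (g := ξ) w' default hf
  obtain ⟨s, hs⟩ := surjective_qOf (f := A.hom) (η := ξ) q
  refine h s ?_
  have hsw : s.1.base default = w' := by
    rw [← hq, ← hs]
    exact (congrArg (fun k : Spec (CommRingCat.of Ω) ⟶ A.left => k.base default)
      (pullback.lift_fst _ _ _)).symm
  exact hsw ▸ hw'

omit [IsAlgClosed Ω] in
theorem isFinite_etale_left {A B : FEt.Cat X} (i : A ⟶ B) : IsFinite i.left ∧ Etale i.left := by
  refine MorphismProperty.of_postcomp (W := FEt.prop) (W' := FEt.prop) i.left B.hom B.prop ?_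
  rw [show i.left ≫ B.hom = A.hom from Over.w i.hom]
  exact A.prop

theorem isClopen_range {A B : FEt.Cat X} (i : A ⟶ B) : IsClopen (Set.range i.left) := by
  obtain ⟨h1, h2⟩ := isFinite_etale_left i
  exact ⟨i.left.isClosedMap.isClosed_range, i.left.isOpenMap.isOpen_range⟩

theorem mono_left_of_injective [PreconnectedSpace X] {A B : FEt.Cat X} (i : A ⟶ B)
    (h : Function.Injective ((fibF ξ).map i)) : Mono i.left := by
  obtain ⟨h1, h2⟩ := isFinite_etale_left i
  rw [← pullback.isIso_diagonal_iff]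
  let P : FEt.Cat X := MorphismProperty.Over.mk ⊤ (pullback.fst i.left i.left ≫ A.hom)
    (FEt.prop.comp_mem _ _ (MorphismProperty.pullback_fst _ _ ⟨h1, h2⟩) A.prop)
  let d : A.left ⟶ pullback i.left i.left := pullback.diagonal i.left
  have hd : IsOpenImmersion d := inferInstance
  have hd' : IsClosedImmersion d := inferInstance
  have hW : IsClopen (Set.range d)ᶜ :=
    IsClopen.compl ⟨d.isClosedEmbedding.isClosed_range, d.isOpenEmbedding.isOpen_range⟩
  have hempty := eq_empty_of_isClopen ξ P (Set.range d)ᶜ hW fun s hs => by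
    have hw : (s.1 ≫ pullback.fst i.left i.left) ≫ A.hom = ξ := (Category.assoc _ _ _).trans s.2
    have hw' : (s.1 ≫ pullback.snd i.left i.left) ≫ A.hom = ξ := by
      refine Eq.trans ?_ hw
      refine (Category.assoc _ _ _).trans (Eq.trans ?_ (Category.assoc _ _ _).symm)
      refine congrArg (s.1 ≫ ·) ?_
      have hk : i.left ≫ B.hom = A.hom := Over.w i.hom
      refine (congrArg (pullback.snd i.left i.left ≫ ·) hk.symm).trans ?_
      refine ((Category.assoc _ _ _).symm.trans
        (congrArg (· ≫ B.hom) pullback.condition.symm)).trans ?_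
      exact (Category.assoc _ _ _).trans (congrArg (pullback.fst i.left i.left ≫ ·) hk)
    have heq : s.1 ≫ pullback.fst i.left i.left = s.1 ≫ pullback.snd i.left i.left := by
      refine congrArg Subtype.val (h (a₁ := ⟨_, hw⟩) (a₂ := ⟨_, hw'⟩) (Subtype.ext ?_))
      exact (Category.assoc _ _ _).trans
        ((congrArg (s.1 ≫ ·) pullback.condition).trans (Category.assoc _ _ _).symm)
    have hs' : (s.1 ≫ pullback.fst i.left i.left) ≫ d = s.1 := by
      refine pullback.hom_ext ?_ ?_
      · simp [d]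
      · simpa [d] using heq
    exact hs ⟨(s.1 ≫ pullback.fst i.left i.left).base default,
      congrArg (fun k : Spec (CommRingCat.of Ω) ⟶ pullback i.left i.left => k.base default) hs'⟩
  rw [isIso_iff_isOpenImmersion_and_surjective]
  exact ⟨hd, ⟨fun y => not_not.mp fun hy => (hempty.le hy).elim⟩⟩

theorem isIso_of_bijective [PreconnectedSpace X] {A B : FEt.Cat X} (i : A ⟶ B)
    (h : Function.Bijective ((fibF ξ).map i)) : IsIso i := by
  obtain ⟨h1, h2⟩ := isFinite_etale_left i
  have := mono_left_of_injective ξ i h.1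
  have hi : IsOpenImmersion i.left := IsOpenImmersion.of_flat_of_mono i.left
  have hempty := eq_empty_of_isClopen ξ B _ (isClopen_range i).compl fun t ht => by
    obtain ⟨s, rfl⟩ := h.2 t
    exact ht ⟨s.1.base default, rfl⟩
  have : IsIso ((MorphismProperty.Over.forget FEt.prop ⊤ X ⋙ Over.forget X).map i) := by
    change IsIso i.left
    rw [isIso_iff_isOpenImmersion_and_surjective]
    exact ⟨hi, ⟨fun y => not_not.mp fun hy => (hempty.le hy).elim⟩⟩
  exact isIso_of_reflects_iso i (MorphismProperty.Over.forget FEt.prop ⊤ X ⋙ Over.forget X)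

theorem reflectsIsomorphisms_fibF [PreconnectedSpace X] : (fibF ξ).ReflectsIsomorphisms where
  reflects i hi := isIso_of_bijective ξ i
    (@ConcreteCategory.bijective_of_isIso _ _ _ _ _ _ _ _ ((fibF ξ).map i) hi)

omit [IsAlgClosed Ω] in
theorem mono_left {A B : FEt.Cat X} (i : A ⟶ B) [Mono i] : Mono i.left := by
  have := preservesMonomorphisms_of_preservesLimitsOfShape
    (MorphismProperty.Over.forget FEt.prop ⊤ X)
  have h : Mono ((MorphismProperty.Over.forget FEt.prop ⊤ X).map i) := inferInstance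
  exact inferInstanceAs (Mono ((Over.forget X).map
    ((MorphismProperty.Over.forget FEt.prop ⊤ X).map i)))

omit [IsAlgClosed Ω] in
theorem exists_summand {A B : FEt.Cat X} (i : A ⟶ B) [Mono i] :
    ∃ (Z : FEt.Cat X) (u : Z ⟶ B), Nonempty (IsColimit (BinaryCofan.mk i u)) := by
  obtain ⟨h1, h2⟩ := isFinite_etale_left i
  have := mono_left i
  have hi : IsOpenImmersion i.left := IsOpenImmersion.of_flat_of_mono i.left
  have hc := (isClopen_range i).compl
  let W : B.left.Opens := ⟨(Set.range i.left)ᶜ, hc.2⟩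
  have : IsClosedImmersion W.ι :=
    IsClosedImmersion.of_isPreimmersion _ (by rw [Scheme.Opens.range_ι]; exact hc.1)
  let Z : FEt.Cat X := MorphismProperty.Over.mk ⊤ (W.ι ≫ B.hom)
    (FEt.prop.comp_mem _ _ ⟨(inferInstance : IsFinite W.ι), (inferInstance : Etale W.ι)⟩ B.prop)
  let u : Z ⟶ B := MorphismProperty.Over.homMk W.ι rfl trivial
  have : IsOpenImmersion u.left := inferInstanceAs (IsOpenImmersion W.ι)
  refine ⟨Z, u, nonempty_isColimit_binaryCofan_of_isCompl i u ?_⟩
  have hu : u.left.opensRange = W := Scheme.Opens.opensRange_ι W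
  rw [hu]
  constructor
  · rw [disjoint_iff]
    exact TopologicalSpace.Opens.ext (Set.inter_compl_self _)
  · rw [codisjoint_iff]
    exact TopologicalSpace.Opens.ext (Set.union_compl_self _)

instance preGaloisCategory : PreGaloisCategory (FEt.Cat X) where
  hasQuotientsByFiniteGroups G _ _ := by
    obtain ⟨G', hg, hf, ⟨e⟩⟩ := Finite.exists_type_univ_nonempty_mulEquiv.{u, 0} G
    exact Limits.hasColimitsOfShape_of_equivalence e.toSingleObjEquiv.symm
  monoInducesIsoOnDirectSummand i _ := exists_summand i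

theorem fiberFunctor [PreconnectedSpace X] : PreGaloisCategory.FiberFunctor (fibF ξ) := by
  have := preservesFiniteLimits_fibF ξ
  have := preservesFiniteColimits_fibF ξ
  exact
    { preservesFiniteCoproducts := ⟨fun n => inferInstance⟩
      preservesQuotientsByFiniteGroups := fun G _ _ => by
        obtain ⟨G', hg, hf, ⟨e⟩⟩ := Finite.exists_type_univ_nonempty_mulEquiv.{u, 0} G
        exact Limits.preservesColimitsOfShape_of_equiv e.toSingleObjEquiv.symm _
      reflectsIsos := reflectsIsomorphisms_fibF ξ }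

end Fiber

end Groth.Agent.H18Et.FEtGalois
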