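import Groth.Agent.H18Et.FEtGalois

/-!
# Faithfulness and fullness of base change of finite etale covers

* faithful: every nonempty clopen of the base meets the image;
* full: moreover every clopen of a base changed cover descends.
-/

set_option autoImplicit false

universe u

open CategoryTheory CategoryTheory.Limits AlgebraicGeometry

namespace Groth.Agent.H18Et.FEtRestrict

open FEtGalois FEtGlobal

set_option backward.isDefEq.respectTransparency false

variable {X Y : Scheme.{u}} (f : X ⟶ Y)

/-- Every nonempty clopen of the base meets the image. -/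
def MeetsClopens : Prop :=
  ∀ V : Set Y, IsClopen V → V.Nonempty → (V ∩ Set.range f).Nonempty

/-- Clopens of base changed covers descend. -/
def ClopensDescend : Prop :=
  ∀ (P : FEt.Cat Y) (W' : Set ↥((FEt.restrict f).obj P).left), IsClopen W' →
    ∃ W : Set P.left, IsClopen W ∧ pullback.fst P.hom f ⁻¹' W = W'

theorem exists_point_over_range {A : FEt.Cat Y} (hf : MeetsClopens f) (W : Set A.left)
    (hW : IsClopen W) (hne : W.Nonempty) :
    ∃ q : ↥((FEt.restrict f).obj A).left, pullback.fst A.hom f q ∈ W := by
  have : IsFinite A.hom := isFinite_hom A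
  have : Etale A.hom := etale_hom A
  obtain ⟨_, ⟨w, hw, rfl⟩, x, hx⟩ :=
    hf (A.hom '' W) ⟨A.hom.isClosedMap _ hW.1, A.hom.isOpenMap _ hW.2⟩ (hne.image _)
  obtain ⟨q, hq, -⟩ := Scheme.Pullback.exists_preimage_pullback (f := A.hom) (g := f) w x hx.symm
  exact ⟨q, (show pullback.fst A.hom f q = w from hq) ▸ hw⟩

theorem faithful (hf : MeetsClopens f) : (FEt.restrict f).Faithful where
  map_injective {A B} g h hgh := by
    let ι : equalizer g h ⟶ A := equalizer.ι g h
    suffices hsurj : Set.range ι.left = Set.univ by
      have := mono_left ι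
      obtain ⟨h1, h2⟩ := isFinite_etale_left ι
      have hopen : IsOpenImmersion ι.left := IsOpenImmersion.of_flat_of_mono ι.left
      have : IsIso ι.left := by
        rw [isIso_iff_isOpenImmersion_and_surjective]
        exact ⟨hopen, ⟨Set.range_eq_univ.mp hsurj⟩⟩
      ext
      rw [← cancel_epi ι.left]
      exact congrArg (fun k => k.left) (equalizer.condition g h)
    by_contra hne
    obtain ⟨q, hq⟩ := exists_point_over_range f hf (Set.range ι.left)ᶜ (isClopen_range ι).compl
      (Set.nonempty_compl.mpr hne)
    apply hq
    have := preservesFiniteLimits_restrict f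
    let R := FEt.restrict f
    have : IsIso (equalizer.ι (R.map g) (R.map h)) := equalizer.ι_of_eq hgh
    have : IsIso (R.map ι) := by
      rw [← equalizerComparison_comp_π g h R]
      exact IsIso.comp_isIso
    have h3 : IsIso ((MorphismProperty.Over.forget FEt.prop ⊤ X ⋙ Over.forget X).map (R.map ι)) :=
      Functor.map_isIso _ _
    have h4 : IsIso (R.map ι).left := h3
    obtain ⟨e, he⟩ := (R.map ι).left.surjective q
    refine ⟨pullback.fst (equalizer g h).hom f e, ?_⟩
    rw [← he]
    exact (congrArg (fun k : (R.obj (equalizer g h)).left ⟶ A.left => k.base e)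
      ((pullback.lift_fst _ _ _ :
        (R.map ι).left ≫ pullback.fst A.hom f = pullback.fst (equalizer g h).hom f ≫ ι.left))).symm

theorem reflectsIsomorphisms (hf : MeetsClopens f) : (FEt.restrict f).ReflectsIsomorphisms where
  reflects {A B} i _ := by
    have := faithful f hf
    have : Mono i := (FEt.restrict f).mono_of_mono_map inferInstance
    have := mono_left i
    obtain ⟨h1, h2⟩ := isFinite_etale_left i
    have hopen : IsOpenImmersion i.left := IsOpenImmersion.of_flat_of_mono i.left
    have h4 : IsIso ((FEt.restrict f).map i).left :=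
      (MorphismProperty.Over.forget FEt.prop ⊤ X ⋙ Over.forget X).map_isIso
        ((FEt.restrict f).map i)
    have hsurj : Set.range i.left = Set.univ := by
      by_contra hne
      obtain ⟨q, hq⟩ := exists_point_over_range f hf (Set.range i.left)ᶜ (isClopen_range i).compl
        (Set.nonempty_compl.mpr hne)
      apply hq
      obtain ⟨e, he⟩ := ((FEt.restrict f).map i).left.surjective q
      refine ⟨pullback.fst A.hom f e, ?_⟩
      rw [← he]
      exact (congrArg (fun k : ((FEt.restrict f).obj A).left ⟶ B.left => k.base e)
        ((pullback.lift_fst _ _ _ :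
          ((FEt.restrict f).map i).left ≫ pullback.fst B.hom f =
            pullback.fst A.hom f ≫ i.left))).symm
    have : IsIso ((MorphismProperty.Over.forget FEt.prop ⊤ Y ⋙ Over.forget Y).map i) := by
      change IsIso i.left
      rw [isIso_iff_isOpenImmersion_and_surjective]
      exact ⟨hopen, ⟨Set.range_eq_univ.mp hsurj⟩⟩
    exact isIso_of_reflects_iso i (MorphismProperty.Over.forget FEt.prop ⊤ Y ⋙ Over.forget Y)

theorem map_left_fst {A B : FEt.Cat Y} (g : A ⟶ B) :
    ((FEt.restrict f).map g).left ≫ pullback.fst B.hom f = pullback.fst A.hom f ≫ g.left :=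
  pullback.lift_fst _ _ _

theorem isPullback_map {A B : FEt.Cat Y} (g : A ⟶ B) :
    IsPullback (pullback.fst A.hom f) ((FEt.restrict f).map g).left g.left
      (pullback.fst B.hom f) := by
  have hw : ((FEt.restrict f).map g).left ≫ pullback.snd B.hom f = pullback.snd A.hom f :=
    pullback.lift_snd _ _ _
  have hA : g.left ≫ B.hom = A.hom := Over.w g.hom
  refine (IsPullback.of_right (h₁₂ := pullback.snd B.hom f) (h₂₂ := B.hom) ?_
    (pullback.lift_fst _ _ _) (IsPullback.of_hasPullback B.hom f).flip).flip
  rw [pullback.lift_snd, hA]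
  exact (IsPullback.of_hasPullback A.hom f).flip

/-- The open subcover of a clopen subset. -/
noncomputable def clopenObj (P : FEt.Cat Y) (W : Set P.left) (hW : IsClopen W) : FEt.Cat Y :=
  let U : P.left.Opens := ⟨W, hW.2⟩
  haveI : IsClosedImmersion U.ι :=
    IsClosedImmersion.of_isPreimmersion _ (by rw [Scheme.Opens.range_ι]; exact hW.1)
  MorphismProperty.Over.mk ⊤ (U.ι ≫ P.hom)
    (FEt.prop.comp_mem _ _ ⟨(inferInstance : IsFinite U.ι), (inferInstance : Etale U.ι)⟩ P.prop)

/-- Its inclusion. -/
noncomputable def clopenι (P : FEt.Cat Y) (W : Set P.left) (hW : IsClopen W) :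
    clopenObj P W hW ⟶ P :=
  MorphismProperty.Over.homMk (Scheme.Opens.ι (X := P.left) ⟨W, hW.2⟩) rfl trivial

theorem full (hf : MeetsClopens f) (hf' : ClopensDescend f) : (FEt.restrict f).Full where
  map_surjective {A B} φ := by
    let R := FEt.restrict f
    let P : FEt.Cat Y := MorphismProperty.Over.mk ⊤ (pullback.fst A.hom B.hom ≫ A.hom)
      (FEt.prop.comp_mem _ _ (MorphismProperty.pullback_fst _ _ B.prop) A.prop)
    let pA : P ⟶ A := MorphismProperty.Over.homMk (pullback.fst A.hom B.hom) rfl trivial
    let pB : P ⟶ B := MorphismProperty.Over.homMk (pullback.snd A.hom B.hom)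
      pullback.condition.symm trivial
    have hφ : φ.left ≫ pullback.snd B.hom f = pullback.snd A.hom f := Over.w φ.hom
    have hφ' : (φ.left ≫ pullback.fst B.hom f) ≫ B.hom = pullback.fst A.hom f ≫ A.hom := by
      rw [Category.assoc, pullback.condition, ← Category.assoc, hφ]
      exact pullback.condition.symm
    let γ : R.obj A ⟶ R.obj P := MorphismProperty.Over.homMk
      (pullback.lift (pullback.lift (pullback.fst A.hom f) (φ.left ≫ pullback.fst B.hom f) hφ'.symm)
        (pullback.snd A.hom f) (by
          refine (Category.assoc _ _ _).symm.trans ?_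
          rw [pullback.lift_fst]
          exact pullback.condition))
      (pullback.lift_snd _ _ _) trivial
    have hγA : γ ≫ R.map pA = 𝟙 _ := by
      ext
      refine pullback.hom_ext ?_ ?_
      · refine (Category.assoc _ _ _).trans ?_
        refine (congrArg (γ.left ≫ ·) (map_left_fst f pA)).trans ?_
        refine (Category.assoc _ _ _).symm.trans ?_
        refine (congrArg (· ≫ pullback.fst A.hom B.hom) (pullback.lift_fst _ _ _)).trans ?_
        exact (pullback.lift_fst _ _ _).trans (Category.id_comp _).symm
      · exact (Over.w (γ ≫ R.map pA).hom).trans (Category.id_comp _).symm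
    have hγB : γ ≫ R.map pB = φ := by
      ext
      refine pullback.hom_ext ?_ ?_
      · refine (Category.assoc _ _ _).trans ?_
        refine (congrArg (γ.left ≫ ·) (map_left_fst f pB)).trans ?_
        refine (Category.assoc _ _ _).symm.trans ?_
        refine (congrArg (· ≫ pullback.snd A.hom B.hom) (pullback.lift_fst _ _ _)).trans ?_
        exact pullback.lift_snd _ _ _
      · exact (Over.w (γ ≫ R.map pB).hom).trans (Over.w φ.hom).symm
    have : IsSplitMono γ := IsSplitMono.mk' ⟨R.map pA, hγA⟩
    have := mono_left γ
    obtain ⟨h1, h2⟩ := isFinite_etale_left γ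
    have hγo : IsOpenImmersion γ.left := IsOpenImmersion.of_flat_of_mono γ.left
    obtain ⟨W, hW, hWγ⟩ := hf' P _ (isClopen_range γ)
    let u := clopenι P W hW
    have hu : IsOpenImmersion u.left := inferInstanceAs (IsOpenImmersion (Scheme.Opens.ι (X := P.left) ⟨W, hW.2⟩))
    have hu' : IsOpenImmersion (R.map u).left :=
      MorphismProperty.of_isPullback (P := @IsOpenImmersion) (isPullback_map f u) hu
    have hrange : Set.range (R.map u).left = Set.range γ.left := by
      rw [← hWγ]
      have h := (isPullback_map f u).isoPullback_hom_snd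
      rw [← h, Scheme.Hom.comp_base, TopCat.coe_comp]
      refine ((isPullback_map f u).isoPullback.hom.surjective.range_comp _).trans ?_
      refine (IsOpenImmersion.range_pullbackSnd _ _).trans ?_
      exact congrArg (fun t : Set P.left => pullback.fst P.hom f ⁻¹' t)
        (Scheme.Opens.range_ι (X := P.left) ⟨W, hW.2⟩)
    let e := IsOpenImmersion.isoOfRangeEq γ.left (R.map u).left hrange.symm
    have he : e.hom ≫ (R.map u).left = γ.left := IsOpenImmersion.lift_fac _ _ _
    let e' : R.obj A ≅ R.obj (clopenObj P W hW) :=
      MorphismProperty.Over.isoMk e (by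
        refine Eq.trans ?_ (Over.w γ.hom)
        refine Eq.trans ?_ (congrArg (· ≫ (R.obj P).hom) he)
        exact (congrArg (e.hom ≫ ·) (Over.w (R.map u).hom).symm).trans (Category.assoc _ _ _).symm)
    have he' : e'.hom ≫ R.map u = γ := by
      ext
      exact he
    have hi : R.map (u ≫ pA) = e'.inv := by
      refine (Iso.hom_comp_eq_id e').mp ?_
      rw [R.map_comp, ← Category.assoc, he', hγA]
    have : IsIso (R.map (u ≫ pA)) := hi ▸ inferInstance
    have := reflectsIsomorphisms f hf
    have : IsIso (u ≫ pA) := isIso_of_reflects_iso (u ≫ pA) R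
    refine ⟨inv (u ≫ pA) ≫ u ≫ pB, ?_⟩
    rw [R.map_comp, R.map_inv]
    simp only [hi, IsIso.Iso.inv_inv]
    rw [R.map_comp, ← Category.assoc, he', hγB]

end Groth.Agent.H18Et.FEtRestrict
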