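import Mathlib.Topology.NoetherianSpace
import Mathlib.AlgebraicGeometry.Artinian
import Mathlib.FieldTheory.IsAlgClosed.AlgebraicClosure
import Groth.Agent.H18Et.FEtRestrict

/-! Applications of the faithful / full criteria. -/

set_option autoImplicit false

universe u

open CategoryTheory CategoryTheory.Limits AlgebraicGeometry

namespace Groth.Agent.H18Et.FEtRestrictApps

open FEtGalois FEtRestrict

set_option backward.isDefEq.respectTransparency false

variable {X Y : Scheme.{u}} (f : X ⟶ Y)

theorem meetsClopens_of_denseRange (h : DenseRange f) : MeetsClopens f := fun V hV hne => by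
  obtain ⟨y, hy, x, rfl⟩ : (V ∩ Set.range f).Nonempty := h.inter_open_nonempty V hV.2 hne
  exact ⟨f x, hy, x, rfl⟩

theorem meetsClopens_of_surjective [Surjective f] : MeetsClopens f :=
  meetsClopens_of_denseRange f f.surjective.denseRange

theorem meetsClopens_of_components (h : ∀ y : Y, (connectedComponent y ∩ Set.range f).Nonempty) :
    MeetsClopens f := fun V hV ⟨y, hy⟩ =>
  (h y).mono (Set.inter_subset_inter_left _ (hV.connectedComponent_subset hy))

theorem clopensDescend_of_universalHomeo [IsIntegralHom f] [UniversallyInjective f] [Surjective f] :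
    ClopensDescend f := fun P W' hW' => by
  let p := pullback.fst P.hom f
  have h1 : IsIntegralHom p := inferInstance
  have h2 : UniversallyInjective p :=
    MorphismProperty.pullback_fst (P := @UniversallyInjective) P.hom f ‹_›
  have h3 : Surjective p := inferInstance
  have hb : Function.Bijective p := ⟨p.injective, p.surjective⟩
  have hclosed : IsClosedMap p := p.isClosedMap
  refine ⟨p '' W', ⟨hclosed _ hW'.1, ?_⟩, hb.1.preimage_image _⟩
  have hc := hclosed _ hW'.2.isClosed_compl
  rw [Set.image_compl_eq hb] at hc
  exact isClosed_compl_iff.mp hc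

/-- In a Noetherian space a union of connected components is clopen. -/
theorem isClopen_union_components {α : Type u} [TopologicalSpace α]
    [TopologicalSpace.NoetherianSpace α] (s : Set (ConnectedComponents α)) :
    IsClopen (ConnectedComponents.mk ⁻¹' s) := by
  have hclosed : ∀ t : Set (ConnectedComponents α), IsClosed (ConnectedComponents.mk ⁻¹' t) := by
    intro t
    have heq : ConnectedComponents.mk ⁻¹' t =
        ⋃ Z ∈ {Z ∈ irreducibleComponents α | (Z ∩ ConnectedComponents.mk ⁻¹' t).Nonempty}, Z := by
      refine Set.Subset.antisymm (fun x hx => ?_) (Set.iUnion₂_subset fun Z hZ z hz => ?_)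
      · exact Set.mem_biUnion ⟨irreducibleComponent_mem_irreducibleComponents x,
          x, mem_irreducibleComponent, hx⟩ mem_irreducibleComponent
      · obtain ⟨⟨hirr, -⟩, w, hw, hwt⟩ := hZ
        have : ConnectedComponents.mk z = ConnectedComponents.mk w :=
          ConnectedComponents.coe_eq_coe'.mpr
            (hirr.isPreirreducible.isPreconnected.subset_connectedComponent hw hz)
        rw [Set.mem_preimage, this]
        exact hwt
    rw [heq]
    exact Set.Finite.isClosed_biUnion
      (TopologicalSpace.NoetherianSpace.finite_irreducibleComponents.subset fun Z hZ => hZ.1)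
      fun Z hZ => isClosed_of_mem_irreducibleComponents Z hZ.1
  exact ⟨hclosed s, isClosed_compl_iff.mp (hclosed sᶜ)⟩

theorem meetsClopens_of_bijective [h0 : Fact (∀ P : FEt.Cat Y,
    Function.Bijective (pullback.fst P.hom f).continuous.connectedComponentsMap)] :
    MeetsClopens f := by
  refine meetsClopens_of_components f fun y => ?_
  let T : FEt.Cat Y := MorphismProperty.Over.mk ⊤ (𝟙 Y) (MorphismProperty.id_mem _ Y)
  obtain ⟨c, hc⟩ := (h0.out T).2 (ConnectedComponents.mk y)
  obtain ⟨q, rfl⟩ := ConnectedComponents.surjective_coe c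
  have hq : ConnectedComponents.mk (pullback.fst (𝟙 Y) f q) = ConnectedComponents.mk y := hc
  refine ⟨pullback.fst (𝟙 Y) f q, ConnectedComponents.coe_eq_coe'.mp hq,
    pullback.snd (𝟙 Y) f q, ?_⟩
  have := congrArg (fun k : pullback (𝟙 Y) f ⟶ Y => k q) (pullback.condition (f := 𝟙 Y) (g := f))
  exact this.symm

theorem clopensDescend_of_bijective [IsNoetherian Y]
    (h : ∀ P : FEt.Cat Y,
      Function.Bijective (pullback.fst P.hom f).continuous.connectedComponentsMap) :
    ClopensDescend f := fun P W' hW' => by
  have : IsFinite P.hom := isFinite_hom P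
  have : IsNoetherian P.left :=
    { toIsLocallyNoetherian := LocallyOfFiniteType.isLocallyNoetherian (Y := Y) P.hom
      toCompactSpace := QuasiCompact.compactSpace_of_compactSpace (Y := Y) P.hom }
  let p := pullback.fst P.hom f
  refine ⟨ConnectedComponents.mk ⁻¹' (p.continuous.connectedComponentsMap ''
    (ConnectedComponents.mk '' W')), isClopen_union_components _, ?_⟩
  ext q
  constructor
  · rintro ⟨_, ⟨q', hq', rfl⟩, hqq⟩
    have : ConnectedComponents.mk q' = ConnectedComponents.mk q := (h P).1 hqq
    exact hW'.connectedComponent_subset hq' (ConnectedComponents.coe_eq_coe'.mp this.symm)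
  · intro hq
    exact ⟨_, ⟨q, hq, rfl⟩, rfl⟩

section Field

variable {k : Type u} [Field k] (g : X ⟶ Spec (CommRingCat.of k))

theorem discreteTopology_of_finite (P : FEt.Cat (Spec (CommRingCat.of k))) :
    DiscreteTopology P.left := by
  have : IsFinite P.hom := isFinite_hom P
  have : IsAffine P.left := isAffine_of_isAffineHom (Y := Spec (CommRingCat.of k)) P.hom
  have hf := Scheme.Hom.finite_appTop (Y := Spec (CommRingCat.of k)) P.hom
  let _ : Algebra Γ(Spec (CommRingCat.of k), ⊤) Γ(P.left, ⊤) := P.hom.appTop.hom.toAlgebra
  have : Module.Finite Γ(Spec (CommRingCat.of k), ⊤) Γ(P.left, ⊤) := hf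
  have : IsArtinianRing Γ(Spec (CommRingCat.of k), ⊤) :=
    (Scheme.ΓSpecIso (CommRingCat.of k)).symm.commRingCatIsoToRingEquiv.isArtinianRing
  have : IsArtinianRing Γ(P.left, ⊤) :=
    isArtinian_of_tower Γ(Spec (CommRingCat.of k), ⊤) inferInstance
  have : IsArtinianScheme (Spec Γ(P.left, ⊤)) := inferInstance
  exact P.left.isoSpec.hom.isEmbedding.discreteTopology

theorem clopensDescend_over_field
    [ConnectedSpace ↥(pullback g
      (Spec.map (CommRingCat.ofHom (algebraMap k (AlgebraicClosure k)))))] :
    ClopensDescend g := fun P W' hW' => by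
  have := discreteTopology_of_finite P
  have : IsFinite P.hom := isFinite_hom P
  let η := Spec.map (CommRingCat.ofHom (algebraMap k (AlgebraicClosure k)))
  let p := pullback.fst P.hom g
  have hconn : ∀ y : P.left, _root_.IsPreconnected (p ⁻¹' {y}) := by
    intro y
    obtain ⟨q, hq, -⟩ := Scheme.Pullback.exists_preimage_pullback (f := P.hom) (g := η) y default
      (Subsingleton.elim (α := PrimeSpectrum k) _ _)
    obtain ⟨t, ht⟩ := surjective_qOf (f := P.hom) (η := η) q
    have hty : t.1.base default = y := by
      rw [← hq, ← ht]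
      exact (congrArg (fun l : Spec (CommRingCat.of (AlgebraicClosure k)) ⟶ P.left => l.base default)
        (pullback.lift_fst _ _ _)).symm
    have hrange : Set.range t.1 = {y} := Set.eq_singleton_iff_unique_mem.mpr
      ⟨⟨default, hty⟩, by
        rintro _ ⟨z, rfl⟩
        exact (congrArg t.1.base (Subsingleton.elim z default)).trans hty⟩
    have e : pullback g η ≅ pullback p t.1 :=
      pullbackSymmetry g η ≪≫ pullback.congrHom t.2.symm rfl ≪≫
        (pullbackRightPullbackFstIso P.hom g t.1).symm ≪≫ pullbackSymmetry _ _
    rw [← hrange, ← Scheme.Pullback.range_fst]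
    have : PreconnectedSpace ↥(pullback p t.1) :=
      ⟨by
        have := e.hom.homeomorph.surjective.range_eq ▸ isPreconnected_range e.hom.continuous
        exact this⟩
    exact isPreconnected_range (pullback.fst p t.1).continuous
  refine ⟨p '' W', isClopen_discrete _, Set.Subset.antisymm ?_ (Set.subset_preimage_image _ _)⟩
  rintro q ⟨q', hq', hqq⟩
  exact (hconn (p q)).subset_isClopen hW' ⟨q', hqq, hq'⟩ rfl

theorem meetsClopens_over_field [Nonempty X] : MeetsClopens g := fun V _ ⟨y, hy⟩ =>
  let ⟨x⟩ := ‹Nonempty X›
  ⟨y, hy, x, Subsingleton.elim (α := PrimeSpectrum k) _ _⟩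

end Field

end Groth.Agent.H18Et.FEtRestrictApps
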