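import Groth.Agent.H18Et.EtaleNormalScheme
import Groth.Agent.H18Et.FEtGalois
import Groth.Agent.H18Et.FEtRestrictApps
import Mathlib.AlgebraicGeometry.Morphisms.UniversallyOpen
import Mathlib.AlgebraicGeometry.Morphisms.QuasiFinite

/-! Connected finite étale covers of normal integral schemes are normal and integral. -/

set_option autoImplicit false

universe u

open CategoryTheory CategoryTheory.Limits AlgebraicGeometry

namespace Groth.Agent.H18Et.FEtNormal

open FEtGalois FEtRestrict

set_option backward.isDefEq.respectTransparency false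

variable {X : Scheme.{u}}

/-- On a scheme with domain stalks every point has a unique maximal generalization. -/
theorem exists_maximal_generalization (x : X) [IsDomain (X.presheaf.stalk x)] :
    ∃ w, w ⤳ x ∧ ∀ z, z ⤳ x → w ⤳ z := by
  let b : Spec (X.presheaf.stalk x) := (⟨⊥, Ideal.isPrime_bot⟩ : PrimeSpectrum (X.presheaf.stalk x))
  refine ⟨X.fromSpecStalk x b, ?_, fun z hz => ?_⟩
  · exact (show X.fromSpecStalk x b ∈ {y | y ⤳ x} from
      X.range_fromSpecStalk ▸ Set.mem_range_self b)
  · obtain ⟨p, rfl⟩ : z ∈ Set.range (X.fromSpecStalk x) := by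
      rw [X.range_fromSpecStalk]; exact hz
    exact (((PrimeSpectrum.le_iff_specializes b p).mp bot_le).map (X.fromSpecStalk x).continuous)

variable [IsIntegral X] (hX : Pi1.IsNormalScheme X)
include hX

theorem isIntegral_and_isNormalScheme (Y : FEt.Cat X) [ConnectedSpace Y.left] :
    IsIntegral Y.left ∧ Pi1.IsNormalScheme Y.left := by
  have : IsFinite Y.hom := isFinite_hom Y
  have : Etale Y.hom := etale_hom Y
  have hN : Pi1.IsNormalScheme Y.left := EtaleNormalScheme.isNormalScheme_of_etale Y.hom hX
  have hd : ∀ y : Y.left, IsDomain (Y.left.presheaf.stalk y) := fun y => (hN y).1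
  have : ∀ y : Y.left, _root_.IsReduced (Y.left.presheaf.stalk y) := fun y => by
    have := hd y; infer_instance
  have : IsReduced Y.left := isReduced_of_isReduced_stalk _
  choose w hw hwmax using fun y : Y.left => @exists_maximal_generalization _ y (hd y)
  let η := genericPoint X
  have hwη : ∀ y, Y.hom (w y) = η := fun y => by
    obtain ⟨z, hz1, hz2⟩ := Flat.generalizingMap Y.hom
      (show η ⤳ Y.hom (w y) from (genericPoint_spec X).specializes trivial)
    have : w y = z := ((hwmax y z (hz1.trans (hw y))).antisymm hz1).eq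
    rw [this]; exact hz2
  have hGfin : (Set.range w).Finite :=
    (Y.hom.finite_preimage_singleton η).subset (by rintro _ ⟨y, rfl⟩; exact hwη y)
  have huniq : ∀ y z, w z ⤳ y → w z = w y := by
    intro y z h
    have h1 : w y ⤳ w z := hwmax y (w z) h
    have h2 : w z ⤳ w y := hwmax z (w y) (h1.trans (hw z))
    exact (h2.antisymm h1).eq
  obtain ⟨y₀⟩ := ‹ConnectedSpace Y.left›.toNonempty
  let C := closure {w y₀}
  have hC : IsClopen C := by
    refine ⟨isClosed_closure, ?_⟩
    have : Cᶜ = ⋃ g ∈ Set.range w \ {w y₀}, closure {g} := by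
      ext z
      simp only [Set.mem_compl_iff, Set.mem_iUnion, exists_prop]
      constructor
      · intro hz
        refine ⟨w z, ⟨⟨z, rfl⟩, fun h => hz ?_⟩, specializes_iff_mem_closure.mp (hw z)⟩
        exact specializes_iff_mem_closure.mp ((Set.mem_singleton_iff.mp h) ▸ hw z)
      · rintro ⟨_, ⟨⟨u, rfl⟩, hne⟩, hzu⟩ hzC
        exact hne ((huniq z u (specializes_iff_mem_closure.mpr hzu)).trans
          (huniq z y₀ (specializes_iff_mem_closure.mpr hzC)).symm)
    rw [← isClosed_compl_iff, this]
    exact (hGfin.sdiff).isClosed_biUnion fun _ _ => isClosed_closure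
  have hCuniv : C = Set.univ :=
    ((isClopen_iff (α := Y.left)).mp hC).resolve_left
      (Set.nonempty_iff_ne_empty.mp ⟨w y₀, subset_closure rfl⟩)
  have : IrreducibleSpace Y.left := by
    rw [irreducibleSpace_def, Set.top_eq_univ, ← hCuniv]
    exact isIrreducible_singleton.closure
  exact ⟨isIntegral_of_irreducibleSpace_of_isReduced Y.left, hN⟩

theorem clopensDescend {U : Scheme.{u}} (f : U ⟶ X) [IsPreimmersion f]
    (hη : genericPoint X ∈ Set.range f) : ClopensDescend f := fun P W' hW' => by
  have : IsFinite P.hom := isFinite_hom P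
  have : Etale P.hom := etale_hom P
  have hN : Pi1.IsNormalScheme P.left := EtaleNormalScheme.isNormalScheme_of_etale P.hom hX
  choose w hw hwmax using fun y : P.left => @exists_maximal_generalization _ y (hN y).1
  let η := genericPoint X
  have hwη : ∀ y, P.hom (w y) = η := fun y => by
    obtain ⟨z, hz1, hz2⟩ := Flat.generalizingMap P.hom
      (show η ⤳ P.hom (w y) from (genericPoint_spec X).specializes trivial)
    have : w y = z := ((hwmax y z (hz1.trans (hw y))).antisymm hz1).eq
    rw [this]; exact hz2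
  have hGfin : (Set.range w).Finite :=
    (P.hom.finite_preimage_singleton η).subset (by rintro _ ⟨y, rfl⟩; exact hwη y)
  have huniq : ∀ y z, w z ⤳ y → w z = w y := fun y z h =>
    (((hwmax z (w y) ((hwmax y (w z) h).trans (hw z)))).antisymm (hwmax y (w z) h)).eq
  let p := pullback.fst P.hom f
  have hind : Topology.IsInducing p := (IsPreimmersion.isEmbedding p).isInducing
  have hlift : ∀ y, ∃ q, p q = w y := fun y => by
    rw [← Set.mem_range, Scheme.Pullback.range_fst]
    show P.hom (w y) ∈ Set.range f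
    rw [hwη y]
    exact hη
  have hstable : ∀ a b, a ⤳ b → (a ∈ W' ↔ b ∈ W') := fun a b h =>
    ⟨fun ha => h.mem_closed hW'.1 ha, fun hb => h.mem_open hW'.2 hb⟩
  refine ⟨⋃ g ∈ Set.range w ∩ (p '' W'), closure {g}, ?_, ?_⟩
  · refine ⟨(hGfin.inter_of_left _).isClosed_biUnion fun _ _ => isClosed_closure, ?_⟩
    have : (⋃ g ∈ Set.range w ∩ (p '' W'), closure {g})ᶜ =
        ⋃ g ∈ Set.range w \ (p '' W'), closure {g} := by
      ext z
      simp only [Set.mem_compl_iff, Set.mem_iUnion, exists_prop]
      constructor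
      · intro hz
        exact ⟨w z, ⟨⟨z, rfl⟩, fun h => hz ⟨w z, ⟨⟨z, rfl⟩, h⟩,
          specializes_iff_mem_closure.mp (hw z)⟩⟩, specializes_iff_mem_closure.mp (hw z)⟩
      · rintro ⟨_, ⟨⟨u, rfl⟩, hne⟩, hzu⟩ ⟨_, ⟨⟨v, rfl⟩, hmem⟩, hzv⟩
        rw [huniq z u (specializes_iff_mem_closure.mpr hzu)] at hne
        rw [huniq z v (specializes_iff_mem_closure.mpr hzv)] at hmem
        exact hne hmem
    rw [← isClosed_compl_iff, this]
    exact (hGfin.sdiff).isClosed_biUnion fun _ _ => isClosed_closure
  · ext q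
    obtain ⟨qg, hqg⟩ := hlift (p q)
    have hspec : qg ⤳ q := hind.specializes_iff.mp (hqg ▸ hw (p q))
    simp only [Set.mem_preimage, Set.mem_iUnion, exists_prop]
    constructor
    · rintro ⟨_, ⟨⟨v, rfl⟩, ⟨a, ha, hav⟩⟩, hzv⟩
      have e := huniq (p q) v (specializes_iff_mem_closure.mpr hzv)
      have : a = qg := (IsPreimmersion.isEmbedding p).injective (hav.trans (e.trans hqg.symm))
      exact (hstable qg q hspec).mp (this ▸ ha)
    · intro hq
      exact ⟨w (p q), ⟨⟨p q, rfl⟩, ⟨qg, (hstable qg q hspec).mpr hq, hqg⟩⟩,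
        specializes_iff_mem_closure.mp (hw (p q))⟩

omit hX in
theorem meetsClopens {U : Scheme.{u}} (f : U ⟶ X) (hη : genericPoint X ∈ Set.range f) :
    MeetsClopens f := fun _ hV hne =>
  ⟨genericPoint X, (genericPoint_spec X).mem_open_set_iff hV.2 |>.mpr
    (hne.mono fun _ h => ⟨trivial, h⟩), hη⟩

end Groth.Agent.H18Et.FEtNormal
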