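import Groth.Prelude.Def_Pi1
import Mathlib.LinearAlgebra.TensorProduct.RightExactness
import Mathlib.RingTheory.Finiteness.Basic
import Mathlib.RingTheory.TensorProduct.Basic

/-!
# Descent along universally injective ring maps
-/

universe u

open scoped TensorProduct

namespace Groth.Agent.H18Et

variable {R S : Type u} [CommRing R] [CommRing S] [Algebra R S]

theorem mk_one_injective_of_univInjective (h : Pi1.UnivInjective R S) (M : Type u) [AddCommGroup M]
    [Module R M] : Function.Injective (fun m : M => (1 : S) ⊗ₜ[R] m) := by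
  intro a b hab
  have h1 : LinearMap.lTensor M (Algebra.linearMap R S) (a ⊗ₜ 1) =
      LinearMap.lTensor M (Algebra.linearMap R S) (b ⊗ₜ 1) := by
    simpa using congrArg (TensorProduct.comm R S M) hab
  simpa using congrArg (TensorProduct.rid R M) (h M h1)

theorem injective_of_lTensor_injective (h : Pi1.UnivInjective R S) {M N : Type u} [AddCommGroup M]
    [Module R M] [AddCommGroup N] [Module R N] (f : M →ₗ[R] N)
    (hf : Function.Injective (f.lTensor S)) : Function.Injective f := by
  intro a b hab
  refine mk_one_injective_of_univInjective h M (hf ?_)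
  simp [hab]

theorem surjective_of_lTensor_surjective (h : Pi1.UnivInjective R S) {M N : Type u} [AddCommGroup M]
    [Module R M] [AddCommGroup N] [Module R N] (f : M →ₗ[R] N)
    (hf : Function.Surjective (f.lTensor S)) : Function.Surjective f := by
  rw [← LinearMap.range_eq_top]
  refine Submodule.eq_top_iff'.2 fun x => ?_
  obtain ⟨y, hy⟩ := hf ((1 : S) ⊗ₜ x)
  have h0 : (1 : S) ⊗ₜ[R] ((LinearMap.range f).mkQ x) = (1 : S) ⊗ₜ[R] (0 : N ⧸ LinearMap.range f) := by
    rw [← LinearMap.lTensor_tmul, ← hy, ← LinearMap.comp_apply, ← LinearMap.lTensor_comp,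
      LinearMap.range_mkQ_comp]
    simp
  exact (Submodule.Quotient.mk_eq_zero _).1 (mk_one_injective_of_univInjective h _ h0)

/-- Finitely generated submodules of `S ⊗ M` come from finitely many elements of `M`. -/
theorem exists_finset_fg_le (M : Type u) [AddCommGroup M] [Module R M]
    (P : Submodule S (S ⊗[R] M)) (hP : P.FG) :
    ∃ s : Finset M, P ≤ Submodule.span S ((fun m : M => (1 : S) ⊗ₜ[R] m) '' s) := by
  classical
  have hone : ∀ x : S ⊗[R] M, ∃ s : Finset M,
      x ∈ Submodule.span S ((fun m : M => (1 : S) ⊗ₜ[R] m) '' s) := by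
    intro x
    induction x with
    | zero => exact ⟨∅, zero_mem _⟩
    | tmul a m =>
      refine ⟨{m}, ?_⟩
      have : a ⊗ₜ[R] m = a • ((1 : S) ⊗ₜ[R] m) := by
        rw [TensorProduct.smul_tmul', smul_eq_mul, mul_one]
      rw [this]
      exact Submodule.smul_mem _ _ (Submodule.subset_span ⟨m, by simp, rfl⟩)
    | add x y hx hy =>
      obtain ⟨s, hs⟩ := hx
      obtain ⟨t, ht⟩ := hy
      refine ⟨s ∪ t, add_mem (Submodule.span_mono ?_ hs) (Submodule.span_mono ?_ ht)⟩ <;>
        exact Set.image_mono (by simp)
  choose F hF using hone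
  obtain ⟨g, rfl⟩ := hP
  refine ⟨g.biUnion F, Submodule.span_le.2 fun x hx => Submodule.span_mono ?_ (hF x)⟩
  exact Set.image_mono (by exact_mod_cast Finset.subset_biUnion_of_mem F hx)

end Groth.Agent.H18Et
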