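import Groth.Agent.H18Et.GammaBC
import Groth.Agent.H18Et.FEtRestrict

/-! `O_S → f_* O_X` bijective implies full faithfulness on finite étale covers. -/

set_option autoImplicit false

universe u

open CategoryTheory CategoryTheory.Limits AlgebraicGeometry TopologicalSpace

namespace Groth.Agent.H18Et.FEtRestrictGamma

open FEtGalois FEtRestrict

set_option backward.isDefEq.respectTransparency false

theorem exists_idempotent_of_isClopen {X : Scheme.{u}} (W : Set X) (hW : IsClopen W) :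
    ∃ e : Γ(X, ⊤), e * e = e ∧ (X.basicOpen e : Set X) = W := by
  let U : Bool → X.Opens := fun b => if b then ⟨W, hW.2⟩ else ⟨Wᶜ, hW.1.isOpen_compl⟩
  let sf : ∀ b, Γ(X, U b) := fun b => if b then 1 else 0
  have hcov : (⊤ : X.Opens) ≤ ⨆ b, U b := fun x _ => by
    by_cases hx : x ∈ W
    · exact Opens.mem_iSup.mpr ⟨true, hx⟩
    · exact Opens.mem_iSup.mpr ⟨false, hx⟩
  have hcomp : TopCat.Presheaf.IsCompatible X.sheaf.obj U sf := by
    have hbot : ∀ i j : Bool, i ≠ j → U i ⊓ U j = ⊥ := by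
      intro i j hij
      refine Opens.ext (Set.eq_empty_iff_forall_notMem.mpr fun x hx => ?_)
      rcases i <;> rcases j
      all_goals first
        | exact hij rfl
        | exact hx.1 hx.2
        | exact hx.2 hx.1
    intro i j
    by_cases hij : i = j
    · subst hij
      rfl
    · exact (show Subsingleton Γ(X, U i ⊓ U j) by rw [hbot i j hij]; infer_instance).elim _ _
  obtain ⟨e, he, -⟩ := X.sheaf.existsUnique_gluing' U ⊤ (fun b => homOfLE le_top) hcov sf hcomp
  refine ⟨e, X.sheaf.eq_of_locally_eq' U ⊤ (fun b => homOfLE le_top) hcov _ _ fun b => ?_,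
    Set.ext fun x => ?_⟩
  · refine (map_mul (X.presheaf.map (homOfLE le_top : U b ⟶ ⊤).op).hom e e).trans ?_
    change X.sheaf.obj.map (homOfLE le_top : U b ⟶ ⊤).op e * X.sheaf.obj.map (homOfLE le_top : U b ⟶ ⊤).op e = _
    rw [he b]
    rcases b
    · exact mul_zero _
    · exact mul_one _
  · refine (X.mem_basicOpen_top e x).trans ?_
    have hg : ∀ (b : Bool) (hx : x ∈ U b), X.presheaf.germ ⊤ x trivial e =
        X.presheaf.germ (U b) x hx (sf b) := fun b hx => by
      rw [← he b]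
      exact (X.presheaf.germ_res_apply (homOfLE le_top) x hx e).symm
    by_cases hx : x ∈ W
    · refine iff_of_true ?_ hx
      erw [hg true hx]
      exact isUnit_one.map (X.presheaf.germ (U true) x hx).hom
    · refine iff_of_false ?_ hx
      erw [hg false hx]
      show ¬ IsUnit ((X.presheaf.germ (U false) x hx) 0)
      rw [map_zero]
      exact not_isUnit_zero

theorem isClopen_basicOpen {X : Scheme.{u}} (e : Γ(X, ⊤)) (he : e * e = e) :
    IsClopen (X.basicOpen e : Set X) := by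
  refine ⟨?_, (X.basicOpen e).2⟩
  have : (X.basicOpen e : Set X)ᶜ = X.basicOpen (1 - e) := by
    ext x
    have hprod : e * (1 - e) = 0 := by rw [mul_sub, mul_one, he, sub_self]
    refine ⟨fun hx => (X.mem_basicOpen_top (1 - e) x).mpr ?_, fun hx hxe => ?_⟩
    · rw [map_sub, map_one]
      exact (IsLocalRing.isUnit_or_isUnit_one_sub_self
        (X.presheaf.germ ⊤ x trivial e)).resolve_left fun h => hx ((X.mem_basicOpen_top e x).mpr h)
    · have : x ∈ X.basicOpen (e * (1 - e)) := by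
        rw [Scheme.basicOpen_mul]
        exact ⟨hxe, hx⟩
      rw [hprod, Scheme.basicOpen_zero] at this
      exact this.elim
  rw [← isOpen_compl_iff, this]
  exact (X.basicOpen (1 - e)).2

variable {X S P P' : Scheme.{u}} {f : X ⟶ S} {π : P ⟶ S} {q : P' ⟶ X} {p : P' ⟶ P}

theorem bijective_appTop [IsFinite π] [Flat π] [LocallyOfFinitePresentation π]
    (H : IsPullback q p f π) (hf : ∀ U : S.Opens, Function.Bijective (f.app U)) :
    Function.Bijective p.appTop := by
  have hb := fun (U : S.affineOpens) => GammaBC.bijective_app H U.1 U.2 (hf U.1)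
  have hinj : ∀ (O : S.Opens), Function.Injective (p.app (π ⁻¹ᵁ O)) := fun O x y hxy => by
    refine P.sheaf.eq_of_locally_eq' (fun U : {U : S.affineOpens // U.1 ≤ O} => π ⁻¹ᵁ U.1.1) _
      (fun U => homOfLE (π.preimage_mono U.2)) ?_ _ _ fun U => (hb U.1).1 ?_
    · intro z hz
      obtain ⟨V, hV, hzV, hVle⟩ := exists_isAffineOpen_mem_and_subset (x := π z) (U := O) hz
      exact Opens.mem_iSup.mpr ⟨⟨⟨V, hV⟩, hVle⟩, hzV⟩
    · have hn : ∀ w, p.app (π ⁻¹ᵁ U.1.1) (P.presheaf.map (homOfLE (π.preimage_mono U.2)).op w) =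
          P'.presheaf.map (homOfLE (p.preimage_mono (π.preimage_mono U.2))).op
            (p.app (π ⁻¹ᵁ O) w) := fun w => by
        rw [← ConcreteCategory.comp_apply, Scheme.Hom.naturality]
        rfl
      exact (hn x).trans ((congrArg _ hxy).trans (hn y).symm)
  refine ⟨hinj ⊤, fun z => ?_⟩
  choose a ha using fun U : S.affineOpens =>
    (hb U).2 (P'.presheaf.map (homOfLE le_top : p ⁻¹ᵁ π ⁻¹ᵁ U.1 ⟶ ⊤).op z)
  have hcov : (⊤ : P.Opens) ≤ ⨆ U : S.affineOpens, π ⁻¹ᵁ U.1 := fun x _ => by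
    obtain ⟨V, hV, hxV, -⟩ := exists_isAffineOpen_mem_and_subset (x := π x) (U := ⊤) trivial
    exact Opens.mem_iSup.mpr ⟨⟨V, hV⟩, hxV⟩
  obtain ⟨g, hg, -⟩ := P.sheaf.existsUnique_gluing' (fun U : S.affineOpens => π ⁻¹ᵁ U.1) ⊤
    (fun U => homOfLE le_top) hcov a fun U V => by
      refine hinj (U.1 ⊓ V.1) ?_
      have hn : ∀ (T : S.affineOpens) (hT : U.1 ⊓ V.1 ≤ T.1),
          p.app (π ⁻¹ᵁ (U.1 ⊓ V.1)) (P.presheaf.map (homOfLE (π.preimage_mono hT)).op (a T)) =
            P'.presheaf.map (homOfLE le_top).op z := fun T hT => by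
        rw [← ConcreteCategory.comp_apply, Scheme.Hom.naturality, ConcreteCategory.comp_apply, ha T,
          GammaBC.map_map _ _ (homOfLE le_top).op]
      exact (hn U inf_le_left).trans (hn V inf_le_right).symm
  refine ⟨g, P'.sheaf.eq_of_locally_eq' (fun U : S.affineOpens => p ⁻¹ᵁ π ⁻¹ᵁ U.1) _
    (fun U => homOfLE le_top) ?_ _ _ fun U => ?_⟩
  · intro x _
    obtain ⟨U, hU⟩ := Opens.mem_iSup.mp (hcov (x := p x) trivial)
    exact Opens.mem_iSup.mpr ⟨U, hU⟩
  · refine Eq.trans ?_ (ha U)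
    refine Eq.trans ?_ (congrArg (p.app (π ⁻¹ᵁ U.1)) (hg U))
    exact congrArg (fun m => (ConcreteCategory.hom m) g)
      (p.naturality (homOfLE le_top : π ⁻¹ᵁ U.1 ⟶ ⊤).op).symm

theorem clopensDescend (hf : ∀ U : S.Opens, Function.Bijective (f.app U)) :
    ClopensDescend f := fun A W' hW' => by
  have : IsFinite A.hom := isFinite_hom A
  have : Etale A.hom := etale_hom A
  obtain ⟨e', he', hW⟩ := exists_idempotent_of_isClopen W' hW'
  have hb := bijective_appTop (IsPullback.of_hasPullback A.hom f).flip hf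
  obtain ⟨e, rfl⟩ := hb.2 e'
  refine ⟨A.left.basicOpen e, isClopen_basicOpen e (hb.1 ?_), ?_⟩
  · exact (map_mul (pullback.fst A.hom f).appTop.hom e e).trans he'
  · rw [← hW]
    exact congrArg (fun U : (pullback A.hom f).Opens => (U : Set ↥(pullback A.hom f)))
      (Scheme.Hom.preimage_basicOpen_top (pullback.fst A.hom f) e)

theorem meetsClopens (hf : ∀ U : S.Opens, Function.Bijective (f.app U)) :
    MeetsClopens f := fun V hV hne => by
  by_contra h
  rw [Set.not_nonempty_iff_eq_empty] at h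
  obtain ⟨e, -, he⟩ := exists_idempotent_of_isClopen V hV
  obtain ⟨x, hx⟩ := hne
  let U : S.Opens := ⟨V, hV.2⟩
  have hbot : f ⁻¹ᵁ U = ⊥ := Opens.ext (Set.eq_empty_iff_forall_notMem.mpr fun z hz =>
    (Set.eq_empty_iff_forall_notMem.mp h) (f z) ⟨hz, ⟨z, rfl⟩⟩)
  have hs : Subsingleton Γ(X, f ⁻¹ᵁ U) := by rw [hbot]; infer_instance
  have h01 : (1 : Γ(S, U)) = 0 := (hf U).1 (hs.elim _ _)
  have h1 : (1 : S.presheaf.stalk x) = 0 := by
    simpa using congrArg (S.presheaf.germ U x hx) h01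
  exact one_ne_zero h1

theorem connectedSpace_pullback {Y' : Scheme.{u}} (hf : ∀ U : S.Opens, Function.Bijective (f.app U))
    (g : Y' ⟶ S) [IsFinite g] [Etale g] [ConnectedSpace Y'] :
    ConnectedSpace ↥(pullback g f) := by
  let A : FEt.Cat S := MorphismProperty.Over.mk ⊤ g ⟨‹_›, ‹_›⟩
  have hb := bijective_appTop (IsPullback.of_hasPullback g f).flip hf
  rw [connectedSpace_iff_clopen]
  refine ⟨?_, fun W' hW' => ?_⟩
  · by_contra hne
    rw [not_nonempty_iff] at hne
    have hs : Subsingleton Γ(pullback g f, ⊤) := inferInstance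
    have h01 : (1 : Γ(Y', ⊤)) = 0 := hb.1 (hs.elim _ _)
    obtain ⟨y⟩ := ‹ConnectedSpace Y'›.toNonempty
    have h1 : (1 : Y'.presheaf.stalk y) = 0 := by
      simpa using congrArg (Y'.presheaf.germ ⊤ y trivial) h01
    exact one_ne_zero h1
  · obtain ⟨W, hW, hWW⟩ := clopensDescend hf A W' hW'
    rcases (isClopen_iff (α := Y')).mp hW with h | h
    · exact Or.inl (hWW.symm.trans (by rw [h]; rfl))
    · exact Or.inr (hWW.symm.trans (by rw [h]; rfl))

end Groth.Agent.H18Et.FEtRestrictGamma
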