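import Groth.Agent.H02CA.FlatRegular
import Groth.Agent.H05EGA4.Regular
import Mathlib.RingTheory.Unramified.LocalRing
import Mathlib.AlgebraicGeometry.Morphisms.FormallyUnramified
import Mathlib.AlgebraicGeometry.Morphisms.Etale
import Mathlib.AlgebraicGeometry.Noetherian

/-!
# Local rings under étale morphisms
-/

universe u

open CategoryTheory AlgebraicGeometry IsLocalRing

namespace Groth.Agent.H18Et

section Ring

variable (A B : Type u) [CommRing A] [CommRing B] [IsLocalRing A] [IsLocalRing B] [IsNoetherianRing A]
  [IsNoetherianRing B] [Algebra A B] [IsLocalHom (algebraMap A B)] [Module.Flat A B]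

theorem ringKrullDim_eq_of_map_maximalIdeal (h : (maximalIdeal A).map (algebraMap A B) = maximalIdeal B) :
    ringKrullDim B = ringKrullDim A := by
  have h0 : ringKrullDim (B ⧸ maximalIdeal B) = 0 :=
    @ringKrullDim_eq_zero_of_field (ResidueField B) (Ideal.Quotient.field _)
  rw [Groth.Agent.H02CA.ringKrullDim_eq_add_of_flat A B, h, h0, add_zero]

theorem isRegularLocalRing_iff_of_map_maximalIdeal
    (h : (maximalIdeal A).map (algebraMap A B) = maximalIdeal B) :
    IsRegularLocalRing B ↔ IsRegularLocalRing A := by
  refine ⟨fun _ => Groth.Agent.H05EGA4.isRegularLocalRing_of_flat (B := B), fun _ => ?_⟩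
  apply Groth.Agent.H02CA.isRegularLocalRing_of_flat_of_fibre A B
  rw [h]
  exact (inferInstance : IsRegularLocalRing (ResidueField B))

end Ring

variable {X Y : Scheme.{u}} (f : X ⟶ Y)

theorem map_maximalIdeal_stalk [FormallyUnramified f] [LocallyOfFiniteType f] (x : X) :
    letI : Algebra (Y.presheaf.stalk (f.base x)) (X.presheaf.stalk x) := (f.stalkMap x).hom.toAlgebra
    (maximalIdeal (Y.presheaf.stalk (f.base x))).map
      (algebraMap (Y.presheaf.stalk (f.base x)) (X.presheaf.stalk x)) =
      maximalIdeal (X.presheaf.stalk x) := by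
  algebraize [(f.stalkMap x).hom]
  have : IsLocalHom (algebraMap (Y.presheaf.stalk (f.base x)) (X.presheaf.stalk x)) :=
    inferInstanceAs <| IsLocalHom (f.stalkMap x).hom
  have : Algebra.EssFiniteType (Y.presheaf.stalk (f.base x)) (X.presheaf.stalk x) := by
    rw [← RingHom.essFiniteType_algebraMap, RingHom.algebraMap_toAlgebra]
    exact LocallyOfFiniteType.stalkMap f x
  have : Algebra.FormallyUnramified (Y.presheaf.stalk (f.base x)) (X.presheaf.stalk x) := by
    rw [← RingHom.formallyUnramified_algebraMap, RingHom.algebraMap_toAlgebra]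
    exact FormallyUnramified.stalkMap f x
  exact Algebra.FormallyUnramified.map_maximalIdeal

variable [Etale f] [IsLocallyNoetherian Y] (x : X)

theorem ringKrullDim_stalk_eq_of_etale :
    ringKrullDim (X.presheaf.stalk x) = ringKrullDim (Y.presheaf.stalk (f.base x)) := by
  have hx := map_maximalIdeal_stalk f x
  have : IsLocallyNoetherian X := LocallyOfFiniteType.isLocallyNoetherian f
  let := (f.stalkMap x).hom.toAlgebra
  have : IsLocalHom (algebraMap (Y.presheaf.stalk (f.base x)) (X.presheaf.stalk x)) :=
    inferInstanceAs <| IsLocalHom (f.stalkMap x).hom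
  have : Module.Flat (Y.presheaf.stalk (f.base x)) (X.presheaf.stalk x) := Flat.stalkMap f x
  exact ringKrullDim_eq_of_map_maximalIdeal _ _ hx

theorem isRegularLocalRing_stalk_iff_of_etale :
    IsRegularLocalRing (X.presheaf.stalk x) ↔ IsRegularLocalRing (Y.presheaf.stalk (f.base x)) := by
  have hx := map_maximalIdeal_stalk f x
  have : IsLocallyNoetherian X := LocallyOfFiniteType.isLocallyNoetherian f
  let := (f.stalkMap x).hom.toAlgebra
  have : IsLocalHom (algebraMap (Y.presheaf.stalk (f.base x)) (X.presheaf.stalk x)) :=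
    inferInstanceAs <| IsLocalHom (f.stalkMap x).hom
  have : Module.Flat (Y.presheaf.stalk (f.base x)) (X.presheaf.stalk x) := Flat.stalkMap f x
  exact isRegularLocalRing_iff_of_map_maximalIdeal _ _ hx

end Groth.Agent.H18Et
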