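import Groth.Agent.H18Et.Stalk
import Mathlib.CategoryTheory.Abelian.GrothendieckAxioms.Colim
import Mathlib.Algebra.Category.Grp.AB
import Mathlib.CategoryTheory.Sites.Pullback
import Mathlib.CategoryTheory.Adjunction.Unique
import Mathlib.CategoryTheory.Preadditive.Injective.Basic

/-!
# Restriction of etale sheaves along an etale morphism

For `j : V ⟶ X` etale, the inverse image is precomposition with the composition functor
`V.Etale ⥤ X.Etale`, and it has an exact left adjoint (extension by zero), so it preserves injectives.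
-/

set_option autoImplicit false

universe u

open CategoryTheory CategoryTheory.Limits AlgebraicGeometry Opposite

namespace Groth.Agent.H18Et.EtaleRestrict

set_option backward.isDefEq.respectTransparency false
set_option backward.isDefEq.respectTransparency.types false

variable {V X : Scheme.{u}} (j : V ⟶ X) [Etale j]

/-- Composition with an etale morphism. -/
noncomputable def emap : V.Etale ⥤ X.Etale :=
  MorphismProperty.Over.map (P := EtCoh.etaleMP.{u}) ⊤ (f := j) inferInstance

theorem emap_obj_left (U : V.Etale) : ((emap j).obj U).left = U.left := rfl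

theorem emap_obj_hom (U : V.Etale) : ((emap j).obj U).hom = U.hom ≫ j := rfl

theorem emap_map_left {U U' : V.Etale} (g : U ⟶ U') : ((emap j).map g).left = g.left := rfl

/-- `emap j` is left adjoint to base change. -/
noncomputable def emapAdj : emap j ⊣ EtCoh.bc j :=
  MorphismProperty.Over.mapPullbackAdj EtCoh.etaleMP.{u} ⊤ j inferInstance trivial

theorem coverPreserving_emap : CoverPreserving V.smallEtaleTopology X.smallEtaleTopology (emap j) := by
  constructor
  intro U S hS
  rw [show V.smallEtaleTopology = (V.smallPretopology (P := EtCoh.etaleMP) (Q := EtCoh.etaleMP)).toGrothendieck from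
    Scheme.smallGrothendieckTopology_eq_toGrothendieck_smallPretopology V le_rfl] at hS
  replace hS := (Scheme.mem_toGrothendieck_smallPretopology U S).1 hS
  refine mem_topology_of_forall_point _ fun u => ?_
  obtain ⟨W, g, w, hg, -, hw⟩ := hS u
  exact ⟨(emap j).obj W, (emap j).map g, w, Sieve.image_mem_functorPushforward _ _ hg, hw⟩

theorem compatiblePreserving_emap : CompatiblePreserving.{u + 1} X.smallEtaleTopology (emap j) := by
  constructor
  intro F Z T x hx Y₁ Y₂ W f₁ f₂ g₁ g₂ hg₁ hg₂ h
  have hw₁ : f₁.left ≫ Y₁.hom ≫ j = W.hom := Over.w f₁.hom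
  haveI : Etale (f₁.left ≫ Y₁.hom) := by
    haveI : Etale ((f₁.left ≫ Y₁.hom) ≫ j) := by rw [Category.assoc, hw₁]; exact W.prop
    exact MorphismProperty.of_postcomp (W := @Etale) (W' := @Etale) _ j ‹_› ‹_›
  let W' : V.Etale := Scheme.Etale.mk (f₁.left ≫ Y₁.hom)
  have hl : f₁.left ≫ g₁.left = f₂.left ≫ g₂.left := congrArg (fun t => t.left) h
  have h₂ : f₂.left ≫ Y₂.hom = f₁.left ≫ Y₁.hom := by
    rw [show Y₁.hom = g₁.left ≫ Z.hom from (Over.w g₁.hom).symm,
      show Y₂.hom = g₂.left ≫ Z.hom from (Over.w g₂.hom).symm, ← Category.assoc, ← Category.assoc, hl]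
  let g₁' : W' ⟶ Y₁ := MorphismProperty.Over.homMk f₁.left rfl
  let g₂' : W' ⟶ Y₂ := MorphismProperty.Over.homMk f₂.left h₂
  let e : W ⟶ (emap j).obj W' := MorphismProperty.Over.homMk (𝟙 W.left) (by
    show 𝟙 _ ≫ (f₁.left ≫ Y₁.hom) ≫ j = W.hom
    rw [Category.id_comp, Category.assoc, hw₁])
  have h1 : e ≫ (emap j).map g₁' = f₁ :=
    MorphismProperty.Over.Hom.ext (show 𝟙 _ ≫ f₁.left = f₁.left from Category.id_comp _)
  have h2 : e ≫ (emap j).map g₂' = f₂ :=
    MorphismProperty.Over.Hom.ext (show 𝟙 _ ≫ f₂.left = f₂.left from Category.id_comp _)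
  have := congrArg (F.obj.map e.op) (hx g₁' g₂' hg₁ hg₂ (MorphismProperty.Over.Hom.ext hl))
  calc F.obj.map f₁.op (x g₁ hg₁) = F.obj.map e.op (F.obj.map ((emap j).map g₁').op (x g₁ hg₁)) := by
        rw [← Functor.map_comp_apply, ← op_comp, h1]
    _ = F.obj.map e.op (F.obj.map ((emap j).map g₂').op (x g₂ hg₂)) := this
    _ = F.obj.map f₂.op (x g₂ hg₂) := by rw [← Functor.map_comp_apply, ← op_comp, h2]

instance emap_isContinuous : (emap j).IsContinuous V.smallEtaleTopology X.smallEtaleTopology :=
  Functor.isContinuous_of_coverPreserving (compatiblePreserving_emap j) (coverPreserving_emap j)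

/-- Restriction of sheaves along `j`. -/
noncomputable abbrev res : EtCoh.Ab X ⥤ EtCoh.Ab V :=
  (emap j).sheafPushforwardContinuous AddCommGrpCat.{u + 1} V.smallEtaleTopology X.smallEtaleTopology

/-- Restriction is left adjoint to direct image. -/
noncomputable def resPushAdj : res j ⊣ EtCoh.push j :=
  (emapAdj j).sheafPushforwardContinuous (E := AddCommGrpCat.{u + 1}) V.smallEtaleTopology X.smallEtaleTopology

/-- The inverse image along an etale morphism is the restriction. -/
noncomputable def pullIso : EtCoh.pull j ≅ res j :=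
  Adjunction.leftAdjointUniq (EtCoh.pullPushAdj j) (resPushAdj j)

section Lan

variable (U : X.Etale)

/-- The index set of the value of the extension by zero on `U`. -/
abbrev Idx : Type (u + 1) := ULift.{u + 1} {σ : U.left ⟶ V // σ ≫ j = U.hom}

theorem etale_idx (i : Idx j U) : Etale i.down.1 := by
  haveI : Etale (i.down.1 ≫ j) := by rw [i.down.2]; exact U.prop
  exact MorphismProperty.of_postcomp (W := @Etale) (W' := @Etale) _ j ‹_› ‹_›

/-- `U` seen over `V` through `σ`. -/
noncomputable def idxObj (i : Idx j U) : V.Etale :=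
  haveI := etale_idx j U i
  Scheme.Etale.mk i.down.1

/-- The discrete final subcategory of the comma category computing the left Kan extension. -/
noncomputable def idxArrow : Discrete (Idx j U) ⥤ CostructuredArrow (emap j).op (op U) :=
  Discrete.functor fun i => CostructuredArrow.mk (Y := op (idxObj j U i))
    (Quiver.Hom.op (MorphismProperty.Over.homMk (A := U) (B := (emap j).obj (idxObj j U i)) (𝟙 U.left) (by
      show 𝟙 _ ≫ i.down.1 ≫ j = U.hom
      rw [Category.id_comp, i.down.2])))

instance idxArrow_final : (idxArrow j U).Final := by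
  refine ⟨fun d => ?_⟩
  have hφ : d.hom.unop.left ≫ d.left.unop.hom ≫ j = U.hom := Over.w d.hom.unop.hom
  let i₀ : Idx j U := ⟨d.hom.unop.left ≫ d.left.unop.hom, by rw [Category.assoc, hφ]⟩
  let g₀ : idxObj j U i₀ ⟶ d.left.unop := MorphismProperty.Over.homMk d.hom.unop.left rfl
  let s₀ : StructuredArrow d (idxArrow j U) := StructuredArrow.mk (Y := Discrete.mk i₀)
    (CostructuredArrow.homMk g₀.op (Quiver.Hom.unop_inj (MorphismProperty.Over.Hom.ext
      (show 𝟙 _ ≫ d.hom.unop.left = d.hom.unop.left from Category.id_comp _))))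
  haveI : Nonempty (StructuredArrow d (idxArrow j U)) := ⟨s₀⟩
  refine zigzag_isConnected fun a b => ?_
  have key : ∀ c : StructuredArrow d (idxArrow j U), c = s₀ := fun c => by
    obtain ⟨⟨⟨⟩⟩, ⟨i⟩, f⟩ := c
    have hw : (f.left.unop).left = d.hom.unop.left := by
      have := congrArg (fun t : op ((emap j).obj d.left.unop) ⟶ op U => t.unop.left) (CostructuredArrow.w f)
      exact (Category.id_comp _).symm.trans this
    have hi : i = i₀ := ULift.ext _ _ (Subtype.ext ((Over.w f.left.unop.hom).symm.trans (congrArg (· ≫ _) hw)))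
    subst hi
    refine congrArg (StructuredArrow.mk (Y := Discrete.mk i₀)) ?_
    exact CostructuredArrow.hom_ext _ _ (Quiver.Hom.unop_inj (MorphismProperty.Over.Hom.ext hw))
  rw [key a, key b]

end Lan

/-- The left Kan extension along `emap j` preserves monomorphisms: it is a coproduct pointwise. -/
theorem lan_preservesMonomorphisms :
    ((emap j).op.lan : (_ ⥤ AddCommGrpCat.{u + 1}) ⥤ _).PreservesMonomorphisms := by
  refine ⟨fun {P Q} α _ => ?_⟩
  haveI : ∀ U, Mono (((emap j).op.lan.map α).app U) := fun U => by
    obtain ⟨U⟩ := U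
    let hc : ∀ R : V.Etaleᵒᵖ ⥤ AddCommGrpCat.{u + 1}, IsColimit
        (((Functor.LeftExtension.mk _ ((emap j).op.leftKanExtensionUnit R)).coconeAt (op U)).whisker (idxArrow j U)) :=
      fun R => (Functor.Final.isColimitWhiskerEquiv (idxArrow j U) _).symm
        ((emap j).op.isPointwiseLeftKanExtensionLeftKanExtensionUnit R (op U))
    let f := Functor.whiskerLeft (idxArrow j U ⋙ CostructuredArrow.proj (emap j).op (op U)) α
    haveI : ∀ i, Mono (f.app i) := fun i => (inferInstance : Mono (α.app _))
    haveI : Mono f := NatTrans.mono_of_mono_app f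
    refine colim.map_mono' f (hc P) (hc Q) _ fun i => ?_
    let k := (idxArrow j U).obj i
    have h1 : ((emap j).op.lanUnit).app P ≫ Functor.whiskerLeft _ ((emap j).op.lan.map α) = α ≫ (emap j).op.lanUnit.app Q :=
      ((emap j).op.lanUnit.naturality α).symm
    have h2 := congr_app h1 k.left
    show ((emap j).op.leftKanExtensionUnit P).app k.left ≫ ((emap j).op.leftKanExtension P).map k.hom ≫ _ =
      α.app k.left ≫ ((emap j).op.leftKanExtensionUnit Q).app k.left ≫ ((emap j).op.leftKanExtension Q).map k.hom
    erw [((emap j).op.lan.map α).naturality k.hom]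
    exact (Category.assoc _ _ _).symm.trans ((congrArg (· ≫ _) h2).trans (Category.assoc _ _ _))
  exact NatTrans.mono_of_mono_app _

/-- Extension by zero preserves monomorphisms. -/
theorem sheafPullback_preservesMonomorphisms :
    ((emap j).sheafPullback AddCommGrpCat.{u + 1} V.smallEtaleTopology X.smallEtaleTopology).PreservesMonomorphisms := by
  haveI := lan_preservesMonomorphisms j
  let F := sheafToPresheaf V.smallEtaleTopology AddCommGrpCat.{u + 1}
  haveI : (Functor.sheafPullbackConstruction.sheafPullback (emap j) AddCommGrpCat.{u + 1} V.smallEtaleTopology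
      X.smallEtaleTopology).PreservesMonomorphisms := by
    refine ⟨fun {A B} g _ => ?_⟩
    show Mono ((presheafToSheaf X.smallEtaleTopology AddCommGrpCat.{u + 1}).map ((emap j).op.lan.map (F.map g)))
    infer_instance
  exact Functor.preservesMonomorphisms.of_iso
    (Functor.sheafPullbackConstruction.sheafPullbackIso (emap j) AddCommGrpCat.{u + 1} V.smallEtaleTopology X.smallEtaleTopology).symm

/-- Restriction along an etale morphism preserves injective sheaves. -/
theorem injective_res (I : EtCoh.Ab X) [Injective I] : Injective ((res j).obj I) := by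
  haveI := sheafPullback_preservesMonomorphisms j
  exact ((emap j).sheafAdjunctionContinuous AddCommGrpCat.{u + 1} V.smallEtaleTopology
    X.smallEtaleTopology).map_injective I inferInstance

/-- Inverse image along an etale morphism preserves injective sheaves. -/
theorem injective_pull (I : EtCoh.Ab X) [Injective I] : Injective ((EtCoh.pull j).obj I) :=
  haveI := injective_res j I
  Injective.of_iso ((pullIso j).app I).symm inferInstance

end Groth.Agent.H18Et.EtaleRestrict
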