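import Groth.Agent.H18Et.ConstHom
import Groth.Prelude.Def_EtGm
import Mathlib.RingTheory.Polynomial.Cyclotomic.Roots
import Mathlib.AlgebraicGeometry.ResidueField

/-!
# Roots of unity as a constant sheaf
-/

set_option backward.isDefEq.respectTransparency false
set_option backward.isDefEq.respectTransparency.types false

universe u

open CategoryTheory CategoryTheory.Limits AlgebraicGeometry Opposite Polynomial

namespace Groth.Agent.H18Et.MuConst

section Algebra

variable {R : Type*} [CommRing R] {n : ℕ} {ζ : R}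

theorem pow_eq_one (hζ : aeval ζ (cyclotomic n ℤ) = 0) : ζ ^ n = 1 := by
  obtain ⟨q, hq⟩ := cyclotomic.dvd_X_pow_sub_one n ℤ
  have := congrArg (aeval ζ) hq
  rw [map_mul, hζ, zero_mul, map_sub, map_pow, aeval_X, map_one] at this
  exact sub_eq_zero.1 this

theorem map_aeval {K : Type*} [CommRing K] (f : R →+* K)
    (hζ : aeval ζ (cyclotomic n ℤ) = 0) : aeval (f ζ) (cyclotomic n ℤ) = 0 := by
  have := congrArg f.toIntAlgHom hζ
  rw [map_zero, ← aeval_algHom_apply] at this
  exact this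

theorem isPrimitiveRoot_map {K : Type*} [Field K] (f : R →+* K) (hu : IsUnit (n : R))
    (hζ : aeval ζ (cyclotomic n ℤ) = 0) : IsPrimitiveRoot (f ζ) n := by
  haveI : NeZero (n : K) := ⟨by simpa using (hu.map f).ne_zero⟩
  refine isRoot_cyclotomic_iff.1 ?_
  rw [IsRoot.def, ← map_cyclotomic_int n K, eval_map]
  exact map_aeval f hζ

theorem exists_eq_pow_of_isLocalRing [IsLocalRing R] (hn : 1 ≤ n) (hu : IsUnit (n : R))
    (hζ : aeval ζ (cyclotomic n ℤ) = 0) {w : R} (hw : w ^ n = 1) : ∃ i < n, ζ ^ i = w := by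
  haveI : NeZero n := ⟨by omega⟩
  obtain ⟨i, hi, e⟩ := (isPrimitiveRoot_map (IsLocalRing.residue R) hu hζ).eq_pow_of_pow_eq_one
    (ξ := IsLocalRing.residue R w) (by rw [← map_pow, hw, map_one])
  refine ⟨i, hi, ?_⟩
  have hζi : (ζ ^ i) ^ n = 1 := by rw [← pow_mul, mul_comm, pow_mul, pow_eq_one hζ, one_pow]
  have hfac : (∑ k ∈ Finset.range n, w ^ k * (ζ ^ i) ^ (n - 1 - k)) * (w - ζ ^ i) = w ^ n - (ζ ^ i) ^ n :=
    geom_sum₂_mul w (ζ ^ i) n
  rw [hw, hζi, sub_self] at hfac
  have hunit : IsUnit (∑ k ∈ Finset.range n, w ^ k * (ζ ^ i) ^ (n - 1 - k)) := by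
    rw [← IsLocalRing.residue_ne_zero_iff_isUnit, map_sum]
    simp only [map_mul, map_pow]
    rw [e, Finset.sum_congr rfl fun k hk => by
      rw [← pow_add, Nat.add_sub_cancel' (by rw [Finset.mem_range] at hk; omega)],
      Finset.sum_const, Finset.card_range, nsmul_eq_mul]
    refine mul_ne_zero (by simpa using (hu.map (IsLocalRing.residue R)).ne_zero) (pow_ne_zero _ ?_)
    intro h0
    have := congrArg (IsLocalRing.residue R) hw
    rw [map_pow, h0, zero_pow (by omega), map_one] at this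
    exact zero_ne_one this
  exact (sub_eq_zero.1 (hunit.mul_right_eq_zero.1 hfac)).symm

end Algebra

variable {S : Scheme.{u}}

/-- The section of `G_m` given by a unit. -/
noncomputable def sec {U : S.Etale} (v : Γ(U.left, ⊤)ˣ) : EtCoh.sect (EtCoh.Gm S) U :=
  ULift.up (Additive.ofMul v)

theorem sec_surjective {U : S.Etale} (s : EtCoh.sect (EtCoh.Gm S) U) : ∃ v, sec v = s :=
  ⟨Additive.toMul (ULift.down s), rfl⟩

theorem map_sec {U V : S.Etale} (g : V ⟶ U) (v : Γ(U.left, ⊤)ˣ) :
    (EtCoh.Gm S).obj.map g.op (sec v) = sec (Units.map (g.left.appTop).hom.toMonoidHom v) := rfl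

theorem nsmul_sec {U : S.Etale} (k : ℕ) (v : Γ(U.left, ⊤)ˣ) : k • sec v = sec (v ^ k) := rfl

theorem sec_injective {U : S.Etale} {v w : Γ(U.left, ⊤)ˣ} (h : sec (U := U) v = sec w) : v = w :=
  Additive.ofMul.injective (congrArg ULift.down h)

theorem muι_injective (n : ℕ) (U : S.Etale) :
    Function.Injective ((EtCoh.muι S n).hom.app (op U)) := by
  haveI : Mono (EtCoh.muι S n) := inferInstanceAs (Mono (kernel.ι _))
  haveI : Mono (EtCoh.muι S n).hom := inferInstanceAs (Mono ((sheafToPresheaf _ _).map _))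
  exact (AddCommGrpCat.mono_iff_injective _).1 inferInstance

theorem nsmul_muι (n : ℕ) (U : S.Etale) (s : EtCoh.sect (EtCoh.mu S n) U) :
    n • (EtCoh.muι S n).hom.app (op U) s = 0 := by
  have h : n • EtCoh.muι S n = 0 := by
    have := kernel.condition (EtCoh.powMap S n)
    rwa [EtCoh.powMap, Preadditive.comp_nsmul, Category.comp_id] at this
  have h' := congrArg (fun k => ((sheafSections _ _).obj (op U)).map k) h
  simp only [Functor.map_nsmul, Functor.map_zero] at h'
  exact ConcreteCategory.congr_hom h' s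

theorem restrict_eq {W : Scheme.{u}} (O : W.Opens) {a b : Γ(W, ⊤)} (i₁ i₂ : O ⟶ ⊤)
    (h : W.presheaf.map i₁.op a = W.presheaf.map i₂.op b) : O.ι.appTop a = O.ι.appTop b := by
  obtain rfl : i₁ = homOfLE le_top := rfl
  obtain rfl : i₂ = homOfLE le_top := rfl
  have h' := congrArg O.topIso.inv h
  rw [← CommRingCat.comp_apply, ← CommRingCat.comp_apply] at h'
  rw [Scheme.Opens.ι_appTop]
  simpa [Scheme.Opens.topIso_inv, ← Functor.map_comp] using h'

theorem fiber_top_ext {Ω : Type u} [Field Ω] [IsSepClosed Ω] (ξ : Spec (CommRingCat.of Ω) ⟶ S)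
    (a b : (Scheme.pointSmallEtale ξ).fiber.obj (EtCoh.top S)) : a = b :=
  Over.OverMorphism.ext
    (((Category.comp_id _).symm.trans (Over.w a)).trans
      ((Category.comp_id _).symm.trans (Over.w b)).symm)

theorem nonempty_iso {n : ℕ} (hn : 1 ≤ n) (hu : IsUnit (n : Γ(S, ⊤))) (ζ : Γ(S, ⊤))
    (hζ : aeval ζ (cyclotomic n ℤ) = 0) :
    Nonempty (EtCoh.mu S n ≅ EtCoh.const S (ZMod n)) := by
  haveI : NeZero n := ⟨by omega⟩
  let z : Γ(S, ⊤)ˣ := (IsUnit.of_pow_eq_one (pow_eq_one hζ) (by omega)).unit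
  have hz : n • (sec (U := EtCoh.top S) z) = 0 := by
    have : z ^ n = 1 := Units.ext (by
      rw [Units.val_pow_eq_pow_val, IsUnit.unit_spec, pow_eq_one hζ, Units.val_one])
    rw [nsmul_sec, this]
    rfl
  let φ : AddCommGrpCat.of (ULift.{u + 1} (ZMod n)) ⟶ (EtCoh.Gm S).obj.obj (op (EtCoh.top S)) :=
    AddCommGrpCat.ofHom ((ZMod.lift n ⟨zmultiplesHom _ (sec (U := EtCoh.top S) z), by
      simpa using hz⟩).comp AddEquiv.ulift.toAddMonoidHom)
  have hφ : ∀ (U : S.Etale) (m : ULift.{u + 1} (ZMod n)),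
      ConstSheaf.rest (EtCoh.Gm S) U (φ m) =
        sec (Units.map (((EtCore.topIsTerminal S).from U).left.appTop).hom.toMonoidHom z ^ m.down.val) :=
    fun U m => by
      rw [show φ m = m.down.val • sec (U := EtCoh.top S) z from ?_, nsmul_sec, ConstSheaf.rest, map_sec,
        map_pow]
      obtain ⟨k⟩ := m
      obtain ⟨j, rfl⟩ : ∃ j : ℕ, (j : ZMod n) = k := ⟨k.val, ZMod.natCast_zmod_val k⟩
      let L : {f : ℤ →+ EtCoh.sect (EtCoh.Gm S) (EtCoh.top S) // f n = 0} :=
        ⟨zmultiplesHom _ (sec (U := EtCoh.top S) z), by simpa using hz⟩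
      change ZMod.lift n L ((j : ℕ) : ZMod n) = (j : ZMod n).val • _
      refine ((congrArg (ZMod.lift n L) (Int.cast_natCast j).symm).trans (ZMod.lift_coe _ _ _)).trans ?_
      change (j : ℤ) • sec (U := EtCoh.top S) z = _
      rw [natCast_zsmul, ZMod.val_natCast]
      conv_lhs => rw [← Nat.mod_add_div j n, add_nsmul, mul_comm, mul_nsmul]
      rw [show n • (j / n) • sec (U := EtCoh.top S) z = (j / n) • n • sec (U := EtCoh.top S) z from
        smul_comm _ _ _, hz, smul_zero, add_zero]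
  have h0 : ConstSheaf.homConst (EtCoh.Gm S) φ ≫ EtCoh.powMap S n = 0 := by
    rw [EtCoh.powMap, Preadditive.comp_nsmul, Category.comp_id]
    refine ConstSheaf.constHom_ext fun U m => ?_
    haveI : ((sheafSections S.smallEtaleTopology AddCommGrpCat.{u + 1}).obj (op U)).Additive := ⟨rfl⟩
    have h' := ConcreteCategory.congr_hom
      ((((sheafSections S.smallEtaleTopology AddCommGrpCat.{u + 1}).obj (op U))).map_nsmul
      (f := ConstSheaf.homConst (EtCoh.Gm S) φ) (n := n))
      (ConstSheaf.rest _ U (ConstSheaf.unitTop _ m))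
    refine h'.trans ?_
    change n • (ConstSheaf.homConst (EtCoh.Gm S) φ).hom.app (op U) _ = 0
    rw [ConstSheaf.homConst_rest, hφ, nsmul_sec, ← pow_mul, mul_comm, pow_mul, ← map_pow,
      show z ^ n = 1 from sec_injective (U := EtCoh.top S) (by rw [← nsmul_sec, hz]; rfl),
      map_one, one_pow]
    rfl
  let α : EtCoh.const S (ZMod n) ⟶ EtCoh.mu S n := kernel.lift _ _ h0
  have hα : ∀ (U : S.Etale) (m : ULift.{u + 1} (ZMod n)),
      (EtCoh.muι S n).hom.app (op U) (ConstSheaf.rest (EtCoh.mu S n) U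
        (α.hom.app (op (EtCoh.top S)) (ConstSheaf.unitTop _ m))) =
        ConstSheaf.rest (EtCoh.Gm S) U (φ m) := by
    intro U m
    refine (congrArg _ (NatTrans.naturality_apply α.hom ((EtCore.topIsTerminal S).from U).op
      (ConstSheaf.unitTop _ m)).symm).trans ?_
    rw [← ConstSheaf.homConst_rest]
    exact (ConcreteCategory.comp_apply _ _ _).symm.trans (ConcreteCategory.congr_hom
      (congrArg (fun k => k.hom.app (op U)) (kernel.lift_ι _ _ h0)) _)
  suffices IsIso α from ⟨(asIso α).symm⟩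
  refine ConstSheaf.isIso_of_isConstant α (ConstSheaf.isConstant_unitTop _) ?_
  intro Ω _ _ ξ U x
  refine ⟨fun m m' e => ?_, fun p => ?_⟩
  · obtain ⟨V, g, y, -, e'⟩ := (germ_eq_iff ξ _ U x _ _).1 e
    rw [ConstSheaf.map_rest, ConstSheaf.map_rest] at e'
    have e'' := congrArg ((EtCoh.muι S n).hom.app (op V)) e'
    rw [hα, hα, hφ, hφ] at e''
    let f := ((V.left.evaluation ⊤ (ptOf y) trivial).hom.comp
      ((EtCore.topIsTerminal S).from V).left.appTop.hom)
    have e3 : (f ζ) ^ m.down.val = (f ζ) ^ m'.down.val := by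
      have := congrArg (fun v => (V.left.evaluation ⊤ (ptOf y) trivial).hom v.val) (sec_injective e'')
      simpa [Units.val_pow_eq_pow_val, map_pow, f, z] using this
    exact ULift.ext _ _ (ZMod.val_injective n
      ((isPrimitiveRoot_map f hu hζ).pow_inj (ZMod.val_lt _) (ZMod.val_lt _) e3))
  · obtain ⟨W, y, s, rfl⟩ := germ_surjective ξ _ p
    obtain ⟨v, hv⟩ := sec_surjective ((EtCoh.muι S n).hom.app (op W) s)
    have hvn : v ^ n = 1 := sec_injective (U := W) (by
      rw [← nsmul_sec, hv, nsmul_muι]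
      rfl)
    let r := ((EtCore.topIsTerminal S).from W).left.appTop.hom
    let γ := (W.left.presheaf.germ ⊤ (ptOf y) trivial).hom
    obtain ⟨i, hi, e⟩ := exists_eq_pow_of_isLocalRing (ζ := γ (r ζ)) hn
      (by simpa using hu.map (γ.comp r))
      (by simpa using (map_aeval (γ.comp r) hζ))
      (show γ v.val ^ n = 1 by rw [← map_pow, ← Units.val_pow_eq_pow_val, hvn, Units.val_one, map_one])
    rw [← map_pow, ← map_pow] at e
    obtain ⟨O, hO, i₁, i₂, hO'⟩ := W.left.presheaf.germ_eq (U := ⊤) (V := ⊤) (ptOf y) trivial trivial _ _ e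
    haveI : Etale W.hom := W.prop
    let W₁ : S.Etale := MorphismProperty.Over.mk ⊤ (Scheme.Opens.ι O ≫ W.hom) (inferInstanceAs (Etale _))
    let g₁ : W₁ ⟶ W := MorphismProperty.Over.homMk (Scheme.Opens.ι O) rfl trivial
    obtain ⟨y₁, hy₁⟩ := exists_fiber_lift g₁ y (⟨ptOf y, hO⟩ : (Scheme.Opens.toScheme O)) rfl
    refine ⟨ULift.up (i : ZMod n), ?_⟩
    have hs : (EtCoh.mu S n).obj.map g₁.op s =
        ConstSheaf.rest (EtCoh.mu S n) W₁
          (α.hom.app (op (EtCoh.top S)) (ConstSheaf.unitTop _ (ULift.up (i : ZMod n)))) := by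
      refine muι_injective n W₁ ?_
      rw [NatTrans.naturality_apply, hα, hφ, ← hv, map_sec]
      refine congrArg sec (Units.ext ?_)
      rw [Units.val_pow_eq_pow_val]
      change g₁.left.appTop v.val =
        (((EtCore.topIsTerminal S).from W₁).left.appTop ζ) ^ (i : ZMod n).val
      rw [ZMod.val_natCast_of_lt hi, ← (EtCore.topIsTerminal S).hom_ext
        (g₁ ≫ (EtCore.topIsTerminal S).from W) ((EtCore.topIsTerminal S).from W₁)]
      change g₁.left.appTop v.val =
        ((g₁.left ≫ ((EtCore.topIsTerminal S).from W).left).appTop ζ) ^ i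
      rw [Scheme.Hom.comp_appTop, CommRingCat.comp_apply, ← map_pow]
      refine (restrict_eq O i₁ i₂ ?_).symm
      rw [map_pow r] at hO'
      exact hO'
    refine (ConstSheaf.germ_rest ξ _ U x _).trans ?_
    refine Eq.trans ?_ (congrArg (fun w => germ ξ (EtCoh.mu S n) W w s) hy₁)
    refine Eq.trans ?_ (ConstSheaf.germ_map ξ _ g₁ y₁ s)
    refine Eq.trans ?_ (congrArg (germ ξ (EtCoh.mu S n) W₁ y₁) hs.symm)
    refine Eq.trans ?_ (ConstSheaf.germ_rest ξ _ W₁ y₁ _).symm
    exact congrArg (fun w => germ ξ (EtCoh.mu S n) (EtCoh.top S) w _) (fiber_top_ext ξ _ _)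

end Groth.Agent.H18Et.MuConst
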