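import Groth.Agent.H18Et.Stalk
import Groth.Agent.H18Az.EtaleSub
import Mathlib.AlgebraicGeometry.Morphisms.Etale
import Mathlib.RingTheory.AdjoinRoot
import Mathlib.RingTheory.IntegralClosure.IsIntegralClosure.Basic

/-!
# Adjoining a simple root etale locally
-/

set_option backward.isDefEq.respectTransparency false
set_option backward.isDefEq.respectTransparency.types false

universe u

open CategoryTheory CategoryTheory.Limits AlgebraicGeometry Opposite Polynomial

namespace Groth.Agent.H18Et.RootCover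

theorem spec_map_surjective {R : Type u} [CommRing R] {f : R[X]} (hf : f.Monic)
    (hd : 0 < f.natDegree) :
    Function.Surjective (Spec.map (CommRingCat.ofHom (algebraMap R (AdjoinRoot f)))).base := by
  haveI : Module.Finite R (AdjoinRoot f) := hf.finite_adjoinRoot
  intro p
  haveI : FaithfulSMul R (AdjoinRoot f) := (faithfulSMul_iff_algebraMap_injective _ _).2 (by
    refine (injective_iff_map_eq_zero _).2 fun r hr => ?_
    by_contra h0
    have h1 : AdjoinRoot.mk f (C r) = 0 := hr
    rw [AdjoinRoot.mk_eq_zero] at h1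
    have : f.natDegree ≤ (C r).natDegree := by
      refine le_of_not_gt fun h => hf.not_dvd_of_natDegree_lt (C_ne_zero.2 h0) h h1
    rw [natDegree_C] at this
    omega)
  exact Algebra.IsIntegral.comap_surjective (R := R) (S := AdjoinRoot f) p

theorem eval_map_root {R R₁ B : Type u} [CommRing R] [CommRing R₁] [CommRing B] (res : R →+* R₁)
    (P : R[X]) (ψ : AdjoinRoot (P.map res) →+* B) :
    (P.map (ψ.comp ((algebraMap R₁ (AdjoinRoot (P.map res))).comp res))).eval
      (ψ (AdjoinRoot.root (P.map res))) = 0 := by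
  rw [← Polynomial.map_map, ← Polynomial.map_map, Polynomial.eval_map, Polynomial.eval₂_hom]
  rw [Polynomial.eval_map]
  exact (congrArg ψ (AdjoinRoot.eval₂_root (P.map res))).trans (map_zero ψ)

theorem appTop_spec_fromSpec {W : Scheme.{u}} {O : W.Opens} (hO : IsAffineOpen O) {A : CommRingCat.{u}}
    (φ : Γ(W, O) ⟶ A) :
    (Spec.map φ ≫ hO.fromSpec).appTop =
      W.presheaf.map (homOfLE le_top).op ≫ φ ≫ (Scheme.ΓSpecIso A).inv := by
  rw [Scheme.Hom.comp_appTop, show hO.fromSpec.appTop = _ from hO.fromSpec_app_of_le ⊤ le_top]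
  simp only [Category.assoc]
  rw [show (homOfLE le_top : (⊤ : (Spec Γ(W, O)).Opens) ⟶ ⊤) = 𝟙 _ from Subsingleton.elim _ _]
  erw [CategoryTheory.Functor.map_id, Category.id_comp, ← Scheme.ΓSpecIso_inv_naturality]

theorem exists_root_nbhd {S : Scheme.{u}} (U : S.Etale) (u : U.left) (P : Polynomial Γ(U.left, ⊤))
    (hP : P.Monic) (hcop : IsCoprime P (derivative P)) (hd : 0 < P.natDegree) :
    ∃ (V : S.Etale) (g : V ⟶ U) (v : V.left) (t : Γ(V.left, ⊤)),
      g.left.base v = u ∧ (P.map g.left.appTop.hom).eval t = 0 := by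
  obtain ⟨_, ⟨(O : U.left.Opens), hO, rfl⟩, hu, -⟩ :=
    U.left.isBasis_affineOpens.exists_subset_of_mem_open (Set.mem_univ u) isOpen_univ
  replace hO : IsAffineOpen O := hO
  haveI : Nonempty O := ⟨⟨u, hu⟩⟩
  let res : Γ(U.left, ⊤) →+* Γ(U.left, O) := (U.left.presheaf.map (homOfLE le_top).op).hom
  let f := P.map res
  have hf : f.Monic := hP.map res
  have hfc : IsCoprime f (derivative f) := by
    rw [derivative_map]
    exact hcop.map (mapRingHom res)
  have hfd : 0 < f.natDegree := by rw [hP.natDegree_map]; exact hd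
  haveI := _root_.H18Az.EtaleSub.etale_adjoinRoot hf hfc
  haveI : IsOpenImmersion hO.fromSpec := hO.isOpenImmersion_fromSpec
  haveI : Etale (Spec.map (CommRingCat.ofHom (algebraMap Γ(U.left, O) (AdjoinRoot f)))) :=
    (HasRingHomProperty.Spec_iff (P := @Etale)).mpr (RingHom.etale_algebraMap.2 inferInstance)
  haveI : Etale U.hom := U.prop
  let π : Spec (CommRingCat.of (AdjoinRoot f)) ⟶ U.left :=
    Spec.map (CommRingCat.ofHom (algebraMap Γ(U.left, O) (AdjoinRoot f))) ≫ hO.fromSpec
  let V : S.Etale := MorphismProperty.Over.mk ⊤ (π ≫ U.hom) (inferInstanceAs (Etale _))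
  let g : V ⟶ U := MorphismProperty.Over.homMk π rfl trivial
  obtain ⟨q, hq⟩ : u ∈ Set.range hO.fromSpec.base := hO.range_fromSpec.ge hu
  obtain ⟨v, rfl⟩ := spec_map_surjective hf hfd q
  refine ⟨V, g, v, (Scheme.ΓSpecIso _).inv (AdjoinRoot.root f),
    (Scheme.Hom.comp_apply _ _ _).trans hq, ?_⟩
  have hπ : g.left.appTop.hom = ((Scheme.ΓSpecIso (CommRingCat.of (AdjoinRoot f))).inv.hom.comp
      ((algebraMap Γ(U.left, O) (AdjoinRoot f)).comp res)) :=
    congrArg CommRingCat.Hom.hom (appTop_spec_fromSpec hO _)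
  rw [hπ]
  exact eval_map_root res P _

end Groth.Agent.H18Et.RootCover
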