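import Groth.Agent.H18Et.FreeSheaf
import Groth.Agent.H18Et.StalkSets
import Mathlib.Algebra.Homology.DerivedCategory.Ext.ExactSequences

/-!
# Etale flasque sheaves: acyclicity on all objects of the site
-/

set_option autoImplicit false

universe u

open CategoryTheory CategoryTheory.Limits AlgebraicGeometry Opposite Abelian

namespace Groth.Agent.H18Et.Flasque

open FreeSheaf

set_option backward.isDefEq.respectTransparency false
set_option backward.isDefEq.respectTransparency.types false

variable {X Y : Scheme.{u}}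

/-- All positive `Ext` from free sheaves vanish. -/
def IsAcyclic (G : EtCoh.Ab X) : Prop :=
  ∀ (W : X.Etale) (q : ℕ), 0 < q → Subsingleton (Ext ((free X).obj W) G q)

/-- An object of the site is its own structure object. -/
noncomputable def objIso (W : X.Etale) :
    haveI : Etale W.hom := W.prop
    obj W.hom ≅ W :=
  haveI : Etale W.hom := W.prop
  MorphismProperty.Over.isoMk (Iso.refl W.left) ((Category.id_comp _).trans (Category.id_comp W.hom).symm)

/-- Cohomology of a restriction is `Ext` from a free sheaf. -/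
noncomputable def extEquiv (W : X.Etale) (G : EtCoh.Ab X) (q : ℕ) :
    Ext ((free X).obj W) G q ≃ EtCoh.H W.left ((EtCoh.pull W.hom).obj G) q :=
  haveI : Etale W.hom := W.prop
  haveI := pull_preservesFiniteLimits W.hom
  { toFun := fun x => (Ext.mk₀ ((free X).map (objIso W).hom)).comp x (zero_add q)
    invFun := fun x => (Ext.mk₀ ((free X).map (objIso W).inv)).comp x (zero_add q)
    left_inv := fun x => by
      dsimp only
      rw [Ext.mk₀_comp_mk₀_assoc, ← Functor.map_comp, Iso.inv_hom_id, CategoryTheory.Functor.map_id, Ext.mk₀_id_comp]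
    right_inv := fun x => by
      dsimp only
      rw [Ext.mk₀_comp_mk₀_assoc, ← Functor.map_comp, Iso.hom_inv_id, CategoryTheory.Functor.map_id, Ext.mk₀_id_comp] :
    Ext ((free X).obj W) G q ≃ Ext ((free X).obj (obj W.hom)) G q }.trans
    (Equiv.ofBijective _ (phi_bijective W.hom G q))

theorem isAcyclic_iff (G : EtCoh.Ab X) :
    IsAcyclic G ↔ ∀ (W : X.Etale) (q : ℕ), 0 < q → Subsingleton (EtCoh.H W.left ((EtCoh.pull W.hom).obj G) q) :=
  ⟨fun h W q hq => (extEquiv W G q).subsingleton_congr.1 (h W q hq),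
    fun h W q hq => (extEquiv W G q).subsingleton_congr.2 (h W q hq)⟩

theorem isAcyclic_of_injective (I : EtCoh.Ab X) [Injective I] : IsAcyclic I := fun W q hq => by
  obtain ⟨q, rfl⟩ := Nat.exists_eq_succ_of_ne_zero hq.ne'
  exact subsingleton_of_forall_eq 0 fun x => Ext.eq_zero_of_injective x

/-- The quotient of an acyclic sheaf by an acyclic sheaf is acyclic. -/
theorem isAcyclic_X₃ {S : ShortComplex (EtCoh.Ab X)} (hS : S.ShortExact) (h₁ : IsAcyclic S.X₁)
    (h₂ : IsAcyclic S.X₂) : IsAcyclic S.X₃ := fun W q hq => by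
  refine subsingleton_of_forall_eq 0 fun x => ?_
  obtain ⟨y, rfl⟩ := Ext.covariant_sequence_exact₃ _ hS x rfl ((h₁ W (q + 1) (Nat.succ_pos q)).elim _ _)
  rw [(h₂ W q hq).elim y 0, Ext.zero_comp]

/-- An epimorphism with acyclic kernel is surjective on sections. -/
theorem surjective_sections {S : ShortComplex (EtCoh.Ab X)} (hS : S.ShortExact) (h₁ : IsAcyclic S.X₁)
    (W : X.Etale) : Function.Surjective (S.g.hom.app (op W)) := fun s => by
  obtain ⟨y, hy⟩ := Ext.covariant_sequence_exact₃ _ hS (Ext.mk₀ ((homEquiv W S.X₃).symm s)) rfl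
    ((h₁ W 1 Nat.one_pos).elim _ _)
  obtain ⟨y, rfl⟩ := (Ext.mk₀_bijective _ _).surjective y
  rw [Ext.mk₀_comp_mk₀] at hy
  refine ⟨homEquiv W S.X₂ y, ?_⟩
  rw [← homEquiv_comp, (Ext.mk₀_bijective _ _).injective hy, Equiv.apply_symm_apply]

variable (f : X ⟶ Y)

theorem shortExact_push {S : ShortComplex (EtCoh.Ab X)} (hS : S.ShortExact) (h₁ : IsAcyclic S.X₁) :
    (S.map (EtCoh.push f)).ShortExact := by
  haveI := hS.mono_f
  haveI : PreservesLimitsOfSize.{0, 0} (EtCoh.push f) := (EtCoh.pullPushAdj f).rightAdjoint_preservesLimits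
  haveI : Epi (S.map (EtCoh.push f)).g := by
    refine (sheafToPresheaf _ _).epi_of_epi_map ?_
    haveI : ∀ U, Epi (((sheafToPresheaf _ _).map (S.map (EtCoh.push f)).g).app U) := fun U =>
      (AddCommGrpCat.epi_iff_surjective _).2 (surjective_sections hS h₁ ((EtCoh.bc f).obj U.unop))
    exact NatTrans.epi_of_epi_app _
  haveI : Mono (S.map (EtCoh.push f)).f := inferInstanceAs (Mono ((EtCoh.push f).map S.f))
  exact ShortComplex.ShortExact.mk' (hS.exact.map_of_mono_of_preservesKernel (EtCoh.push f) hS.mono_f inferInstance) ‹_› ‹_›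

theorem isAcyclic_push (F : EtCoh.Ab X) (hF : IsAcyclic F) : IsAcyclic ((EtCoh.push f).obj F) := by
  intro W' q hq
  induction q generalizing F with
  | zero => omega
  | succ q ih =>
    let S : ShortComplex (EtCoh.Ab X) := ShortComplex.mk (Injective.ι F) (cokernel.π _) (cokernel.condition _)
    have hS : S.ShortExact := ShortComplex.ShortExact.mk' (ShortComplex.exact_of_g_is_cokernel _
      (cokernelIsCokernel _)) inferInstance inferInstance
    have h₂ : IsAcyclic S.X₂ := isAcyclic_of_injective _
    have hS' := shortExact_push f hS hF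
    haveI := pull_preservesFiniteLimits f
    haveI : Injective (S.map (EtCoh.push f)).X₂ :=
      (EtCoh.pullPushAdj f).map_injective _ (inferInstanceAs (Injective (Injective.under F)))
    refine subsingleton_of_forall_eq 0 fun x => ?_
    obtain ⟨z, rfl⟩ := Ext.covariant_sequence_exact₁ _ hS' x (Ext.eq_zero_of_injective _) rfl
    rcases Nat.eq_zero_or_pos q with rfl | hq'
    · obtain ⟨z, rfl⟩ := (Ext.mk₀_bijective _ _).surjective z
      obtain ⟨t, ht⟩ := surjective_sections hS hF ((EtCoh.bc f).obj W') (homEquiv W' _ z)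
      obtain ⟨y, hy⟩ := (homEquiv W' (S.map (EtCoh.push f)).X₂).surjective t
      have : y ≫ (S.map (EtCoh.push f)).g = z := (homEquiv W' _).injective (by
        rw [homEquiv_comp, hy]
        exact ht)
      rw [← this, ← Ext.mk₀_comp_mk₀, Ext.comp_assoc_of_second_deg_zero, hS'.comp_extClass, Ext.comp_zero]
    · rw [(ih S.X₃ (isAcyclic_X₃ hS hF h₂) hq').elim z 0, Ext.zero_comp]

end Groth.Agent.H18Et.Flasque
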