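import Groth.Agent.H18Et.FEtLimit
import Mathlib

/-!
# Finite étale covers over an algebraic extension of the base field come from a finite subextension
-/

set_option autoImplicit false
set_option linter.style.haveILetI false
set_option backward.isDefEq.respectTransparency false
set_option backward.defeqAttrib.useBackward true

universe u

open CategoryTheory CategoryTheory.Limits AlgebraicGeometry Opposite

namespace Groth.Agent.H18Et.FEtFieldLimit

open FEtLimit

variable (k K : Type u) [Field k] [Field K] [Algebra k K]

/-- Finite subextensions. -/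
abbrev FinInt : Type u := {L : IntermediateField k K // FiniteDimensional k L}

instance : IsDirected (FinInt k K) (· ≤ ·) where
  directed a b := ⟨⟨a.1 ⊔ b.1, haveI := a.2; haveI := b.2; IntermediateField.finiteDimensional_sup a.1 b.1⟩,
    show a.1 ≤ a.1 ⊔ b.1 from le_sup_left, show b.1 ≤ a.1 ⊔ b.1 from le_sup_right⟩

instance : Nonempty (FinInt k K) := ⟨⟨⊥, inferInstance⟩⟩

/-- The diagram of finite subextensions. -/
noncomputable def fieldDiag : FinInt k K ⥤ CommRingCat.{u} where
  obj L := CommRingCat.of L.1
  map {L M} f := CommRingCat.ofHom (IntermediateField.inclusion (leOfHom f)).toRingHom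
  map_id _ := rfl
  map_comp _ _ := rfl

/-- The cocone to the whole extension. -/
noncomputable def fieldCocone : Cocone (fieldDiag k K) where
  pt := CommRingCat.of K
  ι := { app := fun L => CommRingCat.ofHom (algebraMap L.1 K)
         naturality := fun _ _ _ => rfl }

/-- An algebraic extension is the colimit of its finite subextensions. -/
noncomputable def isColimitFieldCocone [Algebra.IsAlgebraic k K] : IsColimit (fieldCocone k K) := by
  haveI : IsFiltered (FinInt k K) := isFiltered_of_directed_le_nonempty _
  haveI : PreservesColimit (fieldDiag k K) (forget CommRingCat.{u}) := inferInstance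
  haveI : ReflectsColimit (fieldDiag k K) (forget CommRingCat.{u}) := reflectsColimit_of_reflectsIsomorphisms _ _
  refine isColimitOfReflects (forget CommRingCat.{u}) (Types.FilteredColimit.isColimitOf' _ _ (fun z => ?_) fun L x y h => ?_)
  · let z' : K := z
    exact ⟨⟨IntermediateField.adjoin k {z'}, IntermediateField.adjoin.finiteDimensional (Algebra.IsIntegral.isIntegral z')⟩,
      (⟨z', IntermediateField.mem_adjoin_simple_self k z'⟩ : IntermediateField.adjoin k {z'}), rfl⟩
  · exact ⟨L, 𝟙 _, congrArg _ (Subtype.ext h : (x : L.1) = y)⟩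

/-- The spectra of finite subextensions. -/
noncomputable abbrev specDiag : (FinInt k K)ᵒᵖ ⥤ Scheme.{u} := (fieldDiag k K).op ⋙ Scheme.Spec

/-- The cone from the spectrum of the whole extension. -/
noncomputable abbrev specCone : Cone (specDiag k K) := Scheme.Spec.mapCone (fieldCocone k K).op

instance (i j : (FinInt k K)ᵒᵖ) (f : i ⟶ j) : IsAffineHom ((specDiag k K).map f) :=
  inferInstanceAs (IsAffineHom (Spec.map _))

/-- The least finite subextension. -/
noncomputable def base : (FinInt k K)ᵒᵖ := op ⟨⊥, inferInstance⟩

/-- The spectrum of the least finite subextension over the base field. -/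
noncomputable def baseMap : (specDiag k K).obj (base k K) ⟶ Spec (CommRingCat.of k) :=
  Spec.map (CommRingCat.ofHom (algebraMap k (⊥ : IntermediateField k K)))

instance (L : IntermediateField k K) :
    Surjective (Spec.map (CommRingCat.ofHom (algebraMap k L))) :=
  ⟨fun x => ⟨(⟨⊥, Ideal.isPrime_bot⟩ : PrimeSpectrum L),
    @Subsingleton.elim _ (inferInstanceAs (Subsingleton (PrimeSpectrum k))) _ x⟩⟩

variable {k K}

/-- Every cover of `X_K` is the base change of a cover of some `X_L`. -/
theorem exists_finite_model [Algebra.IsAlgebraic k K] {X : Scheme.{u}} (f : X ⟶ Spec (CommRingCat.of k))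
    [CompactSpace X] [QuasiSeparatedSpace X]
    (V : FEt.Cat (pullback f (Spec.map (CommRingCat.ofHom (algebraMap k K))))) :
    ∃ (L : IntermediateField k K) (_ : FiniteDimensional k L)
      (VL : FEt.Cat (pullback f (Spec.map (CommRingCat.ofHom (algebraMap k L)))))
      (c : pullback f (Spec.map (CommRingCat.ofHom (algebraMap k K))) ⟶
        pullback f (Spec.map (CommRingCat.ofHom (algebraMap k L)))),
      c ≫ pullback.fst f _ = pullback.fst f _ ∧
      c ≫ pullback.snd f _ = pullback.snd f _ ≫ Spec.map (CommRingCat.ofHom (algebraMap L K)) ∧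
      Nonempty ((FEt.restrict c).obj VL ≅ V) := by
  let hc : IsLimit (specCone k K) := isLimitOfPreserves Scheme.Spec (isColimitFieldCocone k K).op
  let a : pullback f (baseMap k K) ⟶ (specDiag k K).obj (base k K) := pullback.snd f (baseMap k K)
  haveI : QuasiCompact f := inferInstance
  haveI : QuasiSeparated f := inferInstance
  haveI : QuasiCompact a := MorphismProperty.pullback_snd _ _ inferInstance
  haveI : QuasiSeparated a := MorphismProperty.pullback_snd _ _ inferInstance
  let D' := H7Lim.pbDiagram (specDiag k K) (base k K) a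
  let c' := H7Lim.pbCone (specDiag k K) (specCone k K) (base k K) a
  haveI : ∀ (i j : Over (base k K)) (g : i ⟶ j), IsAffineHom (D'.map g) :=
    H7Lim.isAffineHom_pbDiagram_map (specDiag k K) (base k K) a
  haveI : ∀ j, CompactSpace ↥(D'.obj j) := fun j =>
    haveI : QuasiCompact (pullback.snd a ((specDiag k K).map j.hom)) :=
      MorphismProperty.pullback_snd _ _ inferInstance
    haveI : CompactSpace ↥((specDiag k K).obj j.left) := inferInstanceAs (CompactSpace ↥(Spec _))
    QuasiCompact.compactSpace_of_compactSpace (pullback.snd a ((specDiag k K).map j.hom))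
  haveI : ∀ j, QuasiSeparatedSpace ↥(D'.obj j) := fun j =>
    haveI : QuasiSeparated (pullback.snd a ((specDiag k K).map j.hom)) :=
      MorphismProperty.pullback_snd _ _ inferInstance
    haveI : QuasiSeparatedSpace ↥((specDiag k K).obj j.left) := inferInstanceAs (QuasiSeparatedSpace ↥(Spec _))
    quasiSeparatedSpace_of_quasiSeparated (pullback.snd a ((specDiag k K).map j.hom))
  -- identify the limit with the base change to `K`
  let g := Spec.map (CommRingCat.ofHom (algebraMap k K))
  have hg : (specCone k K).π.app (base k K) ≫ baseMap k K = g := by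
    rw [baseMap]
    exact (Spec.map_comp _ _).symm.trans (congrArg (fun φ => Spec.map φ)
      (CommRingCat.hom_ext ((IsScalarTower.algebraMap_eq k (⊥ : IntermediateField k K) K).symm)))
  let u : c'.pt ≅ pullback f g := pullbackLeftPullbackSndIso f (baseMap k K) _ ≪≫ pullback.congrHom rfl hg
  obtain ⟨j, Vj, ⟨e⟩⟩ := exists_stage_obj (H7Lim.isLimitPbCone (specDiag k K) (base k K) a hc)
    ((FEt.restrict u.hom).obj V)
  let L := j.left.unop.1
  haveI hL : FiniteDimensional k L := j.left.unop.2
  let gL := Spec.map (CommRingCat.ofHom (algebraMap k L))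
  have hgL : (specDiag k K).map j.hom ≫ baseMap k K = gL := by
    rw [baseMap]
    exact (Spec.map_comp _ _).symm.trans (congrArg (fun φ => Spec.map φ) (CommRingCat.hom_ext (RingHom.ext fun x =>
      (IntermediateField.inclusion (leOfHom j.hom.unop)).commutes x)))
  let v : D'.obj j ≅ pullback f gL := pullbackLeftPullbackSndIso f (baseMap k K) _ ≪≫ pullback.congrHom rfl hgL
  let c : pullback f g ⟶ pullback f gL := u.inv ≫ c'.π.app j ≫ v.hom
  refine ⟨L, hL, (FEt.restrict v.inv).obj Vj, c, ?_, ?_, ⟨?_⟩⟩
  · show (u.inv ≫ c'.π.app j ≫ v.hom) ≫ pullback.fst f gL = pullback.fst f g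
    simp [c', u, v, a, pullback.map]
  · show (u.inv ≫ c'.π.app j ≫ v.hom) ≫ pullback.snd f gL = pullback.snd f g ≫ _
    simp [c', u, v, a, pullback.map]
    rfl
  · exact restrictCompIso c v.inv (u.inv ≫ c'.π.app j) (by simp [c]) Vj ≪≫
      (restrictCompIso u.inv (c'.π.app j) _ rfl Vj).symm ≪≫ (FEt.restrict u.inv).mapIso e ≪≫
      restrictCompIso u.inv u.hom (𝟙 _) u.inv_hom_id V ≪≫
      MorphismProperty.Over.isoMk (asIso (pullback.fst V.hom (𝟙 _))) (by
        show pullback.fst V.hom (𝟙 _) ≫ V.hom = pullback.snd V.hom (𝟙 _)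
        rw [pullback.condition, Category.comp_id])

/-- Morphisms from `X_K` to schemes locally of finite presentation over `X` factor through some `X_L`. -/
theorem exists_finite_hom [Algebra.IsAlgebraic k K] {X U : Scheme.{u}} (f : X ⟶ Spec (CommRingCat.of k))
    [CompactSpace X] [QuasiSeparatedSpace X] (q : U ⟶ X) [LocallyOfFinitePresentation q]
    (σ : pullback f (Spec.map (CommRingCat.ofHom (algebraMap k K))) ⟶ U) (hσ : σ ≫ q = pullback.fst f _) :
    ∃ (L : IntermediateField k K) (_ : FiniteDimensional k L)
      (τ : pullback f (Spec.map (CommRingCat.ofHom (algebraMap k L))) ⟶ U)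
      (c : pullback f (Spec.map (CommRingCat.ofHom (algebraMap k K))) ⟶
        pullback f (Spec.map (CommRingCat.ofHom (algebraMap k L)))),
      τ ≫ q = pullback.fst f _ ∧
      c ≫ pullback.fst f _ = pullback.fst f _ ∧
      c ≫ pullback.snd f _ = pullback.snd f _ ≫ Spec.map (CommRingCat.ofHom (algebraMap L K)) ∧
      c ≫ τ = σ := by
  let hc : IsLimit (specCone k K) := isLimitOfPreserves Scheme.Spec (isColimitFieldCocone k K).op
  let a : pullback f (baseMap k K) ⟶ (specDiag k K).obj (base k K) := pullback.snd f (baseMap k K)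
  haveI : QuasiCompact f := inferInstance
  haveI : QuasiSeparated f := inferInstance
  haveI : QuasiCompact a := MorphismProperty.pullback_snd _ _ inferInstance
  haveI : QuasiSeparated a := MorphismProperty.pullback_snd _ _ inferInstance
  let D' := H7Lim.pbDiagram (specDiag k K) (base k K) a
  let c' := H7Lim.pbCone (specDiag k K) (specCone k K) (base k K) a
  haveI : ∀ {i j : Over (base k K)} (g : i ⟶ j), IsAffineHom (D'.map g) := fun g =>
    H7Lim.isAffineHom_pbDiagram_map (specDiag k K) (base k K) a _ _ g
  haveI : ∀ j, CompactSpace ↥(D'.obj j) := fun j =>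
    haveI : QuasiCompact (pullback.snd a ((specDiag k K).map j.hom)) :=
      MorphismProperty.pullback_snd _ _ inferInstance
    haveI : CompactSpace ↥((specDiag k K).obj j.left) := inferInstanceAs (CompactSpace ↥(Spec _))
    QuasiCompact.compactSpace_of_compactSpace (pullback.snd a ((specDiag k K).map j.hom))
  haveI : ∀ j, QuasiSeparatedSpace ↥(D'.obj j) := fun j =>
    haveI : QuasiSeparated (pullback.snd a ((specDiag k K).map j.hom)) :=
      MorphismProperty.pullback_snd _ _ inferInstance
    haveI : QuasiSeparatedSpace ↥((specDiag k K).obj j.left) := inferInstanceAs (QuasiSeparatedSpace ↥(Spec _))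
    quasiSeparatedSpace_of_quasiSeparated (pullback.snd a ((specDiag k K).map j.hom))
  let g := Spec.map (CommRingCat.ofHom (algebraMap k K))
  have hg : (specCone k K).π.app (base k K) ≫ baseMap k K = g := by
    rw [baseMap]
    exact (Spec.map_comp _ _).symm.trans (congrArg (fun φ => Spec.map φ)
      (CommRingCat.hom_ext ((IsScalarTower.algebraMap_eq k (⊥ : IntermediateField k K) K).symm)))
  let u : c'.pt ≅ pullback f g := pullbackLeftPullbackSndIso f (baseMap k K) _ ≪≫ pullback.congrHom rfl hg
  let t : D' ⟶ (Functor.const _).obj X :=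
    { app := fun j => pullback.fst a ((specDiag k K).map j.hom) ≫ pullback.fst f (baseMap k K)
      naturality := fun i j φ => by simp [D'] }
  obtain ⟨j, τ, hτ, hτq⟩ := Scheme.exists_π_app_comp_eq_of_locallyOfFinitePresentation D' t q c'
    (H7Lim.isLimitPbCone (specDiag k K) (base k K) a hc) (u.hom ≫ σ)
    (by
      ext1
      ext1 j
      simp [t, c', u, hσ, a, pullback.map]
      erw [pullback.lift_fst, pullbackLeftPullbackSndIso_hom_fst])
  let L := j.left.unop.1
  haveI hL : FiniteDimensional k L := j.left.unop.2
  let gL := Spec.map (CommRingCat.ofHom (algebraMap k L))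
  have hgL : (specDiag k K).map j.hom ≫ baseMap k K = gL := by
    rw [baseMap]
    exact (Spec.map_comp _ _).symm.trans (congrArg (fun φ => Spec.map φ) (CommRingCat.hom_ext (RingHom.ext fun x =>
      (IntermediateField.inclusion (leOfHom j.hom.unop)).commutes x)))
  let v : D'.obj j ≅ pullback f gL := pullbackLeftPullbackSndIso f (baseMap k K) _ ≪≫ pullback.congrHom rfl hgL
  let c : pullback f g ⟶ pullback f gL := u.inv ≫ c'.π.app j ≫ v.hom
  refine ⟨L, hL, v.inv ≫ τ, c, ?_, ?_, ?_, ?_⟩
  · show (v.inv ≫ τ) ≫ q = pullback.fst f gL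
    rw [Category.assoc, hτq, Iso.inv_comp_eq]
    simp [t, v, a]
  · show (u.inv ≫ c'.π.app j ≫ v.hom) ≫ pullback.fst f gL = pullback.fst f g
    simp [c', u, v, a, pullback.map]
  · show (u.inv ≫ c'.π.app j ≫ v.hom) ≫ pullback.snd f gL = pullback.snd f g ≫ _
    simp [c', u, v, a, pullback.map]
    rfl
  · simp [c, hτ]

end Groth.Agent.H18Et.FEtFieldLimit
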