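import Groth.Prelude.Def_EtBase
import Mathlib.Algebra.Category.Grp.FilteredColimits
import Mathlib.CategoryTheory.Sites.Point.Comap
import Mathlib.CategoryTheory.Sites.Point.Category
import Mathlib.Algebra.Homology.ShortComplex.PreservesHomology
import Mathlib.Algebra.Homology.ShortComplex.Abelian

/-!
# Stalks of abelian étale sheaves

Exactness of the stalk functors, the stalk of an inverse image, detection of zero, mono, epi, iso
and exactness on geometric stalks.
-/

universe u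

open CategoryTheory CategoryTheory.Limits AlgebraicGeometry Opposite ZeroObject

namespace Groth.Agent.H18Et

scoped instance ab5OfSize_u : AB5OfSize.{u, u} AddCommGrpCat.{u + 1} := AB5OfSize_of_univLE.{u, u, u + 1, u + 1} _

scoped instance forget_preservesFilteredColimitsOfSize_u :
    PreservesFilteredColimitsOfSize.{u, u} (forget AddCommGrpCat.{u + 1}) :=
  preservesFilteredColimitsOfSize_shrink.{u, u + 1, u, u + 1} _

variable {X Y : Scheme.{u}} {Ω : Type u} [Field Ω] [IsSepClosed Ω]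

scoped instance forget_preservesFilteredColimitsOfSize_type :
    PreservesFilteredColimitsOfSize.{u, u} (forget (Type (u + 1))) :=
  preservesFilteredColimitsOfSize_shrink.{u, u + 1, u, u + 1} _

scoped instance stalk_preservesFiniteLimits (ξ : Spec (CommRingCat.of Ω) ⟶ X) :
    PreservesFiniteLimits (EtCoh.stalk ξ) :=
  inferInstanceAs (PreservesFiniteLimits
    ((Scheme.pointSmallEtale ξ).sheafFiber (A := AddCommGrpCat.{u + 1})))

scoped instance stalk_additive (ξ : Spec (CommRingCat.of Ω) ⟶ X) : (EtCoh.stalk ξ).Additive :=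
  Functor.additive_of_preserves_binary_products _

/-- The fiber functor of the composite geometric point. -/
noncomputable def fiberCompIso (f : X ⟶ Y) (ξ : Spec (CommRingCat.of Ω) ⟶ X) :
    EtCoh.bc f ⋙ (Scheme.pointSmallEtale ξ).fiber ≅ (Scheme.pointSmallEtale (ξ ≫ f)).fiber :=
  let e : EtCoh.bc f ⋙ Scheme.Etale.forget X ≅ Scheme.Etale.forget Y ⋙ Over.pullback f :=
    MorphismProperty.Over.pullbackCompForgetIso (P := EtCoh.etaleMP) (Q := ⊤) f
  (Functor.associator _ _ _).symm ≪≫ Functor.isoWhiskerRight e _ ≪≫ Functor.associator _ _ _ ≪≫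
    Functor.isoWhiskerLeft (Scheme.Etale.forget Y) (NatIso.ofComponents
      (fun V => (((Over.mapPullbackAdj f).homEquiv (Over.mk ξ) V).symm).toIso)
      (fun {V W} g => by
        ext x
        exact (Over.mapPullbackAdj f).homEquiv_naturality_right_symm x g))

instance initiallySmall_fiberComp (f : X ⟶ Y) (ξ : Spec (CommRingCat.of Ω) ⟶ X) :
    InitiallySmall.{u} (EtCoh.bc f ⋙ (Scheme.pointSmallEtale ξ).fiber).Elements :=
  let e := fiberCompIso f ξ
  let E : (Scheme.pointSmallEtale (ξ ≫ f)).fiber.Elements ≌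
      (EtCoh.bc f ⋙ (Scheme.pointSmallEtale ξ).fiber).Elements :=
    { functor := CategoryOfElements.map e.inv
      inverse := CategoryOfElements.map e.hom
      unitIso := NatIso.ofComponents (fun p => CategoryOfElements.isoMk p _ (Iso.refl _) (by
        refine (ConcreteCategory.congr_hom ((Scheme.pointSmallEtale (ξ ≫ f)).fiber.map_id _) _).trans ?_
        exact (congrArg (fun g => g p.snd) (e.inv_hom_id_app p.fst)).symm))
      counitIso := NatIso.ofComponents (fun p => CategoryOfElements.isoMk _ p (Iso.refl _) (by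
        refine (ConcreteCategory.congr_hom
          ((EtCoh.bc f ⋙ (Scheme.pointSmallEtale ξ).fiber).map_id _) _).trans ?_
        exact congrArg (fun g => g p.snd) (e.hom_inv_id_app p.fst)))
      functor_unitIso_comp := fun p => by ext; exact Category.id_comp (𝟙 p.fst) }
  have : E.functor.IsEquivalence := E.isEquivalence_functor
  have : Functor.Initial E.functor := Functor.initial_of_isLeftAdjoint _
  initiallySmall_of_initial_of_initiallySmall E.functor

/-- The geometric point `ξ ≫ f` is the image of the geometric point `ξ`. -/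
noncomputable def pointCompIso (f : X ⟶ Y) (ξ : Spec (CommRingCat.of Ω) ⟶ X) :
    (Scheme.pointSmallEtale ξ).comap (EtCoh.bc f) (EtCoh.coverPreserving_bc f) ≅
      Scheme.pointSmallEtale (ξ ≫ f) where
  hom := ⟨(fiberCompIso f ξ).inv⟩
  inv := ⟨(fiberCompIso f ξ).hom⟩
  hom_inv_id := by ext1; exact (fiberCompIso f ξ).hom_inv_id
  inv_hom_id := by ext1; exact (fiberCompIso f ξ).inv_hom_id

/-- The stalk of an inverse image is the stalk at the image point. -/
noncomputable def stalkPullIso (f : X ⟶ Y) (ξ : Spec (CommRingCat.of Ω) ⟶ X) :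
    EtCoh.pull f ⋙ EtCoh.stalk ξ ≅ EtCoh.stalk (ξ ≫ f) :=
  ((Scheme.pointSmallEtale ξ).sheafFiberComapIso (EtCoh.bc f) (EtCoh.coverPreserving_bc f)
      AddCommGrpCat.{u + 1}).symm ≪≫
    { hom := (pointCompIso f ξ).inv.sheafFiber
      inv := (pointCompIso f ξ).hom.sheafFiber
      hom_inv_id := by
        rw [← GrothendieckTopology.Point.Hom.sheafFiber_comp, Iso.hom_inv_id,
          GrothendieckTopology.Point.Hom.sheafFiber_id]
      inv_hom_id := by
        rw [← GrothendieckTopology.Point.Hom.sheafFiber_comp, Iso.inv_hom_id,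
          GrothendieckTopology.Point.Hom.sheafFiber_id] }

set_option linter.unusedSectionVars false

section Germs

variable {A : Type*} [Category.{u + 1} A] [HasColimitsOfSize.{u, u} A]
  {FA : A → A → Type*} {CA : A → Type (u + 1)} [∀ P Q, FunLike (FA P Q) (CA P) (CA Q)]
  [ConcreteCategory.{u + 1} A FA] [PreservesFilteredColimitsOfSize.{u, u} (CategoryTheory.forget A)]
  [X.smallEtaleTopology.HasSheafCompose (CategoryTheory.forget A)]

/-- The germ of a section at an element of the fibre. -/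
noncomputable abbrev germ (ξ : Spec (CommRingCat.of Ω) ⟶ X) (F : Sheaf X.smallEtaleTopology A) (U : X.Etale)
    (x : (Scheme.pointSmallEtale ξ).fiber.obj U) : F.obj.obj (op U) ⟶ (Scheme.pointSmallEtale ξ).sheafFiber.obj F :=
  (Scheme.pointSmallEtale ξ).toPresheafFiber U x F.obj

theorem germ_surjective (ξ : Spec (CommRingCat.of Ω) ⟶ X) (F : Sheaf X.smallEtaleTopology A)
    (p : ToType ((Scheme.pointSmallEtale ξ).sheafFiber.obj F)) :
    ∃ (U : X.Etale) (x : (Scheme.pointSmallEtale ξ).fiber.obj U) (s : ToType (F.obj.obj (op U))),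
      germ ξ F U x s = p :=
  (Scheme.pointSmallEtale ξ).toPresheafFiber_jointly_surjective (P := F.obj) p

theorem germ_eq_iff (ξ : Spec (CommRingCat.of Ω) ⟶ X) (F : Sheaf X.smallEtaleTopology A) (U : X.Etale)
    (x : (Scheme.pointSmallEtale ξ).fiber.obj U) (s t : ToType (F.obj.obj (op U))) :
    germ ξ F U x s = germ ξ F U x t ↔
      ∃ (V : X.Etale) (g : V ⟶ U) (y : (Scheme.pointSmallEtale ξ).fiber.obj V),
        (Scheme.pointSmallEtale ξ).fiber.map g y = x ∧ F.obj.map g.op s = F.obj.map g.op t :=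
  (Scheme.pointSmallEtale ξ).toPresheafFiber_eq_iff' (P := F.obj) U x s t

theorem germ_naturality (ξ : Spec (CommRingCat.of Ω) ⟶ X) {F G : Sheaf X.smallEtaleTopology A} (φ : F ⟶ G)
    (U : X.Etale) (x : (Scheme.pointSmallEtale ξ).fiber.obj U) (s : ToType (F.obj.obj (op U))) :
    (Scheme.pointSmallEtale ξ).sheafFiber.map φ (germ ξ F U x s) = germ ξ G U x (φ.hom.app (op U) s) :=
  (Scheme.pointSmallEtale ξ).toPresheafFiber_naturality_apply φ.hom U x s

/-- The standard geometric point over a point. -/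
noncomputable abbrev geomPt (x : X) :
    Spec (CommRingCat.of (SeparableClosure (X.residueField x))) ⟶ X :=
  (Scheme.SpecToEquivOfField (SeparableClosure (X.residueField x)) X).symm
    ⟨x, CommRingCat.ofHom (algebraMap (X.residueField x) _)⟩

theorem geomPt_base (x : X) : (geomPt x).base default = x := by
  simp [geomPt, Scheme.SpecToEquivOfField]

/-- The point of `U` underlying an element of the fibre. -/
noncomputable abbrev ptOf {ξ : Spec (CommRingCat.of Ω) ⟶ X} {U : X.Etale}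
    (t : (Scheme.pointSmallEtale ξ).fiber.obj U) : U.left :=
  (Scheme.pointSmallEtaleFiberObjToPreimage ξ rfl t).1

theorem ptOf_map {ξ : Spec (CommRingCat.of Ω) ⟶ X} {U V : X.Etale} (g : V ⟶ U)
    (t : (Scheme.pointSmallEtale ξ).fiber.obj V) :
    g.left.base (ptOf t) = ptOf ((Scheme.pointSmallEtale ξ).fiber.map g t) := rfl

theorem exists_fiber_over {U : X.Etale} (u : U.left) (ξ : Spec (CommRingCat.of Ω) ⟶ X)
    (hξ : ξ.base default = U.hom.base u) :
    ∃ t : (Scheme.pointSmallEtale ξ).fiber.obj U, ptOf t = u := by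
  obtain ⟨t, ht⟩ := Scheme.pointSmallEtaleFiberObjToPreimage_surjective ξ hξ U ⟨u, rfl⟩
  exact ⟨t, congrArg Subtype.val ht⟩

theorem mem_topology_of_forall_point {U : X.Etale} (R : Sieve U)
    (h : ∀ u : U.left, ∃ (V : X.Etale) (g : V ⟶ U) (v : V.left), R g ∧ g.left.base v = u) :
    R ∈ X.smallEtaleTopology U := by
  choose V g v hR hv using h
  refine X.smallEtaleTopology.superset_covering (S := Sieve.ofArrows V g) ?_ ?_
  · rw [Sieve.generate_le_iff, Presieve.ofArrows_le_iff]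
    exact hR
  · rw [Scheme.ofArrows_mem_smallEtaleTopology_iff]
    ext u
    simp only [Set.mem_iUnion, Set.mem_range, Set.mem_univ, iff_true]
    exact ⟨u, v u, hv u⟩

/-- A section is determined by its germs, at one geometric point over each point. -/
theorem sect_ext' {F : Sheaf X.smallEtaleTopology A} {U : X.Etale} (s t : ToType (F.obj.obj (op U)))
    (h : ∀ x : X, ∃ (Ω : Type u) (_ : Field Ω) (_ : IsSepClosed Ω)
      (ξ : Spec (CommRingCat.of Ω) ⟶ X), ξ.base default = x ∧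
        ∀ z : (Scheme.pointSmallEtale ξ).fiber.obj U, germ ξ F U z s = germ ξ F U z t) : s = t := by
  refine Presieve.IsSeparatedFor.ext (P := F.obj ⋙ CategoryTheory.forget _)
    (R := (Presheaf.equalizerSieve (F := F.obj) s t).arrows) ?_ ?_
  · refine (((isSheaf_iff_isSheaf_of_type _ _).1
      ((sheafCompose _ (CategoryTheory.forget _)).obj F).property) _ ?_).isSeparatedFor
    refine mem_topology_of_forall_point _ fun u => ?_
    obtain ⟨Ω, _, _, ξ, hξ, he⟩ := h (U.hom.base u)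
    obtain ⟨x, hx⟩ := exists_fiber_over u ξ hξ
    obtain ⟨V, g, y, rfl, hy⟩ := (germ_eq_iff _ F U x s t).1 (he x)
    exact ⟨V, g, ptOf y, hy, (ptOf_map g y).trans hx⟩
  · intro V g hg
    exact hg

theorem sect_ext {F : Sheaf X.smallEtaleTopology A} {U : X.Etale} (s t : ToType (F.obj.obj (op U)))
    (h : ∀ (Ω : Type u) [Field Ω] [IsSepClosed Ω] (ξ : Spec (CommRingCat.of Ω) ⟶ X)
      (x : (Scheme.pointSmallEtale ξ).fiber.obj U), germ ξ F U x s = germ ξ F U x t) : s = t :=
  sect_ext' s t fun x => ⟨_, _, _, geomPt x, geomPt_base x, fun z => h _ _ z⟩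

theorem germ_eq_germ (ξ : Spec (CommRingCat.of Ω) ⟶ X) (F : Sheaf X.smallEtaleTopology A) {U V : X.Etale}
    (x : (Scheme.pointSmallEtale ξ).fiber.obj U) (y : (Scheme.pointSmallEtale ξ).fiber.obj V)
    (t : ToType (F.obj.obj (op U))) (s : ToType (F.obj.obj (op V))) (h : germ ξ F V y s = germ ξ F U x t) :
    ∃ (Z : X.Etale) (a : Z ⟶ V) (b : Z ⟶ U) (z : (Scheme.pointSmallEtale ξ).fiber.obj Z),
      (Scheme.pointSmallEtale ξ).fiber.map b z = x ∧ F.obj.map a.op s = F.obj.map b.op t := by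
  obtain ⟨⟨W, w⟩, ⟨a, ha⟩, ⟨b, hb⟩, -⟩ := IsCofilteredOrEmpty.cone_objs
    (C := (Scheme.pointSmallEtale ξ).fiber.Elements) ⟨V, y⟩ ⟨U, x⟩
  dsimp at a b ha hb
  have h1 : germ ξ F W w (F.obj.map a.op s) = germ ξ F V y s := by
    rw [← ha]; exact (Scheme.pointSmallEtale ξ).toPresheafFiber_w_apply a w F.obj s
  have h2 : germ ξ F W w (F.obj.map b.op t) = germ ξ F U x t := by
    rw [← hb]; exact (Scheme.pointSmallEtale ξ).toPresheafFiber_w_apply b w F.obj t
  obtain ⟨Z, c, z, hz, hc⟩ := (germ_eq_iff ξ F W w _ _).1 (h1.trans (h.trans h2.symm))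
  refine ⟨Z, c ≫ a, c ≫ b, z, ?_, ?_⟩
  · rw [Functor.map_comp, ← hb, ← hz]; rfl
  · rw [op_comp, op_comp, Functor.map_comp, Functor.map_comp]; simp only [CategoryTheory.comp_apply]; exact hc

theorem isLocallySurjective_of_stalk {F G : Sheaf X.smallEtaleTopology A} (φ : F ⟶ G)
    (h : ∀ x : X, ∃ (Ω : Type u) (_ : Field Ω) (_ : IsSepClosed Ω)
      (ξ : Spec (CommRingCat.of Ω) ⟶ X), ξ.base default = x ∧
        Function.Surjective ((Scheme.pointSmallEtale ξ).sheafFiber.map φ)) :
    CategoryTheory.Sheaf.IsLocallySurjective φ := by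
  refine ⟨fun {U} t => mem_topology_of_forall_point _ fun u => ?_⟩
  obtain ⟨Ω, _, _, ξ, hξ, hsurj⟩ := h (U.hom.base u)
  obtain ⟨x, hx⟩ := exists_fiber_over u ξ hξ
  obtain ⟨p, hp⟩ := hsurj (germ _ G U x t)
  obtain ⟨V, y, s, rfl⟩ := germ_surjective _ F p
  rw [germ_naturality] at hp
  obtain ⟨Z, a, b, z, hz, hc⟩ := germ_eq_germ _ G x y t (φ.hom.app (op V) s) hp
  refine ⟨Z, b, ptOf z, ⟨F.obj.map a.op s, ?_⟩, ?_⟩
  · exact (NatTrans.naturality_apply φ.hom a.op s).trans hc
  · exact (ptOf_map b z).trans ((congrArg ptOf hz).trans hx)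

end Germs

theorem mono_of_stalk {F G : EtCoh.Ab X} (φ : F ⟶ G)
    (h : ∀ x : X, ∃ (Ω : Type u) (_ : Field Ω) (_ : IsSepClosed Ω)
      (ξ : Spec (CommRingCat.of Ω) ⟶ X), ξ.base default = x ∧
        Function.Injective ((EtCoh.stalk ξ).map φ)) : Mono φ := by
  refine Sheaf.mono_of_injective φ fun U s t hst => ?_
  refine sect_ext' s t fun x => ?_
  obtain ⟨Ω, i₁, i₂, ξ, hξ, hinj⟩ := h x
  refine ⟨Ω, i₁, i₂, ξ, hξ, fun z => hinj ?_⟩
  rw [germ_naturality, germ_naturality]
  exact congrArg _ hst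

theorem mono_iff_stalk {F G : EtCoh.Ab X} (φ : F ⟶ G) :
    Mono φ ↔ ∀ (Ω : Type u) [Field Ω] [IsSepClosed Ω] (ξ : Spec (CommRingCat.of Ω) ⟶ X),
      Mono ((EtCoh.stalk ξ).map φ) := by
  refine ⟨fun _ Ω _ _ ξ => inferInstance, fun h => mono_of_stalk φ fun x => ?_⟩
  exact ⟨_, _, _, geomPt x, geomPt_base x,
    (AddCommGrpCat.mono_iff_injective _).1 (h _ (geomPt x))⟩

theorem epi_of_stalk {F G : EtCoh.Ab X} (φ : F ⟶ G)
    (h : ∀ x : X, ∃ (Ω : Type u) (_ : Field Ω) (_ : IsSepClosed Ω)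
      (ξ : Spec (CommRingCat.of Ω) ⟶ X), ξ.base default = x ∧
        Function.Surjective ((EtCoh.stalk ξ).map φ)) : Epi φ := by
  have := isLocallySurjective_of_stalk φ h
  exact Sheaf.epi_of_isLocallySurjective φ

theorem epi_iff_stalk {F G : EtCoh.Ab X} (φ : F ⟶ G) :
    Epi φ ↔ ∀ (Ω : Type u) [Field Ω] [IsSepClosed Ω] (ξ : Spec (CommRingCat.of Ω) ⟶ X),
      Epi ((EtCoh.stalk ξ).map φ) :=
  ⟨fun _ Ω _ _ ξ => inferInstance, fun h => epi_of_stalk φ fun x =>
    ⟨_, _, _, geomPt x, geomPt_base x, (AddCommGrpCat.epi_iff_surjective _).1 (h _ (geomPt x))⟩⟩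

theorem isIso_iff_stalk {F G : EtCoh.Ab X} (φ : F ⟶ G) :
    IsIso φ ↔ ∀ (Ω : Type u) [Field Ω] [IsSepClosed Ω] (ξ : Spec (CommRingCat.of Ω) ⟶ X),
      IsIso ((EtCoh.stalk ξ).map φ) := by
  refine ⟨fun _ Ω _ _ ξ => inferInstance, fun h => ?_⟩
  have : Mono φ := (mono_iff_stalk φ).2 fun Ω _ _ ξ => have := h Ω ξ; inferInstance
  have : Epi φ := (epi_iff_stalk φ).2 fun Ω _ _ ξ => have := h Ω ξ; inferInstance
  exact isIso_of_mono_of_epi φ

theorem isZero_iff_stalk (F : EtCoh.Ab X) :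
    IsZero F ↔ ∀ (Ω : Type u) [Field Ω] [IsSepClosed Ω] (ξ : Spec (CommRingCat.of Ω) ⟶ X),
      IsZero ((EtCoh.stalk ξ).obj F) := by
  refine ⟨fun h Ω _ _ ξ => (EtCoh.stalk ξ).map_isZero h, fun h => ?_⟩
  have : IsIso (0 : F ⟶ 0) := by
    rw [isIso_iff_stalk]
    intro Ω _ _ ξ
    exact (h Ω ξ).isIso ((EtCoh.stalk ξ).map_isZero (isZero_zero _)) _
  exact IsZero.of_iso (isZero_zero _) (asIso (0 : F ⟶ 0))

theorem exact_iff_stalk (S : ShortComplex (EtCoh.Ab X)) :
    S.Exact ↔ ∀ (Ω : Type u) [Field Ω] [IsSepClosed Ω] (ξ : Spec (CommRingCat.of Ω) ⟶ X),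
      (S.map (EtCoh.stalk ξ)).Exact := by
  simp only [ShortComplex.exact_iff_isZero_homology, isZero_iff_stalk S.homology]
  exact ⟨fun h Ω _ _ ξ => (h Ω ξ).of_iso (S.mapHomologyIso _),
    fun h Ω _ _ ξ => (h Ω ξ).of_iso (S.mapHomologyIso _).symm⟩

end Groth.Agent.H18Et
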