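import Groth.Agent.H18Et.Stalk

/-!
# Germs and inverse images
-/

universe w u

open CategoryTheory CategoryTheory.Limits AlgebraicGeometry Opposite

namespace Groth.Agent.H18Et

section General

variable {C D : Type*} [Category C] [Category D] {J : GrothendieckTopology C}
  {K : GrothendieckTopology D} (Φ : GrothendieckTopology.Point.{w} K) (F : C ⥤ D)
  [RepresentablyFlat F] (hF : CoverPreserving J K F) [InitiallySmall (F ⋙ Φ.fiber).Elements]
  (A : Type*) [Category A] [HasProducts.{w} A] [Functor.IsContinuous F J K]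
  [(F.sheafPushforwardContinuous A J K).IsRightAdjoint] [HasColimitsOfSize.{w, w} A]

set_option backward.isDefEq.respectTransparency false in
theorem toPresheafFiber_sheafFiberComapIso_hom (G : Sheaf J A) (U : C)
    (x : Φ.fiber.obj (F.obj U)) :
    (Φ.comap F hF).toPresheafFiber U x G.obj ≫ (Φ.sheafFiberComapIso F hF A).hom.app G =
      ((F.sheafAdjunctionContinuous A J K).unit.app G).hom.app (op U) ≫
        Φ.toPresheafFiber (F.obj U) x ((F.sheafPullback A J K).obj G).obj := by
  rw [GrothendieckTopology.Point.sheafFiberComapIso_hom_app]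
  dsimp [GrothendieckTopology.Point.sheafFiber]
  simp only [← Category.assoc, GrothendieckTopology.Point.toPresheafFiber_naturality]
  simp only [Category.assoc]
  congr 1
  rw [GrothendieckTopology.Point.skyscraperSheafAdjunction,
    GrothendieckTopology.Point.skyscraperSheafAdjunction, Adjunction.mkOfHomEquiv_unit_app,
    Adjunction.mkOfHomEquiv_counit_app]
  dsimp [GrothendieckTopology.Point.skyscraperSheafFunctorCompSheafPushforwardContinuous,
    Functor.FullyFaithful.homEquiv, fullyFaithfulSheafToPresheaf]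
  erw [CategoryTheory.Functor.map_id, Category.id_comp]
  refine ((Φ.comap F hF).toPresheafFiber_naturality_assoc _ U x _).trans ?_
  refine (congrArg (_ ≫ ·) ((Φ.comap F hF).toPresheafFiber_skyscraperPresheafHomEquiv_symm _ U x)).trans ?_
  exact (congrArg (_ ≫ ·) (Category.id_comp _)).trans
    ((Φ.skyscraperPresheafHomEquiv_app_π (𝟙 _) (F.obj U) x).trans (Category.comp_id _))

set_option backward.isDefEq.respectTransparency false in
theorem toPresheafFiber_hom_sheafFiberComapIso_hom {Ψ : GrothendieckTopology.Point.{w} J}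
    (θ : Φ.comap F hF ⟶ Ψ) (G : Sheaf J A) (U : C) (z : Ψ.fiber.obj U) :
    Ψ.toPresheafFiber U z G.obj ≫
        θ.sheafFiber.app G ≫ (Φ.sheafFiberComapIso F hF A).hom.app G =
      ((F.sheafAdjunctionContinuous A J K).unit.app G).hom.app (op U) ≫
        Φ.toPresheafFiber (F.obj U) (θ.hom.app U z) ((F.sheafPullback A J K).obj G).obj := by
  rw [← toPresheafFiber_sheafFiberComapIso_hom Φ F hF A G U (θ.hom.app U z), ← Category.assoc]
  congr 1
  exact Ψ.toPresheafFiber_presheafFiberDesc (P := G.obj) (fun X x => (Φ.comap F hF).toPresheafFiber X (θ.hom.app X x) G.obj) (fun X Y g x => by simp [GrothendieckTopology.Point.toPresheafFiber_w, ← ConcreteCategory.congr_hom (θ.hom.naturality g) x]) U z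

end General

variable {X Y : Scheme.{u}} {Ω : Type u} [Field Ω] [IsSepClosed Ω]

/-- The germ of a pulled back section: `stalkPullIso` sends the germ of `s` to the germ of `f⁻¹ s`. -/
theorem stalkPullIso_inv_germ (f : X ⟶ Y) (ξ : Spec (CommRingCat.of Ω) ⟶ X) (G : EtCoh.Ab Y)
    (U : Y.Etale) (z : (Scheme.pointSmallEtale (ξ ≫ f)).fiber.obj U) (s : EtCoh.sect G U) :
    (stalkPullIso f ξ).inv.app G (germ (ξ ≫ f) G U z s) =
      germ ξ ((EtCoh.pull f).obj G) ((EtCoh.bc f).obj U) ((fiberCompIso f ξ).inv.app U z)
        (((EtCoh.pullPushAdj f).unit.app G).hom.app (op U) s) := by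
  have h := ConcreteCategory.congr_hom (toPresheafFiber_hom_sheafFiberComapIso_hom
    (Scheme.pointSmallEtale ξ) (EtCoh.bc f) (EtCoh.coverPreserving_bc f) AddCommGrpCat.{u + 1}
    (pointCompIso f ξ).hom G U z) s
  exact h

end Groth.Agent.H18Et
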