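import Groth.Agent.H18Et.PushStalk
import Groth.Agent.H18Et.Germ

/-!
# Direct images along morphisms with closed image along which etale neighbourhoods lift
-/

universe w u

open CategoryTheory CategoryTheory.Limits AlgebraicGeometry Opposite

namespace Groth.Agent.H18Et

section General

variable {C D : Type*} [Category C] [Category D] {J : GrothendieckTopology C}
  {K : GrothendieckTopology D} (Φ : GrothendieckTopology.Point.{w} K) (F : C ⥤ D)
  [RepresentablyFlat F] (hF : CoverPreserving J K F) [InitiallySmall.{w} (F ⋙ Φ.fiber).Elements]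
  (A : Type*) [Category A] [HasProducts.{w} A] [Functor.IsContinuous F J K]
  [(F.sheafPushforwardContinuous A J K).IsRightAdjoint] [HasColimitsOfSize.{w, w} A]

theorem sheafFiberComapIso_hom_counit (G : Sheaf K A) :
    (Φ.sheafFiberComapIso F hF A).hom.app ((F.sheafPushforwardContinuous A J K).obj G) ≫
        Φ.sheafFiber.map ((F.sheafAdjunctionContinuous A J K).counit.app G) =
      pushFiberApp Φ F hF A G := by
  refine GrothendieckTopology.Point.presheafFiber_hom_ext _ fun c x => ?_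
  refine Eq.trans ?_ (toPresheafFiber_pushFiberApp Φ F hF A G c x).symm
  refine (Category.assoc _ _ _).symm.trans ?_
  refine (congrArg (· ≫ _) (toPresheafFiber_sheafFiberComapIso_hom Φ F hF A
    ((F.sheafPushforwardContinuous A J K).obj G) c x)).trans ?_
  refine (Category.assoc _ _ _).trans ?_
  refine (congrArg (_ ≫ ·) (Φ.toPresheafFiber_naturality
    ((F.sheafAdjunctionContinuous A J K).counit.app G).hom (F.obj c) x)).trans ?_
  refine (Category.assoc _ _ _).symm.trans ?_
  refine (congrArg (· ≫ _) ?_).trans (Category.id_comp _)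
  exact congr($((F.sheafAdjunctionContinuous A J K).right_triangle_components G).hom.app (op c))

include hF in
theorem isIso_sheafFiber_map_counit [(comapElements Φ F).Initial] (G : Sheaf K A) :
    IsIso (Φ.sheafFiber.map ((F.sheafAdjunctionContinuous A J K).counit.app G)) := by
  have : IsIso ((pushFiberHom Φ F hF A).app G) :=
    have := isIso_pushFiberHom Φ F hF A
    inferInstance
  have h : IsIso (pushFiberApp Φ F hF A G) := this
  rw [← sheafFiberComapIso_hom_counit] at h
  exact IsIso.of_isIso_comp_left ((Φ.sheafFiberComapIso F hF A).hom.app _) _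

end General

variable {Z X : Scheme.{u}} {Ω : Type u} [Field Ω] [IsSepClosed Ω]

/-- The stalk functor of the image of a geometric point. -/
noncomputable def pointCompFiberIso (f : Z ⟶ X) (ζ : Spec (CommRingCat.of Ω) ⟶ Z)
    (A : Type*) [Category A] [HasColimitsOfSize.{u, u} A] :
    (Scheme.pointSmallEtale (ζ ≫ f)).sheafFiber (A := A) ≅
      ((Scheme.pointSmallEtale ζ).comap (EtCoh.bc f) (EtCoh.coverPreserving_bc f)).sheafFiber where
  hom := (pointCompIso f ζ).hom.sheafFiber
  inv := (pointCompIso f ζ).inv.sheafFiber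
  hom_inv_id := by
    rw [← GrothendieckTopology.Point.Hom.sheafFiber_comp, Iso.inv_hom_id,
      GrothendieckTopology.Point.Hom.sheafFiber_id]
  inv_hom_id := by
    rw [← GrothendieckTopology.Point.Hom.sheafFiber_comp, Iso.hom_inv_id,
      GrothendieckTopology.Point.Hom.sheafFiber_id]

/-- The stalk of a direct image at the image of a geometric point of the source. -/
noncomputable def pushStalkIso {f : Z ⟶ X} (hf : LiftsEtaleUniv f)
    (ζ : Spec (CommRingCat.of Ω) ⟶ Z) (A : Type*) [Category A] [HasColimitsOfSize.{u, u} A] :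
    (EtCoh.bc f).sheafPushforwardContinuous A X.smallEtaleTopology Z.smallEtaleTopology ⋙
        (Scheme.pointSmallEtale (ζ ≫ f)).sheafFiber ≅
      (Scheme.pointSmallEtale ζ).sheafFiber :=
  have := initial_comapElements hf ζ
  have := isIso_pushFiberHom (Scheme.pointSmallEtale ζ) (EtCoh.bc f) (EtCoh.coverPreserving_bc f) A
  Functor.isoWhiskerLeft _ (pointCompFiberIso f ζ A) ≪≫
    asIso (pushFiberHom (Scheme.pointSmallEtale ζ) (EtCoh.bc f) (EtCoh.coverPreserving_bc f) A)

theorem bot_mem_of_isEmpty (U : X.Etale) (h : IsEmpty U.left) :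
    ⊥ ∈ X.smallEtaleTopology U :=
  mem_topology_of_forall_point _ fun u => h.elim u

theorem subsingleton_sect_of_isEmpty (G : EtCoh.Ab X) (U : X.Etale) (h : IsEmpty U.left) :
    Subsingleton (EtCoh.sect G U) :=
  AddCommGrpCat.subsingleton_of_isZero
    (IsTerminal.isZero (Sheaf.isTerminalOfBotCover G U (bot_mem_of_isEmpty U h)))

/-- Sections of a sheaf of sets over the empty scheme. -/
@[instance_reducible]
noncomputable def uniqueSectOfIsEmpty (G : EtDesc.Sh X) (U : X.Etale) (h : IsEmpty U.left) :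
    Unique (G.obj.obj (op U)) :=
  Types.isTerminalEquivUnique _ (Sheaf.isTerminalOfBotCover G U (bot_mem_of_isEmpty U h))

theorem exists_nbhd_avoid (f : Z ⟶ X) (hcl : IsClosed (Set.range f.base))
    (ξ : Spec (CommRingCat.of Ω) ⟶ X) (hξ : ξ.base default ∉ Set.range f.base) (V : X.Etale)
    (z : (Scheme.pointSmallEtale ξ).fiber.obj V) :
    ∃ (V' : X.Etale) (h : V' ⟶ V) (z' : (Scheme.pointSmallEtale ξ).fiber.obj V'),
      (Scheme.pointSmallEtale ξ).fiber.map h z' = z ∧ IsEmpty ((EtCoh.bc f).obj V').left := by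
  have : Etale V.hom := V.prop
  let O : V.left.Opens := V.hom ⁻¹ᵁ ⟨(Set.range f.base)ᶜ, hcl.isOpen_compl⟩
  let V' : X.Etale := MorphismProperty.Over.mk ⊤ (O.ι ≫ V.hom) (inferInstanceAs (Etale (O.ι ≫ V.hom)))
  let h : V' ⟶ V := MorphismProperty.Over.homMk O.ι rfl trivial
  have hz : ptOf z ∈ O := by
    have h1 : V.hom.base (ptOf z) = ξ.base default :=
      (Scheme.pointSmallEtaleFiberObjToPreimage ξ rfl z).2
    change V.hom.base (ptOf z) ∉ Set.range f.base
    rw [h1]; exact hξ
  obtain ⟨z', hz'⟩ := exists_fiber_lift h z ⟨ptOf z, hz⟩ rfl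
  refine ⟨V', h, z', hz', ⟨fun p => ?_⟩⟩
  have h2 := congrArg (fun g => g.base p) (pullback.condition (f := O.ι ≫ V.hom) (g := f))
  exact ((pullback.fst (O.ι ≫ V.hom) f).base p).2 ⟨(pullback.snd (O.ι ≫ V.hom) f).base p, h2.symm⟩

theorem subsingleton_stalk_push (f : Z ⟶ X) (hcl : IsClosed (Set.range f.base)) (G : EtCoh.Ab Z)
    (ξ : Spec (CommRingCat.of Ω) ⟶ X) (hξ : ξ.base default ∉ Set.range f.base) :
    Subsingleton ((EtCoh.stalk ξ).obj ((EtCoh.push f).obj G)) := by
  refine subsingleton_of_forall_eq 0 fun p => ?_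
  obtain ⟨V, z, s, rfl⟩ := germ_surjective ξ ((EtCoh.push f).obj G) p
  obtain ⟨V', h, z', rfl, he⟩ := exists_nbhd_avoid f hcl ξ hξ V z
  refine ((Scheme.pointSmallEtale ξ).toPresheafFiber_w_apply h z' ((EtCoh.push f).obj G).obj s).symm.trans ?_
  have := subsingleton_sect_of_isEmpty G ((EtCoh.bc f).obj V') he
  have h0 : ((EtCoh.push f).obj G).obj.map h.op s = 0 :=
    Subsingleton.elim (α := EtCoh.sect G ((EtCoh.bc f).obj V')) _ _
  exact (congrArg _ h0).trans (map_zero _)

theorem subsingleton_stalkSh_push (f : Z ⟶ X) (hcl : IsClosed (Set.range f.base)) (G : EtDesc.Sh Z)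
    (ξ : Spec (CommRingCat.of Ω) ⟶ X) (hξ : ξ.base default ∉ Set.range f.base) :
    Subsingleton ((Scheme.pointSmallEtale ξ).sheafFiber.obj ((EtDesc.pushSh f).obj G)) := by
  refine ⟨fun p q => ?_⟩
  obtain ⟨V, z, s, t, rfl, rfl⟩ :=
    (Scheme.pointSmallEtale ξ).toPresheafFiber_jointly_surjective₂ (P := ((EtDesc.pushSh f).obj G).obj) p q
  obtain ⟨V', h, z', rfl, he⟩ := exists_nbhd_avoid f hcl ξ hξ V z
  refine ((Scheme.pointSmallEtale ξ).toPresheafFiber_w_apply h z' ((EtDesc.pushSh f).obj G).obj s).symm.trans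
    (Eq.trans ?_ ((Scheme.pointSmallEtale ξ).toPresheafFiber_w_apply h z' ((EtDesc.pushSh f).obj G).obj t))
  have := uniqueSectOfIsEmpty G ((EtCoh.bc f).obj V') he
  exact congrArg _ (Subsingleton.elim (α := G.obj.obj (op ((EtCoh.bc f).obj V'))) _ _)

theorem nonempty_stalkSh_push (f : Z ⟶ X) (hcl : IsClosed (Set.range f.base)) (G : EtDesc.Sh Z)
    (ξ : Spec (CommRingCat.of Ω) ⟶ X) (hξ : ξ.base default ∉ Set.range f.base) :
    Nonempty ((Scheme.pointSmallEtale ξ).sheafFiber.obj ((EtDesc.pushSh f).obj G)) := by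
  obtain ⟨V', -, z', -, he⟩ := exists_nbhd_avoid f hcl ξ hξ (EtCoh.top X)
    (Over.homMk ξ (Category.comp_id _))
  exact ⟨germ ξ ((EtDesc.pushSh f).obj G) V' z'
    (uniqueSectOfIsEmpty G ((EtCoh.bc f).obj V') he).default⟩

theorem isIso_of_stalk {F G : EtCoh.Ab X} (φ : F ⟶ G)
    (h : ∀ x : X, ∃ (Ω : Type u) (_ : Field Ω) (_ : IsSepClosed Ω)
      (ξ : Spec (CommRingCat.of Ω) ⟶ X), ξ.base default = x ∧
        Function.Bijective ((EtCoh.stalk ξ).map φ)) : IsIso φ := by
  have : Mono φ := mono_of_stalk φ fun x => by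
    obtain ⟨Ω, i₁, i₂, ξ, h1, h2⟩ := h x; exact ⟨Ω, i₁, i₂, ξ, h1, h2.1⟩
  have : Epi φ := epi_of_stalk φ fun x => by
    obtain ⟨Ω, i₁, i₂, ξ, h1, h2⟩ := h x; exact ⟨Ω, i₁, i₂, ξ, h1, h2.2⟩
  exact isIso_of_mono_of_epi φ

theorem isIso_of_stalkSh {F G : EtDesc.Sh X} (φ : F ⟶ G)
    (h : ∀ x : X, ∃ (Ω : Type u) (_ : Field Ω) (_ : IsSepClosed Ω)
      (ξ : Spec (CommRingCat.of Ω) ⟶ X), ξ.base default = x ∧
        Function.Bijective ((Scheme.pointSmallEtale ξ).sheafFiber.map φ)) : IsIso φ := by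
  have : Mono φ := mono_of_stalkSh φ fun x => by
    obtain ⟨Ω, i₁, i₂, ξ, h1, h2⟩ := h x; exact ⟨Ω, i₁, i₂, ξ, h1, h2.1⟩
  have : Epi φ := epi_of_stalkSh φ fun x => by
    obtain ⟨Ω, i₁, i₂, ξ, h1, h2⟩ := h x; exact ⟨Ω, i₁, i₂, ξ, h1, h2.2⟩
  exact isIso_of_mono_of_epi φ

theorem isIso_counit_of_liftsEtaleUniv {f : Z ⟶ X} (hf : LiftsEtaleUniv f) (G : EtCoh.Ab Z) :
    IsIso ((EtCoh.pullPushAdj f).counit.app G) := by
  refine (isIso_iff_stalk _).2 fun Ω _ _ ζ => ?_
  have := initial_comapElements hf ζ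
  exact isIso_sheafFiber_map_counit (Scheme.pointSmallEtale ζ) (EtCoh.bc f)
    (EtCoh.coverPreserving_bc f) AddCommGrpCat.{u + 1} G

theorem isIso_counitSh_of_liftsEtaleUniv {f : Z ⟶ X} (hf : LiftsEtaleUniv f) (G : EtDesc.Sh Z) :
    IsIso ((EtDesc.adjSh f).counit.app G) := by
  refine isIso_of_stalkSh _ fun z => ⟨_, _, SeparableClosure.isSepClosed _, geomPt z, geomPt_base z, ?_⟩
  have := initial_comapElements hf (geomPt z)
  exact (CategoryTheory.isIso_iff_bijective _).1
    (isIso_sheafFiber_map_counit (Scheme.pointSmallEtale (geomPt z)) (EtCoh.bc f)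
      (EtCoh.coverPreserving_bc f) (Type (u + 1)) G)

/-- The direct image is fully faithful. -/
theorem push_full_faithful {f : Z ⟶ X} (hf : LiftsEtaleUniv f) :
    (EtCoh.push f).Full ∧ (EtCoh.push f).Faithful := by
  have : IsIso (EtCoh.pullPushAdj f).counit :=
    have := fun G => isIso_counit_of_liftsEtaleUniv hf G
    NatIso.isIso_of_isIso_app _
  have h := (EtCoh.pullPushAdj f).fullyFaithfulROfIsIsoCounit
  exact ⟨h.full, h.faithful⟩

/-- The direct image of sheaves of sets is fully faithful. -/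
theorem pushSh_full_faithful {f : Z ⟶ X} (hf : LiftsEtaleUniv f) :
    (EtDesc.pushSh f).Full ∧ (EtDesc.pushSh f).Faithful := by
  have : IsIso (EtDesc.adjSh f).counit :=
    have := fun G => isIso_counitSh_of_liftsEtaleUniv hf G
    NatIso.isIso_of_isIso_app _
  have h := (EtDesc.adjSh f).fullyFaithfulROfIsIsoCounit
  exact ⟨h.full, h.faithful⟩

theorem bijective_stalk_unit {f : Z ⟶ X} (hf : LiftsEtaleUniv f) (G : EtCoh.Ab X)
    (ζ : Spec (CommRingCat.of Ω) ⟶ Z) :
    Function.Bijective ((EtCoh.stalk (ζ ≫ f)).map ((EtCoh.pullPushAdj f).unit.app G)) := by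
  have := isIso_counit_of_liftsEtaleUniv hf ((EtCoh.pull f).obj G)
  have h2 := (EtCoh.pullPushAdj f).left_triangle_components G
  have : IsIso (𝟙 ((EtCoh.pull f).obj G)) := ⟨⟨𝟙 _, Category.id_comp _, Category.id_comp _⟩⟩
  have : IsIso ((EtCoh.pull f).map ((EtCoh.pullPushAdj f).unit.app G)) :=
    IsIso.of_isIso_fac_right h2
  have : IsIso ((EtCoh.stalk (ζ ≫ f)).map ((EtCoh.pullPushAdj f).unit.app G)) :=
    (NatIso.isIso_map_iff (stalkPullIso f ζ) _).1
      (inferInstanceAs (IsIso ((EtCoh.stalk ζ).map ((EtCoh.pull f).map _))))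
  exact ConcreteCategory.bijective_of_isIso _

theorem bijective_stalk_unitSh {f : Z ⟶ X} (hf : LiftsEtaleUniv f) (G : EtDesc.Sh X)
    (ζ : Spec (CommRingCat.of Ω) ⟶ Z) :
    Function.Bijective ((Scheme.pointSmallEtale (ζ ≫ f)).sheafFiber.map ((EtDesc.adjSh f).unit.app G)) := by
  have := isIso_counitSh_of_liftsEtaleUniv hf ((EtDesc.pullSh f).obj G)
  have h2 := (EtDesc.adjSh f).left_triangle_components G
  have : IsIso (𝟙 ((EtDesc.pullSh f).obj G)) := ⟨⟨𝟙 _, Category.id_comp _, Category.id_comp _⟩⟩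
  have : IsIso ((EtDesc.pullSh f).map ((EtDesc.adjSh f).unit.app G)) :=
    IsIso.of_isIso_fac_right h2
  have : IsIso ((Scheme.pointSmallEtale (ζ ≫ f)).sheafFiber.map ((EtDesc.adjSh f).unit.app G)) :=
    (NatIso.isIso_map_iff (stalkPullShIso f ζ) _).1
      (inferInstanceAs (IsIso ((Scheme.pointSmallEtale ζ).sheafFiber.map ((EtDesc.pullSh f).map _))))
  exact (CategoryTheory.isIso_iff_bijective _).1 this

theorem geomPt_comp_base (f : Z ⟶ X) (z : Z) : (geomPt z ≫ f).base default = f.base z :=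
  (Scheme.Hom.comp_apply _ _ _).trans (congrArg f.base (geomPt_base z))

/-- The essential image of the direct image: sheaves whose stalks vanish outside the image. -/
theorem push_essImage_iff {f : Z ⟶ X} (hf : LiftsEtaleUniv f) (hcl : IsClosed (Set.range f.base))
    (G : EtCoh.Ab X) :
    (EtCoh.push f).essImage G ↔ EtPBC.supp G ⊆ Set.range f.base := by
  constructor
  · rintro ⟨G', ⟨e⟩⟩ x ⟨Ω, _, _, ξ, hξ, hne⟩
    by_contra hx
    refine hne (IsZero.of_iso ?_ ((EtCoh.stalk ξ).mapIso e.symm))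
    have h0 : ξ.base default = x := Set.mem_singleton_iff.mp (hξ ▸ Set.mem_range_self _)
    exact AddCommGrpCat.isZero_iff_subsingleton.2
      (subsingleton_stalk_push f hcl G' ξ (h0.symm ▸ hx))
  · intro h
    have : IsIso ((EtCoh.pullPushAdj f).unit.app G) := isIso_of_stalk _ fun x => by
      by_cases hx : x ∈ Set.range f.base
      · obtain ⟨z, rfl⟩ := hx
        exact ⟨_, _, _, geomPt z ≫ f, geomPt_comp_base f z, bijective_stalk_unit hf G (geomPt z)⟩
      · refine ⟨_, _, SeparableClosure.isSepClosed _, geomPt x, geomPt_base x, ?_⟩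
        have h1 : Subsingleton ((EtCoh.stalk (geomPt x)).obj ((EtCoh.push f).obj ((EtCoh.pull f).obj G))) :=
          subsingleton_stalk_push f hcl _ _ (by rwa [geomPt_base])
        have h2 : Subsingleton ((EtCoh.stalk (geomPt x)).obj G) :=
          AddCommGrpCat.isZero_iff_subsingleton.1 (by
            by_contra hne
            refine hx (h ⟨_, _, _, geomPt x, ?_, hne⟩)
            rw [Set.range_unique]
            exact congrArg _ (geomPt_base x))
        exact ⟨fun a b _ => h2.elim a b, fun b => ⟨0, h1.elim _ _⟩⟩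
    exact ⟨_, ⟨(asIso ((EtCoh.pullPushAdj f).unit.app G)).symm⟩⟩

end Groth.Agent.H18Et
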