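import Groth.Agent.H18Et.Stalk
import Groth.Prelude.Def_PBC
import Mathlib.AlgebraicGeometry.Morphisms.UniversallyOpen
import Groth.Prelude.Def_EtShriek2

/-!
# Supports of sections and of sheaves
-/

universe u

open CategoryTheory CategoryTheory.Limits AlgebraicGeometry Opposite

namespace Groth.Agent.H18Et

variable {X : Scheme.{u}} {Ω : Type u} [Field Ω] [IsSepClosed Ω]

theorem etale_left {U V : X.Etale} (g : V ⟶ U) : Etale g.left := by
  have h : g.left ≫ U.hom = V.hom := Over.w g.hom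
  have : Etale (g.left ≫ U.hom) := by rw [h]; exact V.prop
  have : Etale U.hom := U.prop
  exact Etale.of_comp g.left U.hom

theorem exists_fiber_lift {ξ : Spec (CommRingCat.of Ω) ⟶ X} {U V : X.Etale} (g : V ⟶ U)
    (z : (Scheme.pointSmallEtale ξ).fiber.obj U) (v : V.left) (hv : g.left.base v = ptOf z) :
    ∃ y : (Scheme.pointSmallEtale ξ).fiber.obj V, (Scheme.pointSmallEtale ξ).fiber.map g y = z := by
  have := etale_left g
  obtain ⟨l, hl, -⟩ := Scheme.exists_fac_of_etale_of_isSepClosed g.left z.left v hv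
  refine ⟨Over.homMk l ?_, Over.OverMorphism.ext hl⟩
  have h1 := Over.w g.hom
  have h2 := Over.w z
  simp only [Scheme.Etale.forget] at *
  erw [← h1, ← Category.assoc, hl]
  exact h2

theorem germ_eq_zero_iff {ξ : Spec (CommRingCat.of Ω) ⟶ X} (F : EtCoh.Ab X) {U : X.Etale}
    (z : (Scheme.pointSmallEtale ξ).fiber.obj U) (s : EtCoh.sect F U) :
    germ ξ F U z s = 0 ↔ ptOf z ∉ EtShriek.sectSupp F U s := by
  simp only [EtShriek.sectSupp, Set.mem_ofPred_eq, not_forall, not_not]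
  constructor
  · intro h
    obtain ⟨V, g, y, hy, he⟩ := (germ_eq_iff ξ F U z s 0).1 (h.trans (map_zero _).symm)
    exact ⟨V, g, ⟨ptOf y, (ptOf_map g y).trans (congrArg ptOf hy)⟩, he.trans (map_zero _)⟩
  · rintro ⟨V, g, ⟨v, hv⟩, he⟩
    obtain ⟨y, hy⟩ := exists_fiber_lift g z v hv
    exact ((germ_eq_iff ξ F U z s 0).2 ⟨V, g, y, hy, he.trans (map_zero _).symm⟩).trans (map_zero _)

theorem isClosed_sectSupp (F : EtCoh.Ab X) (U : X.Etale) (s : EtCoh.sect F U) :
    IsClosed (EtShriek.sectSupp F U s) := by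
  rw [← isOpen_compl_iff, isOpen_iff_forall_mem_open]
  intro x hx
  simp only [EtShriek.sectSupp, Set.mem_compl_iff, Set.mem_ofPred_eq, not_forall, not_not] at hx
  obtain ⟨W, g, ⟨w, rfl⟩, hg⟩ := hx
  have := etale_left g
  refine ⟨Set.range g.left.base, ?_, g.left.isOpenMap.isOpen_range, ⟨w, rfl⟩⟩
  rintro _ ⟨w', rfl⟩ h
  exact h W g ⟨w', rfl⟩ hg

theorem mem_supp_iff (F : EtCoh.Ab X) (x : X) (ξ : Spec (CommRingCat.of Ω) ⟶ X)
    (hξ : ξ.base default = x) :
    x ∈ EtPBC.supp F ↔ ∃ (U : X.Etale) (u : U.left) (s : EtCoh.sect F U),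
      U.hom.base u = x ∧ u ∈ EtShriek.sectSupp F U s := by
  constructor
  · rintro ⟨Ω', _, _, η, hη, hne⟩
    by_contra! h
    refine hne ((AddCommGrpCat.isZero_iff_subsingleton).2 (subsingleton_of_forall_eq 0 fun p => ?_))
    obtain ⟨U, z, s, rfl⟩ := germ_surjective η F p
    refine (germ_eq_zero_iff F z s).2 (h U (ptOf z) s ?_)
    have h1 := (Scheme.pointSmallEtaleFiberObjToPreimage η rfl z).2
    have h2 : η.base default = x := Set.mem_singleton_iff.mp (hη ▸ Set.mem_range_self _)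
    exact h1.trans h2
  · rintro ⟨U, u, s, hu, hs⟩
    obtain ⟨z, hz⟩ := exists_fiber_over u ξ (hξ.trans hu.symm)
    refine ⟨Ω, inferInstance, inferInstance, ξ, ?_, fun h0 => ?_⟩
    · rw [← hξ]
      ext a
      constructor
      · rintro ⟨y, rfl⟩
        exact congrArg ξ.base (Subsingleton.elim y default)
      · rintro rfl
        exact ⟨default, rfl⟩
    · have := (AddCommGrpCat.isZero_iff_subsingleton).1 h0
      exact (germ_eq_zero_iff F z s).1 (Subsingleton.elim _ _) (hz ▸ hs)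

theorem supp_eq_iUnion (F : EtCoh.Ab X) :
    EtPBC.supp F = ⋃ (U : X.Etale) (σ : EtCoh.sect F U), U.hom.base '' EtShriek.sectSupp F U σ := by
  ext x
  rw [mem_supp_iff F x (geomPt x) (geomPt_base x)]
  simp only [Set.mem_iUnion, Set.mem_image]
  exact ⟨fun ⟨U, u, s, h1, h2⟩ => ⟨U, s, u, h2, h1⟩, fun ⟨U, s, u, h2, h1⟩ => ⟨U, u, s, h1, h2⟩⟩

theorem map_eq_zero_iff_range_subset (F : EtCoh.Ab X) {U V : X.Etale} (s : EtCoh.sect F U)
    (φ : V ⟶ U) : F.obj.map φ.op s = 0 ↔ Set.range φ.left.base ⊆ (EtShriek.sectSupp F U s)ᶜ := by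
  constructor
  · rintro h _ ⟨v, rfl⟩ hv
    exact hv V φ ⟨v, rfl⟩ h
  · intro h
    refine sect_ext _ _ fun Ω _ _ ξ z => ?_
    have hz : ptOf ((Scheme.pointSmallEtale ξ).fiber.map φ z) ∉ EtShriek.sectSupp F U s :=
      h ⟨ptOf z, ptOf_map φ z⟩
    have h2 := (Scheme.pointSmallEtale ξ).toPresheafFiber_w_apply φ z F.obj s
    exact (h2.trans ((germ_eq_zero_iff F _ s).2 hz)).trans (map_zero _).symm

end Groth.Agent.H18Et
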