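import Groth.Agent.H18Et.ExtZeroStalk
import Groth.Agent.H18Et.Support

/-!
# The counit of extension by zero on stalks
-/

set_option autoImplicit false

universe u

open CategoryTheory CategoryTheory.Limits AlgebraicGeometry Opposite

namespace Groth.Agent.H18Et.ExtZeroStalk

set_option backward.isDefEq.respectTransparency false
set_option backward.isDefEq.respectTransparency.types false

variable {U X : Scheme.{u}} {j : U ⟶ X} [Etale j] [EtShriek.JCont j]
  {Ω : Type u} [Field Ω] [IsSepClosed Ω] {ξ : Spec (CommRingCat.of Ω) ⟶ X} (v : Pts j ξ) (G : EtCoh.Ab X)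

/-- The comparison from a stalk of the restriction. -/
noncomputable def alpha : (EtCoh.stalk v.1).obj ((EtShriek.restrAlong j).obj G) ⟶ (EtCoh.stalk ξ).obj G :=
  ((skyAdj v.1).homEquiv _ _).symm
    ((EtShriek.restrAlong j).map ((skyAdj ξ).unit.app G) ≫ (proj j ξ v).app _)

theorem theta_counit :
    theta j ξ _ v ((EtCoh.stalk ξ).map ((EtShriek.extZeroAdj j).counit.app G)) = alpha v G := by
  have h1 : (skyAdj ξ).homEquiv _ _ ((EtCoh.stalk ξ).map ((EtShriek.extZeroAdj j).counit.app G)) =
      (EtShriek.extZeroAdj j).counit.app G ≫ (skyAdj ξ).unit.app G := by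
    rw [Adjunction.homEquiv_unit]
    exact ((skyAdj ξ).unit.naturality _).symm
  rw [theta, alpha]
  erw [h1, Adjunction.homEquiv_naturality_right, Adjunction.homEquiv_unit]
  erw [(EtShriek.extZeroAdj j).right_triangle_components, Category.id_comp]
  rfl

theorem alpha_germ {W : U.Etale} (y : (Scheme.pointSmallEtale v.1).fiber.obj W)
    (s : EtCoh.sect G ((EtShriek.compEtale j).obj W)) :
    alpha v G (germ v.1 ((EtShriek.restrAlong j).obj G) W y s) =
      germ ξ G ((EtShriek.compEtale j).obj W) (toFib v y) s := by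
  rw [← ConcreteCategory.comp_apply]
  refine ConcreteCategory.congr_hom ?_ s
  rw [alpha]
  erw [(Scheme.pointSmallEtale v.1).skyscraperSheafAdjunction_homEquiv_symm_apply]
  refine ((Scheme.pointSmallEtale v.1).toPresheafFiber_skyscraperPresheafHomEquiv_symm
    (((EtShriek.restrAlong j).map ((skyAdj ξ).unit.app G) ≫ (proj j ξ v).app _).hom) W y).trans ?_
  refine (Category.assoc _ _ _).trans ((congrArg (_ ≫ ·) (Pi.lift_π _ y)).trans ?_)
  refine (Pi.lift_π _ (toFib v y)).trans ?_
  exact Category.comp_id _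

theorem alpha_bijective : Function.Bijective (alpha v G) := by
  refine ⟨?_, fun p => ?_⟩
  · rw [injective_iff_map_eq_zero]
    intro p hp
    obtain ⟨W, y, s, rfl⟩ := germ_surjective v.1 _ p
    rw [alpha_germ] at hp
    obtain ⟨V, g, z, hz, he⟩ := (germ_eq_iff ξ G _ (toFib v y) s 0).1 (hp.trans (map_zero _).symm)
    let L := EtShriek.compEtaleLift j g
    let b : L.1 ⟶ W := MorphismProperty.Over.homMk g.left rfl
    have hb : (EtShriek.compEtale j).map b = L.2.hom ≫ g :=
      MorphismProperty.Over.Hom.ext (Category.id_comp g.left).symm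
    have hzl : z.left ≫ g.left = y.left := congrArg (fun t => t.left) hz
    refine ((germ_eq_iff v.1 ((EtShriek.restrAlong j).obj G) W y s 0).2
      ⟨L.1, b, Over.homMk z.left ?_, Over.OverMorphism.ext hzl, ?_⟩).trans (map_zero _)
    · show z.left ≫ g.left ≫ W.hom = v.1
      rw [← Category.assoc, hzl]
      exact Over.w y
    · show G.obj.map ((EtShriek.compEtale j).map b).op s = G.obj.map ((EtShriek.compEtale j).map b).op 0
      rw [hb, op_comp, Functor.map_comp, ConcreteCategory.comp_apply, ConcreteCategory.comp_apply, he]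
  · obtain ⟨Z, x, s, rfl⟩ := germ_surjective ξ G p
    let W : U.Etale := (EtCoh.bc j).obj Z
    let g : (EtShriek.compEtale j).obj W ⟶ Z :=
      MorphismProperty.Over.homMk (pullback.fst Z.hom j) pullback.condition
    let y : (Scheme.pointSmallEtale v.1).fiber.obj W :=
      Over.homMk (pullback.lift x.left v.1 ((Over.w x).trans v.2.symm)) (pullback.lift_snd _ _ _)
    refine ⟨germ v.1 ((EtShriek.restrAlong j).obj G) W y (G.obj.map g.op s), (alpha_germ v G y _).trans ?_⟩
    have hx : (Scheme.pointSmallEtale ξ).fiber.map g (toFib v y) = x :=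
      Over.OverMorphism.ext (pullback.lift_fst _ _ _)
    rw [← hx]
    exact (Scheme.pointSmallEtale ξ).toPresheafFiber_w_apply g (toFib v y) G.obj s

variable (j ξ) in
theorem isZero_stalk_extZero [IsEmpty (Pts j ξ)] (F : EtCoh.Ab U) :
    IsZero ((EtCoh.stalk ξ).obj ((EtShriek.extZero j).obj F)) := by
  rw [IsZero.iff_id_eq_zero]
  exact theta_ext j ξ F fun v => isEmptyElim v

theorem isIso_theta_id [Subsingleton (Pts j ξ)] (F : EtCoh.Ab U) : IsIso (theta j ξ F v (𝟙 _)) := by
  obtain ⟨k, hk⟩ := exists_theta j ξ (M := (EtCoh.stalk v.1).obj F)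
    (fun w => eqToHom (by rw [Subsingleton.elim w v]))
  have hv : theta j ξ F v k = 𝟙 _ := (hk v).trans (eqToHom_refl _ _)
  refine ⟨k, ?_, theta_ext j ξ F fun w => ?_⟩
  · rw [← theta_comp, Category.id_comp, hv]
  · obtain rfl := Subsingleton.elim w v
    rw [theta_comp, hv, Category.id_comp]

include v in
theorem isIso_stalk_counit [Subsingleton (Pts j ξ)] :
    IsIso ((EtCoh.stalk ξ).map ((EtShriek.extZeroAdj j).counit.app G)) := by
  haveI : IsIso (alpha v G) := (ConcreteCategory.isIso_iff_bijective _).2 (alpha_bijective v G)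
  haveI := isIso_theta_id v ((EtShriek.restrAlong j).obj G)
  haveI : IsIso (theta j ξ _ v (𝟙 _) ≫ (EtCoh.stalk ξ).map ((EtShriek.extZeroAdj j).counit.app G)) := by
    rw [← theta_comp, Category.id_comp, theta_counit]
    infer_instance
  exact IsIso.of_isIso_comp_left (theta j ξ _ v (𝟙 _)) _

end Groth.Agent.H18Et.ExtZeroStalk
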