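import Groth.Agent.H18Et.PushClosed

/-!
# Lifting etale neighbourhoods along immersions
-/

universe u

open CategoryTheory CategoryTheory.Limits AlgebraicGeometry Opposite

namespace Groth.Agent.H18Et

variable {Z W X : Scheme.{u}}

theorem liftsEtale_comp_isOpenImmersion (i : Z ⟶ W) (hi : LiftsEtale i) (j : W ⟶ X)
    [IsOpenImmersion j] : LiftsEtale (i ≫ j) := by
  intro U p hp u
  obtain ⟨V, q, hq, a, ha, w, hw⟩ := hi p hp u
  let r : pullback (q ≫ j) (i ≫ j) ⟶ pullback q i :=
    pullback.lift (pullback.fst _ _) (pullback.snd _ _) (by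
      rw [← cancel_mono j, Category.assoc, Category.assoc]; exact pullback.condition)
  let s : pullback q i ⟶ pullback (q ≫ j) (i ≫ j) :=
    pullback.lift (pullback.fst _ _) (pullback.snd _ _) (by rw [pullback.condition_assoc])
  have hsr : s ≫ r = 𝟙 _ := pullback.hom_ext
    ((Category.assoc _ _ _).trans ((congrArg (s ≫ ·) (pullback.lift_fst _ _ _)).trans
      ((pullback.lift_fst _ _ _).trans (Category.id_comp _).symm)))
    ((Category.assoc _ _ _).trans ((congrArg (s ≫ ·) (pullback.lift_snd _ _ _)).trans
      ((pullback.lift_snd _ _ _).trans (Category.id_comp _).symm)))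
  refine ⟨V, q ≫ j, inferInstance, r ≫ a, ?_, s.base w, ?_⟩
  · rw [Category.assoc, ha]
    exact pullback.lift_snd _ _ _
  · exact (Scheme.Hom.comp_apply _ _ _).symm.trans
      ((congrArg (fun k : pullback q i ⟶ U => k.base w)
        ((Category.assoc s r a).symm.trans
          ((congrArg (· ≫ a) hsr).trans (Category.id_comp a)))).trans hw)

theorem liftsEtale_of_isImmersion (f : Z ⟶ X) [IsImmersion f] : LiftsEtale f := by
  have : LiftsEtale (f.liftCoborder ≫ f.coborderRange.ι) :=
    liftsEtale_comp_isOpenImmersion f.liftCoborder (liftsEtale_of_isClosedImmersion _)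
      f.coborderRange.ι
  rwa [Scheme.Hom.liftCoborder_ι] at this

theorem liftsEtaleUniv_of_isImmersion (f : Z ⟶ X) [IsImmersion f] : LiftsEtaleUniv f :=
  fun _ _ => liftsEtale_of_isImmersion _

end Groth.Agent.H18Et
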