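import Groth.Agent.H18Et.Stalk
import Groth.Agent.H18Et.Germ
import Groth.Prelude.Def_EtCore
import Mathlib.AlgebraicGeometry.Morphisms.UniversallyOpen

/-!
# Sections of constant sheaves on the small etale site
-/

set_option backward.isDefEq.respectTransparency false
set_option backward.isDefEq.respectTransparency.types false

universe u

open CategoryTheory CategoryTheory.Limits AlgebraicGeometry Opposite

namespace Groth.Agent.H18Et.ConstSheaf

variable {X : Scheme.{u}}

section Generic

variable {A : Type (u + 2)} [Category.{u + 1} A] [HasColimitsOfSize.{u, u} A]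
  {FA : A → A → Type*} {CA : A → Type (u + 1)} [∀ P Q, FunLike (FA P Q) (CA P) (CA Q)]
  [ConcreteCategory.{u + 1} A FA] [PreservesFilteredColimitsOfSize.{u, u} (CategoryTheory.forget A)]
  [X.smallEtaleTopology.HasSheafCompose (CategoryTheory.forget A)]

set_option linter.unusedSectionVars false

/-- The restriction of a global section. -/
noncomputable abbrev rest (F : Sheaf X.smallEtaleTopology A) (U : X.Etale)
    (s : ToType (F.obj.obj (op (EtCoh.top X)))) : ToType (F.obj.obj (op U)) :=
  F.obj.map ((EtCore.topIsTerminal X).from U).op s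

theorem map_rest (F : Sheaf X.smallEtaleTopology A) {U V : X.Etale} (g : V ⟶ U)
    (s : ToType (F.obj.obj (op (EtCoh.top X)))) : F.obj.map g.op (rest F U s) = rest F V s := by
  rw [rest, rest, ← ConcreteCategory.comp_apply, ← F.obj.map_comp, ← op_comp,
    (EtCore.topIsTerminal X).hom_ext (g ≫ _) ((EtCore.topIsTerminal X).from V)]

/-- `c` presents `F` as the constant sheaf on its indexing type. -/
def IsConstant (F : Sheaf X.smallEtaleTopology A) {M : Type*}
    (c : M → ToType (F.obj.obj (op (EtCoh.top X)))) : Prop :=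
  ∀ (Ω : Type u) [Field Ω] [IsSepClosed Ω] (ξ : Spec (CommRingCat.of Ω) ⟶ X) (U : X.Etale)
    (x : (Scheme.pointSmallEtale ξ).fiber.obj U), Function.Bijective fun m => germ ξ F U x (rest F U (c m))

variable {F : Sheaf X.smallEtaleTopology A} {M : Type*}
  {c : M → ToType (F.obj.obj (op (EtCoh.top X)))} (h : IsConstant F c)

/-- The locus where a section is the constant `m`. -/
def locus (_h : IsConstant F c) {U : X.Etale} (s : ToType (F.obj.obj (op U))) (m : M) : Set U.left :=
  {x | ∃ (V : X.Etale) (g : V ⟶ U), x ∈ Set.range g.left.base ∧ F.obj.map g.op s = rest F V (c m)}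

theorem isOpen_locus {U : X.Etale} (s : ToType (F.obj.obj (op U))) (m : M) :
    IsOpen (locus h s m) := by
  refine isOpen_iff_forall_mem_open.2 fun x ⟨V, g, hx, e⟩ => ⟨_, fun y hy => ⟨V, g, hy, e⟩, ?_, hx⟩
  exact g.left.isOpenMap.isOpen_range

theorem exists_mem_locus {U : X.Etale} (s : ToType (F.obj.obj (op U))) (x : U.left) :
    ∃ m, x ∈ locus h s m := by
  obtain ⟨y, hy⟩ := exists_fiber_over x (geomPt (U.hom.base x)) (geomPt_base _)
  obtain ⟨m, hm⟩ := (h _ (geomPt (U.hom.base x)) U y).2 (germ _ F U y s)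
  obtain ⟨V, g, z, hz, e⟩ := (germ_eq_iff _ F U y _ _).1 hm
  refine ⟨m, V, g, ⟨ptOf z, ?_⟩, ?_⟩
  · rw [ptOf_map, hz, hy]
  · rw [← e, map_rest]

include h in
theorem eq_of_rest_eq {U : X.Etale} (x : U.left) {m m' : M}
    (e : rest F U (c m) = rest F U (c m')) : m = m' := by
  obtain ⟨y, -⟩ := exists_fiber_over x (geomPt (U.hom.base x)) (geomPt_base _)
  exact (h _ (geomPt (U.hom.base x)) U y).1 (congrArg (germ _ F U y) e)

theorem locus_unique {U : X.Etale} (s : ToType (F.obj.obj (op U))) {x : U.left} {m m' : M}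
    (hm : x ∈ locus h s m) (hm' : x ∈ locus h s m') : m = m' := by
  obtain ⟨V, g, ⟨v, hv⟩, e⟩ := hm
  obtain ⟨V', g', ⟨v', hv'⟩, e'⟩ := hm'
  haveI : Etale g.left := inferInstance
  haveI : Etale g'.left := inferInstance
  haveI : Etale V.hom := V.prop
  obtain ⟨w, hw, -⟩ := Scheme.Pullback.exists_preimage_pullback v v' (hv.trans hv'.symm)
  let W : X.Etale := MorphismProperty.Over.mk ⊤ (pullback.fst g.left g'.left ≫ V.hom)
    (inferInstanceAs (Etale _))
  let a : W ⟶ V := MorphismProperty.Over.homMk (pullback.fst g.left g'.left) rfl trivial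
  let b : W ⟶ V' := MorphismProperty.Over.homMk (pullback.snd g.left g'.left) (by
    exact (congrArg (pullback.snd g.left g'.left ≫ ·) (Over.w g'.hom).symm).trans
      (((pullback.condition_assoc U.hom).symm).trans
        (congrArg (pullback.fst g.left g'.left ≫ ·) (Over.w g.hom)))) trivial
  have hab : a ≫ g = b ≫ g' := MorphismProperty.Over.Hom.ext pullback.condition
  refine eq_of_rest_eq h (U := W) w ?_
  rw [← map_rest F a, ← map_rest F b, ← e, ← e', ← ConcreteCategory.comp_apply,
    ← ConcreteCategory.comp_apply, ← F.obj.map_comp, ← F.obj.map_comp, ← op_comp, ← op_comp, hab]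

theorem eq_rest {U : X.Etale} (s : ToType (F.obj.obj (op U))) (m : M)
    (hm : ∀ x, x ∈ locus h s m) : s = rest F U (c m) := by
  refine sect_ext s _ fun Ω _ _ ξ y => ?_
  obtain ⟨m', hm'⟩ := (h Ω ξ U y).2 (germ ξ F U y s)
  obtain ⟨V, g, z, hz, e⟩ := (germ_eq_iff _ F U y _ _).1 hm'
  have : ptOf y ∈ locus h s m' := ⟨V, g, ⟨ptOf z, by rw [ptOf_map, hz]⟩, by rw [← e, map_rest]⟩
  rw [← locus_unique h s this (hm _)]
  exact hm'.symm

theorem isClopen_locus {U : X.Etale} (s : ToType (F.obj.obj (op U))) (m : M) :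
    IsClopen (locus h s m) := by
  refine ⟨isOpen_compl_iff.1 (isOpen_iff_forall_mem_open.2 fun x hx => ?_), isOpen_locus h s m⟩
  obtain ⟨m', hm'⟩ := exists_mem_locus h s x
  exact ⟨_, fun y hy hy' => hx (locus_unique h s hy hy' ▸ hm'), isOpen_locus h s m', hm'⟩

variable [HasWeakSheafify X.smallEtaleTopology A]

/-- The global sections of a constant sheaf given by the elements of its value. -/
noncomputable abbrev unitTop (M : A) :
    ToType M → ToType (((constantSheaf X.smallEtaleTopology A).obj M).obj.obj (op (EtCoh.top X))) :=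
  fun m => (toSheafify X.smallEtaleTopology ((Functor.const X.Etaleᵒᵖ).obj M)).app (op (EtCoh.top X)) m

theorem rest_unitTop (M : A) (U : X.Etale) (m : ToType M) :
    rest ((constantSheaf X.smallEtaleTopology A).obj M) U (unitTop M m) =
      (toSheafify X.smallEtaleTopology ((Functor.const X.Etaleᵒᵖ).obj M)).app (op U) m :=
  ((NatTrans.naturality_apply (toSheafify X.smallEtaleTopology ((Functor.const X.Etaleᵒᵖ).obj M))
    ((EtCore.topIsTerminal X).from U).op m).symm).trans
    (congrArg _ (ConcreteCategory.id_apply m))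

theorem isConstant_unitTop [X.smallEtaleTopology.WEqualsLocallyBijective A]
    [HasProducts.{u} A] (M : A) :
    IsConstant ((constantSheaf X.smallEtaleTopology A).obj M) (unitTop (X := X) M) := by
  intro Ω _ _ ξ U x
  let Φ := Scheme.pointSmallEtale ξ
  let P := (Functor.const X.Etaleᵒᵖ).obj M
  have hb : Function.Bijective fun m : ToType M => Φ.toPresheafFiber U x P m := by
    refine ⟨fun m m' e => ?_, fun p => ?_⟩
    · obtain ⟨V, g, y, -, e'⟩ := (Φ.toPresheafFiber_eq_iff' (P := P) U x m m').1 e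
      exact (ConcreteCategory.id_apply m).symm.trans (e'.trans (ConcreteCategory.id_apply m'))
    · obtain ⟨V, y, m, rfl⟩ := Φ.toPresheafFiber_jointly_surjective (P := P) p
      obtain ⟨⟨W, w⟩, ⟨a, ha⟩, ⟨b, hb⟩, -⟩ := IsCofilteredOrEmpty.cone_objs
        (C := Φ.fiber.Elements) ⟨V, y⟩ ⟨U, x⟩
      dsimp at a b ha hb
      refine ⟨m, ?_⟩
      dsimp only
      rw [← ha, ← hb]
      exact (Φ.toPresheafFiber_w_apply b w P m).symm.trans (Φ.toPresheafFiber_w_apply a w P m)
  have he : Function.Bijective (Φ.presheafFiber.map (toSheafify X.smallEtaleTopology P)) :=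
    ConcreteCategory.bijective_of_isIso _
  have key : (fun m => germ ξ ((constantSheaf X.smallEtaleTopology A).obj M) U x
      (rest ((constantSheaf X.smallEtaleTopology A).obj M) U (unitTop M m))) =
      Φ.presheafFiber.map (toSheafify X.smallEtaleTopology P) ∘
        fun m => Φ.toPresheafFiber U x P m := funext fun m => by
    rw [rest_unitTop]
    exact (Φ.toPresheafFiber_naturality_apply (toSheafify X.smallEtaleTopology P) U x m).symm
  rw [key]
  exact he.comp hb

end Generic

/-- The map from the final object to its base change. -/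
noncomputable def toBcTop {Y : Scheme.{u}} (f : X ⟶ Y) :
    EtCoh.top X ⟶ (EtCoh.bc f).obj (EtCoh.top Y) :=
  MorphismProperty.Over.homMk
    (pullback.lift f (𝟙 X) ((Category.comp_id _).trans (Category.id_comp _).symm))
    (pullback.lift_snd _ _ _) trivial

/-- The inverse image of a sheaf presented as constant. -/
noncomputable def pullSec {Y : Scheme.{u}} (f : X ⟶ Y) (G : EtCoh.Ab Y)
    (s : EtCoh.sect G (EtCoh.top Y)) :
    EtCoh.sect ((EtCoh.pull f).obj G) (EtCoh.top X) :=
  ((EtCoh.pull f).obj G).obj.map (toBcTop f).op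
    (((EtCoh.pullPushAdj f).unit.app G).hom.app (op (EtCoh.top Y)) s)

theorem germ_map {Ω : Type u} [Field Ω] [IsSepClosed Ω] (ξ : Spec (CommRingCat.of Ω) ⟶ X)
    (F : EtCoh.Ab X) {U V : X.Etale} (g : V ⟶ U) (y : (Scheme.pointSmallEtale ξ).fiber.obj V)
    (s : EtCoh.sect F U) :
    germ ξ F V y (F.obj.map g.op s) = germ ξ F U ((Scheme.pointSmallEtale ξ).fiber.map g y) s :=
  (Scheme.pointSmallEtale ξ).toPresheafFiber_w_apply g y F.obj s

theorem germ_rest_top {Ω : Type u} [Field Ω] [IsSepClosed Ω] (ξ : Spec (CommRingCat.of Ω) ⟶ X)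
    (F : EtCoh.Ab X) (z : (Scheme.pointSmallEtale ξ).fiber.obj (EtCoh.top X))
    (s : EtCoh.sect F (EtCoh.top X)) :
    germ ξ F (EtCoh.top X) z (rest F (EtCoh.top X) s) = germ ξ F (EtCoh.top X) z s := by
  refine (germ_map ξ F _ z s).trans ?_
  refine congrArg (fun w => germ ξ F (EtCoh.top X) w s) ?_
  refine (congrArg (fun g => (Scheme.pointSmallEtale ξ).fiber.map g z)
    ((EtCore.topIsTerminal X).hom_ext _ (𝟙 _))).trans ?_
  exact ConcreteCategory.congr_hom ((Scheme.pointSmallEtale ξ).fiber.map_id _) z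

theorem germ_rest {Ω : Type u} [Field Ω] [IsSepClosed Ω] (ξ : Spec (CommRingCat.of Ω) ⟶ X)
    (F : EtCoh.Ab X) (U : X.Etale) (x : (Scheme.pointSmallEtale ξ).fiber.obj U)
    (s : EtCoh.sect F (EtCoh.top X)) :
    germ ξ F U x (rest F U s) = germ ξ F (EtCoh.top X)
      ((Scheme.pointSmallEtale ξ).fiber.map ((EtCore.topIsTerminal X).from U) x) s :=
  germ_map ξ F _ x s

theorem germ_pullSec {Y : Scheme.{u}} (f : X ⟶ Y) (G : EtCoh.Ab Y) {Ω : Type u} [Field Ω]
    [IsSepClosed Ω] (ξ : Spec (CommRingCat.of Ω) ⟶ X)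
    (x : (Scheme.pointSmallEtale ξ).fiber.obj (EtCoh.top X)) (s : EtCoh.sect G (EtCoh.top Y)) :
    germ ξ ((EtCoh.pull f).obj G) (EtCoh.top X) x (pullSec f G s) =
      (stalkPullIso f ξ).inv.app G (germ (ξ ≫ f) G (EtCoh.top Y)
        ((fiberCompIso f ξ).hom.app (EtCoh.top Y)
          ((Scheme.pointSmallEtale ξ).fiber.map (toBcTop f) x)) s) := by
  refine Eq.trans ?_ (stalkPullIso_inv_germ f ξ G _ _ s).symm
  refine (germ_map ξ ((EtCoh.pull f).obj G) (toBcTop f) x _).trans ?_
  refine congrArg (fun w => germ ξ ((EtCoh.pull f).obj G) _ w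
    (((EtCoh.pullPushAdj f).unit.app G).hom.app (op (EtCoh.top Y)) s)) ?_
  exact (ConcreteCategory.congr_hom ((fiberCompIso f ξ).hom_inv_id_app (EtCoh.top Y)) _).symm

theorem isConstant_pullSec {Y : Scheme.{u}} (f : X ⟶ Y) {G : EtCoh.Ab Y} {M : Type*}
    {c : M → EtCoh.sect G (EtCoh.top Y)} (h : IsConstant G c) :
    IsConstant ((EtCoh.pull f).obj G) (fun m => pullSec f G (c m)) := by
  intro Ω _ _ ξ U x
  let z := (fiberCompIso f ξ).hom.app (EtCoh.top Y) ((Scheme.pointSmallEtale ξ).fiber.map (toBcTop f)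
    ((Scheme.pointSmallEtale ξ).fiber.map ((EtCore.topIsTerminal X).from U) x))
  have key : (fun m => germ ξ ((EtCoh.pull f).obj G) U x
        (rest ((EtCoh.pull f).obj G) U (pullSec f G (c m)))) =
      (fun p => (stalkPullIso f ξ).inv.app G p) ∘ fun m =>
        germ (ξ ≫ f) G (EtCoh.top Y) z (rest G (EtCoh.top Y) (c m)) := funext fun m =>
    (germ_rest ξ _ U x _).trans ((germ_pullSec f G ξ _ (c m)).trans
      (congrArg (fun p => (stalkPullIso f ξ).inv.app G p)
        (germ_rest_top (ξ ≫ f) G z (c m)).symm))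
  rw [key]
  exact (ConcreteCategory.bijective_of_isIso ((stalkPullIso f ξ).inv.app G)).comp
    (h Ω (ξ ≫ f) (EtCoh.top Y) z)

theorem unit_rest {Y : Scheme.{u}} (f : X ⟶ Y) (G : EtCoh.Ab Y) (W : Y.Etale)
    (s : EtCoh.sect G (EtCoh.top Y)) :
    ((EtCoh.pullPushAdj f).unit.app G).hom.app (op W) (rest G W s) =
      rest ((EtCoh.pull f).obj G) ((EtCoh.bc f).obj W) (pullSec f G s) := by
  have e : (EtCore.topIsTerminal X).from ((EtCoh.bc f).obj W) ≫ toBcTop f =
      (EtCoh.bc f).map ((EtCore.topIsTerminal Y).from W) :=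
    MorphismProperty.Over.Hom.ext (by
      haveI : IsIso (pullback.snd (𝟙 Y) f) := inferInstance
      refine (cancel_mono (pullback.snd (𝟙 Y) f)).1 ?_
      exact (Over.w ((EtCore.topIsTerminal X).from ((EtCoh.bc f).obj W) ≫ toBcTop f).hom).trans
        (Over.w ((EtCoh.bc f).map ((EtCore.topIsTerminal Y).from W)).hom).symm)
  refine (ConcreteCategory.congr_hom
    (((EtCoh.pullPushAdj f).unit.app G).hom.naturality ((EtCore.topIsTerminal Y).from W).op) s).trans ?_
  refine Eq.trans ?_ (ConcreteCategory.congr_hom (((EtCoh.pull f).obj G).obj.map_comp (toBcTop f).op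
    ((EtCore.topIsTerminal X).from ((EtCoh.bc f).obj W)).op)
    (((EtCoh.pullPushAdj f).unit.app G).hom.app (op (EtCoh.top Y)) s))
  rw [← op_comp, e]
  rfl

end Groth.Agent.H18Et.ConstSheaf
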