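import Groth.Agent.H18Et.PushClosed
import Mathlib.Algebra.Homology.ShortComplex.ExactFunctor

/-!
# Exactness of direct images along morphisms along which etale neighbourhoods lift
-/

universe u

open CategoryTheory CategoryTheory.Limits AlgebraicGeometry Opposite

namespace Groth.Agent.H18Et

variable {Z X : Scheme.{u}}

theorem push_preservesEpimorphisms {f : Z ⟶ X} (hf : LiftsEtaleUniv f)
    (hcl : IsClosed (Set.range f.base)) : (EtCoh.push f).PreservesEpimorphisms where
  preserves {F G} φ _ := epi_of_stalk _ fun x => by
    by_cases hx : x ∈ Set.range f.base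
    · obtain ⟨z, rfl⟩ := hx
      have : IsSepClosed (SeparableClosure (Z.residueField z)) := SeparableClosure.isSepClosed _
      refine ⟨_, _, ‹_›, geomPt z ≫ f, geomPt_comp_base f z, (AddCommGrpCat.epi_iff_surjective _).1 ?_⟩
      refine ((MorphismProperty.epimorphisms AddCommGrpCat.{u + 1}).arrow_mk_iso_iff
        (Arrow.isoMk ((pushStalkIso hf (geomPt z) AddCommGrpCat.{u + 1}).app F)
          ((pushStalkIso hf (geomPt z) AddCommGrpCat.{u + 1}).app G)
          ((pushStalkIso hf (geomPt z) AddCommGrpCat.{u + 1}).hom.naturality φ).symm)).2 ?_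
      exact (epi_iff_stalk φ).1 inferInstance _ (geomPt z)
    · have : IsSepClosed (SeparableClosure (X.residueField x)) := SeparableClosure.isSepClosed _
      refine ⟨_, _, ‹_›, geomPt x, geomPt_base x, ?_⟩
      have := subsingleton_stalk_push f hcl G (geomPt x) (by rwa [geomPt_base])
      exact Function.surjective_to_subsingleton _

theorem push_preservesFiniteColimits {f : Z ⟶ X} (hf : LiftsEtaleUniv f)
    (hcl : IsClosed (Set.range f.base)) : PreservesFiniteColimits (EtCoh.push f) := by
  have := push_preservesEpimorphisms hf hcl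
  have : (EtCoh.push f).IsRightAdjoint := ⟨_, ⟨EtCoh.pullPushAdj f⟩⟩
  refine ((EtCoh.push f).preservesFiniteColimits_tfae.out 0 3 rfl rfl).1 fun S hS => ?_
  have := hS.epi_g
  have := hS.mono_f
  refine ⟨?_, inferInstance⟩
  exact hS.exact.map_of_mono_of_preservesKernel (EtCoh.push f) inferInstance inferInstance

end Groth.Agent.H18Et
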