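import Groth.Agent.H18Et.IntegralSection
import Groth.Agent.H18Et.PushExact
import Groth.Prelude.Def_BigSite
import Mathlib.CategoryTheory.Sites.Abelian
import Mathlib.AlgebraicGeometry.Morphisms.QuasiFinite

/-!
# Conditions (A) and (B) for integral morphisms, and exactness of their direct images
-/

universe u

open CategoryTheory CategoryTheory.Limits AlgebraicGeometry Opposite

namespace Groth.Agent.H18Et

variable {X Y : Scheme.{u}}

set_option backward.isDefEq.respectTransparency.types false in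
theorem propB_of_isIntegralHom (f : X ⟶ Y) [IsIntegralHom f] : BigSite.PropB f := by
  intro V v _ ι U g hg hcov
  have : IsIntegralHom (pullback.snd f v) :=
    MorphismProperty.of_isPullback (P := @IsIntegralHom) (IsPullback.of_hasPullback f v) ‹_›
  have : IsZariskiLocalAtSource (EtCoh.etaleMP.{u}) := inferInstance
  have : Etale (Limits.Sigma.desc g) :=
    IsZariskiLocalAtSource.sigmaDesc (P := EtCoh.etaleMP.{u}) hg
  choose V' q hq hy a ha using fun y : V =>
    exists_etale_section (pullback.snd f v) (Limits.Sigma.desc g) y fun x _ => by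
      obtain ⟨i, p, hp⟩ := hcov x
      exact ⟨(Limits.Sigma.ι U i).base p, (Scheme.Hom.comp_apply _ _ _).symm.trans
        ((congrArg (fun k : U i ⟶ pullback f v => k.base p) (Sigma.ι_desc g i)).trans hp)⟩
  refine ⟨V, V', q, hq, fun y => ⟨y, hy y⟩, fun y => ?_⟩
  let m := pullback.map f (q y ≫ v) f v (𝟙 X) (q y) (𝟙 Y) (by simp) (by simp)
  let e : pullback f (q y ≫ v) ⟶ pullback (q y) (pullback.snd f v) :=
    pullback.lift (pullback.snd _ _) m (pullback.lift_snd _ _ _).symm
  let W : ι → (pullback f (q y ≫ v)).Opens := fun i => (e ≫ a y) ⁻¹ᵁ (Limits.Sigma.ι U i).opensRange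
  refine ⟨ι, W, fun i j hij => ?_, ?_, fun i => ?_⟩
  · refine TopologicalSpace.Opens.coe_disjoint.1 (Set.disjoint_left.2 fun p hp hp' => ?_)
    exact Set.disjoint_left.1
      (TopologicalSpace.Opens.coe_disjoint.2 (disjoint_opensRange_sigmaι U i j hij)) hp hp'
  · refine top_le_iff.1 fun p _ => ?_
    obtain ⟨i, w, hw⟩ := (sigmaOpenCover U).exists_eq ((e ≫ a y).base p)
    exact TopologicalSpace.Opens.mem_iSup.2 ⟨i, ⟨w, hw⟩⟩
  · let h := IsOpenImmersion.lift (Limits.Sigma.ι U i) ((W i).ι ≫ e ≫ a y) (by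
      rintro _ ⟨p, rfl⟩
      exact p.2)
    refine ⟨i, h, ?_⟩
    rw [← Sigma.ι_desc g i, ← Category.assoc, IsOpenImmersion.lift_fac, Category.assoc,
      Category.assoc, ha]
    exact congrArg ((W i).ι ≫ ·) (pullback.lift_snd _ _ _)

theorem locallyQuasiFinite_of_etale {U : Scheme.{u}} (g : U ⟶ X) [Etale g] : LocallyQuasiFinite g := by
  rw [HasRingHomProperty.iff_appLE (P := @LocallyQuasiFinite)]
  intro W O e
  have h := HasRingHomProperty.appLE @Etale g ‹_› W O e
  algebraize [(g.appLE W.1 O.1 e).hom]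
  exact (inferInstance : Algebra.QuasiFinite Γ(X, W.1) Γ(U, O.1))

theorem eq_of_specializes_of_isIntegralHom (f : X ⟶ Y) [IsIntegralHom f] {x z : X}
    (hf : f.base z = f.base x) (h : x ⤳ z) : z = x := by
  obtain ⟨W, hW, hzW, -⟩ := TopologicalSpace.Opens.isBasis_iff_nbhd.mp Y.isBasis_affineOpens
    (TopologicalSpace.Opens.mem_top (f.base z))
  have hXW : IsAffineOpen (f ⁻¹ᵁ W) := hW.preimage f
  have hzW' : z ∈ f ⁻¹ᵁ W := hzW
  have hxW' : x ∈ f ⁻¹ᵁ W := h.mem_open (f ⁻¹ᵁ W).2 hzW'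
  let px := hXW.primeIdealOf ⟨x, hxW'⟩
  let pz := hXW.primeIdealOf ⟨z, hzW'⟩
  have hsp : px ⤳ pz := by
    refine hXW.fromSpec.isOpenEmbedding.isInducing.specializes_iff.1 ?_
    rw [hXW.fromSpec_primeIdealOf, hXW.fromSpec_primeIdealOf]
    exact h
  have hle : px.asIdeal ≤ pz.asIdeal := (PrimeSpectrum.le_iff_specializes px pz).2 hsp
  let : Algebra Γ(Y, W) Γ(X, f ⁻¹ᵁ W) := (f.app W).hom.toAlgebra
  have : Algebra.IsIntegral Γ(Y, W) Γ(X, f ⁻¹ᵁ W) := ⟨f.isIntegral_app W hW⟩
  have hc : pz.comap (f.app W).hom = px.comap (f.app W).hom := by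
    have h1 := IsAffineOpen.comap_primeIdealOf_appLE (f := f) W hW (f ⁻¹ᵁ W) hXW le_rfl hzW'
    have h2 := IsAffineOpen.comap_primeIdealOf_appLE (f := f) W hW (f ⁻¹ᵁ W) hXW le_rfl hxW'
    rw [← Scheme.Hom.app_eq_appLE] at h1 h2
    rw [h1, h2]
    congr 1
    exact Subtype.ext hf
  have heq : pz = px := by
    rcases hle.lt_or_eq with hlt | heq
    · exact absurd (congrArg PrimeSpectrum.asIdeal hc.symm)
        (Ideal.IsIntegral.comap_lt_comap (R := Γ(Y, W)) hlt).ne
    · exact PrimeSpectrum.ext heq.symm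
  calc z = hXW.fromSpec.base pz := (hXW.fromSpec_primeIdealOf ⟨z, hzW'⟩).symm
    _ = hXW.fromSpec.base px := by rw [heq]
    _ = x := hXW.fromSpec_primeIdealOf ⟨x, hxW'⟩

set_option backward.isDefEq.respectTransparency.types false in
theorem propA_of_isIntegralHom (f : X ⟶ Y) [IsIntegralHom f] : BigSite.PropA f := by
  intro U g _ u
  have := locallyQuasiFinite_of_etale g
  have := (g.isDiscrete_preimage_singleton (g.base u)).to_subtype
  obtain ⟨U', hU'o, hU'⟩ := isOpen_induced_iff.1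
    (isOpen_discrete ({⟨u, rfl⟩} : Set ↥(g.base ⁻¹' {g.base u})))
  let U₁ : U.Opens := ⟨U', hU'o⟩
  have huU : u ∈ U₁ := (Set.ext_iff.1 hU' ⟨u, rfl⟩).2 rfl
  have huniq : ∀ p ∈ U₁, g.base p = g.base u → p = u := fun p hp hgp =>
    congrArg Subtype.val ((Set.ext_iff.1 hU' ⟨p, hgp⟩).1 hp)
  let O : X.Opens := ⟨(closure {g.base u})ᶜ, isClosed_closure.isOpen_compl⟩
  let F : ULift.{u} Bool → Scheme.{u} := fun b => if b.down then U₁.toScheme else O.toScheme
  let d : ∀ b, F b ⟶ X := fun b => match b with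
    | ⟨true⟩ => U₁.ι ≫ g
    | ⟨false⟩ => O.ι
  have hd : ∀ b, Etale (d b) := fun b => match b with
    | ⟨true⟩ => inferInstanceAs (Etale (U₁.ι ≫ g))
    | ⟨false⟩ => inferInstanceAs (Etale O.ι)
  have : IsZariskiLocalAtSource (EtCoh.etaleMP.{u}) := inferInstance
  have : Etale (Limits.Sigma.desc d) := IsZariskiLocalAtSource.sigmaDesc (P := EtCoh.etaleMP.{u}) hd
  obtain ⟨V, q, hq, hy, a, ha⟩ := exists_etale_section f (Limits.Sigma.desc d) (f.base (g.base u))
    fun x hx => by
      by_cases hxu : x = g.base u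
      · exact ⟨(Limits.Sigma.ι F ⟨true⟩).base ⟨u, huU⟩, (Scheme.Hom.comp_apply _ _ _).symm.trans
          ((congrArg (fun k => k.base (⟨u, huU⟩ : F ⟨true⟩)) (Sigma.ι_desc d ⟨true⟩)).trans hxu.symm)⟩
      · have hxO : x ∈ O := fun hmem => hxu
          (eq_of_specializes_of_isIntegralHom f hx (specializes_iff_mem_closure.2 hmem))
        exact ⟨(Limits.Sigma.ι F ⟨false⟩).base ⟨x, hxO⟩, (Scheme.Hom.comp_apply _ _ _).symm.trans
          (congrArg (fun k => k.base (⟨x, hxO⟩ : F ⟨false⟩)) (Sigma.ι_desc d ⟨false⟩))⟩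
  let k : pullback f q ⟶ ∐ F := (pullbackSymmetry f q).hom ≫ a
  have hk : k ≫ Limits.Sigma.desc d = pullback.fst f q := by
    rw [Category.assoc, ha]; exact pullbackSymmetry_hom_comp_snd f q
  let W : (pullback f q).Opens := k ⁻¹ᵁ (Limits.Sigma.ι F ⟨true⟩).opensRange
  have hW : IsClosed (W : Set ↥(pullback f q)) := by
    have : (W : Set ↥(pullback f q)) =
        ((k ⁻¹ᵁ (Limits.Sigma.ι F ⟨false⟩).opensRange : (pullback f q).Opens) : Set _)ᶜ := by
      ext p
      constructor
      · intro hp hp'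
        exact Set.disjoint_left.1 (TopologicalSpace.Opens.coe_disjoint.2
          (disjoint_opensRange_sigmaι F ⟨true⟩ ⟨false⟩ (by simp))) hp hp'
      · intro hp
        obtain ⟨⟨b⟩, w, hw⟩ := (sigmaOpenCover F).exists_eq (k.base p)
        cases b
        · exact absurd ⟨w, hw⟩ hp
        · exact ⟨w, hw⟩
    rw [this]
    exact (k ⁻¹ᵁ (Limits.Sigma.ι F ⟨false⟩).opensRange).2.isClosed_compl
  let h : W.toScheme ⟶ U₁.toScheme :=
    IsOpenImmersion.lift (Limits.Sigma.ι F ⟨true⟩) (W.ι ≫ k) (by rintro _ ⟨p, rfl⟩; exact p.2)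
  have hh : h ≫ U₁.ι ≫ g = W.ι ≫ pullback.fst f q := by
    refine Eq.trans ?_ (congrArg (W.ι ≫ ·) hk)
    refine Eq.trans ?_ (Category.assoc _ _ _)
    rw [← IsOpenImmersion.lift_fac (Limits.Sigma.ι F ⟨true⟩) (W.ι ≫ k)
      (by rintro _ ⟨p, rfl⟩; exact p.2), Category.assoc, Sigma.ι_desc]
  refine ⟨V, q, hq, W, hW, h ≫ U₁.ι, (Category.assoc _ _ _).trans hh, ?_⟩
  obtain ⟨v, hv⟩ := hy
  obtain ⟨p, hp, -⟩ := Scheme.Pullback.exists_preimage_pullback (f := f) (g := q) (g.base u) v hv.symm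
  have hkp : (Limits.Sigma.desc d).base (k.base p) = g.base u :=
    ((Scheme.Hom.comp_apply _ _ _).symm.trans (congrArg (fun e => e.base p) hk)).trans hp
  have hpW : p ∈ W := by
    obtain ⟨⟨b⟩, w, hw⟩ := (sigmaOpenCover F).exists_eq (k.base p)
    cases b
    · exfalso
      rw [← hw] at hkp
      have h2 : O.ι.base w = g.base u :=
        (congrArg (fun e => e.base w) (Sigma.ι_desc d ⟨false⟩)).symm.trans
          ((Scheme.Hom.comp_apply _ _ _).trans hkp)
      exact (h2 ▸ w.2 : g.base u ∈ O) (subset_closure rfl)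
    · exact ⟨w, hw⟩
  refine ⟨⟨p, hpW⟩, ?_⟩
  refine huniq _ (h.base ⟨p, hpW⟩).2 ?_
  exact ((Scheme.Hom.comp_apply _ _ _).symm.trans
    (congrArg (fun e => e.base (⟨p, hpW⟩ : W.toScheme)) ((Category.assoc _ _ _).trans hh))).trans hp

section Surjective

variable {A : Type*} [Category.{u + 1} A] [HasColimitsOfSize.{u, u} A]
  {FA : A → A → Type*} {CA : A → Type (u + 1)} [∀ P Q, FunLike (FA P Q) (CA P) (CA Q)]
  [ConcreteCategory.{u + 1} A FA] [PreservesFilteredColimitsOfSize.{u, u} (CategoryTheory.forget A)]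

theorem exists_of_mem_topology {U : X.Etale} {S : Sieve U} (hS : S ∈ X.smallEtaleTopology U)
    (u : U.left) : ∃ (V : X.Etale) (g : V ⟶ U) (v : V.left), S g ∧ g.left.base v = u := by
  have : IsSepClosed (SeparableClosure (X.residueField (U.hom.base u))) :=
    SeparableClosure.isSepClosed _
  obtain ⟨z, hz⟩ := exists_fiber_over u (geomPt (U.hom.base u)) (geomPt_base _)
  obtain ⟨V, g, hg, y, rfl⟩ := (Scheme.pointSmallEtale (geomPt (U.hom.base u))).jointly_surjective S hS z
  exact ⟨V, g, ptOf y, hg, (ptOf_map g y).trans hz⟩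

set_option backward.isDefEq.respectTransparency.types false in
/-- Under (B) direct image preserves local surjectivity. -/
theorem isLocallySurjective_push [X.smallEtaleTopology.HasSheafCompose (CategoryTheory.forget A)]
    [Y.smallEtaleTopology.HasSheafCompose (CategoryTheory.forget A)] (f : X ⟶ Y) (hB : BigSite.PropB f)
    {F G : Sheaf X.smallEtaleTopology A} (φ : F ⟶ G) [CategoryTheory.Sheaf.IsLocallySurjective φ] :
    CategoryTheory.Sheaf.IsLocallySurjective
      (((EtCoh.bc f).sheafPushforwardContinuous A Y.smallEtaleTopology X.smallEtaleTopology).map φ) := by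
  refine ⟨fun {V} t => mem_topology_of_forall_point _ fun y => ?_⟩
  have hsieve := Presheaf.imageSieve_mem X.smallEtaleTopology φ.hom (U := op ((EtCoh.bc f).obj V)) t
  let σ := pullbackSymmetry f V.hom
  choose U γ w hs hw using fun p : ↥(pullback f V.hom) =>
    exists_of_mem_topology hsieve (show ((EtCoh.bc f).obj V).left from σ.hom.base p)
  have : Etale V.hom := V.prop
  obtain ⟨κ, V', v', hv', hcov, hW⟩ := hB V.left V.hom ↥(pullback f V.hom) (fun p => (U p).left)
    (fun p => (γ p).left ≫ σ.inv) (fun p => by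
      have := etale_left (γ p); exact inferInstanceAs (Etale ((γ p).left ≫ σ.inv)))
    (fun p => ⟨p, w p, ((Scheme.Hom.comp_apply _ _ _).trans (congrArg σ.inv.base (hw p))).trans
      ((Scheme.Hom.comp_apply _ _ _).symm.trans
        (congrArg (fun e : pullback f V.hom ⟶ pullback f V.hom => e.base p) σ.hom_inv_id))⟩)
  obtain ⟨j, hj⟩ := hcov y
  obtain ⟨μ, W, hdisj, hsup, hfac⟩ := hW j
  have := hv' j
  let V'' : Y.Etale := MorphismProperty.Over.mk ⊤ (v' j ≫ V.hom) (inferInstanceAs (Etale (v' j ≫ V.hom)))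
  let h : V'' ⟶ V := MorphismProperty.Over.homMk (v' j) rfl trivial
  obtain ⟨y', hy'⟩ := hj
  refine ⟨V'', h, y', ?_, hy'⟩
  let τ := pullbackSymmetry f (v' j ≫ V.hom)
  let T := (EtCoh.bc f).obj V''
  let P : μ → X.Etale := fun a =>
    MorphismProperty.Over.mk ⊤ (((W a).ι ≫ τ.hom) ≫ T.hom) (by
      have : Etale T.hom := T.prop
      have : Etale ((W a).ι ≫ τ.hom) := inferInstance
      exact MorphismProperty.comp_mem _ _ _ this ‹Etale T.hom›)
  let π : ∀ a, P a ⟶ T := fun a => MorphismProperty.Over.homMk ((W a).ι ≫ τ.hom) rfl trivial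
  choose p b hb using hfac
  have hmap : τ.hom ≫ ((EtCoh.bc f).map h).left =
      pullback.map f (v' j ≫ V.hom) f V.hom (𝟙 X) (v' j) (𝟙 Y) (by simp) (by simp) ≫ σ.hom := by
    have h1 := (EtCoh.isPullback_bc_map f h).w
    have h2 : ((EtCoh.bc f).map h).left ≫ pullback.snd V.hom f = pullback.snd (v' j ≫ V.hom) f :=
      Over.w ((EtCoh.bc f).map h).hom
    refine pullback.hom_ext ?_ ?_
    · refine (Category.assoc _ _ _).trans ((congrArg (τ.hom ≫ ·) h1).trans ?_)
      refine Eq.trans ?_ ((Category.assoc _ _ _).trans (congrArg (_ ≫ ·)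
        (pullbackSymmetry_hom_comp_fst f V.hom))).symm
      refine Eq.trans ?_ (pullback.lift_snd _ _ _).symm
      exact (Category.assoc _ _ _).symm.trans
        (congrArg (· ≫ v' j) (pullbackSymmetry_hom_comp_fst f (v' j ≫ V.hom)))
    · refine (Category.assoc _ _ _).trans ((congrArg (τ.hom ≫ ·) h2).trans ?_)
      refine Eq.trans ?_ ((Category.assoc _ _ _).trans (congrArg (_ ≫ ·)
        (pullbackSymmetry_hom_comp_snd f V.hom))).symm
      refine Eq.trans ?_ (pullback.lift_fst _ _ _).symm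
      exact (pullbackSymmetry_hom_comp_snd f (v' j ≫ V.hom)).trans (Category.comp_id _).symm
  have hbσ : ∀ a, b a ≫ (γ (p a)).left = ((W a).ι ≫ τ.hom) ≫ ((EtCoh.bc f).map h).left := fun a =>
    (congrArg (b a ≫ ·) ((Category.assoc _ σ.inv σ.hom).trans
      ((congrArg ((γ (p a)).left ≫ ·) σ.inv_hom_id).trans (Category.comp_id _)))).symm.trans
      ((Category.assoc _ _ _).symm.trans ((congrArg (· ≫ σ.hom) (hb a)).trans
        ((Category.assoc _ _ _).trans ((congrArg ((W a).ι ≫ ·) hmap.symm).trans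
          (Category.assoc _ _ _).symm))))
  let β : ∀ a, P a ⟶ U (p a) := fun a => MorphismProperty.Over.homMk (b a) (by
    have h1 : (γ (p a)).left ≫ ((EtCoh.bc f).obj V).hom = (U (p a)).hom := Over.w (γ (p a)).hom
    have h2 : ((EtCoh.bc f).map h).left ≫ ((EtCoh.bc f).obj V).hom = T.hom :=
      Over.w ((EtCoh.bc f).map h).hom
    exact (congrArg (b a ≫ ·) h1.symm).trans ((Category.assoc _ _ _).symm.trans
      ((congrArg (· ≫ _) (hbσ a)).trans ((Category.assoc _ _ _).trans
        (congrArg (((W a).ι ≫ τ.hom) ≫ ·) h2))))) trivial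
  have hβ : ∀ a, β a ≫ γ (p a) = π a ≫ (EtCoh.bc f).map h := fun a =>
    (Scheme.Etale.forget _).map_injective (Over.OverMorphism.ext (hbσ a))
  choose s₀ hs₀ using hs
  let s : ∀ a, ToType (F.obj.obj (op (P a))) := fun a => F.obj.map (β a).op (s₀ (p a))
  have hgen : Sieve.generate (Presieve.ofArrows P π) ∈ X.smallEtaleTopology T := by
    refine mem_topology_of_forall_point _ fun x => ?_
    have hmem : τ.inv.base x ∈ ⨆ a, W a := by rw [hsup]; trivial
    obtain ⟨a, ha⟩ := TopologicalSpace.Opens.mem_iSup.1 hmem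
    refine ⟨P a, π a, ⟨τ.inv.base x, ha⟩, ⟨P a, 𝟙 _, π a, Presieve.ofArrows.mk a, Category.id_comp _⟩, ?_⟩
    exact (Scheme.Hom.comp_apply τ.inv τ.hom x).symm.trans
      (congrArg (fun e : T.left ⟶ T.left => e.base x) τ.inv_hom_id)
  have hsheaf : Presieve.IsSheafFor (F.obj ⋙ CategoryTheory.forget A) (Presieve.ofArrows P π) := by
    rw [Presieve.isSheafFor_iff_generate]
    exact ((isSheaf_iff_isSheaf_of_type _ _).1
      ((sheafCompose _ (CategoryTheory.forget A)).obj F).property) _ hgen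
  have hcomp : Presieve.Arrows.Compatible (F.obj ⋙ CategoryTheory.forget A) π s := by
    intro a a' Z ga ga' hZ
    by_cases haa : a = a'
    · subst haa
      have : ga = ga' := by
        apply (Scheme.Etale.forget _).map_injective
        apply Over.OverMorphism.ext
        exact (cancel_mono ((W a).ι ≫ τ.hom)).1 (congrArg (fun e => e.left) hZ)
      rw [this]
    · refine sect_ext' (F := F) (U := Z) _ _ fun x =>
        ⟨_, _, SeparableClosure.isSepClosed _, geomPt x, geomPt_base x, fun z => ?_⟩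
      exfalso
      have := congrArg (fun e => e.left.base (ptOf z)) hZ
      have h1 : (τ.hom.base ((W a).ι.base (ga.left.base (ptOf z)))) =
          τ.hom.base ((W a').ι.base (ga'.left.base (ptOf z))) := this
      have h2 := τ.hom.isOpenEmbedding.injective h1
      exact Set.disjoint_left.1 (TopologicalSpace.Opens.coe_disjoint.2 (hdisj a a' haa))
        (ga.left.base (ptOf z)).2 ((congrArg (· ∈ (W a' : Set _)) h2).mpr (ga'.left.base (ptOf z)).2)
  obtain ⟨S, hS, -⟩ := (Presieve.isSheafFor_arrows_iff _ _).1 hsheaf s hcomp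
  refine ⟨S, ?_⟩
  refine (((isSheaf_iff_isSheaf_of_type _ _).1
    ((sheafCompose _ (CategoryTheory.forget A)).obj G).property _ hgen).isSeparatedFor).ext ?_
  rintro Z k ⟨_, l, _, ⟨a⟩, rfl⟩
  change G.obj.map (l ≫ π a).op (φ.hom.app (op T) S) =
    G.obj.map (l ≫ π a).op (G.obj.map ((EtCoh.bc f).map h).op t)
  simp only [op_comp, Functor.map_comp, CategoryTheory.comp_apply]
  refine congrArg _ ?_
  refine (NatTrans.naturality_apply φ.hom (π a).op S).symm.trans ?_
  refine (congrArg (φ.hom.app (op (P a))) (hS a)).trans ?_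
  refine (NatTrans.naturality_apply φ.hom (β a).op (s₀ (p a))).trans ?_
  refine (congrArg (G.obj.map (β a).op) (hs₀ (p a))).trans ?_
  rw [← CategoryTheory.comp_apply, ← Functor.map_comp, ← op_comp, hβ, op_comp, Functor.map_comp,
    CategoryTheory.comp_apply]

end Surjective

end Groth.Agent.H18Et
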