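import Groth.Agent.H18Et.ExtZeroCounit
import Groth.Agent.H18Et.StalkSets

/-!
# Extension by zero along an open immersion
-/

set_option autoImplicit false

universe u

open CategoryTheory CategoryTheory.Limits AlgebraicGeometry Opposite

namespace Groth.Agent.H18Et.ExtZeroStalk

set_option backward.isDefEq.respectTransparency false
set_option backward.isDefEq.respectTransparency.types false

variable {U X : Scheme.{u}} {j : U ⟶ X} [Etale j] [EtShriek.JCont j] [IsOpenImmersion j]
  {Ω : Type u} [Field Ω] [IsSepClosed Ω] {ξ : Spec (CommRingCat.of Ω) ⟶ X}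

instance subsingleton_pts : Subsingleton (Pts j ξ) :=
  ⟨fun a b => Subtype.ext ((cancel_mono j).1 (a.2.trans b.2.symm))⟩

theorem isEmpty_pts (h : ξ default ∉ Set.range j) : IsEmpty (Pts j ξ) :=
  ⟨fun v => h ⟨v.1 default, by rw [← Scheme.Hom.comp_apply, v.2]⟩⟩

theorem nonempty_pts (h : ξ default ∈ Set.range j) : Nonempty (Pts j ξ) :=
  ⟨⟨IsOpenImmersion.lift j ξ (by
      rintro _ ⟨p, rfl⟩
      rw [Subsingleton.elim p default]
      exact h), IsOpenImmersion.lift_fac _ _ _⟩⟩

variable (ξ) in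
theorem isIso_stalk_counit_of_mem (G : EtCoh.Ab X) (h : ξ default ∈ Set.range j) :
    IsIso ((EtCoh.stalk ξ).map ((EtShriek.extZeroAdj j).counit.app G)) :=
  isIso_stalk_counit (nonempty_pts h).some G

variable (j ξ) in
theorem isZero_stalk_extZero_of_notMem (F : EtCoh.Ab U) (h : ξ default ∉ Set.range j) :
    IsZero ((EtCoh.stalk ξ).obj ((EtShriek.extZero j).obj F)) :=
  haveI := isEmpty_pts h
  isZero_stalk_extZero j ξ F

variable (j) in
theorem isIso_counit_of_stalk_isZero (G : EtCoh.Ab X)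
    (hzero : ∀ (Ω : Type u) [Field Ω] [IsSepClosed Ω] (ξ : Spec (CommRingCat.of Ω) ⟶ X),
      ξ default ∉ Set.range j → IsZero ((EtCoh.stalk ξ).obj G)) :
    IsIso ((EtShriek.extZeroAdj j).counit.app G) := by
  refine (isIso_iff_stalk _).2 fun Ω _ _ ξ => ?_
  by_cases h : ξ default ∈ Set.range j
  · exact isIso_stalk_counit_of_mem ξ G h
  · exact isIso_of_source_target_iso_zero _ (isZero_stalk_extZero_of_notMem j ξ _ h).isoZero
      (hzero Ω ξ h).isoZero

theorem eq_zero_of_stalk {F G : EtCoh.Ab X} (φ : F ⟶ G)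
    (h : ∀ (Ω : Type u) [Field Ω] [IsSepClosed Ω] (ξ : Spec (CommRingCat.of Ω) ⟶ X),
      (EtCoh.stalk ξ).map φ = 0) : φ = 0 := by
  refine ObjectProperty.hom_ext _ (NatTrans.ext (funext fun W => ?_))
  ext s
  refine sect_ext _ _ fun Ω _ _ ξ x => ?_
  rw [← germ_naturality, show (Scheme.pointSmallEtale ξ).sheafFiber.map φ = 0 from h Ω ξ]
  exact (map_zero (germ ξ G W.unop x).hom).symm

end Groth.Agent.H18Et.ExtZeroStalk
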