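import Groth.Prelude.Def_EtBase
import Mathlib.CategoryTheory.Preadditive.Injective.Basic
import Mathlib.CategoryTheory.Sites.Abelian

/-!
# Sections of injective sheaves extend along monomorphisms
-/

set_option autoImplicit false

universe u

open CategoryTheory CategoryTheory.Limits AlgebraicGeometry Opposite

namespace Groth.Agent.H18Et

set_option backward.isDefEq.respectTransparency false

/-- The underlying presheaf of an injective sheaf is injective. -/
theorem injective_presheaf {X : Scheme.{u}} (I : EtCoh.Ab X) [Injective I] : Injective I.obj :=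
  (sheafificationAdjunction X.smallEtaleTopology AddCommGrpCat.{u + 1}).map_injective I inferInstance

/-- Sections of an injective sheaf extend along monomorphisms of the site. -/
theorem surjective_map_of_injective {X : Scheme.{u}} (I : EtCoh.Ab X) [Injective I] {U V : X.Etale}
    (g : V ⟶ U) [Mono g] : Function.Surjective (I.obj.map g.op) := by
  intro x
  haveI := injective_presheaf I
  let L := (Functor.whiskeringRight X.Etaleᵒᵖ (Type (u + 1)) AddCommGrpCat.{u + 1}).obj AddCommGrpCat.free.{u + 1}
  let adj := AddCommGrpCat.adj.{u + 1}.whiskerRight X.Etaleᵒᵖ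
  let m := L.map ((uliftYoneda.{u + 1}).map g)
  haveI : ∀ W, Mono (((uliftYoneda.{u + 1}).map g).app W) := fun W => by
    rw [mono_iff_injective]
    intro a b h
    exact ULift.down_injective.eq_iff.1 ((cancel_mono g).1 (congrArg ULift.down h))
  haveI : ∀ W, Mono (m.app W) := fun W =>
    inferInstanceAs (Mono (AddCommGrpCat.free.{u + 1}.map (((uliftYoneda.{u + 1}).map g).app W)))
  haveI : Mono m := NatTrans.mono_of_mono_app m
  let φ := (adj.homEquiv _ I.obj).symm
    ((uliftYonedaEquiv.{u + 1} (F := I.obj ⋙ CategoryTheory.forget AddCommGrpCat.{u + 1})).symm x)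
  let ψ := Injective.factorThru φ m
  refine ⟨uliftYonedaEquiv.{u + 1} (adj.homEquiv _ I.obj ψ), ?_⟩
  have h := uliftYonedaEquiv_naturality.{u + 1} (adj.homEquiv _ I.obj ψ) g.op
  refine h.trans ?_
  show uliftYonedaEquiv.{u + 1} ((uliftYoneda.{u + 1}).map g ≫ adj.homEquiv _ I.obj ψ) = x
  rw [← adj.homEquiv_naturality_left]
  show uliftYonedaEquiv.{u + 1} (adj.homEquiv _ I.obj (m ≫ ψ)) = x
  rw [Injective.comp_factorThru, Equiv.apply_symm_apply]
  exact Equiv.apply_symm_apply _ x

end Groth.Agent.H18Et
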