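import Groth.Agent.H18Et.StalkSets
import Groth.Prelude.Def_EtCore

/-!
# The pullback map on global sections
-/

set_option autoImplicit false

universe u

open CategoryTheory CategoryTheory.Limits AlgebraicGeometry Opposite

namespace Groth.Agent.H18Et.PullSections

set_option backward.isDefEq.respectTransparency false
set_option backward.isDefEq.respectTransparency.types false

variable {X Y Z : Scheme.{u}}

/-- Two morphisms into the final object are equal, also after applying a presheaf. -/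
theorem map_eq_of_terminal {A : Type*} [Category A] (P : X.Etaleᵒᵖ ⥤ A) {W : X.Etale} (a b : W ⟶ EtCoh.top X) :
    P.map a.op = P.map b.op := by rw [(EtCore.topIsTerminal X).hom_ext a b]

/-- The global sections of the constant sheaf evaluated on a morphism. -/
noncomputable abbrev globalHom (X : Scheme.{u}) (F : EtCoh.Ab X) (φ : EtCoh.const X ℤ ⟶ F) :
    F.obj.obj (op (EtCoh.top X)) :=
  AddCommGrpCat.uliftZMultiplesAddEquiv _ ((EtCore.constAdj X).homAddEquiv _ F φ)

theorem equiv₀_mk₀ (F : EtCoh.Ab X) (φ : EtCoh.const X ℤ ⟶ F) :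
    Sheaf.H.equiv₀ F (EtCore.topIsTerminal X) (Abelian.Ext.mk₀ φ) = globalHom X F φ := by
  have h : Abelian.Ext.addEquiv₀ (Abelian.Ext.mk₀ φ) = φ := by
    apply (Abelian.Ext.mk₀_bijective _ _).injective
    exact Abelian.Ext.mk₀_homEquiv₀_apply _
  show AddCommGrpCat.uliftZMultiplesAddEquiv _ ((EtCore.constAdj X).homAddEquiv _ F (Abelian.Ext.addEquiv₀ _)) = _
  rw [h]
  rfl

/-- Pullback of global sections. -/
noncomputable def res0 (f : X ⟶ Y) (G : EtCoh.Ab Y) :
    G.obj.obj (op (EtCoh.top Y)) ⟶ ((EtCoh.pull f).obj G).obj.obj (op (EtCoh.top X)) :=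
  ((EtCoh.pullPushAdj f).unit.app G).hom.app (op (EtCoh.top Y)) ≫
    ((EtCoh.pull f).obj G).obj.map (EtCore.bcTopIso f).inv.op

theorem res0_naturality (f : X ⟶ Y) {G G' : EtCoh.Ab Y} (φ : G ⟶ G') :
    φ.hom.app (op (EtCoh.top Y)) ≫ res0 f G' = res0 f G ≫ ((EtCoh.pull f).map φ).hom.app (op (EtCoh.top X)) := by
  have h := congr_app (congrArg (fun t => t.hom) ((EtCoh.pullPushAdj f).unit.naturality φ)) (op (EtCoh.top Y))
  dsimp [res0] at h ⊢
  rw [reassoc_of% h, Category.assoc, NatTrans.naturality]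
  rfl

theorem equiv₀_Hpull (f : X ⟶ Y) [PreservesFiniteLimits (EtCoh.pull f)] (G : EtCoh.Ab Y)
    (x : EtCoh.H Y G 0) :
    Sheaf.H.equiv₀ ((EtCoh.pull f).obj G) (EtCore.topIsTerminal X) (EtCore.Hpull f G 0 x) =
      res0 f G (Sheaf.H.equiv₀ G (EtCore.topIsTerminal Y) x) := by
  obtain ⟨φ, rfl⟩ := (Abelian.Ext.mk₀_bijective _ _).2 x
  let adjC := ((EtCore.constAdj Y).comp (EtCoh.pullPushAdj f)).ofNatIsoRight (EtCore.pushGsecIso f)
  let M := AddCommGrpCat.of (ULift.{u + 1} ℤ)
  have h1 : EtCore.Hpull f G 0 (Abelian.Ext.mk₀ φ) =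
      Abelian.Ext.mk₀ ((EtCore.pullConst f ℤ).inv ≫ (EtCoh.pull f).map φ) := by
    show (Abelian.Ext.mk₀ _).comp ((Abelian.Ext.mk₀ φ).mapExactFunctor (EtCoh.pull f)) (zero_add 0) = _
    rw [Abelian.Ext.mapExactFunctor_mk₀, Abelian.Ext.mk₀_comp_mk₀]
  have h2 : (EtCore.constAdj X).homEquiv M _ ((EtCore.pullConst f ℤ).inv ≫ (EtCoh.pull f).map φ) =
      adjC.homEquiv M _ ((EtCoh.pull f).map φ) := by
    rw [Adjunction.homEquiv_naturality_right]
    show (EtCore.constAdj X).homEquiv M _ ((Adjunction.leftAdjointUniq (EtCore.constAdj X) adjC).hom.app M) ≫ _ = _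
    rw [Adjunction.homEquiv_leftAdjointUniq_hom_app, Adjunction.homEquiv_unit adjC]
  have h3 : adjC.homEquiv M _ ((EtCoh.pull f).map φ) =
      (EtCore.constAdj Y).homEquiv M G φ ≫ res0 f G := by
    rw [Adjunction.homEquiv_ofNatIsoRight_apply, Adjunction.comp_homEquiv]
    show (EtCore.constAdj Y).homEquiv M _ ((EtCoh.pullPushAdj f).homEquiv _ _ ((EtCoh.pull f).map φ)) ≫ _ = _
    have e : (EtCoh.pullPushAdj f).homEquiv _ _ ((EtCoh.pull f).map φ) = φ ≫ (EtCoh.pullPushAdj f).unit.app G := by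
      rw [Adjunction.homEquiv_unit]
      exact ((EtCoh.pullPushAdj f).unit.naturality φ).symm
    rw [e]
    erw [Adjunction.homEquiv_naturality_right]
    rw [Category.assoc]
    rfl
  rw [h1, equiv₀_mk₀, equiv₀_mk₀]
  show AddCommGrpCat.uliftZMultiplesAddEquiv _ ((EtCore.constAdj X).homEquiv M _ _) = _
  rw [h2, h3]
  rfl

theorem res0_comp (f : X ⟶ Y) (t : Y ⟶ Z) (G : EtCoh.Ab Z) :
    res0 (f ≫ t) G ≫ ((EtCore.pullComp f t).hom.app G).hom.app (op (EtCoh.top X)) =
      res0 t G ≫ res0 f ((EtCoh.pull t).obj G) := by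
  let G' := (EtCoh.pull t).obj G
  let G'' := (EtCoh.pull f).obj G'
  have hu := congrArg (fun k => k.hom.app (op (EtCoh.top Z)))
    (Adjunction.unit_leftAdjointUniq_hom_app (EtCoh.pullPushAdj (f ≫ t))
      (((EtCoh.pullPushAdj t).comp (EtCoh.pullPushAdj f)).ofNatIsoRight (EtCoh.pushComp t f)) G)
  have hnat := (((EtCore.pullComp f t).hom.app G).hom.naturality (EtCore.bcTopIso (f ≫ t)).inv.op)
  have hη := ((EtCoh.pullPushAdj f).unit.app G').hom.naturality (EtCore.bcTopIso t).inv.op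
  calc res0 (f ≫ t) G ≫ ((EtCore.pullComp f t).hom.app G).hom.app (op (EtCoh.top X))
      = ((EtCoh.pullPushAdj (f ≫ t)).unit.app G).hom.app (op (EtCoh.top Z)) ≫
          ((EtCore.pullComp f t).hom.app G).hom.app (op ((EtCoh.bc (f ≫ t)).obj (EtCoh.top Z))) ≫
          G''.obj.map (EtCore.bcTopIso (f ≫ t)).inv.op := by
        rw [res0, Category.assoc]
        exact congrArg _ hnat
    _ = (((((EtCoh.pullPushAdj t).comp (EtCoh.pullPushAdj f)).ofNatIsoRight (EtCoh.pushComp t f)).unit.app G).hom.app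
          (op (EtCoh.top Z))) ≫ G''.obj.map (EtCore.bcTopIso (f ≫ t)).inv.op := by
        rw [← Category.assoc]
        exact congrArg (· ≫ _) hu
    _ = ((EtCoh.pullPushAdj t).unit.app G).hom.app (op (EtCoh.top Z)) ≫
          ((EtCoh.pullPushAdj f).unit.app G').hom.app (op ((EtCoh.bc t).obj (EtCoh.top Z))) ≫
          G''.obj.map ((EtCoh.bc f).map (EtCore.bcTopIso t).inv).op ≫ G''.obj.map (EtCore.bcTopIso f).inv.op := by
        have e : (((EtCoh.pullPushAdj t).comp (EtCoh.pullPushAdj f)).ofNatIsoRight (EtCoh.pushComp t f)).unit.app G =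
            (EtCoh.pullPushAdj t).unit.app G ≫ (EtCoh.push t).map ((EtCoh.pullPushAdj f).unit.app G') ≫
              (EtCoh.pushComp t f).hom.app G'' := by
          simp [Adjunction.ofNatIsoRight, Adjunction.comp, G', G'']
        rw [e]
        simp only [EtCoh.pushComp, ObjectProperty.FullSubcategory.comp_hom, NatTrans.comp_app, Category.assoc]
        refine congrArg (fun k => ((EtCoh.pullPushAdj t).unit.app G).hom.app (op (EtCoh.top Z)) ≫
          ((EtCoh.pullPushAdj f).unit.app G').hom.app (op ((EtCoh.bc t).obj (EtCoh.top Z))) ≫ k) ?_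
        show G''.obj.map _ ≫ G''.obj.map _ = _
        rw [← G''.obj.map_comp, ← G''.obj.map_comp]
        refine congrArg (fun k => G''.obj.map (Quiver.Hom.op k)) (a₁ := Quiver.Hom.unop _) (a₂ := Quiver.Hom.unop _) ?_
        exact ((EtCore.bcTopIsTerminal f).ofIso ((EtCoh.bc f).mapIso (EtCore.bcTopIso t).symm)).hom_ext _ _
    _ = res0 t G ≫ res0 f G' := by
        rw [res0, res0, Category.assoc]
        exact congrArg _ ((reassoc_of% hη) _).symm

end Groth.Agent.H18Et.PullSections
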