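import Groth.Agent.H18Et.EtaleRestrict
import Groth.Agent.H18Et.InjectiveRestrict
import Groth.Agent.H18Et.PullSections
import Groth.Agent.H10Coh.ExtMap

/-!
# Free etale sheaves on objects of the site, and their Ext groups
-/

set_option autoImplicit false

universe u

open CategoryTheory CategoryTheory.Limits AlgebraicGeometry Opposite Abelian

namespace Groth.Agent.H18Et.FreeSheaf

set_option backward.isDefEq.respectTransparency false
set_option backward.isDefEq.respectTransparency.types false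

variable {X : Scheme.{u}}

/-- The free presheaf on an object. -/
noncomputable abbrev freeP (X : Scheme.{u}) : X.Etale ⥤ (X.Etaleᵒᵖ ⥤ AddCommGrpCat.{u + 1}) :=
  uliftYoneda.{u + 1} ⋙ (Functor.whiskeringRight X.Etaleᵒᵖ (Type (u + 1)) AddCommGrpCat.{u + 1}).obj
    AddCommGrpCat.free.{u + 1}

/-- The free sheaf on an object. -/
noncomputable abbrev free (X : Scheme.{u}) : X.Etale ⥤ EtCoh.Ab X :=
  freeP X ⋙ presheafToSheaf X.smallEtaleTopology AddCommGrpCat.{u + 1}

/-- Morphisms out of the free sheaf are sections. -/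
noncomputable def homEquiv (W : X.Etale) (F : EtCoh.Ab X) : ((free X).obj W ⟶ F) ≃ F.obj.obj (op W) :=
  (((sheafificationAdjunction X.smallEtaleTopology AddCommGrpCat.{u + 1}).homEquiv _ F).trans
    ((AddCommGrpCat.adj.{u + 1}.whiskerRight X.Etaleᵒᵖ).homEquiv _ F.obj)).trans uliftYonedaEquiv.{u + 1}

theorem homEquiv_comp {W : X.Etale} {F G : EtCoh.Ab X} (φ : (free X).obj W ⟶ F) (g : F ⟶ G) :
    homEquiv W G (φ ≫ g) = g.hom.app (op W) (homEquiv W F φ) := by
  simp only [homEquiv, Equiv.trans_apply]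
  erw [Adjunction.homEquiv_naturality_right, Adjunction.homEquiv_naturality_right, uliftYonedaEquiv_comp]

theorem homEquiv_map {W W' : X.Etale} (g : W' ⟶ W) {F : EtCoh.Ab X} (φ : (free X).obj W ⟶ F) :
    homEquiv W' F ((free X).map g ≫ φ) = F.obj.map g.op (homEquiv W F φ) := by
  simp only [homEquiv, Equiv.trans_apply]
  erw [Adjunction.homEquiv_naturality_left, Adjunction.homEquiv_naturality_left]
  exact (uliftYonedaEquiv_naturality.{u + 1} _ g.op).symm

theorem mono_map {W W' : X.Etale} (g : W' ⟶ W) [Mono g] : Mono ((free X).map g) := by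
  haveI : ∀ V, Mono (((uliftYoneda.{u + 1}).map g).app V) := fun V => by
    rw [mono_iff_injective]
    intro a b h
    exact ULift.down_injective.eq_iff.1 ((cancel_mono g).1 (congrArg ULift.down h))
  haveI : ∀ V, Mono (((freeP X).map g).app V) := fun V =>
    inferInstanceAs (Mono (AddCommGrpCat.free.{u + 1}.map (((uliftYoneda.{u + 1}).map g).app V)))
  haveI : Mono ((freeP X).map g) := NatTrans.mono_of_mono_app _
  exact inferInstanceAs (Mono ((presheafToSheaf X.smallEtaleTopology AddCommGrpCat.{u + 1}).map ((freeP X).map g)))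

section Etale

variable {V : Scheme.{u}} (j : V ⟶ X) [Etale j]

/-- `V` as an object of the etale site of `X`. -/
noncomputable abbrev obj : X.Etale := (EtaleRestrict.emap j).obj (EtCoh.top V)

/-- Global sections of the pullback along an etale morphism are sections on the object. -/
noncomputable def secIso (F : EtCoh.Ab X) :
    ((EtCoh.pull j).obj F).obj.obj (op (EtCoh.top V)) ≅ F.obj.obj (op (obj j)) :=
  ((sheafToPresheaf _ _).mapIso ((EtaleRestrict.pullIso j).app F)).app (op (EtCoh.top V))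

theorem secIso_naturality {F G : EtCoh.Ab X} (g : F ⟶ G) :
    ((EtCoh.pull j).map g).hom.app (op (EtCoh.top V)) ≫ (secIso j G).hom = (secIso j F).hom ≫ g.hom.app (op (obj j)) :=
  congr_app (congrArg (fun t => t.hom) ((EtaleRestrict.pullIso j).hom.naturality g)) (op (EtCoh.top V))

theorem res0_secIso (G : EtCoh.Ab X) (ρ : obj j ⟶ EtCoh.top X) :
    PullSections.res0 j G ≫ (secIso j G).hom = G.obj.map ρ.op := by
  have hu := congrArg (fun k => k.hom.app (op (EtCoh.top X)))
    (Adjunction.unit_leftAdjointUniq_hom_app (EtCoh.pullPushAdj j) (EtaleRestrict.resPushAdj j) G)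
  have hnat := ((EtaleRestrict.pullIso j).hom.app G).hom.naturality (EtCore.bcTopIso j).inv.op
  calc PullSections.res0 j G ≫ (secIso j G).hom
      = ((EtCoh.pullPushAdj j).unit.app G).hom.app (op (EtCoh.top X)) ≫
          ((EtaleRestrict.pullIso j).hom.app G).hom.app (op ((EtCoh.bc j).obj (EtCoh.top X))) ≫
          G.obj.map ((EtaleRestrict.emap j).map (EtCore.bcTopIso j).inv).op := by
        rw [PullSections.res0, Category.assoc]
        exact congrArg _ hnat
    _ = ((EtaleRestrict.resPushAdj j).unit.app G).hom.app (op (EtCoh.top X)) ≫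
          G.obj.map ((EtaleRestrict.emap j).map (EtCore.bcTopIso j).inv).op := by
        rw [← Category.assoc]
        exact congrArg (· ≫ _) hu
    _ = G.obj.map ρ.op := by
        rw [show ((EtaleRestrict.resPushAdj j).unit.app G).hom.app (op (EtCoh.top X)) =
          G.obj.map ((EtaleRestrict.emapAdj j).counit.app (EtCoh.top X)).op by
            simp [EtaleRestrict.resPushAdj]]
        rw [← G.obj.map_comp, ← op_comp]
        exact PullSections.map_eq_of_terminal G.obj _ _

/-- The equivalence between `H⁰` of the pullback and sections on the object. -/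
noncomputable def sec (F : EtCoh.Ab X) :
    EtCoh.H V ((EtCoh.pull j).obj F) 0 ≃+ F.obj.obj (op (obj j)) :=
  (Sheaf.H.equiv₀ _ (EtCore.topIsTerminal V)).trans (secIso j F).addCommGroupIsoToAddEquiv

theorem sec_comp {F G : EtCoh.Ab X} (g : F ⟶ G) (x : EtCoh.H V ((EtCoh.pull j).obj F) 0) :
    sec j G (x.comp (Ext.mk₀ ((EtCoh.pull j).map g)) (add_zero 0)) = g.hom.app (op (obj j)) (sec j F x) := by
  have h1 := Sheaf.H.equiv₀_naturality (EtCore.topIsTerminal V) ((EtCoh.pull j).map g) x
  have h2 := ConcreteCategory.congr_hom (secIso_naturality j g)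
    (Sheaf.H.equiv₀ _ (EtCore.topIsTerminal V) x)
  simp only [ConcreteCategory.comp_apply] at h2
  rw [h1] at h2
  exact h2

theorem sec_Hpull [PreservesFiniteLimits (EtCoh.pull j)] (G : EtCoh.Ab X) (ρ : obj j ⟶ EtCoh.top X)
    (x : EtCoh.H X G 0) :
    sec j G (EtCore.Hpull j G 0 x) = G.obj.map ρ.op (Sheaf.H.equiv₀ G (EtCore.topIsTerminal X) x) := by
  show (secIso j G).hom (Sheaf.H.equiv₀ _ _ (EtCore.Hpull j G 0 x)) = _
  rw [PullSections.equiv₀_Hpull, ← ConcreteCategory.comp_apply, res0_secIso j G ρ]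

/-- The tautological class of the free sheaf. -/
noncomputable def eta : EtCoh.const V ℤ ⟶ (EtCoh.pull j).obj ((free X).obj (obj j)) :=
  Ext.addEquiv₀ ((sec j _).symm (homEquiv (obj j) _ (𝟙 _)))

theorem sec_eta_comp {F : EtCoh.Ab X} (φ : (free X).obj (obj j) ⟶ F) :
    sec j F (Ext.mk₀ (eta j ≫ (EtCoh.pull j).map φ)) = homEquiv (obj j) F φ := by
  rw [← Ext.mk₀_comp_mk₀]
  erw [sec_comp]
  rw [show Ext.mk₀ (eta j) = (sec j _).symm (homEquiv (obj j) _ (𝟙 _)) from
    Ext.addEquiv₀.symm_apply_apply _]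
  erw [AddEquiv.apply_symm_apply]
  rw [← homEquiv_comp, Category.id_comp]

variable [PreservesFiniteLimits (EtCoh.pull j)]

/-- The comparison `Ext^n(Z[V], F) → H^n(V, F|V)`. -/
noncomputable def phi (F : EtCoh.Ab X) (n : ℕ) :
    Ext ((free X).obj (obj j)) F n →+ EtCoh.H V ((EtCoh.pull j).obj F) n :=
  H10Coh.extMap (EtCoh.pull j) (eta j) F n

theorem phi_bijective (F : EtCoh.Ab X) (n : ℕ) : Function.Bijective (phi j F n) := by
  refine H10Coh.extMap_bijective (EtCoh.pull j) (eta j) (fun G => ?_) (fun J _ m => ?_) n F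
  · have h : (fun φ => sec j G (Ext.mk₀ (eta j ≫ (EtCoh.pull j).map φ))) = homEquiv (obj j) G :=
      funext fun φ => sec_eta_comp j φ
    refine (Function.Bijective.of_comp_iff' (f := fun z => sec j G (Ext.mk₀ z)) ?_ _).1 ?_
    · exact (sec j G).bijective.comp (Ext.mk₀_bijective _ _)
    · show Function.Bijective fun φ => sec j G (Ext.mk₀ (eta j ≫ (EtCoh.pull j).map φ))
      rw [h]
      exact (homEquiv (obj j) G).bijective
  · haveI := EtaleRestrict.injective_pull j J
    exact subsingleton_of_forall_eq 0 fun x => Ext.eq_zero_of_injective x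

omit [PreservesFiniteLimits (EtCoh.pull j)] in
/-- The augmentation of the free sheaf to the constant sheaf. -/
noncomputable def aug (ρ : obj j ⟶ EtCoh.top X) : (free X).obj (obj j) ⟶ EtCoh.const X ℤ :=
  (homEquiv (obj j) _).symm
    ((EtCoh.const X ℤ).obj.map ρ.op (Sheaf.H.equiv₀ _ (EtCore.topIsTerminal X) (Ext.mk₀ (𝟙 _))))

omit [PreservesFiniteLimits (EtCoh.pull j)] in
theorem homEquiv_aug_comp (ρ : obj j ⟶ EtCoh.top X) {F : EtCoh.Ab X} (φ : EtCoh.const X ℤ ⟶ F) :
    homEquiv (obj j) F (aug j ρ ≫ φ) =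
      F.obj.map ρ.op (Sheaf.H.equiv₀ F (EtCore.topIsTerminal X) (Ext.mk₀ φ)) := by
  rw [homEquiv_comp, aug, Equiv.apply_symm_apply]
  have h1 := Sheaf.H.equiv₀_naturality (EtCore.topIsTerminal X) φ (Ext.mk₀ (𝟙 (EtCoh.const X ℤ)))
  rw [show Sheaf.H.map φ 0 (Ext.mk₀ (𝟙 (EtCoh.const X ℤ))) = Ext.mk₀ φ by
    rw [Sheaf.H.map_apply, Ext.mk₀_comp_mk₀, Category.id_comp]] at h1
  rw [← h1]
  exact (NatTrans.naturality_apply φ.hom ρ.op _)

theorem Hpull_eq_phi (ρ : obj j ⟶ EtCoh.top X) (F : EtCoh.Ab X) (n : ℕ) (x : EtCoh.H X F n) :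
    EtCore.Hpull j F n x = phi j F n ((Ext.mk₀ (aug j ρ)).comp x (zero_add n)) := by
  have he : 𝟙 _ ≫ (EtCore.pullConst j ℤ).inv = eta j ≫ (EtCoh.pull j).map (aug j ρ) := by
    refine (Ext.mk₀_bijective _ _).injective ((sec j _).injective ?_)
    rw [sec_eta_comp, Category.id_comp]
    have h := sec_Hpull j (EtCoh.const X ℤ) ρ (Ext.mk₀ (𝟙 _))
    rw [show EtCore.Hpull j (EtCoh.const X ℤ) 0 (Ext.mk₀ (𝟙 _)) = Ext.mk₀ (EtCore.pullConst j ℤ).inv by
      show (Ext.mk₀ _).comp ((Ext.mk₀ (𝟙 _)).mapExactFunctor (EtCoh.pull j)) (zero_add 0) = _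
      rw [Ext.mapExactFunctor_mk₀, Ext.mk₀_comp_mk₀, CategoryTheory.Functor.map_id, Category.comp_id]] at h
    rw [h]
    exact (Equiv.apply_symm_apply _ _).symm
  have := H10Coh.extMap_precomp (EtCoh.pull j) (EtCore.pullConst j ℤ).inv (eta j) (aug j ρ) (𝟙 _) he F n x
  rw [Ext.mk₀_id_comp] at this
  exact this.symm

end Etale

end Groth.Agent.H18Et.FreeSheaf
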