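import Groth.Prelude.Def_EtOpen
import Groth.Agent.H18Et.Stalk
import Mathlib.AlgebraicGeometry.Morphisms.UniversallyOpen
import Mathlib.AlgebraicGeometry.Morphisms.Etale
import Mathlib.AlgebraicGeometry.Morphisms.FlatDescent

/-!
# Subterminal etale sheaves are opens
-/

set_option autoImplicit false

universe w u

open CategoryTheory CategoryTheory.Limits AlgebraicGeometry Opposite

namespace Groth.Agent.H18Et.Subterminal

set_option backward.isDefEq.respectTransparency false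
set_option backward.isDefEq.respectTransparency.types false

variable {S : Scheme.{u}}

/-- An open as an object of the etale site. -/
noncomputable abbrev ofOpen (W : S.Opens) : S.Etale := Scheme.Etale.mk W.ι

instance subsingleton_hom (W : S.Opens) (Z : S.Etale) : Subsingleton (Z ⟶ ofOpen W) :=
  ⟨fun a b => MorphismProperty.Over.Hom.ext ((cancel_mono W.ι).1 ((Over.w a.hom).trans (Over.w b.hom).symm))⟩

theorem nonempty_hom_iff (W : S.Opens) (Z : S.Etale) :
    Nonempty (Z ⟶ ofOpen W) ↔ ∀ z : Z.left, Z.hom z ∈ W := by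
  constructor
  · rintro ⟨a⟩ z
    have h : a.left ≫ W.ι = Z.hom := Over.w a.hom
    rw [← h, Scheme.Hom.comp_apply]
    exact (a.left z).2
  · intro h
    have hr : Set.range Z.hom ⊆ Set.range W.ι := by
      rintro _ ⟨z, rfl⟩
      rw [Scheme.Opens.range_ι]
      exact h z
    exact ⟨MorphismProperty.Over.homMk (IsOpenImmersion.lift W.ι Z.hom hr) (IsOpenImmersion.lift_fac _ _ _)⟩

theorem exists_mem_of_cover {Z : S.Etale} {T : Sieve Z} (hT : T ∈ S.smallEtaleTopology Z) (z : Z.left) :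
    ∃ (Y : S.Etale) (g : Y ⟶ Z) (y : Y.left), T.arrows g ∧ g.left y = z := by
  rw [show S.smallEtaleTopology = (S.smallPretopology (P := EtCoh.etaleMP) (Q := EtCoh.etaleMP)).toGrothendieck from
    Scheme.smallGrothendieckTopology_eq_toGrothendieck_smallPretopology S le_rfl] at hT
  obtain ⟨Y, g, y, hg, -, hy⟩ := (Scheme.mem_toGrothendieck_smallPretopology Z T).1 hT z
  exact ⟨Y, g, y, hg, hy⟩

/-- A sheaf with at most one section on each object is represented by an open. -/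
theorem exists_open (F : Sheaf S.smallEtaleTopology (Type w))
    (hF : ∀ Z : S.Etale, Subsingleton (F.obj.obj (op Z))) :
    ∃ W : S.Opens, ∀ Z : S.Etale, Nonempty (F.obj.obj (op Z)) ↔ ∀ z : Z.left, Z.hom z ∈ W := by
  let A : Set S := ⋃ (U : S.Etale) (_ : Nonempty (F.obj.obj (op U))), Set.range U.hom
  have hA : IsOpen A := isOpen_iUnion fun U => isOpen_iUnion fun _ => by
    haveI : Etale U.hom := U.prop
    exact U.hom.isOpenMap.isOpen_range
  refine ⟨⟨A, hA⟩, fun Z => ⟨fun h z => Set.mem_iUnion.2 ⟨Z, Set.mem_iUnion.2 ⟨h, z, rfl⟩⟩, fun h => ?_⟩⟩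
  let T : Sieve Z :=
    { arrows := fun Y _ => Nonempty (F.obj.obj (op Y))
      downward_closed := fun {Y V g} hg k => hg.map (F.obj.map k.op) }
  have hT : T ∈ S.smallEtaleTopology Z := mem_topology_of_forall_point _ fun z => by
    obtain ⟨U, hU⟩ := Set.mem_iUnion.1 (h z)
    obtain ⟨⟨s⟩, u, hu⟩ := Set.mem_iUnion.1 hU
    haveI : Etale U.hom := U.prop
    haveI : Etale Z.hom := Z.prop
    obtain ⟨y, hy, -⟩ := Scheme.Pullback.exists_preimage_pullback z u hu.symm
    let Y : S.Etale := Scheme.Etale.mk (pullback.fst Z.hom U.hom ≫ Z.hom)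
    let p : Y ⟶ Z := MorphismProperty.Over.homMk (pullback.fst _ _) rfl
    let q : Y ⟶ U := MorphismProperty.Over.homMk (pullback.snd _ _) pullback.condition.symm
    exact ⟨Y, p, y, ⟨F.obj.map q.op s⟩, hy⟩
  have hsh := (isSheaf_iff_isSheaf_of_type _ _).1 F.property T hT
  let x : Presieve.FamilyOfElements F.obj T.arrows := fun Y g hg => Classical.choice hg
  have hx : x.Compatible := fun Y₁ Y₂ V g₁ g₂ f₁ f₂ h₁ h₂ _ => (hF V).elim _ _
  exact ⟨(hsh x hx).choose⟩

/-- The iso with the representable presheaf. -/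
theorem eq_of_iso {P : S.Etaleᵒᵖ ⥤ Type w} {W : S.Opens}
    (h : ∀ Z : S.Etale, Nonempty (P.obj (op Z)) ↔ Nonempty (Z ⟶ ofOpen W)) (W' : S.Opens)
    (h' : ∀ Z : S.Etale, Nonempty (P.obj (op Z)) ↔ Nonempty (Z ⟶ ofOpen W')) : W = W' := by
  have key : ∀ A B : S.Opens, (∀ Z : S.Etale, Nonempty (Z ⟶ ofOpen A) → Nonempty (Z ⟶ ofOpen B)) → A ≤ B :=
    fun A B hAB x hx => (nonempty_hom_iff B _).1 (hAB (ofOpen A) ⟨𝟙 _⟩) ⟨x, hx⟩
  exact le_antisymm (key _ _ fun Z hZ => (h' Z).1 ((h Z).2 hZ)) (key _ _ fun Z hZ => (h Z).1 ((h' Z).2 hZ))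

/-- An iso of presheaves with at most one section. -/
theorem nonempty_iso {P Q : S.Etaleᵒᵖ ⥤ Type w} (hP : ∀ Z, Subsingleton (P.obj Z))
    (hQ : ∀ Z, Subsingleton (Q.obj Z)) (h : ∀ Z, Nonempty (P.obj Z) ↔ Nonempty (Q.obj Z)) :
    Nonempty (P ≅ Q) :=
  ⟨NatIso.ofComponents (fun Z =>
    haveI := hP Z; haveI := hQ Z
    ({ toFun := fun p => Classical.choice ((h Z).1 ⟨p⟩)
       invFun := fun q => Classical.choice ((h Z).2 ⟨q⟩)
       left_inv := fun _ => Subsingleton.elim _ _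
       right_inv := fun _ => Subsingleton.elim _ _ } : P.obj Z ≃ Q.obj Z).toIso)
    fun {Z Z'} g => by
      haveI := hQ Z'
      ext p
      exact Subsingleton.elim _ _⟩

/-- The presheaf of an open, lifted one universe. -/
noncomputable abbrev openPre (W : S.Opens) : S.Etaleᵒᵖ ⥤ Type (u + 1) :=
  yoneda.obj (ofOpen W) ⋙ uliftFunctor.{u + 1, u}

theorem subsingleton_openPre (W : S.Opens) (Z : S.Etaleᵒᵖ) : Subsingleton ((openPre W).obj Z) :=
  ⟨fun a b => ULift.ext _ _ (Subsingleton.elim (α := Z.unop ⟶ ofOpen W) _ _)⟩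

theorem nonempty_openPre_iff (W : S.Opens) (Z : S.Etaleᵒᵖ) :
    Nonempty ((openPre W).obj Z) ↔ ∀ z : Z.unop.left, Z.unop.hom z ∈ W :=
  Iff.trans ⟨fun ⟨a⟩ => ⟨(a.down : Z.unop ⟶ ofOpen W)⟩, fun ⟨a⟩ => ⟨⟨a⟩⟩⟩ (nonempty_hom_iff W Z.unop)

theorem isSheaf_openPre (W : S.Opens) : Presheaf.IsSheaf S.smallEtaleTopology (openPre W) := by
  rw [isSheaf_iff_isSheaf_of_type]
  intro Z T hT x hx
  have h : ∀ z : Z.left, Z.hom z ∈ W := fun z => by
    obtain ⟨Y, g, y, hg, rfl⟩ := exists_mem_of_cover hT z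
    have := (nonempty_openPre_iff W (op Y)).1 ⟨x g hg⟩ y
    have hw : g.left ≫ Z.hom = Y.hom := Over.w g.hom
    rw [← hw, Scheme.Hom.comp_apply] at this
    exact this
  obtain ⟨a⟩ := (nonempty_openPre_iff W (op Z)).2 h
  exact ⟨a, fun Y g hg => (subsingleton_openPre W (op Y)).elim _ _, fun b _ => (subsingleton_openPre W (op Z)).elim _ _⟩

/-- The sheaf of an open is its presheaf. -/
noncomputable def repShIso (W : S.Opens) : (EtDesc.repSh (EtDesc.ofOpen W)).obj ≅ openPre W :=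
  (isoSheafify _ (isSheaf_openPre W)).symm

theorem subsingleton_repSh (W : S.Opens) (Z : S.Etaleᵒᵖ) :
    Subsingleton ((EtDesc.repSh (EtDesc.ofOpen W)).obj.obj Z) :=
  haveI := subsingleton_openPre W Z
  ((repShIso W).app Z).toEquiv.subsingleton

theorem nonempty_repSh_iff (W : S.Opens) (Z : S.Etaleᵒᵖ) :
    Nonempty ((EtDesc.repSh (EtDesc.ofOpen W)).obj.obj Z) ↔ ∀ z : Z.unop.left, Z.unop.hom z ∈ W :=
  ((repShIso W).app Z).toEquiv.nonempty_congr.trans (nonempty_openPre_iff W Z)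

end Groth.Agent.H18Et.Subterminal
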