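import Groth.Agent.H18Et.EtaleNormal
import Groth.Prelude.Def_Pi1
import Mathlib.AlgebraicGeometry.Morphisms.Etale
import Mathlib.AlgebraicGeometry.Morphisms.Flat

/-! Normal local rings along étale morphisms. -/

set_option autoImplicit false

universe u

open CategoryTheory CategoryTheory.Limits AlgebraicGeometry

namespace Groth.Agent.H18Et.EtaleNormalScheme

set_option backward.isDefEq.respectTransparency false

variable {X Y : Scheme.{u}} (f : X ⟶ Y)

theorem normal_stalk_of_etale [Etale f] (x : X)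
    (h : IsDomain (Y.presheaf.stalk (f x)) ∧ IsIntegrallyClosed (Y.presheaf.stalk (f x))) :
    IsDomain (X.presheaf.stalk x) ∧ IsIntegrallyClosed (X.presheaf.stalk x) := by
  obtain ⟨U, hU, hxU, -⟩ := exists_isAffineOpen_mem_and_subset (x := f x) (U := ⊤) trivial
  obtain ⟨V, hV, hxV, hVU⟩ := exists_isAffineOpen_mem_and_subset (x := x) (U := f ⁻¹ᵁ U) hxU
  letI : Algebra Γ(Y, U) Γ(X, V) := (f.appLE U V hVU).hom.toAlgebra
  haveI : Algebra.Etale Γ(Y, U) Γ(X, V) := f.etale_appLE hU hV hVU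
  let q := (hV.primeIdealOf ⟨x, hxV⟩).asIdeal
  letI := Y.presheaf.algebra_section_stalk ⟨f x, hxU⟩
  letI := X.presheaf.algebra_section_stalk ⟨x, hxV⟩
  haveI hlY := hU.isLocalization_stalk ⟨f x, hxU⟩
  haveI hlX := hV.isLocalization_stalk ⟨x, hxV⟩
  have hp : q.comap (algebraMap Γ(Y, U) Γ(X, V)) = (hU.primeIdealOf ⟨f x, hxU⟩).asIdeal :=
    congrArg PrimeSpectrum.asIdeal
      (IsAffineOpen.comap_primeIdealOf_appLE (f := f) (x := x) U hU V hV hVU hxV)
  haveI hlY' : IsLocalization.AtPrime (Y.presheaf.stalk (f x))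
      (q.comap (algebraMap Γ(Y, U) Γ(X, V))) := by
    simp only [IsLocalization.AtPrime, hp]
    exact hlY
  let eY : Localization.AtPrime (q.comap (algebraMap Γ(Y, U) Γ(X, V))) ≃+* Y.presheaf.stalk (f x) :=
    (IsLocalization.algEquiv (q.comap (algebraMap Γ(Y, U) Γ(X, V))).primeCompl _ _).toRingEquiv
  let eX : Localization.AtPrime q ≃+* X.presheaf.stalk x :=
    (IsLocalization.algEquiv q.primeCompl _ _).toRingEquiv
  obtain ⟨h1, h2⟩ := h
  have hd := haveI := h1; eY.toMulEquiv.isDomain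
  have hc := haveI := h2; IsIntegrallyClosed.of_equiv eY.symm
  obtain ⟨g1, g2⟩ := EtaleNormal.isDomain_isIntegrallyClosed_atPrime_of_atPrime _ _ q hd hc
  exact ⟨haveI := g1; eX.symm.toMulEquiv.isDomain, haveI := g2; IsIntegrallyClosed.of_equiv eX⟩

theorem isNormalScheme_of_etale [Etale f] (h : Pi1.IsNormalScheme Y) : Pi1.IsNormalScheme X :=
  fun x => normal_stalk_of_etale f x (h (f x))

theorem normal_stalk_of_flat [Flat f] (x : X)
    (h : IsDomain (X.presheaf.stalk x) ∧ IsIntegrallyClosed (X.presheaf.stalk x)) :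
    IsDomain (Y.presheaf.stalk (f x)) ∧ IsIntegrallyClosed (Y.presheaf.stalk (f x)) := by
  letI := (f.stalkMap x).hom.toAlgebra
  haveI : Module.Flat (Y.presheaf.stalk (f x)) (X.presheaf.stalk x) := Flat.stalkMap f x
  haveI : IsLocalHom (algebraMap (Y.presheaf.stalk (f x)) (X.presheaf.stalk x)) :=
    f.toLRSHom.prop x
  haveI : Module.FaithfullyFlat (Y.presheaf.stalk (f x)) (X.presheaf.stalk x) :=
    Module.FaithfullyFlat.of_flat_of_isLocalHom
  obtain ⟨h1, h2⟩ := h
  exact H9Hens.isIntegrallyClosed_of_faithfullyFlat _ (X.presheaf.stalk x)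

end Groth.Agent.H18Et.EtaleNormalScheme
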