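import Groth.Agent.H18Et.ConstSheaf
import Groth.Agent.H18Et.EtaleNormalScheme
import Groth.Agent.H18Et.Support
import Groth.Agent.H17.QcImage
import Groth.Prelude.Def_Pi1
import Mathlib.AlgebraicGeometry.Morphisms.QuasiFinite

/-!
# When a constant sheaf is the direct image of its inverse image
-/

set_option backward.isDefEq.respectTransparency false
set_option backward.isDefEq.respectTransparency.types false

universe u

open CategoryTheory CategoryTheory.Limits AlgebraicGeometry Opposite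

namespace Groth.Agent.H18Et.ConstSheaf

variable {X Z : Scheme.{u}}

/-- The clopen subsets of the pullback of an affine étale `W` separate no two points over the
generalisations of a point of `W`, in the closure sense. -/
def UnibranchAlong (f : Z ⟶ X) : Prop :=
  ∀ (W : X.Etale), IsAffine W.left → ∀ (w : W.left),
    ∃ c₀ : ↥(pullback W.hom f), ∀ C : Set ↥(pullback W.hom f), IsClopen C → c₀ ∈ C →
      w ∉ closure ((pullback.fst W.hom f).base '' Cᶜ)

theorem exists_fst (f : Z ⟶ X) (hf : DenseRange f.base) (W : X.Etale) (w : W.left)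
    (O : Set W.left) (hO : IsOpen O) (hw : w ∈ O) :
    ∃ c : ↥(pullback W.hom f), (pullback.fst W.hom f).base c ∈ O := by
  haveI : Etale W.hom := W.prop
  obtain ⟨x, hx, ⟨z, hz⟩⟩ := hf.inter_open_nonempty _ (W.hom.isOpenMap _ hO) ⟨_, w, hw, rfl⟩
  obtain ⟨v, hv, rfl⟩ := hx
  obtain ⟨c, hc, -⟩ := Scheme.Pullback.exists_preimage_pullback v z hz.symm
  exact ⟨c, hc ▸ hv⟩

theorem isIso_unit (f : Z ⟶ X) (hf : DenseRange f.base) (hu : UnibranchAlong f) {G : EtCoh.Ab X}
    {M : Type*} {c : M → EtCoh.sect G (EtCoh.top X)} (h : IsConstant G c) :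
    IsIso ((EtCoh.pullPushAdj f).unit.app G) := by
  have h' := isConstant_pullSec f h
  rw [isIso_iff_stalk]
  intro Ω _ _ ξ
  have hgerm : ∀ (W : X.Etale) (x : (Scheme.pointSmallEtale ξ).fiber.obj W) (m : M),
      (EtCoh.stalk ξ).map ((EtCoh.pullPushAdj f).unit.app G) (germ ξ G W x (rest G W (c m))) =
        germ ξ ((EtCoh.push f).obj ((EtCoh.pull f).obj G)) W x
          (rest ((EtCoh.pull f).obj G) ((EtCoh.bc f).obj W) (pullSec f G (c m))) := fun W x m =>
    (germ_naturality ξ _ W x _).trans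
      (congrArg (germ ξ ((EtCoh.push f).obj ((EtCoh.pull f).obj G)) W x)
        (unit_rest f G W (c m)))
  rw [ConcreteCategory.isIso_iff_bijective]
  refine ⟨fun p q e => ?_, fun p => ?_⟩
  · obtain ⟨W, x, s, rfl⟩ := germ_surjective ξ G p
    obtain ⟨m, hm⟩ := (h Ω ξ W x).2 (germ ξ G W x s)
    obtain ⟨m', hm'⟩ := (h Ω ξ W x).2 q
    dsimp only at hm hm'
    rw [← hm, ← hm'] at e ⊢
    obtain ⟨V, g, y, -, e'⟩ := (germ_eq_iff ξ ((EtCoh.push f).obj ((EtCoh.pull f).obj G)) W x _ _).1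
      (((hgerm W x m).symm.trans e).trans (hgerm W x m'))
    obtain ⟨v, -⟩ := exists_fst f hf V (ptOf y) Set.univ isOpen_univ trivial
    rw [show m = m' from eq_of_rest_eq h' (U := (EtCoh.bc f).obj V) v
      ((map_rest ((EtCoh.pull f).obj G) ((EtCoh.bc f).map g) _).symm.trans
        (e'.trans (map_rest ((EtCoh.pull f).obj G) ((EtCoh.bc f).map g) _)))]
  · obtain ⟨W, x, t, rfl⟩ := germ_surjective ξ ((EtCoh.push f).obj ((EtCoh.pull f).obj G)) p
    obtain ⟨_, ⟨(O : W.left.Opens), hO, rfl⟩, hxO, -⟩ :=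
      W.left.isBasis_affineOpens.exists_subset_of_mem_open (Set.mem_univ (ptOf x)) isOpen_univ
    haveI : Etale W.hom := W.prop
    let W₁ : X.Etale := MorphismProperty.Over.mk ⊤ (O.ι ≫ W.hom) (inferInstanceAs (Etale _))
    let g₁ : W₁ ⟶ W := MorphismProperty.Over.homMk O.ι rfl trivial
    obtain ⟨x₁, hx₁⟩ := exists_fiber_lift g₁ x (⟨ptOf x, hxO⟩ : O.toScheme) rfl
    let t₁ := ((EtCoh.pull f).obj G).obj.map ((EtCoh.bc f).map g₁).op t
    obtain ⟨c₀, hc₀⟩ := hu W₁ hO (ptOf x₁)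
    obtain ⟨m, hm⟩ := exists_mem_locus h' t₁ c₀
    let A : Set ↥(pullback W₁.hom f) := locus h' t₁ m
    have hA : ptOf x₁ ∉ closure ((pullback.fst W₁.hom f).base '' Aᶜ) :=
      hc₀ A (isClopen_locus h' t₁ m) hm
    obtain ⟨N, hN, hNo, hxN⟩ :=
      mem_interior.1 (show ptOf x₁ ∈ interior ((pullback.fst W₁.hom f).base '' Aᶜ)ᶜ by
        rw [interior_compl]; exact hA)
    haveI : Etale W₁.hom := W₁.prop
    let N' : W₁.left.Opens := ⟨N, hNo⟩
    let W₂ : X.Etale := MorphismProperty.Over.mk ⊤ (N'.ι ≫ W₁.hom) (inferInstanceAs (Etale _))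
    let g₂ : W₂ ⟶ W₁ := MorphismProperty.Over.homMk N'.ι rfl trivial
    have ht : ((EtCoh.pull f).obj G).obj.map ((EtCoh.bc f).map g₂).op t₁ =
        rest ((EtCoh.pull f).obj G) ((EtCoh.bc f).obj W₂) (pullSec f G (c m)) := by
      refine eq_rest h' _ m fun z => ?_
      obtain ⟨m', hm'⟩ := exists_mem_locus h' _ z
      suffices m' = m from this ▸ hm'
      have hz1 : ((EtCoh.bc f).map g₂).left.base z ∈ locus h' t₁ m' := by
        obtain ⟨V, g, ⟨v, rfl⟩, e⟩ := hm'
        refine ⟨V, g ≫ (EtCoh.bc f).map g₂, ⟨v, Scheme.Hom.comp_apply _ _ _⟩, ?_⟩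
        rw [← e, op_comp, Functor.map_comp, ConcreteCategory.comp_apply]
      refine locus_unique h' t₁ hz1 ?_
      by_contra hzA
      have := hN (show (pullback.fst W₁.hom f).base (((EtCoh.bc f).map g₂).left.base z) ∈ N by
        have e := (EtCoh.isPullback_bc_map f g₂).w
        refine Set.mem_of_eq_of_mem (congrArg (fun k => k.base z) e) ?_
        exact ((pullback.fst W₂.hom f).base z).2)
      exact this ⟨_, hzA, rfl⟩
    obtain ⟨x₂, hx₂⟩ := exists_fiber_lift g₂ x₁ (⟨ptOf x₁, hxN⟩ : N'.toScheme) rfl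
    refine ⟨germ ξ G W₂ x₂ (rest G W₂ (c m)), (hgerm W₂ x₂ m).trans ?_⟩
    rw [← hx₁, ← hx₂, ← ht, ← germ_map, ← germ_map]
    rfl

end Groth.Agent.H18Et.ConstSheaf
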