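import Groth.Agent.H18Et.ConstSheaf
import Groth.Agent.H18Et.Support

/-!
# Morphisms out of constant sheaves
-/

set_option backward.isDefEq.respectTransparency false
set_option backward.isDefEq.respectTransparency.types false

universe u

open CategoryTheory CategoryTheory.Limits AlgebraicGeometry Opposite

namespace Groth.Agent.H18Et.ConstSheaf

variable {X : Scheme.{u}}

/-- The morphism of presheaves given by a homomorphism into the global sections. -/
noncomputable def preHom {M : AddCommGrpCat.{u + 1}} (F : EtCoh.Ab X)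
    (φ : M ⟶ F.obj.obj (op (EtCoh.top X))) : (Functor.const X.Etaleᵒᵖ).obj M ⟶ F.obj where
  app U := φ ≫ F.obj.map ((EtCore.topIsTerminal X).from U.unop).op
  naturality U V g := by
    refine (Category.id_comp _).trans ?_
    rw [Category.assoc, ← F.obj.map_comp]
    exact congrArg (fun k => φ ≫ F.obj.map k)
      (Quiver.Hom.unop_inj ((EtCore.topIsTerminal X).hom_ext _ _))

/-- The morphism out of a constant sheaf given by a homomorphism into the global sections. -/
noncomputable def homConst {M : AddCommGrpCat.{u + 1}} (F : EtCoh.Ab X)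
    (φ : M ⟶ F.obj.obj (op (EtCoh.top X))) :
    (constantSheaf X.smallEtaleTopology AddCommGrpCat.{u + 1}).obj M ⟶ F :=
  ⟨sheafifyLift X.smallEtaleTopology (preHom F φ) F.property⟩

theorem homConst_rest {M : AddCommGrpCat.{u + 1}} (F : EtCoh.Ab X)
    (φ : M ⟶ F.obj.obj (op (EtCoh.top X))) (U : X.Etale) (m : M) :
    (homConst F φ).hom.app (op U)
        (rest ((constantSheaf X.smallEtaleTopology AddCommGrpCat.{u + 1}).obj M) U (unitTop M m)) =
      rest F U (φ m) := by
  rw [rest_unitTop]
  exact ConcreteCategory.congr_hom (congrArg (fun k => NatTrans.app k (op U))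
    (toSheafify_sheafifyLift X.smallEtaleTopology (preHom F φ) F.property)) m

theorem isIso_of_isConstant {F G : EtCoh.Ab X} (α : F ⟶ G) {M : Type*}
    {c : M → EtCoh.sect F (EtCoh.top X)} (hF : IsConstant F c)
    (hG : IsConstant G fun m => α.hom.app (op (EtCoh.top X)) (c m)) : IsIso α := by
  rw [isIso_iff_stalk]
  intro Ω _ _ ξ
  rw [ConcreteCategory.isIso_iff_bijective]
  have key : ∀ U x, (fun m => germ ξ G U x (rest G U (α.hom.app (op (EtCoh.top X)) (c m)))) =
      (fun p => (EtCoh.stalk ξ).map α p) ∘ fun m => germ ξ F U x (rest F U (c m)) := fun U x =>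
    funext fun m => ((germ_naturality ξ α U x _).trans (congrArg (germ ξ G U x)
      (NatTrans.naturality_apply α.hom ((EtCore.topIsTerminal X).from U).op (c m)))).symm
  refine ⟨fun p q e => ?_, fun p => ?_⟩
  · obtain ⟨U, x, s, rfl⟩ := germ_surjective ξ F p
    obtain ⟨m, hm⟩ := (hF Ω ξ U x).2 (germ ξ F U x s)
    obtain ⟨m', hm'⟩ := (hF Ω ξ U x).2 q
    dsimp only at hm hm'
    rw [← hm, ← hm'] at e ⊢
    have h := (hG Ω ξ U x).1
    rw [key U x] at h
    rw [h (a₁ := m) (a₂ := m') e]
  · obtain ⟨U, x, s, rfl⟩ := germ_surjective ξ G p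
    obtain ⟨m, hm⟩ := (hG Ω ξ U x).2 (germ ξ G U x s)
    exact ⟨_, (congrFun (key U x) m).symm.trans hm⟩

theorem isIso_homConst {M : AddCommGrpCat.{u + 1}} (F : EtCoh.Ab X)
    (φ : M ⟶ F.obj.obj (op (EtCoh.top X))) (h : IsConstant F fun m => φ m) :
    IsIso (homConst F φ) := by
  refine isIso_of_isConstant _ (isConstant_unitTop M) ?_
  intro Ω _ _ ξ U x
  have e : ∀ m, rest F U ((homConst F φ).hom.app (op (EtCoh.top X)) (unitTop M m)) =
      rest F U (φ m) := fun m =>
    ((NatTrans.naturality_apply (homConst F φ).hom ((EtCore.topIsTerminal X).from U).op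
      (unitTop M m)).symm).trans (homConst_rest F φ U m)
  simp_rw [e]
  exact h Ω ξ U x

theorem constHom_ext {M : AddCommGrpCat.{u + 1}} {F : EtCoh.Ab X}
    {α β : (constantSheaf X.smallEtaleTopology AddCommGrpCat.{u + 1}).obj M ⟶ F}
    (h : ∀ (U : X.Etale) (m : M),
      α.hom.app (op U) (rest _ U (unitTop M m)) = β.hom.app (op U) (rest _ U (unitTop M m))) :
    α = β := by
  refine ObjectProperty.hom_ext _ (sheafify_hom_ext _ _ _ F.property ?_)
  refine NatTrans.ext (funext fun U => ConcreteCategory.hom_ext _ _ fun m => ?_)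
  have h' := h U.unop m
  rw [rest_unitTop] at h'
  exact (ConcreteCategory.comp_apply _ _ _).trans (h'.trans (ConcreteCategory.comp_apply _ _ _).symm)

end Groth.Agent.H18Et.ConstSheaf
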