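import Groth.Agent.H18Et.PtColimTensor
import Groth.Agent.H9Hens.PtConstruct
import Groth.Agent.H9Hens.PtField
import Groth.Agent.H9Hens.Pair
import Groth.Agent.H9Hens.PairOps
import Mathlib.FieldTheory.PurelyInseparable.Basic
import Mathlib.RingTheory.LocalRing.ResidueField.Instances
import Mathlib.RingTheory.Unramified.LocalRing

/-! Étale algebras over an integral radicial extension come étale-locally from the base. -/

set_option autoImplicit false

universe u

open TensorProduct Polynomial

namespace Groth.Agent.H18Et.UHomeoLift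

open H9Hens

attribute [local instance] Algebra.TensorProduct.rightAlgebra

section Point

variable {A : Type u} [CommRing A] (p : Ideal A) [p.IsPrime] {Ω : Type u} [Field Ω]
  [Algebra p.ResidueField Ω] [Algebra A Ω] [IsScalarTower A p.ResidueField Ω]

theorem surjective_of_separableClosure {H : Type u} [CommRing H] [Algebra A H]
    {π : H →ₐ[A] separableClosure p.ResidueField Ω} (hH : IsPtColim π) :
    Function.Surjective π := by
  intro x
  let κ := p.ResidueField
  have hx : IsSeparable κ (x : Ω) := mem_separableClosure_iff.mp x.2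
  have hx' : IsSeparable κ x :=
    IsSeparable.of_algHom (separableClosure κ Ω).val hx
  let g := minpoly κ x
  obtain ⟨b, hb⟩ := IsLocalization.exist_integer_multiples_of_finset (nonZeroDivisors (A ⧸ p))
    (g.coeffs : Finset κ)
  obtain ⟨s, hs⟩ := Ideal.Quotient.mk_surjective (b : A ⧸ p)
  let As := Localization.Away s
  have hs' : IsUnit (algebraMap A κ s) := by
    rw [IsScalarTower.algebraMap_apply A (A ⧸ p) κ, Ideal.Quotient.algebraMap_eq, hs]
    exact IsLocalization.map_units κ b
  let ρ : As →ₐ[A] κ := IsLocalization.Away.liftAlgHom s (f := Algebra.ofId A κ) hs'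
  have hρ : ∀ a, ρ (algebraMap A As a) = algebraMap A κ a := ρ.commutes
  have hlifts : g ∈ Polynomial.lifts ρ.toRingHom := by
    rw [Polynomial.lifts_iff_coeff_lifts]
    intro n
    by_cases h : g.coeff n = 0
    · exact ⟨0, by rw [map_zero, h]⟩
    obtain ⟨c, hc⟩ := hb _ (Polynomial.coeff_mem_coeffs h)
    obtain ⟨a, rfl⟩ := Ideal.Quotient.mk_surjective c
    refine ⟨IsLocalization.mk' As a ⟨s, Submonoid.mem_powers s⟩, hs'.mul_left_cancel ?_⟩
    have hm : algebraMap A κ s * ρ (IsLocalization.mk' As a ⟨s, Submonoid.mem_powers s⟩) =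
        algebraMap A κ a := by
      rw [← hρ s, ← map_mul, IsLocalization.mk'_spec'_mk, hρ]
    refine hm.trans ?_
    rw [Algebra.smul_def] at hc
    simpa only [IsScalarTower.algebraMap_apply A (A ⧸ p) κ, Ideal.Quotient.algebraMap_eq, hs] using hc
  obtain ⟨F, hF, -, hFm⟩ := lifts_and_natDegree_eq_and_monic hlifts
    (minpoly.monic hx'.isIntegral)
  let P : StandardEtalePair As := ⟨F, hFm, F.derivative, ⟨1, 0, 1, by simp⟩⟩
  let k := separableClosure κ Ω
  letI : Algebra As k := ((algebraMap κ k).comp ρ.toRingHom).toAlgebra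
  haveI : IsScalarTower A As k := IsScalarTower.of_algebraMap_eq fun a => by
    show algebraMap A k a = algebraMap κ k (ρ (algebraMap A As a))
    rw [hρ, ← IsScalarTower.algebraMap_apply]
  have h0 : ∀ q : As[X], aeval x q = aeval x (q.map ρ.toRingHom) := fun q => by
    rw [aeval_def, aeval_def, eval₂_map]
    rfl
  have hPx : P.HasMap x := by
    refine ⟨?_, ?_⟩
    · rw [h0, hF, minpoly.aeval]
    · refine _root_.isUnit_iff_ne_zero.mpr ?_
      rw [h0, ← derivative_map, hF]
      exact hx'.aeval_derivative_ne_zero (minpoly.aeval _ _)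
  letI : Algebra A P.Ring := ((algebraMap As P.Ring).comp (algebraMap A As)).toAlgebra
  haveI : IsScalarTower A As P.Ring := IsScalarTower.of_algebraMap_eq fun _ => rfl
  haveI : Algebra.Etale A As := Algebra.Etale.of_isLocalizationAway s
  haveI : Algebra.Etale A P.Ring := Algebra.Etale.comp A As P.Ring
  obtain ⟨φ, hφ⟩ := hH.exists_map P.Ring ((P.lift x hPx).restrictScalars A)
  exact ⟨φ P.X, (DFunLike.congr_fun hφ P.X).trans (P.lift_X x hPx)⟩

end Point

/-- An étale algebra over a radicial integral extension receives, near every point, a pulled back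
étale algebra with a compatible point. -/
theorem exists_etale_lift (A B C : Type u) [CommRing A] [CommRing B] [CommRing C] [Algebra A B]
    [Algebra.IsIntegral A B] [Algebra B C] [Algebra.Etale B C]
    (hinj : ∀ (T : Type u) [CommRing T] [Algebra A T],
      Function.Injective (PrimeSpectrum.comap (algebraMap T (B ⊗[A] T))))
    (u : Ideal C) [u.IsPrime] :
    ∃ (T : Type u) (_ : CommRing T) (_ : Algebra A T) (_ : Algebra.Etale A T)
      (θ : C →ₐ[B] B ⊗[A] T) (w : PrimeSpectrum (B ⊗[A] T)), w.asIdeal.comap θ.toRingHom = u := by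
  letI : Algebra A C := ((algebraMap B C).comp (algebraMap A B)).toAlgebra
  haveI : IsScalarTower A B C := IsScalarTower.of_algebraMap_eq fun _ => rfl
  let Ω := u.ResidueField
  let q := u.comap (algebraMap B C)
  let p := q.comap (algebraMap A B)
  haveI : u.LiesOver q := ⟨rfl⟩
  haveI : q.LiesOver p := ⟨rfl⟩
  haveI : u.LiesOver p := Ideal.LiesOver.trans u q p
  letI := Localization.AtPrime.algebraOfLiesOver p q
  letI := Localization.AtPrime.algebraOfLiesOver q u
  letI := Localization.AtPrime.algebraOfLiesOver p u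
  haveI : Algebra.IsSeparable q.ResidueField Ω := inferInstance
  haveI : Algebra.IsAlgebraic p.ResidueField q.ResidueField := inferInstance
  haveI : IsScalarTower p.ResidueField q.ResidueField Ω := inferInstance
  haveI : Algebra.IsAlgebraic p.ResidueField Ω := Algebra.IsAlgebraic.trans _ q.ResidueField _
  let k := separableClosure p.ResidueField Ω
  obtain ⟨H, _, _, π, hH⟩ := exists_isPtColim A k
  have hπ : Function.Surjective π := surjective_of_separableClosure p hH
  have := hH.isLocalRing
  let I := RingHom.ker π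
  have hI : I.IsMaximal := RingHom.ker_isMaximal_of_surjective π hπ
  haveI : HenselianRing H I := hH.henselianRing
  let R := B ⊗[A] H
  haveI : Algebra.IsIntegral H R := by
    refine ⟨fun z => ?_⟩
    induction z using TensorProduct.induction_on with
    | zero => exact isIntegral_zero
    | add x y hx hy => exact hx.add hy
    | tmul b h =>
      have h1 : IsIntegral A ((Algebra.TensorProduct.includeLeft : B →ₐ[A] R) b) :=
        (Algebra.IsIntegral.isIntegral b).map _
      have h2 : IsIntegral H (b ⊗ₜ[A] (1 : H) : R) := h1.tower_top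
      have h3 : (b ⊗ₜ[A] h : R) = b ⊗ₜ[A] (1 : H) * algebraMap H R h := by
        show _ = _ * ((1 : B) ⊗ₜ[A] h)
        rw [Algebra.TensorProduct.tmul_mul_tmul, mul_one, one_mul]
      rw [h3]
      exact h2.mul isIntegral_algebraMap
  let πΩ : H →ₐ[A] Ω := (k.val.restrictScalars A).comp π
  let τ : R →ₐ[B] Ω := Algebra.TensorProduct.lift (Algebra.ofId B Ω) πΩ fun _ _ => Commute.all _ _
  have hτH : ∀ h, τ (algebraMap H R h) = πΩ h := fun h => by
    show τ ((1 : B) ⊗ₜ[A] h) = _
    exact (Algebra.TensorProduct.lift_tmul _ _ _ _ _).trans (by rw [map_one, one_mul])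
  have hkτ : ∀ x : k, (x : Ω) ∈ Set.range τ := fun x => by
    obtain ⟨h, rfl⟩ := hπ x
    exact ⟨_, hτH h⟩
  -- the image is everything
  have hsurj : Function.Surjective τ := by
    let D : Subalgebra p.ResidueField Ω :=
      { τ.toRingHom.range.toSubsemiring with
        algebraMap_mem' := fun c => hkτ (algebraMap p.ResidueField k c) }
    have hD : IsField D := Subalgebra.isField_of_algebraic D
    have hinv : ∀ x ∈ D, x⁻¹ ∈ D := fun x hx => by
      by_cases h0 : x = 0
      · rw [h0, inv_zero]; exact D.zero_mem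
      obtain ⟨y, hy⟩ := hD.mul_inv_cancel (a := (⟨x, hx⟩ : D))
        (fun e => h0 (congrArg Subtype.val e))
      have : (y : Ω) = x⁻¹ := eq_inv_of_mul_eq_one_right (congrArg Subtype.val hy)
      exact this ▸ y.2
    let E : IntermediateField p.ResidueField Ω := D.toIntermediateField hinv
    have hB : ∀ b, algebraMap B Ω b ∈ E := fun b => ⟨b ⊗ₜ[A] 1,
      (Algebra.TensorProduct.lift_tmul _ _ _ _ _).trans (by rw [map_one, mul_one]; rfl)⟩
    have hq : ∀ c : q.ResidueField, algebraMap q.ResidueField Ω c ∈ E := by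
      intro c
      obtain ⟨n, d, -, rfl⟩ := IsFractionRing.div_surjective (A := B ⧸ q) c
      obtain ⟨n, rfl⟩ := Ideal.Quotient.mk_surjective n
      obtain ⟨d, rfl⟩ := Ideal.Quotient.mk_surjective d
      simp only [← Ideal.Quotient.algebraMap_eq, ← IsScalarTower.algebraMap_apply, map_div₀]
      exact E.div_mem (hB n) (hB d)
    letI : Algebra q.ResidueField E :=
      ((algebraMap q.ResidueField Ω).codRestrict E.toSubalgebra.toSubring hq).toAlgebra
    haveI : IsScalarTower q.ResidueField E Ω := IsScalarTower.of_algebraMap_eq fun _ => rfl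
    haveI : Algebra.IsSeparable E Ω :=
      Algebra.isSeparable_tower_top_of_isSeparable q.ResidueField E Ω
    haveI : IsPurelyInseparable E Ω := by
      rw [isPurelyInseparable_iff_pow_mem E (ringExpChar p.ResidueField)]
      intro x
      obtain ⟨n, y, hy⟩ := (isPurelyInseparable_iff_pow_mem k (ringExpChar p.ResidueField)).mp
        (separableClosure.isPurelyInseparable p.ResidueField Ω) x
      exact ⟨n, ⟨(y : Ω), hkτ y⟩, hy⟩
    intro x
    obtain ⟨y, hy⟩ := IsPurelyInseparable.surjective_algebraMap_of_isSeparable E Ω x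
    obtain ⟨z, hz⟩ := y.2
    exact ⟨z, hz.trans hy⟩
  let J := RingHom.ker τ
  haveI : HenselianRing R J := by
    haveI h1 := henselianRing_of_isIntegral (A := H) (I := I) R
    have h2 := henselianRing_radical (A := R) (I := I.map (algebraMap H R))
    have hrad : (I.map (algebraMap H R)).radical = J := by
      have hle : I.map (algebraMap H R) ≤ J := Ideal.map_le_iff_le_comap.mpr fun h hh => by
        rw [Ideal.mem_comap, RingHom.mem_ker, hτH]
        show ((π h : k) : Ω) = 0
        rw [RingHom.mem_ker.mp hh]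
        rfl
      have hJ : J.IsMaximal := RingHom.ker_isMaximal_of_surjective τ hsurj
      refine le_antisymm ((Ideal.IsRadical.radical_le_iff hJ.isPrime.isRadical).mpr hle) ?_
      rw [Ideal.radical_eq_sInf]
      refine le_sInf fun P ⟨hP, hPp⟩ => le_of_eq ?_
      have e : ∀ Q : Ideal R, Q.IsPrime → I.map (algebraMap H R) ≤ Q →
          Q.comap (algebraMap H R) = I := fun Q hQ hQI =>
        (hI.eq_of_le (Ideal.IsPrime.ne_top (Ideal.IsPrime.comap _))
          (Ideal.map_le_iff_le_comap.mp hQI)).symm
      exact congrArg PrimeSpectrum.asIdeal (hinj H (a₁ := ⟨J, hJ.isPrime⟩) (a₂ := ⟨P, hPp⟩)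
        (PrimeSpectrum.ext ((e J hJ.isPrime hle).trans (e P hPp hP).symm)))
    exact hrad ▸ h2
  let e : (R ⧸ J) ≃ₐ[B] Ω := Ideal.quotientKerAlgEquivOfSurjective hsurj
  let σB : C →ₐ[B] R ⧸ J := e.symm.toAlgHom.comp (IsScalarTower.toAlgHom B C Ω)
  obtain ⟨s, hs⟩ := exists_algHom_lift (I := J) (S := R ⊗[B] C)
    (Algebra.TensorProduct.lift (Algebra.ofId R (R ⧸ J)) σB fun _ _ => Commute.all _ _)
  let θ : C →ₐ[B] R := (s.restrictScalars B).comp Algebra.TensorProduct.includeRight
  have hθ : ∀ c, τ (θ c) = algebraMap C Ω c := by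
    intro c
    have h1 : Ideal.Quotient.mk J (θ c) = σB c := by
      have := DFunLike.congr_fun hs ((1 : R) ⊗ₜ[B] c)
      simpa [θ] using this
    have h2 : τ (θ c) = e (Ideal.Quotient.mk J (θ c)) := rfl
    rw [h2, h1]
    exact e.apply_symm_apply _
  obtain ⟨T, _, _, _, φT, θT, hθT⟩ := PtColimTensor.exists_descend_algHom hH B C θ
  let τT : B ⊗[A] T →+* Ω := τ.toRingHom.comp (PtColimTensor.mapB B φT).toRingHom
  refine ⟨T, inferInstance, inferInstance, inferInstance, θT,
    ⟨RingHom.ker τT, RingHom.ker_isPrime _⟩, Ideal.ext fun c => ?_⟩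
  show τ (PtColimTensor.mapB B φT (θT c)) = 0 ↔ c ∈ u
  rw [← AlgHom.comp_apply (PtColimTensor.mapB B φT), hθT, hθ, ← RingHom.mem_ker,
    Ideal.ker_algebraMap_residueField]

end Groth.Agent.H18Et.UHomeoLift
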