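import Groth.Agent.H18Et.TopInvQuot
import Groth.Agent.H18Et.UHomeoLift

/-!
# Topological invariance of the étale site: local lifting
-/

set_option autoImplicit false

universe u

open CategoryTheory CategoryTheory.Limits AlgebraicGeometry Opposite TensorProduct

set_option backward.isDefEq.respectTransparency false

namespace Groth.Agent.H18Et.TopInvLocal

variable {A B : Type u} [CommRing A] [CommRing B] [Algebra A B]

attribute [local instance] Algebra.TensorProduct.rightAlgebra in
theorem injective_comap_of_universallyInjective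
    [h : UniversallyInjective (Spec.map (CommRingCat.ofHom (algebraMap A B)))]
    (T : Type u) [CommRing T] [Algebra A T] :
    Function.Injective (PrimeSpectrum.comap (algebraMap T (B ⊗[A] T))) := by
  let f := Spec.map (CommRingCat.ofHom (algebraMap A B))
  let k := Spec.map (CommRingCat.ofHom (algebraMap A T))
  have hs : UniversallyInjective ((pullbackSpecIso A B T).inv ≫ pullback.snd f k) := by
    have : UniversallyInjective (pullback.snd f k) := MorphismProperty.of_isPullback
      (P := @UniversallyInjective) (IsPullback.of_hasPullback f k) ‹_›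
    exact MorphismProperty.comp_mem _ _ _ inferInstance this
  rw [pullbackSpecIso_inv_snd] at hs
  exact @Scheme.Hom.injective _ _ _ hs

variable {S S' : Scheme.{u}} (g : S' ⟶ S) [IsIntegralHom g] [UniversallyInjective g] [Surjective g]

omit [IsIntegralHom g] [Surjective g] in
theorem universallyInjective_SpecMap_appLE {V : S.Opens} {V' : S'.Opens} (hV : IsAffineOpen V)
    (hV' : IsAffineOpen V') (e : V' ≤ g ⁻¹ᵁ V) : UniversallyInjective (Spec.map (g.appLE V V' e)) := by
  have h : UniversallyInjective (Spec.map (g.appLE V V' e) ≫ hV.fromSpec) := by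
    rw [hV.SpecMap_appLE_fromSpec g hV' e]
    exact MorphismProperty.comp_mem _ _ _ inferInstance ‹_›
  refine (List.TFAE.out (tfae_universallyInjective _) 0 1 rfl rfl).mpr fun K _ a b hab => ?_
  refine (List.TFAE.out (tfae_universallyInjective _) 0 1 rfl rfl).mp h K ?_
  show a ≫ _ ≫ _ = b ≫ _ ≫ _
  exact (Category.assoc _ _ _).symm.trans ((congrArg (· ≫ hV.fromSpec) hab).trans (Category.assoc _ _ _))

/-- Étale schemes over `S'` receive, near each point, a pulled back étale scheme. -/
theorem exists_chart (U₀ : S'.Etale) (u : U₀.left) :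
    ∃ (U₁ : U₀.left.Opens) (_ : IsAffineOpen U₁) (W : Over S) (_ : Etale W.hom)
      (m : pullback W.hom g ⟶ U₀.left),
      m ≫ U₀.hom = pullback.snd W.hom g ∧ Set.range m ⊆ U₁ ∧ u ∈ Set.range m := by
  haveI : Etale U₀.hom := U₀.prop
  obtain ⟨V, hV, huV, -⟩ := exists_isAffineOpen_mem_and_subset (U := ⊤)
    (Set.mem_univ (g (U₀.hom u)))
  let V' := g ⁻¹ᵁ V
  have hV' : IsAffineOpen V' := hV.preimage g
  obtain ⟨U₁, hU₁, huU, hle⟩ := exists_isAffineOpen_mem_and_subset (U := U₀.hom ⁻¹ᵁ V') huV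
  let A := Γ(S, V)
  let B := Γ(S', V')
  let C := Γ(U₀.left, U₁)
  let φ : A ⟶ B := g.appLE V V' le_rfl
  letI : Algebra A B := φ.hom.toAlgebra
  letI : Algebra B C := (U₀.hom.appLE V' U₁ hle).hom.toAlgebra
  haveI : Algebra.IsIntegral A B := ⟨fun b => by
    have h : φ.hom.IsIntegral := by
      rw [show φ = g.app V from (g.app_eq_appLE (U := V)).symm]
      exact IsIntegralHom.isIntegral_app g V hV
    exact h b⟩
  haveI : Algebra.Etale B C :=
    (RingHom.etale_algebraMap).mp (Etale.etale_appLE U₀.hom hV' hU₁ hle)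
  haveI : UniversallyInjective (Spec.map (CommRingCat.ofHom (algebraMap A B))) :=
    universallyInjective_SpecMap_appLE g hV hV' le_rfl
  obtain ⟨T, _, _, _, θ, w, hw⟩ := UHomeoLift.exists_etale_lift A B C
    (fun T _ _ => injective_comap_of_universallyInjective T) (hU₁.primeIdealOf ⟨u, huU⟩).asIdeal
  let k := Spec.map (CommRingCat.ofHom (algebraMap A T))
  let f := Spec.map (CommRingCat.ofHom (algebraMap A B))
  have hk : Etale k :=
    (HasRingHomProperty.Spec_iff (P := @Etale)).mpr (RingHom.etale_algebraMap.mpr ‹_›)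
  have hsq : f ≫ hV.fromSpec = hV'.fromSpec ≫ g := hV.SpecMap_appLE_fromSpec g hV' le_rfl
  let W : Over S := Over.mk (k ≫ hV.fromSpec)
  have hW : Etale W.hom := inferInstanceAs (Etale (k ≫ hV.fromSpec))
  have hrange : Set.range (pullback.snd W.hom g) ⊆ Set.range hV'.fromSpec := by
    rw [hV'.range_fromSpec]
    rintro _ ⟨z, rfl⟩
    show g (pullback.snd W.hom g z) ∈ V
    rw [← Scheme.Hom.comp_apply, ← pullback.condition, Scheme.Hom.comp_apply]
    refine hV.range_fromSpec.le ⟨k (pullback.fst W.hom g z), rfl⟩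
  let r := IsOpenImmersion.lift hV'.fromSpec (pullback.snd W.hom g) hrange
  have hr : r ≫ hV'.fromSpec = pullback.snd W.hom g := IsOpenImmersion.lift_fac _ _ _
  let l₀ : pullback W.hom g ⟶ pullback f k := pullback.lift r (pullback.fst W.hom g) (by
    rw [← cancel_mono hV.fromSpec, Category.assoc, Category.assoc, hsq, ← Category.assoc, hr]
    exact pullback.condition.symm)
  let j : pullback f k ⟶ pullback W.hom g :=
    pullback.lift (pullback.snd f k) (pullback.fst f k ≫ hV'.fromSpec) (by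
      show pullback.snd f k ≫ k ≫ hV.fromSpec = _
      rw [Category.assoc, ← hsq, ← Category.assoc, ← pullback.condition, Category.assoc])
  have hjl : j ≫ l₀ = 𝟙 _ := by
    refine pullback.hom_ext ?_ ?_
    · rw [← cancel_mono hV'.fromSpec, Category.assoc, Category.assoc, pullback.lift_fst_assoc, hr,
        Category.id_comp]
      exact pullback.lift_snd _ _ _
    · rw [Category.assoc, pullback.lift_snd, Category.id_comp]
      exact pullback.lift_fst _ _ _
  let θ' : Spec (.of (B ⊗[A] T)) ⟶ Spec (.of C) := Spec.map (CommRingCat.ofHom θ.toRingHom)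
  let m : pullback W.hom g ⟶ U₀.left := l₀ ≫ (pullbackSpecIso A B T).hom ≫ θ' ≫ hU₁.fromSpec
  refine ⟨U₁, hU₁, W, hW, m, ?_, ?_, ?_⟩
  · have h1 : hU₁.fromSpec ≫ U₀.hom = Spec.map (U₀.hom.appLE V' U₁ hle) ≫ hV'.fromSpec :=
      (hV'.SpecMap_appLE_fromSpec U₀.hom hU₁ hle).symm
    have h2 : θ' ≫ Spec.map (U₀.hom.appLE V' U₁ hle) =
        Spec.map (CommRingCat.ofHom (algebraMap B (B ⊗[A] T))) := by
      rw [← Spec.map_comp]
      exact congrArg Spec.map (CommRingCat.hom_ext (RingHom.ext fun b => θ.commutes b))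
    simp only [m, Category.assoc]
    rw [h1, reassoc_of% h2, pullbackSpecIso_hom_fst'_assoc, pullback.lift_fst_assoc, hr]
  · rintro _ ⟨z, rfl⟩
    exact hU₁.range_fromSpec.le ⟨_, rfl⟩
  · refine ⟨j ((pullbackSpecIso A B T).inv w), ?_⟩
    have h3 : (pullbackSpecIso A B T).inv ≫ j ≫ m = θ' ≫ hU₁.fromSpec := by
      simp only [m, reassoc_of% hjl, Iso.inv_hom_id_assoc]
    refine (congrArg (fun k => k w) h3).trans ?_
    rw [Scheme.Hom.comp_apply]
    have h4 : θ' w = hU₁.primeIdealOf ⟨u, huU⟩ := PrimeSpectrum.ext hw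
    rw [h4]
    exact hU₁.fromSpec_primeIdealOf ⟨u, huU⟩

/-- Every point of an étale scheme over `S'` has a neighbourhood which comes from `S`. -/
theorem exists_liftable (U₀ : S'.Etale) (u : U₀.left) : ∃ i : TopInv.Liftable g U₀, u ∈ i.1 := by
  obtain ⟨U₁, hU₁, W, hW, m, hm, hmU, hu⟩ := exists_chart g U₀ u
  haveI : Etale U₀.hom := U₀.prop
  haveI : Etale (m ≫ U₀.hom) := by rw [hm]; infer_instance
  haveI : Etale m := Etale.of_comp m U₀.hom
  let O : U₀.left.Opens := ⟨Set.range m, m.isOpenMap.isOpen_range⟩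
  have hO : O ≤ U₁ := hmU
  let U₀' : Over S' := Over.mk (O.ι ≫ U₀.hom)
  haveI : Etale U₀'.hom := inferInstanceAs (Etale (O.ι ≫ U₀.hom))
  haveI : IsSeparated U₀'.hom := by
    haveI : IsAffine U₁.toScheme := hU₁
    haveI : IsSeparated ((U₁.ι ≫ U₀.hom) ≫ terminal.from S') := inferInstance
    haveI : IsSeparated (U₁.ι ≫ U₀.hom) := IsSeparated.of_comp _ (terminal.from S')
    show IsSeparated (O.ι ≫ U₀.hom)
    rw [← Scheme.homOfLE_ι _ hO, Category.assoc]
    infer_instance
  let m₀ : pullback W.hom g ⟶ O.toScheme := IsOpenImmersion.lift O.ι m (by rw [O.range_ι]; rfl)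
  have hm₀ : m₀ ≫ O.ι = m := IsOpenImmersion.lift_fac _ _ _
  let M : (Over.pullback g).obj W ⟶ U₀' := Over.homMk m₀ (by
    show m₀ ≫ O.ι ≫ U₀.hom = pullback.snd W.hom g
    rw [← Category.assoc, hm₀, hm])
  haveI : Etale m₀ := by
    haveI : Etale (m₀ ≫ O.ι) := by rw [hm₀]; infer_instance
    exact Etale.of_comp m₀ O.ι
  haveI : Etale M.left := ‹_›
  haveI : Surjective M.left := ⟨fun o => by
    obtain ⟨z, hz⟩ := o.2
    exact ⟨z, O.ι.injective ((congrArg (fun k => k z) hm₀).trans hz)⟩⟩
  obtain ⟨Q, hQ, ⟨e⟩⟩ := TopInvQuot.exists_descent g M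
  let Q' : S.Etale := MorphismProperty.Over.mk ⊤ Q.hom hQ
  let i : ((EtCoh.bc g).obj Q').left ≅ (openObj U₀ O).left := (Over.forget _).mapIso e
  exact ⟨⟨O, Q', ⟨MorphismProperty.Over.isoMk i (Over.w e.hom)⟩⟩, hu⟩

/-- Topological invariance of the small étale site. -/
theorem bc_isEquivalence : (EtCoh.bc g).IsEquivalence :=
  TopInv.bc_isEquivalence_of_local (g := g) (exists_liftable g)

end Groth.Agent.H18Et.TopInvLocal
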