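import Groth.Agent.H18Et.TopInvLocal
import Groth.Prelude.Def_EtCore
import Mathlib.CategoryTheory.Sites.DenseSubsite.SheafEquiv
import Mathlib.Algebra.Homology.DerivedCategory.Ext.MapBijective
import Mathlib.CategoryTheory.Abelian.GrothendieckCategory.EnoughInjectives
import Mathlib.Algebra.Category.Grp.AB
import Mathlib.CategoryTheory.Sites.Abelian

/-!
# Topological invariance of étale sheaves and cohomology
-/

set_option autoImplicit false

universe u

open CategoryTheory CategoryTheory.Limits AlgebraicGeometry Opposite

set_option backward.isDefEq.respectTransparency.types false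

namespace Groth.Agent.H18Et.TopInvSheaf

variable {X Y : Scheme.{u}} (f : X ⟶ Y)

theorem isDenseSubsite_bc [Surjective f] [(EtCoh.bc f).IsEquivalence] :
    (EtCoh.bc f).IsDenseSubsite Y.smallEtaleTopology X.smallEtaleTopology where
  functorPushforward_mem_iff {U S} := by
    refine ⟨fun hS => ?_, fun hS => (EtCoh.coverPreserving_bc f).cover_preserve hS⟩
    have eY : Y.smallEtaleTopology = (Y.smallPretopology (P := EtCoh.etaleMP) (Q := EtCoh.etaleMP)).toGrothendieck :=
      Scheme.smallGrothendieckTopology_eq_toGrothendieck_smallPretopology Y le_rfl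
    have eX : X.smallEtaleTopology = (X.smallPretopology (P := EtCoh.etaleMP) (Q := EtCoh.etaleMP)).toGrothendieck :=
      Scheme.smallGrothendieckTopology_eq_toGrothendieck_smallPretopology X le_rfl
    rw [eX] at hS
    rw [eY]
    replace hS := (Scheme.mem_toGrothendieck_smallPretopology _ _).1 hS
    refine (Scheme.mem_toGrothendieck_smallPretopology U S).2 fun y => ?_
    have : Surjective (pullback.fst U.hom f) := MorphismProperty.of_isPullback (P := @Surjective)
      (IsPullback.of_hasPullback U.hom f).flip ‹_›
    obtain ⟨x, rfl⟩ := (pullback.fst U.hom f).surjective y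
    obtain ⟨V', k, v, hk, -, hv⟩ := hS x
    obtain ⟨V, g, h, hg, rfl⟩ := hk
    have : Etale g.left := etale_left g
    refine ⟨V, g, (pullback.fst V.hom f) (h.left v), hg, this, ?_⟩
    rw [← hv]
    show _ = (pullback.fst U.hom f) (((EtCoh.bc f).map g).left (h.left v))
    exact (Scheme.Hom.comp_apply _ _ _).symm.trans
      ((congrArg (fun k => k (h.left v)) (EtCoh.isPullback_bc_map f g).w.symm).trans
        (Scheme.Hom.comp_apply _ _ _))

theorem isEquivalence_push [Surjective f] [(EtCoh.bc f).IsEquivalence] :
    (EtCoh.push f).IsEquivalence :=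
  haveI := isDenseSubsite_bc f
  inferInstance

theorem isEquivalence_pull [Surjective f] [(EtCoh.bc f).IsEquivalence] :
    (EtCoh.pull f).IsEquivalence :=
  haveI := isEquivalence_push f
  (EtCoh.pullPushAdj f).isEquivalence_left_of_isEquivalence_right

theorem bijective_Hpull [Surjective f] [(EtCoh.bc f).IsEquivalence]
    [PreservesFiniteLimits (EtCoh.pull f)] (F : EtCoh.Ab Y) (q : ℕ) :
    Function.Bijective (EtCore.Hpull f F q) := by
  haveI := isEquivalence_pull f
  haveI : (EtCoh.pull f).PreservesInjectiveObjects := Functor.preservesInjectiveObjects_of_adjunction_of_preservesMonomorphisms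
    (EtCoh.pull f).asEquivalence.symm.toAdjunction
  haveI := isEquivalence_push f
  rw [EtCore.Hpull, AddMonoidHom.coe_comp]
  refine Function.Bijective.comp ?_ ((EtCoh.pull f).mapExt_bijective_of_preservesInjectiveObjects _ _ q)
  refine ⟨fun e e' h => ?_, fun e => ⟨(Abelian.Ext.mk₀ (EtCore.pullConst f ℤ).hom).comp e (zero_add q), ?_⟩⟩
  · have := congrArg (fun z => (Abelian.Ext.mk₀ (EtCore.pullConst f ℤ).hom).comp z (zero_add q)) h
    simpa using this
  · show (Abelian.Ext.mk₀ _).comp _ (zero_add q) = e
    simp

end Groth.Agent.H18Et.TopInvSheaf
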