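import Groth.Prelude.Def_EtShriek2
import Groth.Prelude.Def_EtBase
import Mathlib.CategoryTheory.Adjunction.Unique

/-!
# Extension by zero commutes with inverse images
-/

set_option autoImplicit false

universe u

open CategoryTheory CategoryTheory.Limits AlgebraicGeometry Opposite

namespace Groth.Agent.H18Et.ExtZeroBaseChange

set_option backward.isDefEq.respectTransparency false
set_option backward.isDefEq.respectTransparency.types false

variable {V' V Y X : Scheme.{u}} {j : V ⟶ X} [Etale j] {f : Y ⟶ X} {j' : V' ⟶ Y} [Etale j'] {f' : V' ⟶ V}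

/-- The iso of the two ways of base changing an etale scheme. -/
noncomputable def objIso (h : IsPullback j' f' f j) (W : V.Etale) :
    (EtShriek.compEtale j').obj ((EtCoh.bc f').obj W) ≅ (EtCoh.bc f).obj ((EtShriek.compEtale j).obj W) :=
  MorphismProperty.Over.isoMk ((IsPullback.of_hasPullback W.hom f').paste_vert h.flip).isoPullback
    ((IsPullback.of_hasPullback W.hom f').paste_vert h.flip).isoPullback_hom_snd

theorem objIso_hom_fst (h : IsPullback j' f' f j) (W : V.Etale) :
    (objIso h W).hom.left ≫ pullback.fst (W.hom ≫ j) f = pullback.fst W.hom f' :=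
  ((IsPullback.of_hasPullback W.hom f').paste_vert h.flip).isoPullback_hom_fst

theorem objIso_hom_snd (h : IsPullback j' f' f j) (W : V.Etale) :
    (objIso h W).hom.left ≫ pullback.snd (W.hom ≫ j) f = pullback.snd W.hom f' ≫ j' :=
  ((IsPullback.of_hasPullback W.hom f').paste_vert h.flip).isoPullback_hom_snd

/-- The iso of site functors. -/
noncomputable def siteIso (h : IsPullback j' f' f j) :
    EtCoh.bc f' ⋙ EtShriek.compEtale j' ≅ EtShriek.compEtale j ⋙ EtCoh.bc f :=
  NatIso.ofComponents (objIso h) fun {W₁ W₂} g => by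
    refine MorphismProperty.Over.Hom.ext (pullback.hom_ext ?_ ?_)
    · show (((EtCoh.bc f').map g).left ≫ (objIso h W₂).hom.left) ≫ pullback.fst (W₂.hom ≫ j) f =
        ((objIso h W₁).hom.left ≫ pullback.lift (pullback.fst (W₁.hom ≫ j) f ≫ g.left)
          (pullback.snd (W₁.hom ≫ j) f) _) ≫ pullback.fst (W₂.hom ≫ j) f
      rw [Category.assoc, objIso_hom_fst, Category.assoc, pullback.lift_fst, ← Category.assoc, objIso_hom_fst]
      exact pullback.lift_fst _ _ _
    · show (((EtCoh.bc f').map g).left ≫ (objIso h W₂).hom.left) ≫ pullback.snd (W₂.hom ≫ j) f =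
        ((objIso h W₁).hom.left ≫ pullback.lift (pullback.fst (W₁.hom ≫ j) f ≫ g.left)
          (pullback.snd (W₁.hom ≫ j) f) _) ≫ pullback.snd (W₂.hom ≫ j) f
      rw [Category.assoc, objIso_hom_snd, Category.assoc, pullback.lift_snd, objIso_hom_snd, ← Category.assoc]
      exact congrArg (· ≫ j') (pullback.lift_snd _ _ _)

/-- Extension by zero commutes with inverse images. -/
noncomputable def baseChangeIso [EtShriek.JCont j] [EtShriek.JCont j'] (h : IsPullback j' f' f j) :
    EtCoh.pull f' ⋙ EtShriek.extZero j' ≅ EtShriek.extZero j ⋙ EtCoh.pull f :=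
  let J₁ := V.smallEtaleTopology
  let J₂ := Y.smallEtaleTopology
  haveI : (EtCoh.bc f' ⋙ EtShriek.compEtale j').IsContinuous J₁ J₂ :=
    Functor.isContinuous_comp _ _ J₁ V'.smallEtaleTopology J₂
  haveI : (EtShriek.compEtale j ⋙ EtCoh.bc f).IsContinuous J₁ J₂ :=
    Functor.isContinuous_comp _ _ J₁ X.smallEtaleTopology J₂
  let e : EtShriek.restrAlong j' ⋙ EtCoh.push f' ≅ EtCoh.push f ⋙ EtShriek.restrAlong j :=
    Functor.sheafPushforwardContinuousIso (siteIso h) AddCommGrpCat.{u + 1} J₁ J₂
  (((EtCoh.pullPushAdj f').comp (EtShriek.extZeroAdj j')).ofNatIsoRight e).leftAdjointUniq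
    ((EtShriek.extZeroAdj j).comp (EtCoh.pullPushAdj f))

end Groth.Agent.H18Et.ExtZeroBaseChange
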