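import Groth.Agent.H18Et.Stalk
import Groth.Prelude.Def_EtShriek2
import Mathlib.CategoryTheory.Sites.Point.Skyscraper

/-!
# Stalks of the extension by zero along an etale morphism
-/

set_option autoImplicit false

universe u

open CategoryTheory CategoryTheory.Limits AlgebraicGeometry Opposite

namespace Groth.Agent.H18Et.ExtZeroStalk

set_option backward.isDefEq.respectTransparency false
set_option backward.isDefEq.respectTransparency.types false

variable {U X : Scheme.{u}} (j : U ⟶ X) [Etale j] [EtShriek.JCont j]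
  {Ω : Type u} [Field Ω] [IsSepClosed Ω] (ξ : Spec (CommRingCat.of Ω) ⟶ X)

/-- The geometric points over `ξ`. -/
abbrev Pts : Type u := {v : Spec (CommRingCat.of Ω) ⟶ U // v ≫ j = ξ}

/-- The skyscraper functor. -/
noncomputable abbrev sky {S : Scheme.{u}} (p : Spec (CommRingCat.of Ω) ⟶ S) :
    AddCommGrpCat.{u + 1} ⥤ EtCoh.Ab S :=
  (Scheme.pointSmallEtale p).skyscraperSheafFunctor

/-- The stalk-skyscraper adjunction. -/
noncomputable abbrev skyAdj {S : Scheme.{u}} (p : Spec (CommRingCat.of Ω) ⟶ S) : EtCoh.stalk p ⊣ sky p :=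
  (Scheme.pointSmallEtale p).skyscraperSheafAdjunction

variable {j ξ} in
/-- An element of the fibre at `v` is an element of the fibre at `ξ`. -/
noncomputable def toFib (v : Pts j ξ) {W : U.Etale} (y : (Scheme.pointSmallEtale v.1).fiber.obj W) :
    (Scheme.pointSmallEtale ξ).fiber.obj ((EtShriek.compEtale j).obj W) :=
  Over.homMk y.left (show y.left ≫ W.hom ≫ j = ξ by
    rw [← Category.assoc, show y.left ≫ W.hom = v.1 from Over.w y, v.2])

variable {j ξ} in
/-- The geometric point of `U` under an element of the fibre at `ξ`. -/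
noncomputable def basePt {W : U.Etale} (x : (Scheme.pointSmallEtale ξ).fiber.obj ((EtShriek.compEtale j).obj W)) :
    Pts j ξ :=
  ⟨x.left ≫ W.hom, (Category.assoc _ _ _).trans (Over.w x)⟩

variable {j ξ} in
/-- An element of the fibre at `ξ`, over its base point. -/
noncomputable def baseFib {W : U.Etale} (x : (Scheme.pointSmallEtale ξ).fiber.obj ((EtShriek.compEtale j).obj W)) :
    (Scheme.pointSmallEtale (basePt x).1).fiber.obj W :=
  Over.homMk x.left rfl

theorem toFib_baseFib {W : U.Etale} (x : (Scheme.pointSmallEtale ξ).fiber.obj ((EtShriek.compEtale j).obj W)) :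
    toFib (basePt x) (baseFib x) = x :=
  Over.OverMorphism.ext rfl

theorem skyMap_π {S : Scheme.{u}} (p : Spec (CommRingCat.of Ω) ⟶ S) (M : AddCommGrpCat.{u + 1}) {W W' : S.Etaleᵒᵖ}
    (b : W ⟶ W') (y : (Scheme.pointSmallEtale p).fiber.obj W'.unop) :
    ((sky p).obj M).obj.map b ≫ Pi.π (fun _ : (Scheme.pointSmallEtale p).fiber.obj W'.unop => M) y =
      Pi.π (fun _ : (Scheme.pointSmallEtale p).fiber.obj W.unop => M) ((Scheme.pointSmallEtale p).fiber.map b.unop y) := by
  show Pi.map' _ _ ≫ Pi.π _ y = _
  exact (Pi.map'_comp_π _ _ y).trans (Category.comp_id _)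

/-- Projection of the restricted skyscraper to a skyscraper. -/
noncomputable def proj (v : Pts j ξ) : sky ξ ⋙ EtShriek.restrAlong j ⟶ sky v.1 where
  app M := ObjectProperty.homMk
    { app := fun W => Pi.lift fun y => Pi.π _ (toFib v y)
      naturality := fun W W' b => by
        refine Pi.hom_ext _ _ fun y => ?_
        refine (Category.assoc _ _ _).trans ?_
        refine Eq.trans ?_ (Category.assoc _ _ _).symm
        refine ((congrArg (_ ≫ ·) (Pi.lift_π _ y)).trans ?_).trans
          (((congrArg (_ ≫ ·) (skyMap_π v.1 M b y)).trans (Pi.lift_π _ _)).symm)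
        refine (skyMap_π ξ M _ _).trans (congrArg (Pi.π _) ?_)
        exact Over.OverMorphism.ext rfl }
  naturality M N g := by
    refine ObjectProperty.hom_ext _ (NatTrans.ext (funext fun W => Pi.hom_ext _ _ fun y => ?_))
    simp [EtShriek.restrAlong, GrothendieckTopology.Point.skyscraperPresheafFunctor, GrothendieckTopology.Point.skyscraperSheafFunctor]

variable (F : EtCoh.Ab U)

/-- The transpose at the point `v`. -/
noncomputable def theta (v : Pts j ξ) {M : AddCommGrpCat.{u + 1}}
    (k : (EtCoh.stalk ξ).obj ((EtShriek.extZero j).obj F) ⟶ M) : (EtCoh.stalk v.1).obj F ⟶ M :=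
  ((skyAdj v.1).homEquiv F M).symm
    ((EtShriek.extZeroAdj j).homEquiv F _ ((skyAdj ξ).homEquiv _ M k) ≫ (proj j ξ v).app M)

theorem theta_comp (v : Pts j ξ) {M N : AddCommGrpCat.{u + 1}}
    (k : (EtCoh.stalk ξ).obj ((EtShriek.extZero j).obj F) ⟶ M) (g : M ⟶ N) :
    theta j ξ F v (k ≫ g) = theta j ξ F v k ≫ g := by
  rw [theta, theta, Adjunction.homEquiv_naturality_right, Adjunction.homEquiv_naturality_right,
    Category.assoc, ← Adjunction.homEquiv_naturality_right_symm]
  refine congrArg _ ?_
  rw [Category.assoc]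
  exact congrArg _ ((proj j ξ v).naturality g)

theorem theta_ext {M : AddCommGrpCat.{u + 1}} {k k' : (EtCoh.stalk ξ).obj ((EtShriek.extZero j).obj F) ⟶ M}
    (h : ∀ v, theta j ξ F v k = theta j ξ F v k') : k = k' := by
  apply ((skyAdj ξ).homEquiv _ M).injective
  apply ((EtShriek.extZeroAdj j).homEquiv F _).injective
  refine ObjectProperty.hom_ext _ (NatTrans.ext (funext fun W => Pi.hom_ext _ _ fun x => ?_))
  have h' := congrArg (fun t => t.hom.app W ≫ Pi.π _ (baseFib (W := W.unop) x))
    (((skyAdj (basePt (W := W.unop) x).1).homEquiv F M).symm.injective (h (basePt (W := W.unop) x)))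
  simp only [ObjectProperty.FullSubcategory.comp_hom, NatTrans.comp_app, Category.assoc] at h'
  rw [show ((proj j ξ (basePt (W := W.unop) x)).app M).hom.app W ≫ Pi.π _ (baseFib (W := W.unop) x) = Pi.π _ x by
    refine (Pi.lift_π _ _).trans ?_
    rw [toFib_baseFib]] at h'
  exact h'

variable {F} in
theorem exists_theta {M : AddCommGrpCat.{u + 1}} (g : ∀ v : Pts j ξ, (EtCoh.stalk v.1).obj F ⟶ M) :
    ∃ k, ∀ v, theta j ξ F v k = g v := by
  let h := fun v : Pts j ξ => (skyAdj v.1).homEquiv F M (g v)
  let K := fun (W : U.Etaleᵒᵖ) (x : (Scheme.pointSmallEtale ξ).fiber.obj ((EtShriek.compEtale j).obj W.unop)) =>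
    (h (basePt x)).hom.app W ≫ Pi.π (fun _ : (Scheme.pointSmallEtale (basePt x).1).fiber.obj W.unop => M) (baseFib x)
  have hK : ∀ (W : U.Etaleᵒᵖ) (v : Pts j ξ) (y : (Scheme.pointSmallEtale v.1).fiber.obj W.unop),
      K W (toFib v y) = (h v).hom.app W ≫ Pi.π (fun _ : (Scheme.pointSmallEtale v.1).fiber.obj W.unop => M) y := by
    intro W v y
    have key : ∀ (v' : Pts j ξ) (y' : (Scheme.pointSmallEtale v'.1).fiber.obj W.unop),
        v' = v → y'.left = y.left → (h v').hom.app W ≫ Pi.π (fun _ : (Scheme.pointSmallEtale v'.1).fiber.obj W.unop => M) y' =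
          (h v).hom.app W ≫ Pi.π (fun _ : (Scheme.pointSmallEtale v.1).fiber.obj W.unop => M) y := by
      intro v' y' e hl
      subst e
      rw [show y' = y from Over.OverMorphism.ext hl]
    exact key (basePt (toFib v y)) (baseFib (toFib v y)) (Subtype.ext (Over.w y)) rfl
  let hh : F ⟶ (EtShriek.restrAlong j).obj ((sky ξ).obj M) := ObjectProperty.homMk
    { app := fun W => Pi.lift (K W)
      naturality := fun W W' b => by
        refine Pi.hom_ext _ _ fun x => ?_
        have e : (Scheme.pointSmallEtale ξ).fiber.map ((EtShriek.compEtale j).map b.unop) x =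
            toFib (basePt x) ((Scheme.pointSmallEtale (basePt x).1).fiber.map b.unop (baseFib x)) :=
          Over.OverMorphism.ext rfl
        calc (F.obj.map b ≫ Pi.lift (K W')) ≫ Pi.π (fun _ => M) x = F.obj.map b ≫ K W' x :=
              (Category.assoc _ _ _).trans (congrArg (F.obj.map b ≫ ·) (Pi.lift_π _ _))
          _ = K W (toFib (basePt x) ((Scheme.pointSmallEtale (basePt x).1).fiber.map b.unop (baseFib x))) := by
              rw [hK]
              refine ((Category.assoc _ _ _).symm.trans ((congrArg (· ≫ _) ((h (basePt x)).hom.naturality b)).trans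
                (Category.assoc _ _ _))).trans ?_
              exact congrArg (_ ≫ ·) (skyMap_π _ M b (baseFib x))
          _ = K W ((Scheme.pointSmallEtale ξ).fiber.map ((EtShriek.compEtale j).map b.unop) x) := by rw [e]
          _ = _ := ((Category.assoc _ _ _).trans ((congrArg (Pi.lift (K W) ≫ ·)
              (skyMap_π ξ M ((EtShriek.compEtale j).map b.unop).op x)).trans (Pi.lift_π _ _))).symm }
  refine ⟨((skyAdj ξ).homEquiv _ M).symm (((EtShriek.extZeroAdj j).homEquiv F _).symm hh), fun v => ?_⟩
  rw [theta, Equiv.apply_symm_apply, Equiv.apply_symm_apply, Equiv.symm_apply_eq]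
  refine ObjectProperty.hom_ext _ (NatTrans.ext (funext fun W => Pi.hom_ext _ _ fun y => ?_))
  simp only [ObjectProperty.FullSubcategory.comp_hom, NatTrans.comp_app, Category.assoc]
  refine (congrArg (hh.hom.app W ≫ ·) (Pi.lift_π _ y)).trans ?_
  exact (Pi.lift_π _ _).trans (hK W v y)

/-- The stalks of `j_! F` as a coproduct. -/
noncomputable def stalkIso :
    (EtCoh.stalk ξ).obj ((EtShriek.extZero j).obj F) ≅ ∐ fun v : Pts j ξ => (EtCoh.stalk v.1).obj F :=
  (mkCofanColimit (Cofan.mk ((EtCoh.stalk ξ).obj ((EtShriek.extZero j).obj F))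
      fun v : Pts j ξ => theta j ξ F v (𝟙 _))
    (fun t => (exists_theta j ξ fun v => t.inj v).choose)
    (fun t v => (theta_comp j ξ F v (𝟙 _) _).symm.trans ((congrArg _ (Category.id_comp _)).trans
      ((exists_theta j ξ fun v => t.inj v).choose_spec v)))
    (fun t m hm => theta_ext j ξ F fun v =>
      (((congrArg (theta j ξ F v) (Category.id_comp m)).symm.trans (theta_comp j ξ F v (𝟙 _) m)).trans (hm v)).trans
        ((exists_theta j ξ fun v => t.inj v).choose_spec v).symm)).coconePointUniqueUpToIso (coproductIsCoproduct _)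

end Groth.Agent.H18Et.ExtZeroStalk
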