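import Groth.Agent.H18Et.StalkSets
import Groth.Agent.H9Hens.Pair

/-!
# Sections over strictly henselian local rings
-/

universe u

open CategoryTheory CategoryTheory.Limits AlgebraicGeometry Opposite IsLocalRing

namespace Groth.Agent.H18Et

variable (R : Type u) [CommRing R] [HenselianLocalRing R]

/-- The closed point of a local scheme. -/
noncomputable abbrev closedGeomPt : Spec (CommRingCat.of (ResidueField R)) ⟶ Spec (CommRingCat.of R) :=
  Spec.map (CommRingCat.ofHom (residue R))

theorem exists_section_of_etale {V : Scheme.{u}} (f : V ⟶ Spec (CommRingCat.of R)) [Etale f]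
    (z : Spec (CommRingCat.of (ResidueField R)) ⟶ V) (hz : z ≫ f = closedGeomPt R) :
    ∃ s : Spec (CommRingCat.of R) ⟶ V, s ≫ f = 𝟙 _ ∧ closedGeomPt R ≫ s = z := by
  obtain ⟨S, j, hj, hmem, -⟩ := Scheme.exists_affine_mem_range_and_range_subset
    (x := z.base default) (U := (⊤ : V.Opens)) (by simp)
  have hrange : Set.range z.base ⊆ Set.range j.base := by
    rintro _ ⟨a, rfl⟩; rwa [Subsingleton.elim a default]
  let z' : Spec (CommRingCat.of (ResidueField R)) ⟶ Spec S := IsOpenImmersion.lift j z hrange
  have hz' : z' ≫ j = z := IsOpenImmersion.lift_fac j z hrange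
  obtain ⟨φ, hφ⟩ := Spec.map_surjective (j ≫ f)
  obtain ⟨ψ, hψ⟩ := Spec.map_surjective z'
  have hcomp : φ ≫ ψ = CommRingCat.ofHom (residue R) := Spec.map_injective (by
    rw [Spec.map_comp, hψ, hφ, ← Category.assoc, hz', hz])
  have het : Etale (Spec.map φ) := by rw [hφ]; infer_instance
  rw [HasRingHomProperty.Spec_iff (P := @Etale)] at het
  algebraize [φ.hom]
  let σ : S →ₐ[R] R ⧸ maximalIdeal R :=
    { (ψ.hom : S →+* R ⧸ maximalIdeal R) with
      commutes' := fun r => congr($(congrArg CommRingCat.Hom.hom hcomp) r) }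
  obtain ⟨τ, hτ⟩ := Groth.Agent.H9Hens.exists_algHom_lift (I := maximalIdeal R) σ
  refine ⟨Spec.map (CommRingCat.ofHom τ.toRingHom) ≫ j, ?_, ?_⟩
  · rw [Category.assoc, ← hφ, ← Spec.map_comp,
      show φ ≫ CommRingCat.ofHom τ.toRingHom = 𝟙 _ from CommRingCat.hom_ext (RingHom.ext τ.commutes),
      Spec.map_id]
  · rw [← hz', ← hψ, ← Category.assoc, ← Spec.map_comp]
    congr 2
    exact CommRingCat.hom_ext (RingHom.ext fun s => congr($hτ s))

/-- The tautological element of the fibre of the terminal object at the closed point. -/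
noncomputable abbrev closedFiberElt [IsSepClosed (ResidueField R)] :
    (Scheme.pointSmallEtale (closedGeomPt R)).fiber.obj (EtCoh.top (Spec (CommRingCat.of R))) :=
  Over.homMk (closedGeomPt R) (Category.comp_id _)

theorem exists_top_hom [IsSepClosed (ResidueField R)] (V : (Spec (CommRingCat.of R)).Etale)
    (z : (Scheme.pointSmallEtale (closedGeomPt R)).fiber.obj V) :
    ∃ g : EtCoh.top (Spec (CommRingCat.of R)) ⟶ V,
      (Scheme.pointSmallEtale (closedGeomPt R)).fiber.map g (closedFiberElt R) = z := by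
  have : Etale V.hom := V.prop
  obtain ⟨s, hs, hz⟩ := exists_section_of_etale R V.hom z.left (Over.w z)
  exact ⟨MorphismProperty.Over.homMk s hs trivial, Over.OverMorphism.ext hz⟩

theorem sections_bijective_stalk [IsSepClosed (ResidueField R)] {A : Type*} [Category.{u + 1} A]
    [HasColimitsOfSize.{u, u} A] {FA : A → A → Type*} {CA : A → Type (u + 1)}
    [∀ P Q, FunLike (FA P Q) (CA P) (CA Q)] [ConcreteCategory.{u + 1} A FA]
    [PreservesFilteredColimitsOfSize.{u, u} (CategoryTheory.forget A)]
    [(Spec (CommRingCat.of R)).smallEtaleTopology.HasSheafCompose (CategoryTheory.forget A)]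
    (F : Sheaf (Spec (CommRingCat.of R)).smallEtaleTopology A) :
    Function.Bijective (germ (closedGeomPt R) F _ (closedFiberElt R)) := by
  refine ⟨fun s t h => ?_, fun p => ?_⟩
  · obtain ⟨V, g, y, -, he⟩ := (germ_eq_iff _ F _ _ s t).1 h
    obtain ⟨r, -⟩ := exists_top_hom R V y
    have hrg : r ≫ g = 𝟙 _ := by
      apply (Scheme.Etale.forget _).map_injective
      apply Over.OverMorphism.ext
      have h1 : r.hom.left ≫ V.hom = 𝟙 _ := Over.w r.hom
      have h2 : g.hom.left = V.hom :=
        (Category.comp_id g.hom.left).symm.trans (Over.w g.hom)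
      exact (congrArg (r.hom.left ≫ ·) h2).trans h1
    have := congrArg (F.obj.map r.op) he
    simpa [← CategoryTheory.comp_apply, ← Functor.map_comp, ← op_comp, hrg] using this
  · obtain ⟨V, z, s, rfl⟩ := germ_surjective _ F p
    obtain ⟨g, hg⟩ := exists_top_hom R V z
    refine ⟨F.obj.map g.op s, ?_⟩
    exact ((Scheme.pointSmallEtale (closedGeomPt R)).toPresheafFiber_w_apply g (closedFiberElt R) F.obj s).trans
      (by rw [hg]; rfl)

end Groth.Agent.H18Et
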