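import Groth.Agent.H18Et.Henselian
import Groth.Agent.H18Et.PropAB
import Groth.Prelude.Def_EtCore
import Mathlib.CategoryTheory.Abelian.RightDerived
import Mathlib.Algebra.Homology.DerivedCategory.Ext.EnoughProjectives

/-!
# Vanishing of cohomology when global sections are exact
-/

universe u

open CategoryTheory CategoryTheory.Limits AlgebraicGeometry Opposite

namespace Groth.Agent.H18Et

/-- If global sections preserve epimorphisms, higher cohomology vanishes. -/
theorem subsingleton_H_of_surjective {X : Scheme.{u}}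
    (h : ∀ (F G : EtCoh.Ab X) (φ : F ⟶ G), Epi φ →
      Function.Surjective (φ.hom.app (op (EtCoh.top X))))
    (F : EtCoh.Ab X) {n : ℕ} (hn : 1 ≤ n) : Subsingleton (EtCoh.H X F n) := by
  let hT := EtCore.topIsTerminal X
  let c : EtCoh.Ab X :=
    (constantSheaf X.smallEtaleTopology AddCommGrpCat.{u + 1}).obj (AddCommGrpCat.of (ULift ℤ))
  have : Projective c := by
    refine ⟨fun {E G} g φ _ => ?_⟩
    obtain ⟨s, hs⟩ := h E G φ inferInstance
      (CategoryTheory.Sheaf.H.equiv₀ G hT (Abelian.Ext.mk₀ g))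
    refine ⟨Abelian.Ext.addEquiv₀ ((CategoryTheory.Sheaf.H.equiv₀ E hT).symm s), ?_⟩
    rw [← CategoryTheory.Sheaf.H.addEquiv₀_map, CategoryTheory.Sheaf.H.equiv₀_symm_naturality, hs,
      AddEquiv.symm_apply_apply]
    exact Abelian.Ext.addEquiv₀.apply_symm_apply g
  obtain ⟨m, rfl⟩ := Nat.exists_eq_add_of_le hn
  rw [add_comm]
  exact subsingleton_of_forall_eq 0 Abelian.Ext.eq_zero_of_projective

theorem surjective_app_top_of_strictlyHenselian (R : Type u) [CommRing R] [HenselianLocalRing R]
    [IsSepClosed (IsLocalRing.ResidueField R)] {F G : EtCoh.Ab (Spec (CommRingCat.of R))}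
    (φ : F ⟶ G) [Epi φ] :
    Function.Surjective (φ.hom.app (op (EtCoh.top (Spec (CommRingCat.of R))))) := fun t => by
  obtain ⟨p, hp⟩ := (AddCommGrpCat.epi_iff_surjective _).1
    ((epi_iff_stalk φ).1 inferInstance _ (closedGeomPt R)) (germ (closedGeomPt R) G _ (closedFiberElt R) t)
  obtain ⟨s, rfl⟩ := (sections_bijective_stalk R F).2 p
  refine ⟨s, (sections_bijective_stalk R G).1 ?_⟩
  rw [← hp, germ_naturality]

theorem isZero_rightDerived {C D : Type*} [Category C] [Category D] [Abelian C] [Abelian D]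
    [HasInjectiveResolutions C] (F : C ⥤ D) [F.Additive] [PreservesFiniteLimits F]
    [PreservesFiniteColimits F] (X : C) {q : ℕ} (hq : 1 ≤ q) : IsZero ((F.rightDerived q).obj X) := by
  obtain ⟨m, rfl⟩ := Nat.exists_eq_add_of_le hq
  rw [add_comm]
  let I := injectiveResolution X
  refine IsZero.of_iso ?_ (I.isoRightDerivedObj F (m + 1))
  refine (HomologicalComplex.exactAt_iff_isZero_homology _ _).1 ?_
  have h := I.cocomplex_exactAt_succ m
  rw [HomologicalComplex.exactAt_iff] at h ⊢
  exact h.map F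

end Groth.Agent.H18Et
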