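import Groth.Agent.H18Et.BaseChange
import Groth.Agent.H18Et.Vanishing
import Groth.Prelude.Def_PBC
import Mathlib.CategoryTheory.Sites.LocallySurjective
import Mathlib.Algebra.Homology.ShortComplex.ExactFunctor

/-!
# Exactness of direct images along integral morphisms and base change in all degrees
-/

universe u

open CategoryTheory CategoryTheory.Limits AlgebraicGeometry Opposite

namespace Groth.Agent.H18Et

open scoped Groth.Agent.H18Et

variable {X Y : Scheme.{u}}

theorem push_preservesFiniteColimits_of_isIntegralHom (f : X ⟶ Y) [IsIntegralHom f] :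
    PreservesFiniteColimits (EtCoh.push f) := by
  have : (EtCoh.push f).PreservesEpimorphisms := ⟨fun {F G} φ _ => by
    have : CategoryTheory.Sheaf.IsLocallySurjective φ :=
      isLocallySurjective_of_stalk φ fun x => ⟨_, _, SeparableClosure.isSepClosed _, geomPt x,
        geomPt_base x, (AddCommGrpCat.epi_iff_surjective _).1
          (@Functor.map_epi _ _ _ _ (EtCoh.stalk (geomPt x)) _ _ _ φ _)⟩
    have := isLocallySurjective_push f (propB_of_isIntegralHom f) φ
    exact Sheaf.epi_of_isLocallySurjective _⟩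
  have : (EtCoh.push f).IsRightAdjoint := ⟨_, ⟨EtCoh.pullPushAdj f⟩⟩
  refine ((EtCoh.push f).preservesFiniteColimits_tfae.out 0 3 rfl rfl).1 fun S hS => ?_
  have := hS.epi_g
  have := hS.mono_f
  exact ⟨hS.exact.map_of_mono_of_preservesKernel (EtCoh.push f) inferInstance inferInstance,
    inferInstance⟩

theorem cohCommutesWithBC_of_isIntegralHom (f : X ⟶ Y) [IsIntegralHom f] :
    EtPBC.CohCommutesWithBC f := by
  intro X' Y' f' g' g _ _ _ h F _ q
  have : IsIntegralHom f' := MorphismProperty.of_isPullback (P := @IsIntegralHom) h ‹_›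
  have := push_preservesFiniteColimits_of_isIntegralHom f
  have := push_preservesFiniteColimits_of_isIntegralHom f'
  have : (EtCoh.push f).IsRightAdjoint := ⟨_, ⟨EtCoh.pullPushAdj f⟩⟩
  have : (EtCoh.push f').IsRightAdjoint := ⟨_, ⟨EtCoh.pullPushAdj f'⟩⟩
  rcases Nat.eq_zero_or_pos q with rfl | hq
  · have := isIso_baseChange0_of_isIntegralHom f g f' g' h F
    exact ⟨(EtCoh.pull g).mapIso ((EtCoh.push f).rightDerivedZeroIsoSelf.app F) ≪≫
      asIso (EtCoh.baseChange0 f g f' g' h.w F) ≪≫
        ((EtCoh.push f').rightDerivedZeroIsoSelf.app ((EtCoh.pull g').obj F)).symm⟩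
  · have : (EtCoh.pull g).IsLeftAdjoint := ⟨_, ⟨EtCoh.pullPushAdj g⟩⟩
    exact ⟨((EtCoh.pull g).map_isZero (isZero_rightDerived (EtCoh.push f) F hq)).iso
      (isZero_rightDerived (EtCoh.push f') _ hq)⟩

end Groth.Agent.H18Et
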