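import Groth.Agent.H18Et.Germ
import Groth.Agent.H18Et.Support

/-!
# When the inverse image of a section vanishes
-/

universe u

open CategoryTheory CategoryTheory.Limits AlgebraicGeometry Opposite

namespace Groth.Agent.H18Et

theorem iso_inv_hom_apply {C : Type*} [Category C] {F G : C ⥤ Type u} (α : F ≅ G) (U : C)
    (y : F.obj U) : α.inv.app U (α.hom.app U y) = y :=
  ConcreteCategory.congr_hom (α.hom_inv_id_app U) y

variable {X Y : Scheme.{u}}

theorem ptOf_fiberCompIso_hom {Ω : Type u} [Field Ω] [IsSepClosed Ω] (f : X ⟶ Y)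
    (ξ : Spec (CommRingCat.of Ω) ⟶ X) (U : Y.Etale)
    (y : (Scheme.pointSmallEtale ξ).fiber.obj ((EtCoh.bc f).obj U)) :
    ptOf ((fiberCompIso f ξ).hom.app U y) = (pullback.fst U.hom f).base (ptOf y) := by
  rfl

theorem unit_app_eq_zero_iff (f : X ⟶ Y) (G : EtCoh.Ab Y) (U : Y.Etale) (s : EtCoh.sect G U) :
    ((EtCoh.pullPushAdj f).unit.app G).hom.app (op U) s = 0 ↔
      Set.range (pullback.fst U.hom f).base ⊆ (EtShriek.sectSupp G U s)ᶜ := by
  have key : ∀ (Ω : Type u) [Field Ω] [IsSepClosed Ω] (ξ : Spec (CommRingCat.of Ω) ⟶ X)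
      (y : (Scheme.pointSmallEtale ξ).fiber.obj ((EtCoh.bc f).obj U)),
      germ ξ ((EtCoh.pull f).obj G) ((EtCoh.bc f).obj U) y
          (((EtCoh.pullPushAdj f).unit.app G).hom.app (op U) s) = 0 ↔
        (pullback.fst U.hom f).base (ptOf y) ∉ EtShriek.sectSupp G U s := by
    intro Ω _ _ ξ y
    have h := stalkPullIso_inv_germ f ξ G U ((fiberCompIso f ξ).hom.app U y) s
    have hy : (fiberCompIso f ξ).inv.app U ((fiberCompIso f ξ).hom.app U y) = y :=
      iso_inv_hom_apply (fiberCompIso f ξ) U y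
    rw [hy] at h
    rw [← ptOf_fiberCompIso_hom f ξ U y, ← germ_eq_zero_iff]
    refine (Iff.of_eq (congrArg (· = 0) h.symm)).trans ?_
    exact AddEquiv.map_eq_zero_iff ((stalkPullIso f ξ).app G).symm.addCommGroupIsoToAddEquiv

  constructor
  · rintro h _ ⟨w, rfl⟩
    let x : X := ((EtCoh.bc f).obj U).hom.base w
    obtain ⟨y, hy⟩ := exists_fiber_over (U := (EtCoh.bc f).obj U) w (geomPt x) (geomPt_base x)
    have := (key _ (geomPt x) y).1 (by rw [h]; exact map_zero _)
    rwa [hy] at this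
  · intro h
    exact sect_ext (F := (EtCoh.pull f).obj G) (U := (EtCoh.bc f).obj U) _ _
      fun Ω _ _ ξ y => ((key Ω ξ y).2 (h ⟨ptOf y, rfl⟩)).trans (map_zero _).symm

end Groth.Agent.H18Et
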