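import Groth.Agent.H18Et.FibreSections
import Groth.Agent.H18Et.Germ
import Groth.Agent.H18Et.UnitZero
import Groth.Agent.H18Et.PushClosed
import Mathlib.FieldTheory.IsAlgClosed.AlgebraicClosure

/-!
# Base change of direct images along integral morphisms
-/

universe u

open CategoryTheory CategoryTheory.Limits AlgebraicGeometry Opposite

namespace Groth.Agent.H18Et

open scoped Groth.Agent.H18Et

set_option linter.unusedSectionVars false

section Points

variable {X Y : Scheme.{u}} {Ω : Type u} [Field Ω] [IsSepClosed Ω] (f : X ⟶ Y)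
  (ξ : Spec (CommRingCat.of Ω) ⟶ X)

theorem fiberCompIso_hom_left (V : Y.Etale)
    (y : (Scheme.pointSmallEtale ξ).fiber.obj ((EtCoh.bc f).obj V)) :
    ((fiberCompIso f ξ).hom.app V y).left =
      (show Spec (CommRingCat.of Ω) ⟶ pullback V.hom f from y.left) ≫ pullback.fst V.hom f :=
  rfl

theorem fiberCompIso_inv_left (V : Y.Etale)
    (v : (Scheme.pointSmallEtale (ξ ≫ f)).fiber.obj V) :
    (show Spec (CommRingCat.of Ω) ⟶ pullback V.hom f from ((fiberCompIso f ξ).inv.app V v).left) ≫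
      pullback.fst V.hom f = v.left :=
  (fiberCompIso_hom_left f ξ V _).symm.trans
    (congrArg (fun z => z.left) (ConcreteCategory.congr_hom ((fiberCompIso f ξ).inv_hom_id_app V) v))

end Points

theorem exists_family {α : Type*} {β : Type*} (P : β → Type*) (φ : α → β) (hφ : Function.Bijective φ)
    (u : ∀ a, P (φ a)) : ∃ t : ∀ b, P b, ∀ a, t (φ a) = u a :=
  ⟨Equiv.piCongrLeft P (Equiv.ofBijective φ hφ) u,
    fun a => Equiv.piCongrLeft_apply_apply P (Equiv.ofBijective φ hφ) u a⟩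

variable {X Y X' Y' : Scheme.{u}} {f : X ⟶ Y} {g : Y' ⟶ Y} {f' : X' ⟶ Y'} {g' : X' ⟶ X}
  {Ω : Type u} [Field Ω] [IsAlgClosed Ω] {η' : Spec (CommRingCat.of Ω) ⟶ Y'}

theorem exists_germ_common {Z : Scheme.{u}} (ξ : Spec (CommRingCat.of Ω) ⟶ Z) (F : EtCoh.Ab Z)
    {A B : Z.Etale} (x : (Scheme.pointSmallEtale ξ).fiber.obj A)
    (y : (Scheme.pointSmallEtale ξ).fiber.obj B) (t : EtCoh.sect F A) (s : EtCoh.sect F B)
    (h : germ ξ F A x t = germ ξ F B y s) :
    ∃ (C : Z.Etale) (a : C ⟶ A) (b : C ⟶ B) (z : (Scheme.pointSmallEtale ξ).fiber.obj C),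
      (Scheme.pointSmallEtale ξ).fiber.map a z = x ∧ (Scheme.pointSmallEtale ξ).fiber.map b z = y ∧
        F.obj.map a.op t = F.obj.map b.op s := by
  obtain ⟨⟨W, w⟩, ⟨a, ha⟩, ⟨b, hb⟩, -⟩ := IsCofilteredOrEmpty.cone_objs
    (C := (Scheme.pointSmallEtale ξ).fiber.Elements) ⟨A, x⟩ ⟨B, y⟩
  dsimp at a b ha hb
  have h1 : germ ξ F W w (F.obj.map a.op t) = germ ξ F A x t := by
    rw [← ha]; exact (Scheme.pointSmallEtale ξ).toPresheafFiber_w_apply a w F.obj t
  have h2 : germ ξ F W w (F.obj.map b.op s) = germ ξ F B y s := by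
    rw [← hb]; exact (Scheme.pointSmallEtale ξ).toPresheafFiber_w_apply b w F.obj s
  obtain ⟨C, c, z, hz, hc⟩ := (germ_eq_iff ξ F W w _ _).1 (h1.trans (h.trans h2.symm))
  refine ⟨C, c ≫ a, c ≫ b, z, ?_, ?_, ?_⟩
  · rw [← fiber_map_map (Scheme.pointSmallEtale ξ).fiber, hz, ha]
  · rw [← fiber_map_map (Scheme.pointSmallEtale ξ).fiber, hz, hb]
  · rw [op_comp, op_comp, Functor.map_comp, Functor.map_comp]
    exact hc

/-- The image of a geometric point of the base-changed fibre. -/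
noncomputable def mapPts (w : g' ≫ f = f' ≫ g) (ξ' : Pts f' η') : Pts f (η' ≫ g) :=
  ⟨ξ'.1 ≫ g', (Category.assoc _ _ _).trans ((congrArg (ξ'.1 ≫ ·) w).trans
    ((Category.assoc _ _ _).symm.trans (congrArg (· ≫ g) ξ'.2)))⟩

theorem mapPts_bijective (h : IsPullback g' f' f g) :
    Function.Bijective (mapPts (η' := η') h.w) := by
  refine ⟨fun a b hab => Subtype.ext (h.hom_ext (congrArg Subtype.val hab) (a.2.trans b.2.symm)),
    fun ξ => ⟨⟨h.lift ξ.1 η' ξ.2, h.lift_snd _ _ _⟩, Subtype.ext (h.lift_fst _ _ _)⟩⟩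

theorem bc_bc_pt_ext {ξ' : Pts f' η'} {V : Y.Etale}
    (y y' : (Scheme.pointSmallEtale ξ'.1).fiber.obj ((EtCoh.bc g').obj ((EtCoh.bc f).obj V)))
    (h : (show Spec (CommRingCat.of Ω) ⟶ pullback ((EtCoh.bc f).obj V).hom g' from y.left) ≫
        pullback.fst ((EtCoh.bc f).obj V).hom g' ≫ pullback.fst V.hom f =
      (show Spec (CommRingCat.of Ω) ⟶ pullback ((EtCoh.bc f).obj V).hom g' from y'.left) ≫
        pullback.fst ((EtCoh.bc f).obj V).hom g' ≫ pullback.fst V.hom f) : y = y' := by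
  have hw : ∀ z : (Scheme.pointSmallEtale ξ'.1).fiber.obj ((EtCoh.bc g').obj ((EtCoh.bc f).obj V)),
      (show Spec (CommRingCat.of Ω) ⟶ pullback ((EtCoh.bc f).obj V).hom g' from z.left) ≫
        pullback.snd ((EtCoh.bc f).obj V).hom g' = ξ'.1 := fun z => Over.w z
  refine Over.OverMorphism.ext (pullback.hom_ext (pullback.hom_ext ?_ ?_) ((hw y).trans (hw y').symm))
  · exact (Category.assoc _ _ _).trans (h.trans (Category.assoc _ _ _).symm)
  · refine (Category.assoc _ _ _).trans (Eq.trans ?_ (Category.assoc _ _ _).symm)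
    refine (congrArg (_ ≫ ·) pullback.condition).trans (Eq.trans ?_
      (congrArg (_ ≫ ·) pullback.condition.symm))
    exact (Category.assoc _ _ _).symm.trans ((congrArg (· ≫ g') ((hw y).trans (hw y').symm)).trans
      (Category.assoc _ _ _))

variable [IsIntegralHom f] [IsIntegralHom f']

set_option backward.isDefEq.respectTransparency.types false in
set_option maxHeartbeats 2000000 in
/-- The base change map on germs, evaluated at a geometric point of the fibre. -/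
theorem pushEval_baseChange0 (w : g' ≫ f = f' ≫ g) (F : EtCoh.Ab X) (ξ' : Pts f' η')
    (a : (EtCoh.stalk (η' ≫ g)).obj ((EtCoh.push f).obj F)) :
    (pushEval ξ').app ((EtCoh.pull g').obj F)
        ((EtCoh.stalk η').map (EtCoh.baseChange0 f g f' g' w F)
          ((stalkPullIso g η').inv.app ((EtCoh.push f).obj F) a)) =
      (stalkPullIso g' ξ'.1).inv.app F ((pushEval (mapPts w ξ')).app F a) := by
  obtain ⟨V, v, s, rfl⟩ := germ_surjective (η' ≫ g) _ a
  let z := (fiberCompIso g η').inv.app V v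
  let u := ((EtCoh.pullPushAdj g').unit.app F).hom.app (op ((EtCoh.bc f).obj V)) s
  let F' := (EtCoh.pull g').obj F
  let c₁ : (EtCoh.bc f').obj ((EtCoh.bc g).obj V) ⟶ (EtCoh.bc (f' ≫ g)).obj V :=
    (MorphismProperty.Over.pullbackComp (P := EtCoh.etaleMP) (Q := ⊤) f' g).inv.app V
  let c₂ : (EtCoh.bc (f' ≫ g)).obj V ⟶ (EtCoh.bc (g' ≫ f)).obj V :=
    (MorphismProperty.Over.pullbackCongr (P := EtCoh.etaleMP) (Q := ⊤) w).inv.app V
  let c₃ : (EtCoh.bc (g' ≫ f)).obj V ⟶ (EtCoh.bc g').obj ((EtCoh.bc f).obj V) :=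
    (MorphismProperty.Over.pullbackComp (P := EtCoh.etaleMP) (Q := ⊤) g' f).hom.app V
  have hψ : (EtCoh.baseChange0 f g f' g' w F).hom.app (op ((EtCoh.bc g).obj V))
      (((EtCoh.pullPushAdj g).unit.app ((EtCoh.push f).obj F)).hom.app (op V) s) =
      F'.obj.map c₁.op (F'.obj.map c₂.op (F'.obj.map c₃.op u)) := by
    have e := ((EtCoh.pullPushAdj g).homEquiv ((EtCoh.push f).obj F)
      ((EtCoh.push f').obj F')).apply_symm_apply
        ((EtCoh.push f).map ((EtCoh.pullPushAdj g').unit.app F) ≫ (EtCoh.pushComp f g').hom.app _ ≫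
          (EtCoh.pushCongr w).hom.app _ ≫ (EtCoh.pushComp g f').inv.app _)
    rw [Adjunction.homEquiv_unit] at e
    exact ConcreteCategory.congr_hom (congrArg (fun k => k.hom.app (op V)) e) s
  have e1 := stalkPullIso_inv_germ g η' ((EtCoh.push f).obj F) V v s
  rw [e1, pushEval_germ (mapPts w ξ') F V v s]
  refine (congrArg ((pushEval ξ').app F') (germ_naturality η' (EtCoh.baseChange0 f g f' g' w F)
    ((EtCoh.bc g).obj V) z _)).trans ?_
  refine (congrArg (fun x => (pushEval ξ').app F' (germ η' ((EtCoh.push f').obj F') _ z x)) hψ).trans ?_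
  refine (pushEval_germ ξ' F' ((EtCoh.bc g).obj V) z _).trans ?_
  refine Eq.trans ?_ (stalkPullIso_inv_germ g' ξ'.1 F ((EtCoh.bc f).obj V)
    (bcPt (mapPts w ξ') V v) s).symm
  let Φ := Scheme.pointSmallEtale ξ'.1
  refine (Φ.toPresheafFiber_w_apply c₁ (bcPt ξ' _ z) F'.obj _).trans ?_
  refine (Φ.toPresheafFiber_w_apply c₂ _ F'.obj _).trans ?_
  refine (Φ.toPresheafFiber_w_apply c₃ _ F'.obj _).trans ?_
  refine congrArg (fun x => germ ξ'.1 F' ((EtCoh.bc g').obj ((EtCoh.bc f).obj V)) x u) ?_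
  refine bc_bc_pt_ext _ _ ?_
  have h3 : c₃.left ≫ pullback.fst ((EtCoh.bc f).obj V).hom g' ≫ pullback.fst V.hom f =
      pullback.fst V.hom (g' ≫ f) :=
    MorphismProperty.Over.pullbackComp_left_fst_fst (P := EtCoh.etaleMP) (Q := ⊤) g' f V
  have h2 : c₂.left ≫ pullback.fst V.hom (g' ≫ f) = pullback.fst V.hom (f' ≫ g) :=
    (congrArg (c₂.left ≫ ·) (MorphismProperty.Over.pullbackCongr_hom_app_left_fst
      (P := EtCoh.etaleMP) (Q := ⊤) w V).symm).trans ((Category.assoc _ _ _).symm.trans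
      ((congrArg (· ≫ pullback.fst V.hom (f' ≫ g)) (congrArg (fun k => k.left)
        ((MorphismProperty.Over.pullbackCongr (P := EtCoh.etaleMP) (Q := ⊤) w).inv_hom_id_app V))).trans
        (Category.id_comp _)))
  have h1 : c₁.left ≫ pullback.fst V.hom (f' ≫ g) =
      pullback.fst ((EtCoh.bc g).obj V).hom f' ≫ pullback.fst V.hom g :=
    (congrArg (c₁.left ≫ ·) (MorphismProperty.Over.pullbackComp_left_fst_fst
      (P := EtCoh.etaleMP) (Q := ⊤) f' g V).symm).trans ((Category.assoc _ _ _).symm.trans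
      ((congrArg (· ≫ (pullback.fst ((EtCoh.bc g).obj V).hom f' ≫ pullback.fst V.hom g))
        (congrArg (fun k => k.left) ((MorphismProperty.Over.pullbackComp
          (P := EtCoh.etaleMP) (Q := ⊤) f' g).inv_hom_id_app V))).trans (Category.id_comp _)))
  have hL : ((((show Spec (CommRingCat.of Ω) ⟶ ((EtCoh.bc f').obj ((EtCoh.bc g).obj V)).left from
      secPt ξ' ≫ ιFib _ z) ≫ c₁.left) ≫ c₂.left) ≫ c₃.left) ≫
      pullback.fst ((EtCoh.bc f).obj V).hom g' ≫ pullback.fst V.hom f = v.left := by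
    rw [Category.assoc, h3, Category.assoc, h2, Category.assoc, h1, Category.assoc]
    refine (congrArg (secPt ξ' ≫ ·) ((Category.assoc _ _ _).symm.trans
      (congrArg (· ≫ pullback.fst V.hom g) (ιFib_fst _ z)))).trans ?_
    refine (Category.assoc _ _ _).symm.trans ?_
    refine (congrArg (· ≫ pullback.fst V.hom g) (((Category.assoc _ _ _).symm.trans
      (congrArg (· ≫ z.left) (pullback.lift_snd _ _ _))).trans (Category.id_comp _))).trans ?_
    exact fiberCompIso_inv_left g η' V v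
  refine hL.trans (Eq.symm ?_)
  refine (Category.assoc _ _ _).symm.trans ?_
  refine (congrArg (· ≫ pullback.fst V.hom f)
    (fiberCompIso_inv_left g' ξ'.1 ((EtCoh.bc f).obj V) (bcPt (mapPts w ξ') V v))).trans ?_
  refine (Category.assoc _ _ _).trans ?_
  refine (congrArg (secPt (mapPts w ξ') ≫ ·) (ιFib_fst V v)).trans ?_
  exact (Category.assoc _ _ _).symm.trans
    ((congrArg (· ≫ v.left) (pullback.lift_snd _ _ _)).trans (Category.id_comp _))

set_option backward.isDefEq.respectTransparency.types false in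
set_option maxHeartbeats 4000000 in
theorem exists_local_rep (h : IsPullback g' f' f g) (F : EtCoh.Ab X) (V' : Y'.Etale)
    (v' : (Scheme.pointSmallEtale η').fiber.obj V')
    (s' : EtCoh.sect ((EtCoh.push f').obj ((EtCoh.pull g').obj F)) V')
    (t : ∀ ξ : Pts f (η' ≫ g), (EtCoh.stalk ξ.1).obj F)
    (ht' : ∀ ξ' : Pts f' η', (stalkPullIso g' ξ'.1).inv.app F (t (mapPts h.w ξ')) =
      (pushEval ξ').app ((EtCoh.pull g').obj F)
        (germ η' ((EtCoh.push f').obj ((EtCoh.pull g').obj F)) V' v' s'))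
    (ξ₀ : Pts f' η') :
    ∃ (V : Y.Etale) (v : (Scheme.pointSmallEtale (η' ≫ g)).fiber.obj V)
      (O : ((EtCoh.bc f).obj V).left.Opens)
      (s : EtCoh.sect F (openObj ((EtCoh.bc f).obj V) O)),
      ptOf (bcPt (mapPts h.w ξ₀) V v) ∈ O ∧ ∀ (ζ : Pts f (η' ≫ g)) y,
        (Scheme.pointSmallEtale ζ.1).fiber.map (openHom _ O) y = bcPt ζ V v →
          germ ζ.1 F _ y s = t ζ := by
  let F' := (EtCoh.pull g').obj F
  have hinj' : ∀ ξ' : Pts f' η', Function.Injective ((stalkPullIso g' ξ'.1).inv.app F) := fun ξ' =>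
    ((ConcreteCategory.isIso_iff_bijective _).1 inferInstance).1
  let ξ := mapPts h.w ξ₀
  obtain ⟨U, zU, sU, hzU⟩ := germ_surjective ξ.1 F (t ξ)
  obtain ⟨V₁, v₁, O₁, k, hO₁, hk⟩ := exists_bc_lift ξ U zU
  let U₁ := openObj ((EtCoh.bc f).obj V₁) O₁
  let s₁ := F.obj.map k.op sU
  obtain ⟨y₀, hy₀⟩ := exists_openPt O₁ (bcPt ξ V₁ v₁) hO₁
  have hs₁ : germ ξ.1 F U₁ y₀ s₁ = t ξ := by
    refine ((Scheme.pointSmallEtale ξ.1).toPresheafFiber_w_apply k y₀ F.obj sU).trans ?_
    rw [hk y₀ hy₀]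
    exact hzU
  let zA := (fiberCompIso g' ξ₀.1).inv.app U₁ y₀
  have heq : germ ξ₀.1 F' ((EtCoh.bc g').obj U₁) zA
      (((EtCoh.pullPushAdj g').unit.app F).hom.app (op U₁) s₁) =
      germ ξ₀.1 F' ((EtCoh.bc f').obj V') (bcPt ξ₀ V' v') s' := by
    refine (stalkPullIso_inv_germ g' ξ₀.1 F U₁ y₀ s₁).symm.trans ?_
    refine (congrArg ((stalkPullIso g' ξ₀.1).inv.app F) hs₁).trans ((ht' ξ₀).trans ?_)
    exact pushEval_germ ξ₀ F' V' v' s'
  obtain ⟨C, a, b, zC, hza, hzb, hab⟩ := exists_germ_common ξ₀.1 F' _ _ _ _ heq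
  let B₁ := (EtCoh.bc g').obj ((EtCoh.bc f).obj V₁)
  let B₂ := (EtCoh.bc f').obj V'
  let j : (EtCoh.bc g').obj U₁ ⟶ B₁ := (EtCoh.bc g').map (openHom _ O₁)
  have : Etale B₁.hom := B₁.prop
  have : Etale B₂.hom := B₂.prop
  let T : X'.Etale := MorphismProperty.Over.mk ⊤ (pullback.fst B₁.hom B₂.hom ≫ B₁.hom)
    (inferInstanceAs (Etale (pullback.fst B₁.hom B₂.hom ≫ B₁.hom)))
  let l : C ⟶ T := MorphismProperty.Over.homMk (pullback.lift (a ≫ j).left b.left
      ((Over.w (a ≫ j).hom).trans (Over.w b.hom).symm))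
    ((pullback.lift_fst_assoc _ _ _ _).trans (Over.w (a ≫ j).hom)) trivial
  let P := pullback f (η' ≫ g)
  let P' := pullback f' η'
  have hP : IsPullback (pullback.fst f' η' ≫ g') (pullback.snd f' η') f (η' ≫ g) :=
    (IsPullback.of_hasPullback f' η').paste_horiz h
  let φ₁ : P' ⟶ B₁.left := pullback.lift (hP.isoPullback.hom ≫ ιFib V₁ v₁) (pullback.fst f' η')
    ((Category.assoc _ _ _).trans ((congrArg (hP.isoPullback.hom ≫ ·) (ιFib_snd V₁ v₁)).trans
      hP.isoPullback_hom_fst))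
  let φ : P' ⟶ T.left := pullback.lift φ₁ (ιFib V' v')
    ((pullback.lift_snd _ _ _).trans (ιFib_snd V' v').symm)
  have hsec : ∀ ξ' : Pts f' η', secPt ξ' ≫ hP.isoPullback.hom = secPt (mapPts h.w ξ') := fun ξ' => by
    refine pullback.hom_ext ?_ ?_
    · refine (Category.assoc _ _ _).trans ((congrArg (secPt ξ' ≫ ·) hP.isoPullback_hom_fst).trans ?_)
      refine (Category.assoc _ _ _).symm.trans ?_
      exact (congrArg (· ≫ g') (pullback.lift_fst _ _ _)).trans (pullback.lift_fst _ _ _).symm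
    · refine (Category.assoc _ _ _).trans ((congrArg (secPt ξ' ≫ ·) hP.isoPullback_hom_snd).trans ?_)
      exact (pullback.lift_snd _ _ _).trans (pullback.lift_snd _ _ _).symm
  have hsnd : ∀ ξ' : Pts f' η',
      (secPt ξ' ≫ φ) ≫ pullback.fst B₁.hom B₂.hom ≫ B₁.hom = ξ'.1 := fun ξ' => by
    rw [Category.assoc]
    refine (congrArg (secPt ξ' ≫ ·) ((pullback.lift_fst_assoc _ _ _ _).trans
      (pullback.lift_snd _ _ _))).trans ?_
    exact pullback.lift_fst _ _ _
  let zT : ∀ ξ' : Pts f' η', (Scheme.pointSmallEtale ξ'.1).fiber.obj T :=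
    fun ξ' => Over.homMk (secPt ξ' ≫ φ) (hsnd ξ')
  have hzT₁ : ∀ ξ' : Pts f' η',
      (show Spec (CommRingCat.of Ω) ⟶ B₁.left from (zT ξ').left ≫ pullback.fst B₁.hom B₂.hom) ≫
        pullback.fst ((EtCoh.bc f).obj V₁).hom g' = (bcPt (mapPts h.w ξ') V₁ v₁).left := fun ξ' => by
    refine (congrArg (· ≫ _) ((Category.assoc _ _ _).trans
      (congrArg (secPt ξ' ≫ ·) (pullback.lift_fst _ _ _)))).trans ?_
    refine (Category.assoc _ _ _).trans ((congrArg (secPt ξ' ≫ ·) (pullback.lift_fst _ _ _)).trans ?_)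
    exact (Category.assoc _ _ _).symm.trans (congrArg (· ≫ ιFib V₁ v₁) (hsec ξ'))
  have hzT₂ : ∀ ξ' : Pts f' η', (zT ξ').left ≫ pullback.snd B₁.hom B₂.hom =
      (bcPt ξ' V' v').left := fun ξ' =>
    (Category.assoc _ _ _).trans (congrArg (secPt ξ' ≫ ·) (pullback.lift_snd _ _ _))
  have hl₀ : (Scheme.pointSmallEtale ξ₀.1).fiber.map l zC = zT ξ₀ := by
    refine Over.OverMorphism.ext (pullback.hom_ext ?_ ?_)
    · refine (Category.assoc _ _ _).trans ((congrArg (zC.left ≫ ·) (pullback.lift_fst _ _ _)).trans ?_)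
      refine pullback.hom_ext ?_ ?_
      · refine Eq.trans ?_ (hzT₁ ξ₀).symm
        have e := fiberCompIso_inv_left g' ξ₀.1 U₁ y₀
        refine Eq.trans ?_ (congrArg (fun x => x.left) hy₀)
        have h1 : j.left ≫ pullback.fst ((EtCoh.bc f).obj V₁).hom g' =
            pullback.fst U₁.hom g' ≫ (openHom ((EtCoh.bc f).obj V₁) O₁).left :=
          (EtCoh.isPullback_bc_map g' (openHom ((EtCoh.bc f).obj V₁) O₁)).w
        refine (Category.assoc _ _ _).trans ?_
        refine (congrArg (zC.left ≫ ·) ((Category.assoc a.left j.left _).trans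
          (congrArg (a.left ≫ ·) h1))).trans ?_
        refine ((Category.assoc _ _ _).symm.trans ((Category.assoc _ _ _).symm)).trans ?_
        refine congrArg (· ≫ (openHom ((EtCoh.bc f).obj V₁) O₁).left) ?_
        exact (congrArg (fun x => x.left ≫ pullback.fst U₁.hom g') hza).trans e
      · have hw₁ : (a ≫ j).left ≫ B₁.hom = C.hom := Over.w (a ≫ j).hom
        refine (Category.assoc _ _ _).trans ((congrArg (zC.left ≫ ·) hw₁).trans ?_)
        refine (Over.w zC).trans (Eq.trans ?_ (Category.assoc _ _ _).symm)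
        exact (hsnd ξ₀).symm
    · refine (Category.assoc _ _ _).trans ((congrArg (zC.left ≫ ·) (pullback.lift_snd _ _ _)).trans ?_)
      exact (congrArg (fun x => x.left) hzb).trans (hzT₂ ξ₀).symm
  let R : T.left.Opens :=
    ⟨Set.range l.left.base, (have := etale_left l; l.left.isOpenMap.isOpen_range)⟩
  obtain ⟨V₂, v₂, O₂, hO₂, hle⟩ := exists_nbhd_open
    (hP.isoPullback.inv ⁻¹ᵁ (φ ⁻¹ᵁ R)) ξ (by
      have e1 : hP.isoPullback.inv.base (qOf ξ) = qOf ξ₀ := by
        refine (congrArg hP.isoPullback.inv.base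
          (congrArg (fun k => k.base default) (hsec ξ₀).symm)).trans ?_
        refine (Scheme.Hom.comp_apply _ _ _).symm.trans
          (congrArg (fun k : Spec (CommRingCat.of Ω) ⟶ P' => k.base default) ?_)
        rw [Category.assoc, Iso.hom_inv_id, Category.comp_id]
      change φ.base (hP.isoPullback.inv.base (qOf ξ)) ∈ Set.range l.left.base
      rw [e1]
      refine ⟨ptOf zC, (ptOf_map l zC).trans ((congrArg ptOf hl₀).trans ?_)⟩
      exact Scheme.Hom.comp_apply _ _ _)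
  obtain ⟨⟨V, v⟩, ⟨g₁, hg₁⟩, ⟨g₂, hg₂⟩, -⟩ := IsCofilteredOrEmpty.cone_objs
    (C := (Scheme.pointSmallEtale (η' ≫ g)).fiber.Elements) ⟨V₁, v₁⟩ ⟨V₂, v₂⟩
  dsimp at g₁ g₂ hg₁ hg₂
  let m₁ := (EtCoh.bc f).map g₁
  let m₂ := (EtCoh.bc f).map g₂
  let O : ((EtCoh.bc f).obj V).left.Opens := m₁.left ⁻¹ᵁ O₁ ⊓ m₂.left ⁻¹ᵁ O₂
  have hpt₁ : ∀ ζ : Pts f (η' ≫ g),
      m₁.left.base (ptOf (bcPt ζ V v)) = ptOf (bcPt ζ V₁ v₁) := fun ζ =>
    (ptOf_map m₁ _).trans (congrArg ptOf (bcPt_map ζ g₁ hg₁))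
  have hpt₂ : ∀ ζ : Pts f (η' ≫ g),
      m₂.left.base (ptOf (bcPt ζ V v)) = ptOf (bcPt ζ V₂ v₂) := fun ζ =>
    (ptOf_map m₂ _).trans (congrArg ptOf (bcPt_map ζ g₂ hg₂))
  obtain ⟨m, hm⟩ : ∃ m, m ≫ openHom _ O₁ = openHom _ O ≫ m₁ :=
    ⟨_, openLift_openHom m₁ O₁ O inf_le_left⟩
  refine ⟨V, v, O, F.obj.map m.op s₁, ⟨(congrArg (· ∈ O₁) (hpt₁ ξ)).mpr hO₁,
    (congrArg (· ∈ O₂) ((hpt₂ ξ).trans (ptOf_bcPt ξ V₂ v₂))).mpr hO₂⟩, fun ζ y hy => ?_⟩
  obtain ⟨ξ', rfl⟩ := (mapPts_bijective h).2 ζ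
  refine ((Scheme.pointSmallEtale _).toPresheafFiber_w_apply m y F.obj s₁).trans ?_
  let y₁ := (Scheme.pointSmallEtale (mapPts h.w ξ').1).fiber.map m y
  have hy₁ : (Scheme.pointSmallEtale (mapPts h.w ξ').1).fiber.map (openHom _ O₁) y₁ =
      bcPt (mapPts h.w ξ') V₁ v₁ := by
    refine (fiber_map_map (Scheme.pointSmallEtale (mapPts h.w ξ').1).fiber m (openHom _ O₁) y).trans ?_
    rw [hm, ← fiber_map_map (Scheme.pointSmallEtale (mapPts h.w ξ').1).fiber, hy]
    exact bcPt_map _ g₁ hg₁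
  have hq : φ.base (qOf ξ') ∈ R := by
    have h2 : qOf (mapPts h.w ξ') ∈ hP.isoPullback.inv ⁻¹ᵁ (φ ⁻¹ᵁ R) :=
      hle ((congrArg (· ∈ O₂) ((hpt₂ _).trans (ptOf_bcPt _ V₂ v₂))).mp (openPt_mem O y hy).2)
    have e1 : hP.isoPullback.inv.base (qOf (mapPts h.w ξ')) = qOf ξ' := by
      refine (congrArg hP.isoPullback.inv.base
        (congrArg (fun k => k.base default) (hsec ξ').symm)).trans ?_
      refine (Scheme.Hom.comp_apply _ _ _).symm.trans
          (congrArg (fun k : Spec (CommRingCat.of Ω) ⟶ P' => k.base default) ?_)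
      rw [Category.assoc, Iso.hom_inv_id, Category.comp_id]
    exact (congrArg (fun x => φ.base x ∈ R) e1).mp h2
  obtain ⟨c, hc⟩ := hq
  obtain ⟨z, hz⟩ := exists_fiber_lift l (zT ξ') c
    (hc.trans (Scheme.Hom.comp_apply (secPt ξ') φ default).symm)
  have hlz : z.left ≫ (pullback.lift (a ≫ j).left b.left
      ((Over.w (a ≫ j).hom).trans (Over.w b.hom).symm)) = (zT ξ').left :=
    congrArg (fun x => x.left) hz
  have hb : (Scheme.pointSmallEtale ξ'.1).fiber.map b z = bcPt ξ' V' v' := by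
    refine Over.OverMorphism.ext (Eq.trans ?_ (hzT₂ ξ'))
    refine Eq.trans ?_ (congrArg (· ≫ pullback.snd B₁.hom B₂.hom) hlz)
    exact (congrArg (z.left ≫ ·) (pullback.lift_snd _ _ _).symm).trans (Category.assoc _ _ _).symm
  have hA : (fiberCompIso g' ξ'.1).hom.app U₁ ((Scheme.pointSmallEtale ξ'.1).fiber.map a z) = y₁ := by
    refine openPt_unique O₁ _ _ (Eq.trans ?_ hy₁.symm)
    refine Over.OverMorphism.ext ?_
    refine Eq.trans ?_ ((congrArg (fun k => k ≫ pullback.fst ((EtCoh.bc f).obj V₁).hom g')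
      (congrArg (· ≫ pullback.fst B₁.hom B₂.hom) hlz)).trans (hzT₁ ξ'))
    have h1 : j.left ≫ pullback.fst ((EtCoh.bc f).obj V₁).hom g' =
        pullback.fst U₁.hom g' ≫ (openHom ((EtCoh.bc f).obj V₁) O₁).left :=
      (EtCoh.isPullback_bc_map g' (openHom ((EtCoh.bc f).obj V₁) O₁)).w
    refine Eq.trans ?_ (congrArg (· ≫ pullback.fst ((EtCoh.bc f).obj V₁).hom g')
      ((Category.assoc _ _ _).trans (congrArg (z.left ≫ ·) (pullback.lift_fst _ _ _)))).symm
    refine Eq.trans ?_ ((Category.assoc z.left _ _).trans (congrArg (z.left ≫ ·)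
      ((Category.assoc a.left j.left _).trans (congrArg (a.left ≫ ·) h1)))).symm
    exact (Category.assoc _ _ _).trans (Category.assoc _ _ _)
  apply hinj' ξ'
  rw [ht' ξ', pushEval_germ ξ' F' V' v' s']
  refine (congrArg (fun x => (stalkPullIso g' ξ'.1).inv.app F (germ (mapPts h.w ξ').1 F U₁ x s₁))
    hA.symm).trans ?_
  refine (stalkPullIso_inv_germ g' ξ'.1 F U₁ _ s₁).trans ?_
  rw [iso_inv_hom_apply (fiberCompIso g' ξ'.1) U₁, ← hb]
  refine ((Scheme.pointSmallEtale ξ'.1).toPresheafFiber_w_apply a z F'.obj _).symm.trans ?_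
  exact (congrArg _ hab).trans ((Scheme.pointSmallEtale ξ'.1).toPresheafFiber_w_apply b z F'.obj s')

set_option backward.isDefEq.respectTransparency.types false in
set_option maxHeartbeats 2000000 in
theorem bijective_stalk_baseChange0 (h : IsPullback g' f' f g) (F : EtCoh.Ab X) :
    Function.Bijective ((EtCoh.stalk η').map (EtCoh.baseChange0 f g f' g' h.w F)) := by
  let F' := (EtCoh.pull g').obj F
  have hgsurj : Function.Surjective ((stalkPullIso g η').inv.app ((EtCoh.push f).obj F)) :=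
    ((ConcreteCategory.isIso_iff_bijective _).1 inferInstance).2
  have hinj' : ∀ ξ' : Pts f' η', Function.Injective ((stalkPullIso g' ξ'.1).inv.app F) := fun ξ' =>
    ((ConcreteCategory.isIso_iff_bijective _).1 inferInstance).1
  refine ⟨fun a b hab => ?_, fun e => ?_⟩
  · obtain ⟨a, rfl⟩ := hgsurj a
    obtain ⟨b, rfl⟩ := hgsurj b
    refine congrArg _ (pushEval_jointly_injective F a b fun ξ => ?_)
    obtain ⟨ξ', rfl⟩ := (mapPts_bijective h).2 ξ
    apply hinj' ξ'
    rw [← pushEval_baseChange0, ← pushEval_baseChange0]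
    exact congrArg _ hab
  choose u hu using fun ξ' : Pts f' η' => ((ConcreteCategory.isIso_iff_bijective
    ((stalkPullIso g' ξ'.1).inv.app F)).1 inferInstance).2 ((pushEval ξ').app F' e)
  obtain ⟨t, htu⟩ := exists_family (fun ξ : Pts f (η' ≫ g) => (EtCoh.stalk ξ.1).obj F)
    (mapPts (η' := η') h.w) (mapPts_bijective h) u
  have ht' : ∀ ξ' : Pts f' η', (stalkPullIso g' ξ'.1).inv.app F (t (mapPts h.w ξ')) = (pushEval ξ').app F' e :=
    fun ξ' => (congrArg ((stalkPullIso g' ξ'.1).inv.app F) (htu ξ')).trans (hu ξ')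
  obtain ⟨a, ha⟩ := exists_pushEval_eq (f := f) F t fun ξ => by
    obtain ⟨ξ₀, rfl⟩ := (mapPts_bijective h).2 ξ
    obtain ⟨V', v', s', rfl⟩ := germ_surjective η' _ e
    exact exists_local_rep h F V' v' s' t ht' ξ₀
  refine ⟨(stalkPullIso g η').inv.app _ a, pushEval_jointly_injective F' _ _ fun ξ' => ?_⟩
  rw [pushEval_baseChange0, ha, ht']

theorem isIso_baseChange0_of_isIntegralHom {X Y X' Y' : Scheme.{u}} (f : X ⟶ Y) [IsIntegralHom f]
    (g : Y' ⟶ Y) (f' : X' ⟶ Y') (g' : X' ⟶ X) (h : IsPullback g' f' f g) (F : EtCoh.Ab X) :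
    IsIso (EtCoh.baseChange0 f g f' g' h.w F) := by
  have : IsIntegralHom f' := MorphismProperty.of_isPullback (P := @IsIntegralHom) h ‹_›
  refine isIso_of_stalk _ fun y => ?_
  let η' : Spec (CommRingCat.of (AlgebraicClosure (Y'.residueField y))) ⟶ Y' :=
    (Scheme.SpecToEquivOfField (AlgebraicClosure (Y'.residueField y)) Y').symm
      ⟨y, CommRingCat.ofHom (algebraMap (Y'.residueField y) _)⟩
  exact ⟨_, _, inferInstance, η', by simp [η'],
    bijective_stalk_baseChange0 h F⟩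

end Groth.Agent.H18Et
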