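import Groth.Agent.H18Et.Support
import Groth.Prelude.Def_EtBaseX
import Mathlib.RingTheory.Etale.StandardEtale

/-!
# The etale local ring is strictly henselian
-/

universe u

open CategoryTheory CategoryTheory.Limits AlgebraicGeometry Opposite Polynomial

namespace Groth.Agent.H18Et

variable {X : Scheme.{u}} {Ω : Type u} [Field Ω] [IsSepClosed Ω]
  (ξ : Spec (CommRingCat.of Ω) ⟶ X)

/-- The germ of a function on an etale neighbourhood. -/
noncomputable abbrev funGerm (U : X.Etale) (z : (Scheme.pointSmallEtale ξ).fiber.obj U) :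
    Γ(U.left, ⊤) ⟶ EtBase.etaleLocalRing ξ :=
  (Scheme.pointSmallEtale ξ).toPresheafFiber U z (EtBase.OO X)

/-- The value at the geometric point of a function on an etale neighbourhood. -/
noncomputable abbrev funValue (U : X.Etale) (z : (Scheme.pointSmallEtale ξ).fiber.obj U) :
    Γ(U.left, ⊤) ⟶ CommRingCat.of Ω :=
  (z.left : Spec (CommRingCat.of Ω) ⟶ U.left).appTop ≫ (Scheme.ΓSpecIso (CommRingCat.of Ω)).hom

/-- Evaluation at the geometric point. -/
noncomputable def valueHom : EtBase.etaleLocalRing ξ ⟶ CommRingCat.of Ω :=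
  (Scheme.pointSmallEtale ξ).presheafFiberDesc (P := EtBase.OO X) (fun U z => funValue ξ U z)
    (fun U V g z => by
      refine (Category.assoc _ _ _).symm.trans (congrArg (· ≫ _) ?_)
      exact (Scheme.Hom.comp_appTop _ _).symm)

theorem funGerm_valueHom (U : X.Etale) (z : (Scheme.pointSmallEtale ξ).fiber.obj U)
    (a : Γ(U.left, ⊤)) : valueHom ξ (funGerm ξ U z a) = funValue ξ U z a :=
  ConcreteCategory.congr_hom
    ((Scheme.pointSmallEtale ξ).toPresheafFiber_presheafFiberDesc (P := EtBase.OO X)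
      (fun U z => funValue ξ U z)
      (fun U V g z => (Category.assoc _ _ _).symm.trans
        (congrArg (· ≫ _) (Scheme.Hom.comp_appTop _ _).symm)) U z) a

theorem funGerm_map {U V : X.Etale} (g : V ⟶ U) (z : (Scheme.pointSmallEtale ξ).fiber.obj V)
    (a : Γ(U.left, ⊤)) :
    funGerm ξ V z (g.left.appTop a) = funGerm ξ U ((Scheme.pointSmallEtale ξ).fiber.map g z) a :=
  (Scheme.pointSmallEtale ξ).toPresheafFiber_w_apply g z (EtBase.OO X) a

theorem funGerm_surjective (r : EtBase.etaleLocalRing ξ) :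
    ∃ (U : X.Etale) (z : (Scheme.pointSmallEtale ξ).fiber.obj U) (a : Γ(U.left, ⊤)),
      funGerm ξ U z a = r :=
  (Scheme.pointSmallEtale ξ).toPresheafFiber_jointly_surjective (P := EtBase.OO X) r

theorem exists_nbhd_opens (U : X.Etale) (z : (Scheme.pointSmallEtale ξ).fiber.obj U)
    (O : U.left.Opens) (h : ptOf z ∈ O) :
    ∃ (V : X.Etale) (g : V ⟶ U) (z' : (Scheme.pointSmallEtale ξ).fiber.obj V),
      (Scheme.pointSmallEtale ξ).fiber.map g z' = z ∧
        ∃ e : V.left ≅ O.toScheme, e.hom ≫ O.ι = g.left := by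
  have : Etale U.hom := U.prop
  let V : X.Etale := MorphismProperty.Over.mk ⊤ (O.ι ≫ U.hom) (inferInstanceAs (Etale (O.ι ≫ U.hom)))
  let g : V ⟶ U := MorphismProperty.Over.homMk O.ι rfl trivial
  obtain ⟨z', hz'⟩ := exists_fiber_lift g z ⟨ptOf z, h⟩ rfl
  exact ⟨V, g, z', hz', Iso.refl _, Category.id_comp _⟩

theorem ptOf_mem_basicOpen (U : X.Etale) (z : (Scheme.pointSmallEtale ξ).fiber.obj U)
    (a : Γ(U.left, ⊤)) (h : funValue ξ U z a ≠ 0) : ptOf z ∈ U.left.basicOpen a := by
  by_contra hn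
  apply h
  let l : Spec (CommRingCat.of Ω) ⟶ U.left := z.left
  have h2 : (Spec (CommRingCat.of Ω)).basicOpen (l.appTop a) = ⊥ := by
    ext x
    refine iff_of_false ?_ id
    intro hx
    rw [Subsingleton.elim x default] at hx
    exact hn ((Scheme.preimage_basicOpen_top l a).ge hx)
  rw [basicOpen_eq_of_affine'] at h2
  replace h2 : IsNilpotent (funValue ξ U z a) := PrimeSpectrum.basicOpen_eq_bot_iff _ |>.1 h2
  exact h2.eq_zero

theorem isUnit_ι_appTop {Y : Scheme.{u}} (a : Γ(Y, ⊤)) : IsUnit ((Y.basicOpen a).ι.appTop a) := by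
  refine RingedSpace.isUnit_of_isUnit_germ (Y.basicOpen a).toScheme.toRingedSpace ⊤ _ fun x _ => ?_
  refine ((Y.basicOpen a).toScheme.mem_basicOpen (U := ⊤) _ x trivial).1 ?_
  rw [← Scheme.preimage_basicOpen_top]
  exact x.2

theorem isUnit_of_valueHom_ne_zero (r : EtBase.etaleLocalRing ξ) (h : valueHom ξ r ≠ 0) :
    IsUnit r := by
  obtain ⟨U, z, a, rfl⟩ := funGerm_surjective ξ r
  rw [funGerm_valueHom] at h
  obtain ⟨V, g, z', rfl, e, he⟩ := exists_nbhd_opens ξ U z _ (ptOf_mem_basicOpen ξ U z a h)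
  rw [← funGerm_map]
  refine IsUnit.map _ ?_
  rw [← he, Scheme.Hom.comp_appTop]
  exact (isUnit_ι_appTop a).map e.hom.appTop.hom

theorem exists_common_stage (s : Finset (EtBase.etaleLocalRing ξ)) :
    ∃ (U : X.Etale) (z : (Scheme.pointSmallEtale ξ).fiber.obj U), IsAffine U.left ∧
      ∀ r ∈ s, ∃ a, funGerm ξ U z a = r := by
  classical
  suffices h : ∃ (U : X.Etale) (z : (Scheme.pointSmallEtale ξ).fiber.obj U),
      ∀ r ∈ s, ∃ a, funGerm ξ U z a = r by
    obtain ⟨U, z, h⟩ := h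
    obtain ⟨O, hO, hzO, -⟩ := TopologicalSpace.Opens.isBasis_iff_nbhd.mp U.left.isBasis_affineOpens
      (TopologicalSpace.Opens.mem_top (ptOf z))
    obtain ⟨V, g, z', rfl, e, -⟩ := exists_nbhd_opens ξ U z O hzO
    have : IsAffine (Scheme.Opens.toScheme O) := hO
    refine ⟨V, z', .of_isIso e.hom, fun r hr => ?_⟩
    obtain ⟨a, rfl⟩ := h r hr
    exact ⟨g.left.appTop a, funGerm_map ξ g z' a⟩
  induction s using Finset.induction with
  | empty => exact ⟨EtCoh.top X, Over.homMk ξ (Category.comp_id _), by simp⟩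
  | insert r s _ ih =>
    obtain ⟨U, z, h⟩ := ih
    obtain ⟨U', z', b, rfl⟩ := funGerm_surjective ξ r
    obtain ⟨⟨W, w⟩, ⟨p, hp⟩, ⟨q, hq⟩, -⟩ := IsCofilteredOrEmpty.cone_objs
      (C := (Scheme.pointSmallEtale ξ).fiber.Elements) ⟨U, z⟩ ⟨U', z'⟩
    dsimp at p q hp hq
    refine ⟨W, w, fun x hx => ?_⟩
    rcases Finset.mem_insert.1 hx with rfl | hx
    · exact ⟨q.left.appTop b, (funGerm_map ξ q w b).trans (by rw [hq])⟩
    · obtain ⟨a, rfl⟩ := h x hx
      exact ⟨p.left.appTop a, (funGerm_map ξ p w a).trans (by rw [hp])⟩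

theorem SpecMap_appTop_isoSpec_inv {U : Scheme.{u}} [IsAffine U] {K : CommRingCat.{u}}
    (l : Spec K ⟶ U) :
    Spec.map (l.appTop ≫ (Scheme.ΓSpecIso K).hom) ≫ U.isoSpec.inv = l := by
  rw [Spec.map_comp, Category.assoc, Scheme.isoSpec_inv_naturality, Scheme.isoSpec_Spec_inv,
    ← Category.assoc, ← Spec.map_comp, Iso.inv_hom_id, Spec.map_id, Category.id_comp]

theorem isoSpec_inv_appTop {U : Scheme.{u}} [IsAffine U] :
    U.isoSpec.inv.appTop = (Scheme.ΓSpecIso Γ(U, ⊤)).inv := by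
  have h := congrArg Scheme.Hom.appTop U.isoSpec.inv_hom_id
  rw [Scheme.Hom.comp_appTop, Scheme.isoSpec_hom, Scheme.toSpecΓ_appTop, Scheme.Hom.id_appTop,
    ← Iso.eq_inv_comp] at h
  simpa using h

/-- Simple roots in the field of the geometric point lift to the etale local ring. -/
theorem exists_root (f : (EtBase.etaleLocalRing ξ)[X]) (hf : f.Monic) (α : Ω)
    (h0 : (f.map (valueHom ξ).hom).eval α = 0)
    (h1 : ((f.map (valueHom ξ).hom).derivative).eval α ≠ 0) :
    ∃ r, f.eval r = 0 ∧ valueHom ξ r = α := by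
  classical
  obtain ⟨U, z, hU, hs⟩ := exists_common_stage ξ f.coeffs
  let A := Γ(U.left, ⊤)
  let γ : A →+* EtBase.etaleLocalRing ξ := (funGerm ξ U z).hom
  obtain ⟨F, hF, -, hFm⟩ := Polynomial.lifts_and_natDegree_eq_and_monic (f := γ) (p := f)
    ((Polynomial.lifts_iff_coeff_lifts _).2 fun n => by
      by_cases hn : f.coeff n = 0
      · exact ⟨0, by rw [hn]; exact map_zero _⟩
      · exact hs _ (Polynomial.coeff_mem_coeffs hn)) hf
  let : Algebra A Ω := (funValue ξ U z).hom.toAlgebra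
  have hev : (valueHom ξ).hom.comp γ = algebraMap A Ω := RingHom.ext fun a => funGerm_valueHom ξ U z a
  have hmap : f.map (valueHom ξ).hom = F.map (algebraMap A Ω) := by
    rw [← hF, Polynomial.map_map, hev]
  let P : StandardEtalePair A := ⟨F, hFm, derivative F, 1, 0, 1, by simp⟩
  have hα : P.HasMap α := by
    refine ⟨?_, IsUnit.mk0 _ ?_⟩
    · simpa [hmap, ← aeval_def, eval_map] using h0
    · simpa [P, hmap, derivative_map, ← aeval_def, eval_map] using h1
  let σ : CommRingCat.of A ⟶ CommRingCat.of P.Ring := CommRingCat.ofHom (algebraMap A P.Ring)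
  let ψ : CommRingCat.of P.Ring ⟶ CommRingCat.of Ω := CommRingCat.ofHom (P.lift α hα).toRingHom
  have hσ : Etale (Spec.map σ) :=
    (HasRingHomProperty.Spec_iff (P := @Etale)).2 (RingHom.etale_algebraMap.mpr inferInstance)
  have : Etale U.hom := U.prop
  let V : X.Etale := MorphismProperty.Over.mk ⊤ ((Spec.map σ ≫ U.left.isoSpec.inv) ≫ U.hom)
    (inferInstanceAs (Etale ((Spec.map σ ≫ U.left.isoSpec.inv) ≫ U.hom)))
  let g : V ⟶ U := MorphismProperty.Over.homMk (Spec.map σ ≫ U.left.isoSpec.inv) rfl trivial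
  have : IsAffine ((Scheme.Etale.forget X).obj U).left := hU
  have hl : Spec.map ψ ≫ Spec.map σ ≫ U.left.isoSpec.inv = z.left := by
    refine Eq.trans ?_ (SpecMap_appTop_isoSpec_inv z.left)
    rw [← Category.assoc, ← Spec.map_comp]
    congr 2
    ext a
    exact (P.lift α hα).commutes a
  let z' : (Scheme.pointSmallEtale ξ).fiber.obj V := Over.homMk (Spec.map ψ) (by
    refine (Category.assoc _ _ _).symm.trans ?_
    exact (congrArg (· ≫ U.hom) hl).trans (Over.w z))
  have hz' : (Scheme.pointSmallEtale ξ).fiber.map g z' = z := Over.OverMorphism.ext hl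
  let φ : CommRingCat.of P.Ring ⟶ Γ(V.left, ⊤) := (Scheme.ΓSpecIso (CommRingCat.of P.Ring)).inv
  let θ : P.Ring →+* EtBase.etaleLocalRing ξ := (funGerm ξ V z').hom.comp φ.hom
  have hθ : θ.comp (algebraMap A P.Ring) = γ := by
    ext a
    have hg : g.left.appTop a = φ (σ a) := by
      change (Spec.map σ ≫ U.left.isoSpec.inv).appTop a = φ (σ a)
      rw [← CategoryTheory.comp_apply, Scheme.Hom.comp_appTop, isoSpec_inv_appTop,
        ← Scheme.ΓSpecIso_inv_naturality]
      rfl
    exact (congrArg (funGerm ξ V z') hg.symm).trans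
      ((funGerm_map ξ g z' a).trans (by rw [hz']))
  refine ⟨θ P.X, ?_, ?_⟩
  · rw [← hF, eval_map, ← hθ, ← hom_eval₂, ← aeval_def, show F.aeval P.X = 0 from P.hasMap_X.1,
      map_zero]
  · refine (funGerm_valueHom ξ V z' _).trans ?_
    have h2 : φ ≫ funValue ξ V z' = ψ := by
      change (Scheme.ΓSpecIso _).inv ≫ (Spec.map ψ).appTop ≫ (Scheme.ΓSpecIso _).hom = ψ
      rw [← Scheme.ΓSpecIso_inv_naturality_assoc, Iso.inv_hom_id, Category.comp_id]
    exact (ConcreteCategory.congr_hom h2 P.X).trans (P.lift_X α hα)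

theorem isLocalRing_etaleLocalRing : IsLocalRing (EtBase.etaleLocalRing ξ) := by
  have : Nontrivial (EtBase.etaleLocalRing ξ) := (valueHom ξ).hom.domain_nontrivial
  refine .of_nonunits_add fun a b ha hb hab => ?_
  have h : ∀ r, ¬ IsUnit r → valueHom ξ r = 0 := fun r hr =>
    not_not.1 fun h => hr (isUnit_of_valueHom_ne_zero ξ r h)
  exact (hab.map (valueHom ξ).hom).ne_zero
    ((map_add _ _ _).trans (by rw [h a ha, h b hb, add_zero]))

theorem mem_maximalIdeal_iff [IsLocalRing (EtBase.etaleLocalRing ξ)] (r : EtBase.etaleLocalRing ξ) :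
    r ∈ IsLocalRing.maximalIdeal (EtBase.etaleLocalRing ξ) ↔ valueHom ξ r = 0 :=
  ⟨fun h => not_not.1 fun h0 => h (isUnit_of_valueHom_ne_zero ξ r h0),
    fun h hu => (hu.map (valueHom ξ).hom).ne_zero h⟩

theorem isStrictlyHenselian_etaleLocalRing :
    EtCoh.IsStrictlyHenselianLocalRing (EtBase.etaleLocalRing ξ) := by
  have := isLocalRing_etaleLocalRing ξ
  have : HenselianLocalRing (EtBase.etaleLocalRing ξ) := by
    refine ⟨fun f hf a₀ h0 h1 => ?_⟩
    obtain ⟨r, hr, hr'⟩ := exists_root ξ f hf (valueHom ξ a₀)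
      (by rw [eval_map_apply]; exact (mem_maximalIdeal_iff ξ _).1 h0)
      (by rw [derivative_map, eval_map_apply]; exact (h1.map (valueHom ξ).hom).ne_zero)
    refine ⟨r, hr, (mem_maximalIdeal_iff ξ _).2 ?_⟩
    rw [map_sub, hr', sub_self]
  refine ⟨this, ?_⟩
  let k := IsLocalRing.ResidueField (EtBase.etaleLocalRing ξ)
  have : IsLocalHom (valueHom ξ).hom := ⟨fun r hr => isUnit_of_valueHom_ne_zero ξ r hr.ne_zero⟩
  let ι : k →+* Ω := IsLocalRing.ResidueField.lift (valueHom ξ).hom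
  refine IsSepClosed.of_exists_root _ fun p hm hirr hsep => ?_
  obtain ⟨f, hf, -, hfm⟩ := Polynomial.lifts_and_natDegree_eq_and_monic
    (f := IsLocalRing.residue (EtBase.etaleLocalRing ξ)) (p := p)
    ((Polynomial.lifts_iff_coeff_lifts _).2 fun n => Ideal.Quotient.mk_surjective _) hm
  have hmap : f.map (valueHom ξ).hom = p.map ι := by
    rw [← hf, Polynomial.map_map]
    rfl
  obtain ⟨α, hα⟩ := IsSepClosed.exists_root (p.map ι)
    (by rw [Polynomial.degree_map]; exact hirr.degree_pos.ne') (hsep.map (f := ι))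
  have hd : ((p.map ι).derivative).eval α ≠ 0 := by
    simpa [coe_aeval_eq_eval] using
      (hsep.map (f := ι)).aeval_derivative_ne_zero (x := α) (by simpa [coe_aeval_eq_eval] using hα)
  obtain ⟨r, hr, -⟩ := exists_root ξ f hfm α (by rw [hmap]; exact hα) (by rw [hmap]; exact hd)
  exact ⟨IsLocalRing.residue _ r, by rw [← hf, eval_map_apply, hr, map_zero]⟩

end Groth.Agent.H18Et
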