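import Groth.Agent.H18Et.PushImmersion
import Groth.Agent.H18Et.EtaleLocalRing
import Groth.Agent.H9Hens.PairOps
import Groth.Agent.H12AlgSp.EtaleSourceAlg

/-!
# Lifting etale neighbourhoods along integral universally injective morphisms
-/

universe u

open CategoryTheory CategoryTheory.Limits AlgebraicGeometry Opposite TensorProduct

namespace Groth.Agent.H18Et

attribute [local instance] Algebra.TensorProduct.rightAlgebra

section Algebra

theorem asIdeal_comap_field {S K : Type u} [CommRing S] [Field K] (φ : S →+* K) (p : PrimeSpectrum K) :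
    (p.comap φ).asIdeal = RingHom.ker φ := by
  rw [PrimeSpectrum.comap_asIdeal, (Ideal.eq_bot_or_top p.asIdeal).resolve_right p.isPrime.ne_top,
    RingHom.ker_eq_comap_bot]

variable {A B R : Type u} [CommRing A] [CommRing B] [CommRing R] [Algebra A B] [Algebra A R]

theorem exists_mul_eq_zero {R : Type u} [CommRing R] [IsReduced R]
    (hmax : ∀ P : Ideal R, P.IsPrime → P.IsMaximal) (M : Ideal R) [M.IsPrime] {a : R} (ha : a ∈ M) :
    ∃ s, s ∉ M ∧ s * a = 0 := by
  have hn : IsNilpotent (algebraMap R (Localization.AtPrime M) a) := by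
    rw [nilpotent_iff_mem_prime]
    intro P hP
    have h1 : P.comap (algebraMap R (Localization.AtPrime M)) ≤ M := fun y hy => by
      by_contra hy'
      exact hP.ne_top (Ideal.eq_top_of_isUnit_mem _ hy
        (IsLocalization.map_units (Localization.AtPrime M) (⟨y, hy'⟩ : M.primeCompl)))
    have h2 : (P.comap (algebraMap R (Localization.AtPrime M))).IsPrime := hP.comap _
    exact ((hmax _ h2).eq_of_le (Ideal.IsPrime.ne_top ‹_›) h1).ge ha
  obtain ⟨n, hn⟩ := hn
  rw [← map_pow, IsLocalization.map_eq_zero_iff M.primeCompl] at hn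
  obtain ⟨⟨s, hs⟩, hsn⟩ := hn
  refine ⟨s, hs, IsReduced.eq_zero _ ⟨n + 1, ?_⟩⟩
  change s * a ^ n = 0 at hsn
  calc (s * a) ^ (n + 1) = s ^ n * a * (s * a ^ n) := by ring
    _ = 0 := by rw [hsn, mul_zero]

/-- An idempotent form of an element in a reduced zero-dimensional ring. -/
theorem exists_mul_self_mul_eq {R : Type u} [CommRing R] [IsReduced R]
    (hmax : ∀ P : Ideal R, P.IsPrime → P.IsMaximal) (a : R) : ∃ y, a * y * a = a := by
  by_contra! h
  let K : Ideal R := Ideal.span {a} ⊔ (LinearMap.ker (LinearMap.mulRight R a))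
  have hK : K ≠ ⊤ := fun htop => by
    obtain ⟨u, hu, s, hs, hus⟩ := Submodule.mem_sup.1 ((Ideal.eq_top_iff_one K).1 htop)
    obtain ⟨y, rfl⟩ := Ideal.mem_span_singleton'.1 hu
    refine h y ?_
    have hs' : s * a = 0 := hs
    calc a * y * a = (y * a + s) * a := by rw [add_mul, hs', add_zero]; ring
      _ = a := by rw [hus, one_mul]
  obtain ⟨M, hM, hle⟩ := Ideal.exists_le_maximal K hK
  obtain ⟨s, hs, hsa⟩ := exists_mul_eq_zero hmax M
    (hle (Ideal.mem_sup_left (Ideal.mem_span_singleton_self a)))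
  exact hs (hle (Ideal.mem_sup_right hsa))

/-- Over a reduced zero-dimensional ring a standard etale algebra has a section as soon as it has
one over each residue field. -/
theorem exists_hasMap_of_forall_residue {R : Type u} [CommRing R] [IsReduced R]
    (hmax : ∀ P : Ideal R, P.IsPrime → P.IsMaximal) (P : StandardEtalePair R)
    (h : ∀ (M : Ideal R), M.IsMaximal → ∃ x : R ⧸ M, P.HasMap x) : ∃ x : R, P.HasMap x := by
  let T : Set R := {e | ∃ x w : R, e * P.f.eval x = 0 ∧ e * (P.g.eval x * w - 1) = 0}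
  have hmul : ∀ e ∈ T, ∀ r, r * e ∈ T := by
    rintro e ⟨x, w, h1, h2⟩ r
    exact ⟨x, w, by rw [mul_assoc, h1, mul_zero], by rw [mul_assoc, h2, mul_zero]⟩
  let I : Ideal R :=
    { carrier := T
      zero_mem' := ⟨0, 0, zero_mul _, zero_mul _⟩
      add_mem' := fun {e e'} he he' => by
        obtain ⟨y, hy⟩ := exists_mul_self_mul_eq hmax e
        obtain ⟨x, w, h1, h2⟩ := he
        obtain ⟨x', w', h1', h2'⟩ := he'
        let ε := e * y
        have hε : ε * ε = ε := by simp only [ε]; linear_combination y * hy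
        have hee : ε * e = e := hy
        let x'' := ε * x + (1 - ε) * x'
        have key : ∀ F : Polynomial R, ε * F.eval x'' = ε * F.eval x ∧
            (1 - ε) * F.eval x'' = (1 - ε) * F.eval x' := fun F => by
          obtain ⟨u, hu⟩ := F.sub_dvd_eval_sub x'' x
          obtain ⟨v, hv⟩ := F.sub_dvd_eval_sub x'' x'
          simp only [x''] at hu hv ⊢
          constructor
          · linear_combination ε * hu + (x' - x) * u * (-hε)
          · linear_combination (1 - ε) * hv + (x - x') * v * (-hε)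
        have zero_add_of : ∀ F'' F F' : R, ε * F'' = ε * F → (1 - ε) * F'' = (1 - ε) * F' →
            e * F = 0 → e' * F' = 0 → (e + e') * F'' = 0 := fun F'' F F' k1 k2 z1 z2 => by
          have hεd : ε = e * y := rfl
          have a1 : e * F'' = 0 := by linear_combination (-F'') * hee + e * k1 + ε * z1
          have a2 : e' * F'' = 0 := by
            linear_combination e' * k1 + e' * k2 + (y * e') * z1 + (1 - ε) * z2 + (e' * F) * hεd
          rw [add_mul, a1, a2, add_zero]
        obtain ⟨kf, kf'⟩ := key P.f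
        obtain ⟨kg, kg'⟩ := key P.g
        refine ⟨x'', ε * w + (1 - ε) * w', zero_add_of _ _ _ kf kf' h1 h1',
          zero_add_of _ _ _ ?_ ?_ h2 h2'⟩
        · linear_combination (ε * w + (1 - ε) * w') * kg + P.g.eval x * (w - w') * hε
        · linear_combination (ε * w + (1 - ε) * w') * kg' + P.g.eval x' * (w' - w) * hε
      smul_mem' := fun r e he => hmul e he r }
  have hI : I = ⊤ := by
    by_contra hne
    obtain ⟨M, hM, hle⟩ := Ideal.exists_le_maximal I hne
    obtain ⟨x₀, hx₁, hx₂⟩ := h M hM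
    obtain ⟨x, rfl⟩ := Ideal.Quotient.mk_surjective x₀
    obtain ⟨w₀, hw₀⟩ := hx₂.exists_right_inv
    obtain ⟨w, rfl⟩ := Ideal.Quotient.mk_surjective w₀
    have e1 : P.f.eval x ∈ M := by
      rwa [Polynomial.aeval_def, Ideal.Quotient.algebraMap_eq, Polynomial.eval₂_at_apply,
        Ideal.Quotient.eq_zero_iff_mem] at hx₁
    have e2 : P.g.eval x * w - 1 ∈ M := by
      rwa [Polynomial.aeval_def, Ideal.Quotient.algebraMap_eq, Polynomial.eval₂_at_apply,
        ← map_mul, ← map_one (Ideal.Quotient.mk M), Ideal.Quotient.eq] at hw₀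
    obtain ⟨s, hs, hs'⟩ := exists_mul_eq_zero hmax M e1
    obtain ⟨t, ht, ht'⟩ := exists_mul_eq_zero hmax M e2
    refine (hM.isPrime.mul_notMem hs ht) (hle ⟨x, w, ?_, ?_⟩)
    · rw [mul_comm s t, mul_assoc, hs', mul_zero]
    · rw [mul_assoc, ht', mul_zero]
  obtain ⟨x, w, h1, h2⟩ := (Ideal.eq_top_iff_one I).1 hI
  rw [one_mul] at h1 h2
  exact ⟨x, by rwa [Polynomial.coe_aeval_eq_eval],
    IsUnit.of_mul_eq_one w (by rw [Polynomial.coe_aeval_eq_eval]; exact sub_eq_zero.1 h2)⟩

/-- Simple roots over the residue fields lift to `R ⊗ B` for strictly henselian `R`. -/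
theorem exists_hasMap_tensor [Algebra.IsIntegral A B]
    [HenselianLocalRing R] [IsSepClosed (IsLocalRing.ResidueField R)]
    {C : Type u} [CommRing C] [Algebra B C] (P : StandardEtalePresentation B C)
    (hrange : ∀ q : PrimeSpectrum B, q.comap (algebraMap A B) =
      PrimeSpectrum.comap (algebraMap A R) (IsLocalRing.closedPoint R) →
        q ∈ Set.range (PrimeSpectrum.comap (algebraMap B C))) :
    ∃ x : R ⊗[A] B, P.HasMap x := by
  let BR := R ⊗[A] B
  let m : Ideal R := IsLocalRing.maximalIdeal R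
  let J : Ideal BR := (m.map (algebraMap R BR)).radical
  have : HenselianRing BR (m.map (algebraMap R BR)) := H9Hens.henselianRing_of_isIntegral (I := m) BR
  have : HenselianRing BR J := H9Hens.henselianRing_radical
  have : IsReduced (BR ⧸ J) :=
    (Ideal.isRadical_iff_quotient_reduced J).1 (Ideal.radical_isRadical _)
  have hover : ∀ M : Ideal BR, M.IsPrime → J ≤ M → M.comap (algebraMap R BR) = m := fun M hM hJ =>
    ((IsLocalRing.maximalIdeal.isMaximal R).eq_of_le (Ideal.comap_ne_top _ hM.ne_top)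
      (Ideal.map_le_iff_le_comap.1 (Ideal.le_radical.trans hJ))).symm
  have hmax : ∀ M : Ideal BR, M.IsPrime → J ≤ M → M.IsMaximal := fun M hM hJ =>
    Ideal.isMaximal_of_isIntegral_of_isMaximal_comap M
      (by rw [hover M hM hJ]; exact IsLocalRing.maximalIdeal.isMaximal R)
  have hJM : ∀ P' : Ideal (BR ⧸ J), J ≤ P'.comap (Ideal.Quotient.mk J) := fun P' y hy => by
    rw [Ideal.mem_comap, Ideal.Quotient.eq_zero_iff_mem.2 hy]; exact P'.zero_mem
  have hmax' : ∀ P' : Ideal (BR ⧸ J), P'.IsPrime → P'.IsMaximal := fun P' hP' => by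
    have := hmax _ (hP'.comap _) (hJM P')
    rw [← Ideal.map_comap_of_surjective _ Ideal.Quotient.mk_surjective P']
    refine (Ideal.map_eq_top_or_isMaximal_of_surjective _ Ideal.Quotient.mk_surjective this).resolve_left ?_
    rw [Ideal.map_comap_of_surjective _ Ideal.Quotient.mk_surjective]
    exact hP'.ne_top
  obtain ⟨x, hx⟩ := exists_hasMap_of_forall_residue hmax'
    (P.P.map (algebraMap B (BR ⧸ J))) fun M hM => by
    let k := (BR ⧸ J) ⧸ M
    let : Field k := Ideal.Quotient.field _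
    have hMm : (M.comap (Ideal.Quotient.mk J)).comap (algebraMap R BR) = m :=
      hover _ (hM.isPrime.comap _) (hJM M)
    have hκ : ∀ r ∈ m, algebraMap R k r = 0 := fun r hr =>
      Ideal.Quotient.eq_zero_iff_mem.2 (hMm.ge hr)
    let : Algebra (IsLocalRing.ResidueField R) k := (Ideal.Quotient.lift m (algebraMap R k) hκ).toAlgebra
    have : IsScalarTower R (IsLocalRing.ResidueField R) k := .of_algebraMap_eq fun _ => rfl
    have : Algebra.IsIntegral R k := Algebra.IsIntegral.trans BR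
    have : Algebra.IsIntegral (IsLocalRing.ResidueField R) k := Algebra.IsIntegral.tower_top (R := R)
    have : IsSepClosed k := Algebra.IsAlgebraic.isSepClosed (F := IsLocalRing.ResidueField R)
    have : Algebra.IsStandardEtale B C := ⟨⟨P⟩⟩
    have : Etale (Spec.map (CommRingCat.ofHom (algebraMap B C))) :=
      (HasRingHomProperty.Spec_iff (P := @Etale)).2 (RingHom.etale_algebraMap.mpr inferInstance)
    let q : PrimeSpectrum B :=
      PrimeSpectrum.comap (algebraMap B k) (default : (Spec (CommRingCat.of k)))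
    have hq : q.comap (algebraMap A B) =
        PrimeSpectrum.comap (algebraMap A R) (IsLocalRing.closedPoint R) := by
      refine PrimeSpectrum.ext ((congrArg (Ideal.comap (algebraMap A B))
        (asIdeal_comap_field (algebraMap B k) _)).trans ?_)
      rw [RingHom.comap_ker, ← IsScalarTower.algebraMap_eq, IsScalarTower.algebraMap_eq A R k]
      refine (RingHom.comap_ker _ _).symm.trans (congrArg (Ideal.comap (algebraMap A R)) ?_)
      refine Eq.trans ?_ hMm
      ext r
      exact Ideal.Quotient.eq_zero_iff_mem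
    obtain ⟨Q, hQ⟩ := hrange q hq
    obtain ⟨l, hl, -⟩ := Scheme.exists_fac_of_etale_of_isSepClosed
      (Spec.map (CommRingCat.ofHom (algebraMap B C)))
      (Spec.map (CommRingCat.ofHom (algebraMap B k))) Q hQ
    let σ₀ : CommRingCat.of C ⟶ CommRingCat.of k := Spec.preimage l
    have hσ₀ : CommRingCat.ofHom (algebraMap B C) ≫ σ₀ = CommRingCat.ofHom (algebraMap B k) :=
      Spec.map_injective (by rw [Spec.map_comp, Spec.map_preimage]; exact hl)
    let σ₁ : C →ₐ[B] k := { σ₀.hom with commutes' := fun b => ConcreteCategory.congr_hom hσ₀ b }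
    exact ⟨σ₁ P.x, (P.hasMap.map σ₁).map_algebraMap⟩
  let P' := P.P.map (algebraMap B BR)
  have hx' : P'.HasMap x := by simpa [StandardEtalePair.HasMap, P', Polynomial.aeval_map_algebraMap] using hx
  let σ : P'.Ring →ₐ[BR] BR ⧸ J := P'.lift x hx'
  obtain ⟨τ, -⟩ := H9Hens.exists_algHom_lift σ
  refine ⟨τ P'.X, ?_⟩
  have := P'.hasMap_X.map τ
  simpa [StandardEtalePair.HasMap, P'] using this

end Algebra

section Scheme

variable {A B : Type u} [CommRing A] [CommRing B] [Algebra A B]

/-- The functions on the base changes of etale neighbourhoods. -/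
noncomputable abbrev bcFun {Z X : Scheme.{u}} (f : Z ⟶ X) : X.Etaleᵒᵖ ⥤ CommRingCat.{u} :=
  (EtCoh.bc f).op ⋙ EtBase.OO Z

/-- Functions on etale neighbourhoods pull back to their base changes. -/
noncomputable def ooToBcFun {Z X : Scheme.{u}} (f : Z ⟶ X) : EtBase.OO X ⟶ bcFun f where
  app U := (pullback.fst U.unop.hom f).appTop
  naturality U V g := (Scheme.Hom.comp_appTop _ _).symm.trans
    ((congrArg Scheme.Hom.appTop (EtCoh.isPullback_bc_map f g.unop).w.symm).trans
      (Scheme.Hom.comp_appTop _ _))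

set_option maxHeartbeats 1000000 in
theorem exists_etale_lift_integral_affine [Algebra.IsIntegral A B]
    {C : Type u} [CommRing C] [Algebra B C] (P : StandardEtalePresentation B C)
    (Q : PrimeSpectrum C)
    (huniq : ∀ Q' : PrimeSpectrum C, Q'.comap (algebraMap B C) = Q.comap (algebraMap B C) → Q' = Q)
    (hfib : ∀ q : PrimeSpectrum B,
      q.comap (algebraMap A B) = (Q.comap (algebraMap B C)).comap (algebraMap A B) →
        q ∈ Set.range (PrimeSpectrum.comap (algebraMap B C))) :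
    ∃ (V : Scheme.{u}) (q : V ⟶ Spec (CommRingCat.of A)), Etale q ∧
      ∃ a : pullback q (Spec.map (CommRingCat.ofHom (algebraMap A B))) ⟶ Spec (CommRingCat.of C),
        a ≫ Spec.map (CommRingCat.ofHom (algebraMap B C)) =
          pullback.snd q (Spec.map (CommRingCat.ofHom (algebraMap A B))) ∧
        Q ∈ Set.range a.base := by
  let X : Scheme.{u} := Spec (CommRingCat.of A)
  let f : Spec (CommRingCat.of B) ⟶ X := Spec.map (CommRingCat.ofHom (algebraMap A B))
  let q₀ : Spec (CommRingCat.of B) := Q.comap (algebraMap B C)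
  let η := geomPt (f.base q₀)
  have : IsSepClosed (SeparableClosure (X.residueField (f.base q₀))) := SeparableClosure.isSepClosed _
  let z₀ : (Scheme.pointSmallEtale η).fiber.obj (EtCoh.top X) := Over.homMk η (Category.comp_id _)
  let R := EtBase.etaleLocalRing η
  let ρ : CommRingCat.of A ⟶ R :=
    (Scheme.ΓSpecIso (CommRingCat.of A)).inv ≫ funGerm η (EtCoh.top X) z₀
  let : Algebra A R := ρ.hom.toAlgebra
  obtain ⟨hR, hsep⟩ := isStrictlyHenselian_etaleLocalRing η
  have hker : PrimeSpectrum.comap (algebraMap A R) (IsLocalRing.closedPoint R) = f.base q₀ := by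
    let χ : CommRingCat.of A ⟶ CommRingCat.of (SeparableClosure (X.residueField (f.base q₀))) :=
      (Scheme.ΓSpecIso (CommRingCat.of A)).inv ≫ η.appTop ≫ (Scheme.ΓSpecIso _).hom
    have h1 : Spec.map χ = η := Spec.map_preimage η ▸ (congrArg Spec.map (by
      change (Scheme.ΓSpecIso _).inv ≫ η.appTop ≫ _ = Spec.preimage η
      conv_lhs => rw [← Spec.map_preimage η]
      rw [← Scheme.ΓSpecIso_inv_naturality_assoc, Iso.inv_hom_id, Category.comp_id]))
    refine Eq.trans ?_ ((congrArg (fun g => g.base default) h1).trans (geomPt_base (f.base q₀)))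
    apply PrimeSpectrum.ext
    ext a
    refine Iff.trans ?_ (Iff.of_eq (congrArg (a ∈ ·) (asIdeal_comap_field χ.hom _).symm))
    change ρ a ∈ IsLocalRing.maximalIdeal R ↔ a ∈ RingHom.ker χ.hom
    rw [RingHom.mem_ker, mem_maximalIdeal_iff]
    exact Iff.of_eq (congrArg (· = 0) (funGerm_valueHom η _ z₀ _))
  obtain ⟨x, hx⟩ := exists_hasMap_tensor (A := A) (R := R) P fun q hq => hfib q (hq.trans hker)
  let W := (Scheme.pointSmallEtale η).presheafFiber.obj (bcFun f)
  let β : ∀ U : X.Etale, CommRingCat.of B ⟶ (bcFun f).obj (op U) := fun U =>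
    (Scheme.ΓSpecIso (CommRingCat.of B)).inv ≫ (pullback.snd U.hom f).appTop
  have hβ : ∀ {U V : X.Etale} (g : V ⟶ U), β U ≫ (bcFun f).map g.op = β V := fun {U V} g => by
    refine (Category.assoc _ _ _).trans (congrArg (_ ≫ ·) ?_)
    exact (Scheme.Hom.comp_appTop _ _).symm.trans
      (congrArg Scheme.Hom.appTop (Over.w ((EtCoh.bc f).map g).hom))
  let gW : ∀ (U : X.Etale) (_ : (Scheme.pointSmallEtale η).fiber.obj U), (bcFun f).obj (op U) ⟶ W :=
    fun U z => (Scheme.pointSmallEtale η).toPresheafFiber U z (bcFun f)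
  have hgW : ∀ {U V : X.Etale} (g : V ⟶ U) (z : (Scheme.pointSmallEtale η).fiber.obj V) a,
      gW V z ((bcFun f).map g.op a) = gW U ((Scheme.pointSmallEtale η).fiber.map g z) a :=
    fun g z a => (Scheme.pointSmallEtale η).toPresheafFiber_w_apply g z (bcFun f) a
  let hB : CommRingCat.of B ⟶ W := β (EtCoh.top X) ≫ gW (EtCoh.top X) z₀
  let hRW : R ⟶ W := (Scheme.pointSmallEtale η).presheafFiber.map (ooToBcFun f)
  have hagree : CommRingCat.ofHom (algebraMap A B) ≫ hB = ρ ≫ hRW := by
    ext a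
    refine Eq.trans ?_ ((Scheme.pointSmallEtale η).toPresheafFiber_naturality_apply (ooToBcFun f)
      (EtCoh.top X) z₀ ((Scheme.ΓSpecIso (CommRingCat.of A)).inv a)).symm
    refine congrArg (gW (EtCoh.top X) z₀) ?_
    have h2 : CommRingCat.ofHom (algebraMap A B) ≫ β (EtCoh.top X) =
        (Scheme.ΓSpecIso (CommRingCat.of A)).inv ≫ (pullback.fst (EtCoh.top X).hom f).appTop :=
      (Scheme.ΓSpecIso_inv_naturality_assoc _ _).trans (congrArg (_ ≫ ·)
        ((Scheme.Hom.comp_appTop _ _).symm.trans (congrArg Scheme.Hom.appTop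
          (pullback.condition.symm.trans (Category.comp_id _)))))
    exact ConcreteCategory.congr_hom h2 a
  let : Algebra B W := hB.hom.toAlgebra
  let : Algebra A W := (hB.hom.comp (algebraMap A B)).toAlgebra
  have : IsScalarTower A B W := .of_algebraMap_eq' rfl
  let lR : R →ₐ[A] W :=
    { hRW.hom with commutes' := fun a => (ConcreteCategory.congr_hom hagree a).symm }
  let h : R ⊗[A] B →ₐ[B] W :=
    { (Algebra.TensorProduct.lift lR (IsScalarTower.toAlgHom A B W) fun _ _ => .all _ _).toRingHom with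
      commutes' := fun b => by
        change Algebra.TensorProduct.lift lR _ _ ((1 : R) ⊗ₜ[A] b) = _
        rw [Algebra.TensorProduct.lift_tmul, map_one, one_mul]
        rfl }
  have hy : P.HasMap (h x) := hx.map h
  obtain ⟨U, z, a, hza⟩ := (Scheme.pointSmallEtale η).toPresheafFiber_jointly_surjective
    (P := bcFun f) (h x)
  have hgerm : ∀ (U : X.Etale) (z : (Scheme.pointSmallEtale η).fiber.obj U) (b : B),
      gW U z (β U b) = algebraMap B W b := by
    intro U z b
    let t : U ⟶ EtCoh.top X := MorphismProperty.Over.homMk U.hom (Category.comp_id _) trivial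
    have h1 : (Scheme.pointSmallEtale η).fiber.map t z = z₀ := Over.OverMorphism.ext (Over.w z)
    have h2 := hgW t z (β (EtCoh.top X) b)
    rw [h1] at h2
    exact (congrArg (gW U z) (ConcreteCategory.congr_hom (hβ t) b).symm).trans h2
  have haeval : ∀ (U : X.Etale) (z : (Scheme.pointSmallEtale η).fiber.obj U)
      (a : (bcFun f).obj (op U)) (F : Polynomial B),
      gW U z (F.eval₂ (β U).hom a) = F.aeval (gW U z a) := by
    intro U z a F
    rw [Polynomial.hom_eval₂, Polynomial.aeval_def]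
    congr 1
    exact RingHom.ext fun b => hgerm U z b
  obtain ⟨w, hw⟩ := hy.2.exists_right_inv
  obtain ⟨U', z', c, hc⟩ := (Scheme.pointSmallEtale η).toPresheafFiber_jointly_surjective
    (P := bcFun f) w
  obtain ⟨⟨U₁, z₁⟩, ⟨g, hg⟩, ⟨g', hg'⟩, -⟩ := IsCofilteredOrEmpty.cone_objs
    (C := (Scheme.pointSmallEtale η).fiber.Elements) ⟨U, z⟩ ⟨U', z'⟩
  dsimp at g g' hg hg'
  let a₁ := (bcFun f).map g.op a
  let c₁ := (bcFun f).map g'.op c
  have ha₁ : gW U₁ z₁ a₁ = h x := (hgW g z₁ a).trans (by rw [hg]; exact hza)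
  have hc₁ : gW U₁ z₁ c₁ = w := (hgW g' z₁ c).trans (by rw [hg']; exact hc)
  have e0 : gW U₁ z₁ (P.f.eval₂ (β U₁).hom a₁) = gW U₁ z₁ 0 := by
    rw [haeval, ha₁, map_zero]; exact hy.1
  have e1 : gW U₁ z₁ (P.g.eval₂ (β U₁).hom a₁ * c₁) = gW U₁ z₁ 1 := by
    rw [map_mul, haeval, ha₁, hc₁, map_one]; exact hw
  obtain ⟨U₂, g₂, z₂, hg₂, he0⟩ :=
    ((Scheme.pointSmallEtale η).toPresheafFiber_eq_iff' (P := bcFun f) U₁ z₁ _ _).1 e0
  have e1' : gW U₂ z₂ ((bcFun f).map g₂.op (P.g.eval₂ (β U₁).hom a₁ * c₁)) =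
      gW U₂ z₂ ((bcFun f).map g₂.op 1) := by
    rw [hgW, hgW, hg₂]; exact e1
  obtain ⟨U₃, g₃, z₃, hg₃, he1⟩ :=
    ((Scheme.pointSmallEtale η).toPresheafFiber_eq_iff' (P := bcFun f) U₂ z₂ _ _).1 e1'
  let π := (bcFun f).map g₂.op ≫ (bcFun f).map g₃.op
  let : Algebra B ((bcFun f).obj (op U₃)) := (β U₃).hom.toAlgebra
  have hπ : β U₁ ≫ π = β U₃ := by rw [← Category.assoc, hβ, hβ]
  have hev : ∀ F : Polynomial B, F.aeval (π a₁) = π (F.eval₂ (β U₁).hom a₁) := fun F => by
    rw [Polynomial.hom_eval₂, Polynomial.aeval_def]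
    congr 1
    exact RingHom.ext fun b => (ConcreteCategory.congr_hom hπ b).symm
  have hroot : P.HasMap (π a₁) := by
    refine ⟨?_, IsUnit.of_mul_eq_one (π c₁) ?_⟩
    · rw [hev]
      exact ((congrArg ((bcFun f).map g₃.op) he0).trans
        ((congrArg _ (map_zero _)).trans (map_zero _)))
    · rw [hev, ← map_mul]
      exact he1.trans ((congrArg _ (map_one _)).trans (map_one _))
  let α : C →ₐ[B] (bcFun f).obj (op U₃) := (P.lift (π a₁) hroot).comp P.equivRing.toAlgHom
  have hU₃ : Etale U₃.hom := U₃.prop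
  have h0 : CommRingCat.ofHom (algebraMap B C) ≫ CommRingCat.ofHom α.toRingHom = β U₃ :=
    CommRingCat.hom_ext (RingHom.ext α.commutes)
  have h1 : ((pullback U₃.hom f).toSpecΓ ≫ Spec.map (CommRingCat.ofHom α.toRingHom)) ≫
      Spec.map (CommRingCat.ofHom (algebraMap B C)) = pullback.snd U₃.hom f :=
    (Category.assoc _ _ _).trans ((congrArg ((pullback U₃.hom f).toSpecΓ ≫ ·)
      ((Spec.map_comp _ _).symm.trans ((congrArg Spec.map h0).trans (Spec.map_comp _ _)))).trans
        ((Scheme.toSpecΓ_naturality_assoc (pullback.snd U₃.hom f) _).symm.trans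
          ((congrArg (_ ≫ ·) (toSpecΓ_SpecMap_ΓSpecIso_inv _)).trans (Category.comp_id _))))
  refine ⟨U₃.left, U₃.hom, hU₃,
    (pullback U₃.hom f).toSpecΓ ≫ Spec.map (CommRingCat.ofHom α.toRingHom), h1, ?_⟩
  obtain ⟨p, -, hp⟩ := Scheme.Pullback.exists_preimage_pullback (f := U₃.hom) (g := f) (ptOf z₃) q₀
    ((Scheme.pointSmallEtaleFiberObjToPreimage η rfl z₃).2.trans (geomPt_base (f.base q₀)))
  refine ⟨p, huniq _ ?_⟩
  exact ((Scheme.Hom.comp_apply _ _ _).symm.trans (congrArg (fun k => k.base p) h1)).trans hp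

end Scheme

theorem exists_separating {B C : Type u} [CommRing B] [CommRing C] [Algebra B C]
    [Algebra.IsStandardEtale B C] (Q : PrimeSpectrum C) :
    ∃ g : C, g ∉ Q.asIdeal ∧ ∀ Q' : PrimeSpectrum C,
      Q'.comap (algebraMap B C) = Q.comap (algebraMap B C) → g ∉ Q'.asIdeal → Q' = Q := by
  classical
  let S : Finset (PrimeSpectrum C) :=
    (Algebra.QuasiFinite.finite_comap_preimage_singleton (S := C)
      (Q.comap (algebraMap B C))).toFinset.erase Q
  have h : ∀ Q' ∈ S, ∃ g ∈ Q'.asIdeal, g ∉ Q.asIdeal := fun Q' hQ' => by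
    obtain ⟨hne, hmem⟩ := Finset.mem_erase.1 hQ'
    rw [Set.Finite.mem_toFinset] at hmem
    refine Set.not_subset.1 fun hle => hne (PrimeSpectrum.ext ?_)
    exact Algebra.QuasiFinite.eq_of_le_of_under_eq (R := B) _ _ hle (congrArg PrimeSpectrum.asIdeal hmem)
  choose! g hg hgQ using h
  refine ⟨∏ Q' ∈ S, g Q', fun hmem => ?_, fun Q' hQ' hn => ?_⟩
  · obtain ⟨Q', hQ', h'⟩ := Q.isPrime.prod_mem_iff.1 hmem
    exact hgQ Q' hQ' h'
  · by_contra hne
    have hS : Q' ∈ S := Finset.mem_erase.2 ⟨hne, (Set.Finite.mem_toFinset _).2 hQ'⟩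
    exact hn (Ideal.mem_of_dvd _ (Finset.dvd_prod_of_mem g hS) (hg Q' hS))

set_option backward.isDefEq.respectTransparency.types false in
set_option maxHeartbeats 1000000 in
theorem liftsEtale_of_integral_injective {Z X : Scheme.{u}} (f : Z ⟶ X)
    [IsIntegralHom f] (hinj : Function.Injective f.base) : LiftsEtale f := by
  intro U p hp u
  obtain ⟨W, hW, hxW, -⟩ := TopologicalSpace.Opens.isBasis_iff_nbhd.mp X.isBasis_affineOpens
    (TopologicalSpace.Opens.mem_top (f.base (p.base u)))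
  have hZW : IsAffineOpen (f ⁻¹ᵁ W) := hW.preimage f
  obtain ⟨U₁, hU₁, huU₁, hle⟩ := TopologicalSpace.Opens.isBasis_iff_nbhd.mp U.isBasis_affineOpens
    (show u ∈ p ⁻¹ᵁ (f ⁻¹ᵁ W) from hxW)
  let φ := f.app W
  let ψ := p.appLE (f ⁻¹ᵁ W) U₁ hle
  let : Algebra Γ(X, W) Γ(Z, f ⁻¹ᵁ W) := φ.hom.toAlgebra
  let : Algebra Γ(Z, f ⁻¹ᵁ W) Γ(U, U₁) := ψ.hom.toAlgebra
  have : Algebra.IsIntegral Γ(X, W) Γ(Z, f ⁻¹ᵁ W) := ⟨f.isIntegral_app W hW⟩
  have hsq : IsPullback (Spec.map φ) hZW.fromSpec hW.fromSpec f :=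
    IsOpenImmersion.isPullback _ _ _ _
      ((IsAffineOpen.SpecMap_appLE_fromSpec f hW hZW le_rfl).symm.trans
        congr(Spec.map $((Scheme.Hom.app_eq_appLE f).symm) ≫ hW.fromSpec))
      (by rw [hW.opensRange_fromSpec, hZW.opensRange_fromSpec])
  have hinjφ : Function.Injective (Spec.map φ).base := fun a b h => hZW.fromSpec.injective (hinj
    ((Scheme.Hom.comp_apply _ _ _).symm.trans
      (((congrArg (fun k => k.base a) hsq.w.symm).trans (Scheme.Hom.comp_apply _ _ _)).trans
        ((congrArg hW.fromSpec.base h).trans ((Scheme.Hom.comp_apply _ _ _).symm.trans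
          ((congrArg (fun k => k.base b) hsq.w).trans (Scheme.Hom.comp_apply _ _ _)))))))
  have het : Algebra.Etale Γ(Z, f ⁻¹ᵁ W) Γ(U, U₁) :=
    HasRingHomProperty.appLE @Etale p hp ⟨_, hZW⟩ ⟨_, hU₁⟩ hle
  obtain ⟨g, hg, hst⟩ := Algebra.IsEtaleAt.exists_isStandardEtale (R := Γ(Z, f ⁻¹ᵁ W))
    (hU₁.primeIdealOf ⟨u, huU₁⟩).asIdeal
  obtain ⟨Q₁, hQ₁⟩ := show hU₁.primeIdealOf ⟨u, huU₁⟩ ∈
      Set.range (PrimeSpectrum.comap (algebraMap Γ(U, U₁) (Localization.Away g))) from
    (PrimeSpectrum.localization_away_comap_range (Localization.Away g) g).symm ▸ hg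
  obtain ⟨g', hg', huniq⟩ := exists_separating (B := Γ(Z, f ⁻¹ᵁ W)) Q₁
  let C := Localization.Away g'
  have : Algebra.IsStandardEtale Γ(Z, f ⁻¹ᵁ W) C := .of_isLocalizationAway g'
  obtain ⟨Q, hQ⟩ := show Q₁ ∈
      Set.range (PrimeSpectrum.comap (algebraMap (Localization.Away g) C)) from
    (PrimeSpectrum.localization_away_comap_range C g').symm ▸ hg'
  have hinjQ := PrimeSpectrum.localization_comap_injective C (Submonoid.powers g')
  have hu : ∀ Q' : PrimeSpectrum C, Q'.comap (algebraMap Γ(Z, f ⁻¹ᵁ W) C) =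
      Q.comap (algebraMap Γ(Z, f ⁻¹ᵁ W) C) → Q' = Q := fun Q' h => by
    rw [IsScalarTower.algebraMap_eq Γ(Z, f ⁻¹ᵁ W) (Localization.Away g) C,
      PrimeSpectrum.comap_comp_apply, PrimeSpectrum.comap_comp_apply, hQ] at h
    refine hinjQ ((huniq _ h fun hmem => ?_).trans hQ.symm)
    exact Q'.isPrime.ne_top (Ideal.eq_top_of_isUnit_mem _ hmem
      (IsLocalization.Away.algebraMap_isUnit g'))
  obtain ⟨V, q, hq, a, ha, w, hw⟩ := exists_etale_lift_integral_affine
    (A := Γ(X, W)) (B := Γ(Z, f ⁻¹ᵁ W))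
    (Algebra.IsStandardEtale.nonempty_standardEtalePresentation (R := Γ(Z, f ⁻¹ᵁ W)) (S := C)).some Q hu
    (fun q hq => ⟨Q, (hinjφ hq).symm⟩)
  let m₁ : Spec (CommRingCat.of (Localization.Away g)) ⟶ Spec Γ(U, U₁) :=
    Spec.map (CommRingCat.ofHom (algebraMap Γ(U, U₁) (Localization.Away g)))
  let m₂ : Spec (CommRingCat.of C) ⟶ Spec (CommRingCat.of (Localization.Away g)) :=
    Spec.map (CommRingCat.ofHom (algebraMap (Localization.Away g) C))
  let sC : Spec (CommRingCat.of C) ⟶ Spec Γ(Z, f ⁻¹ᵁ W) :=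
    Spec.map (CommRingCat.ofHom (algebraMap Γ(Z, f ⁻¹ᵁ W) C))
  let j : Spec (CommRingCat.of C) ⟶ U := (m₂ ≫ m₁) ≫ hU₁.fromSpec
  have hj : j ≫ p = sC ≫ hZW.fromSpec := by
    have h1 : hU₁.fromSpec ≫ p = Spec.map ψ ≫ hZW.fromSpec :=
      (IsAffineOpen.SpecMap_appLE_fromSpec p hZW hU₁ hle).symm
    have h2 : sC = (m₂ ≫ m₁) ≫ Spec.map ψ := by
      refine Eq.trans ?_ ((Spec.map_comp _ _).trans
        ((congrArg (· ≫ Spec.map ψ) ((Spec.map_comp _ _).trans rfl))))
      refine congrArg Spec.map (CommRingCat.hom_ext ?_)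
      exact (IsScalarTower.algebraMap_eq Γ(Z, f ⁻¹ᵁ W) (Localization.Away g) C).trans
        (congrArg _ (IsScalarTower.algebraMap_eq Γ(Z, f ⁻¹ᵁ W) Γ(U, U₁) (Localization.Away g)))
    rw [h2]
    exact (Category.assoc _ _ _).trans ((congrArg ((m₂ ≫ m₁) ≫ ·) h1).trans (Category.assoc _ _ _).symm)
  let fW : Spec Γ(Z, f ⁻¹ᵁ W) ⟶ Spec Γ(X, W) := Spec.map φ
  have hpb : IsPullback (pullback.fst q fW) (pullback.snd q fW ≫ hZW.fromSpec)
      (q ≫ hW.fromSpec) f := (IsPullback.of_hasPullback q fW).paste_vert hsq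
  refine ⟨V, q ≫ hW.fromSpec, inferInstance, hpb.isoPullback.inv ≫ a ≫ j, ?_,
    hpb.isoPullback.hom.base w, ?_⟩
  · rw [Category.assoc, Category.assoc, hj, ← Category.assoc a]
    refine (congrArg (fun k => hpb.isoPullback.inv ≫ k ≫ hZW.fromSpec) ha).trans ?_
    exact hpb.isoPullback_inv_snd
  · refine ((Scheme.Hom.comp_apply _ _ _).symm.trans
      (congrArg (fun k : pullback q fW ⟶ U => k.base w)
        (Iso.hom_inv_id_assoc hpb.isoPullback (a ≫ j)))).trans ?_
    refine (Scheme.Hom.comp_apply a j w).trans ((congrArg j.base hw).trans ?_)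
    change hU₁.fromSpec.base (PrimeSpectrum.comap (algebraMap Γ(U, U₁) (Localization.Away g))
      (PrimeSpectrum.comap (algebraMap (Localization.Away g) C) Q)) = u
    rw [hQ, hQ₁]
    exact hU₁.fromSpec_primeIdealOf ⟨u, huU₁⟩

theorem liftsEtaleUniv_of_integral_universallyInjective {Z X : Scheme.{u}} (f : Z ⟶ X)
    [IsIntegralHom f] [UniversallyInjective f] : LiftsEtaleUniv f := by
  intro X' e _
  have : UniversallyInjective (pullback.fst e f) :=
    MorphismProperty.of_isPullback (P := @UniversallyInjective)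
      (IsPullback.of_hasPullback e f).flip ‹_›
  have : IsIntegralHom (pullback.fst e f) :=
    MorphismProperty.of_isPullback (P := @IsIntegralHom) (IsPullback.of_hasPullback e f).flip ‹_›
  exact @liftsEtale_of_integral_injective _ _ (pullback.fst e f) ‹_› (pullback.fst e f).injective

end Groth.Agent.H18Et
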