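import Groth.Prelude.Def_FEt
import Groth.Agent.H7Lim.FPDescent.Exists
import Groth.Agent.H7Lim.DescendAffine
import Groth.Agent.H7Lim.DescendFlat
import Groth.Agent.H7Lim.DescendUnramified

/-!
# Finite étale covers of a cofiltered limit: objects and isomorphisms come from a stage
-/

set_option autoImplicit false
set_option linter.style.haveILetI false
set_option backward.isDefEq.respectTransparency false
set_option backward.defeqAttrib.useBackward true

universe u

open CategoryTheory CategoryTheory.Limits AlgebraicGeometry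

namespace Groth.Agent.H18Et.FEtLimit

open H7Lim.FPDescent

/-- Restriction of covers along a composite. -/
noncomputable def restrictCompIso {X Y Z : Scheme.{u}} (f : X ⟶ Y) (g : Y ⟶ Z) (h : X ⟶ Z) (hh : f ≫ g = h)
    (A : FEt.Cat Z) : (FEt.restrict f).obj ((FEt.restrict g).obj A) ≅ (FEt.restrict h).obj A :=
  ((MorphismProperty.Over.pullbackComp (P := FEt.prop.{u}) (Q := ⊤) f g).app A).symm ≪≫
    (MorphismProperty.Over.pullbackCongr hh).app A

variable {I : Type u} [Category.{u} I] [IsCofiltered I] {D : I ⥤ Scheme.{u}} {c : Cone D}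
  [∀ (i j : I) (f : i ⟶ j), IsAffineHom (D.map f)] [∀ i, CompactSpace (D.obj i)]
  [∀ i, QuasiSeparatedSpace (D.obj i)]

/-- A cover of the limit comes from a stage. -/
theorem exists_stage_obj (hc : IsLimit c) (V : FEt.Cat c.pt) :
    ∃ (i : I) (Vi : FEt.Cat (D.obj i)), Nonempty ((FEt.restrict (c.π.app i)).obj Vi ≅ V) := by
  let f := V.hom
  haveI : IsFinite f := V.prop.1
  haveI : Etale f := V.prop.2
  obtain ⟨i, ⟨M⟩⟩ := exists_model hc f
  have hsnd : ∀ {j : I} (N : Model c f j) (P : MorphismProperty Scheme.{u}) [P.RespectsIso],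
      P f → P (pullback.snd N.p (c.π.app j)) :=
    fun N P _ hP => (H7Lim.prop_iff_of_isPullback N.hpb).mp hP
  haveI := M.compactSpace
  haveI := M.quasiSeparatedSpace
  obtain ⟨j₁, φ₁, h₁⟩ := H7Lim.exists_descend hc H7Lim.descendsAffine_isFinite i M.p
    (inferInstanceAs (LocallyOfFiniteType M.p)) (hsnd M @IsFinite inferInstance)
  let M₁ := M.shift φ₁
  haveI := M₁.compactSpace
  haveI := M₁.quasiSeparatedSpace
  haveI : IsFinite M₁.p := h₁
  obtain ⟨j₂, φ₂, h₂⟩ := H7Lim.exists_descend hc H7Lim.descendsAffine_flat j₁ M₁.p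
    M₁.lfp (hsnd M₁ @Flat inferInstance)
  let M₂ := M₁.shift φ₂
  haveI := M₂.compactSpace
  haveI := M₂.quasiSeparatedSpace
  haveI : IsFinite M₂.p := MorphismProperty.pullback_snd _ _ (inferInstanceAs (IsFinite M₁.p))
  haveI : Flat M₂.p := h₂
  obtain ⟨j₃, φ₃, h₃⟩ := H7Lim.exists_descend hc H7Lim.descendsAffine_formallyUnramified j₂ M₂.p
    (inferInstanceAs (LocallyOfFiniteType M₂.p)) (hsnd M₂ @FormallyUnramified inferInstance)
  let M₃ := M₂.shift φ₃
  haveI : IsFinite M₃.p := MorphismProperty.pullback_snd _ _ (inferInstanceAs (IsFinite M₂.p))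
  haveI : Flat M₃.p := MorphismProperty.pullback_snd _ _ (inferInstanceAs (Flat M₂.p))
  haveI : FormallyUnramified M₃.p := h₃
  haveI : Etale M₃.p := Etale.iff_flat_and_formallyUnramified.mpr ⟨inferInstance, inferInstance, M₃.lfp⟩
  refine ⟨j₃, MorphismProperty.Over.mk ⊤ M₃.p ⟨inferInstance, inferInstance⟩, ⟨?_⟩⟩
  exact MorphismProperty.Over.isoMk M₃.hpb.isoPullback.symm (by
    show M₃.hpb.isoPullback.inv ≫ f = pullback.snd _ _
    exact M₃.hpb.isoPullback_inv_snd)

/-- The model of the base change of a cover. -/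
noncomputable def modelOf {i : I} (A : FEt.Cat (D.obj i)) :
    Model c (pullback.snd A.hom (c.π.app i)) i :=
  haveI : IsFinite A.hom := A.prop.1
  haveI : Etale A.hom := A.prop.2
  { P := A.left
    p := A.hom
    lfp := inferInstance
    qc := inferInstance
    qs := inferInstance
    g := pullback.fst A.hom (c.π.app i)
    hpb := IsPullback.of_hasPullback _ _ }

/-- An isomorphism over the limit comes from a stage. -/
theorem exists_stage_iso (hc : IsLimit c) {i : I} (A B : FEt.Cat (D.obj i))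
    (e : (FEt.restrict (c.π.app i)).obj A ≅ (FEt.restrict (c.π.app i)).obj B) :
    ∃ (j : I) (φ : j ⟶ i), Nonempty ((FEt.restrict (D.map φ)).obj A ≅ (FEt.restrict (D.map φ)).obj B) := by
  have hw : e.hom.left ≫ pullback.snd B.hom (c.π.app i) = pullback.snd A.hom (c.π.app i) :=
    MorphismProperty.Over.w e.hom
  obtain ⟨j, φ, ⟨F⟩⟩ := exists_hom hc (modelOf (c := c) A) (modelOf (c := c) B) e.hom.left hw
  haveI : IsIso e.hom.left :=
    (MorphismProperty.Over.forget FEt.prop ⊤ c.pt ⋙ Over.forget c.pt).map_isIso e.hom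
  obtain ⟨k, ψ, hk⟩ := exists_isIso hc F hw
  haveI := hk
  let e' : (FEt.restrict (D.map ψ)).obj ((FEt.restrict (D.map φ)).obj A) ≅
      (FEt.restrict (D.map ψ)).obj ((FEt.restrict (D.map φ)).obj B) :=
    MorphismProperty.Over.isoMk (asIso (F.shift ψ hw).o) (F.shift ψ hw).w_p
  exact ⟨k, ψ ≫ φ, ⟨(restrictCompIso _ _ _ (D.map_comp ψ φ).symm A).symm ≪≫ e' ≪≫
    restrictCompIso _ _ _ (D.map_comp ψ φ).symm B⟩⟩

end Groth.Agent.H18Et.FEtLimit
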