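import Groth.Agent.H18Et.FEtRestrict
import Groth.Agent.H4Depth.Components
import Groth.Agent.H13CInt.FibreDepth

/-!
# Restriction of finite étale covers to opens with complement of depth two
-/

set_option autoImplicit false
set_option linter.style.haveILetI false

universe u

open CategoryTheory CategoryTheory.Limits AlgebraicGeometry

namespace Groth.Agent.H18Et.FEtDepth

open FEtGalois FEtRestrict

set_option backward.isDefEq.respectTransparency false

/-- A clopen of an open subset extends, when the open is locally connected relative to its complement. -/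
theorem exists_isClopen_inter {X : Type*} [TopologicalSpace X] {U C : Set X} (hC : IsOpen C) (hCU : C ⊆ U)
    (hD : IsOpen (U \ C))
    (h : ∀ x ∉ U, ∀ W : Set X, IsOpen W → x ∈ W →
      ∃ V : Set X, IsOpen V ∧ x ∈ V ∧ V ⊆ W ∧ IsPreconnected (V ∩ U) ∧ (V ∩ U).Nonempty) :
    ∃ S : Set X, IsClopen S ∧ S ∩ U = C := by
  let S : Set X := {x | ∃ V : Set X, IsOpen V ∧ x ∈ V ∧ V ∩ U ⊆ C}
  let T : Set X := {x | ∃ V : Set X, IsOpen V ∧ x ∈ V ∧ V ∩ U ⊆ U \ C}
  have hSo : IsOpen S := isOpen_iff_forall_mem_open.2 fun x ⟨V, hV, hx, hVC⟩ =>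
    ⟨V, fun y hy => ⟨V, hV, hy, hVC⟩, hV, hx⟩
  have hTo : IsOpen T := isOpen_iff_forall_mem_open.2 fun x ⟨V, hV, hx, hVC⟩ =>
    ⟨V, fun y hy => ⟨V, hV, hy, hVC⟩, hV, hx⟩
  have hdis : ∀ x ∈ S, x ∉ T := fun x ⟨V, hV, hx, hVC⟩ ⟨V', hV', hx', hVC'⟩ => by
    obtain ⟨y, hyV, hyV', hyU⟩ : ∃ y, y ∈ V ∧ y ∈ V' ∧ y ∈ U := by
      by_cases hxU : x ∈ U
      · exact ⟨x, hx, hx', hxU⟩
      · obtain ⟨V'', _, _, hsub, _, y, hy, hyU⟩ := h x hxU (V ∩ V') (hV.inter hV') ⟨hx, hx'⟩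
        exact ⟨y, (hsub hy).1, (hsub hy).2, hyU⟩
    exact (hVC' ⟨hyV', hyU⟩).2 (hVC ⟨hyV, hyU⟩)
  have hcov : ∀ x, x ∈ S ∨ x ∈ T := fun x => by
    by_cases hxU : x ∈ U
    · by_cases hxC : x ∈ C
      · exact Or.inl ⟨C, hC, hxC, Set.inter_subset_left⟩
      · exact Or.inr ⟨U \ C, hD, ⟨hxU, hxC⟩, Set.inter_subset_left⟩
    · obtain ⟨V, hV, hx, -, hpre, -⟩ := h x hxU Set.univ isOpen_univ trivial
      rcases (isPreconnected_iff_subset_of_disjoint.1 hpre) C (U \ C) hC hD (fun y hy => by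
          by_cases hyC : y ∈ C
          · exact Or.inl hyC
          · exact Or.inr ⟨hy.2, hyC⟩)
        (Set.eq_empty_iff_forall_notMem.2 fun y hy => hy.2.2.2 hy.2.1) with h1 | h1
      · exact Or.inl ⟨V, hV, hx, h1⟩
      · exact Or.inr ⟨V, hV, hx, h1⟩
  refine ⟨S, ⟨⟨?_⟩, hSo⟩, ?_⟩
  · convert hTo using 1
    ext x
    exact ⟨fun hx => (hcov x).resolve_left hx, fun hx hx' => hdis x hx' hx⟩
  · ext x
    exact ⟨fun ⟨⟨V, _, hxV, hVC⟩, hxU⟩ => hVC ⟨hxV, hxU⟩,
      fun hx => ⟨⟨C, hC, hx, Set.inter_subset_left⟩, hCU hx⟩⟩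

theorem depth_le_of_flat {P X : Scheme.{u}} [IsLocallyNoetherian X] [IsLocallyNoetherian P] (f : P ⟶ X) [Flat f]
    (y : P) : LocCoh.depth (X.presheaf.stalk (f y)) (X.presheaf.stalk (f y)) ≤
      LocCoh.depth (P.presheaf.stalk y) (P.presheaf.stalk y) := by
  letI := (f.stalkMap y).hom.toAlgebra
  haveI : IsLocalHom (algebraMap (X.presheaf.stalk (f y)) (P.presheaf.stalk y)) :=
    inferInstanceAs (IsLocalHom (f.stalkMap y).hom)
  haveI : Module.Flat (X.presheaf.stalk (f y)) (P.presheaf.stalk y) := Flat.stalkMap f y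
  haveI := H8Props.FlatDepth.isLocalRing_fibre (X.presheaf.stalk (f y)) (P.presheaf.stalk y)
  rw [H8Props.FlatDepth.depth_eq_add (X.presheaf.stalk (f y)) (P.presheaf.stalk y)]
  exact le_self_add

theorem clopensDescend {X : Scheme.{u}} [IsLocallyNoetherian X] (U : X.Opens)
    (h : ∀ x : X, x ∉ U → (2 : ℕ∞) ≤ LocCoh.depth (X.presheaf.stalk x) (X.presheaf.stalk x)) :
    ClopensDescend U.ι := fun P W' hW' => by
  let f : P.left ⟶ X := P.hom
  haveI : IsFinite f := isFinite_hom P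
  haveI : Etale f := etale_hom P
  haveI : IsLocallyNoetherian P.left := LocallyOfFiniteType.isLocallyNoetherian f
  let p := pullback.fst f U.ι
  have hp : Topology.IsOpenEmbedding p := p.isOpenEmbedding
  have hr : Set.range p = ((f ⁻¹ᵁ U : P.left.Opens) : Set P.left) := by
    show Set.range (pullback.fst f U.ι) = _
    rw [Scheme.Pullback.range_fst, Scheme.Opens.range_ι]
    rfl
  obtain ⟨S, hS, e⟩ := exists_isClopen_inter (U := ((f ⁻¹ᵁ U : P.left.Opens) : Set P.left)) (C := p '' W')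
    (hp.isOpenMap _ hW'.2) (hr ▸ Set.image_subset_range _ _)
    (by
      rw [← hr, ← Set.image_compl_eq_range_diff_image hp.injective]
      exact hp.isOpenMap _ hW'.1.isOpen_compl)
    (fun x hx W hW hxW => H4Depth.exists_basis_of_depth P.left (f ⁻¹ᵁ U)
      (fun y hy => (h _ hy).trans (depth_le_of_flat f y)) x hx W hW hxW)
  refine ⟨S, hS, ?_⟩
  ext q
  constructor
  · intro hq
    obtain ⟨a, ha, hap⟩ : p q ∈ p '' W' := e ▸ ⟨hq, hr ▸ Set.mem_range_self q⟩
    exact hp.injective hap ▸ ha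
  · intro hq
    exact (e.ge ⟨q, hq, rfl⟩).1

theorem full_faithful {X : Scheme.{u}} [IsLocallyNoetherian X] (U : X.Opens) (hU : MeetsClopens U.ι)
    (h : ∀ x : X, x ∉ U → (2 : ℕ∞) ≤ LocCoh.depth (X.presheaf.stalk x) (X.presheaf.stalk x)) :
    (FEt.restrict U.ι).Full ∧ (FEt.restrict U.ι).Faithful :=
  ⟨FEtRestrict.full _ hU (clopensDescend U h), FEtRestrict.faithful _ hU⟩

theorem meetsClopens_of_dense {X : Scheme.{u}} (U : X.Opens) (hU : Dense (U : Set X)) :
    MeetsClopens U.ι := fun V hV hne => by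
  rw [Scheme.Opens.range_ι]
  exact hU.inter_open_nonempty V hV.2 hne

end Groth.Agent.H18Et.FEtDepth
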