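import Mathlib
import Groth.Agent.H06Unram.TraceForm
import Groth.Agent.H8Props.FlatDepth

/-!
# A finite flat cover étale off a subset of depth two is étale
-/

set_option autoImplicit false
set_option linter.style.haveILetI false

universe u

open IsLocalRing

namespace Groth.Agent.H18Et.PurityFlat

/-- Discriminant criterion. -/
theorem etale_iff_isUnit_discr {A B : Type u} [CommRing A] [CommRing B] [Algebra A B] {ι : Type u}
    [Fintype ι] [DecidableEq ι] (b : Module.Basis ι A B) :
    Algebra.Etale A B ↔ IsUnit (Algebra.discr A b) := by
  haveI : Module.Finite A B := Module.Finite.of_basis b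
  haveI : Module.Free A B := Module.Free.of_basis b
  rw [H06Unram.etale_iff_bijective_traceForm, Algebra.discr_def]
  have hM : Algebra.traceMatrix A b = LinearMap.toMatrix b b.dualBasis (Algebra.traceForm A B) := by
    ext i j
    rw [LinearMap.toMatrix_apply, Module.Basis.dualBasis_repr]
    show Algebra.traceForm A B (b i) (b j) = Algebra.traceForm A B (b j) (b i)
    rw [Algebra.traceForm_apply, Algebra.traceForm_apply, mul_comm]
  rw [hM]
  constructor
  · intro h
    exact (LinearEquiv.ofBijective _ h).isUnit_det b b.dualBasis
  · intro h
    exact (LinearEquiv.ofIsUnitDet h).bijective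

section Transfer

variable {S S' T T' : Type u} [CommRing S] [CommRing S'] [CommRing T] [CommRing T'] [Algebra S S'] [Algebra S T]
  [Algebra T T'] [Algebra S' T'] [Algebra S T'] [IsScalarTower S S' T'] [IsScalarTower S T T']
  (M : Submonoid S) [IsLocalization M S'] [IsLocalization (Algebra.algebraMapSubmonoid T M) T']

include M

/-- Étaleness at a prime is insensitive to localizing the base and the algebra. -/
theorem isEtaleAt_localization_iff (Q : Ideal T') [Q.IsPrime] :
    Algebra.IsEtaleAt S' Q ↔ Algebra.IsEtaleAt S (Q.comap (algebraMap T T')) := by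
  haveI : IsScalarTower T T' (Localization.AtPrime Q) := inferInstance
  haveI : IsLocalization.AtPrime (Localization.AtPrime Q) (Q.comap (algebraMap T T')) :=
    IsLocalization.isLocalization_isLocalization_atPrime_isLocalization
      (Algebra.algebraMapSubmonoid T M) (Localization.AtPrime Q) Q
  let e : Localization.AtPrime (Q.comap (algebraMap T T')) ≃ₐ[S] Localization.AtPrime Q :=
    (IsLocalization.algEquiv (Q.comap (algebraMap T T')).primeCompl _ _).restrictScalars S
  constructor
  · intro h
    haveI : Algebra.FormallyEtale S' (Localization.AtPrime Q) := h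
    haveI : Algebra.FormallyEtale S S' := Algebra.FormallyEtale.of_isLocalization M
    haveI : Algebra.FormallyEtale S (Localization.AtPrime Q) := Algebra.FormallyEtale.comp S S' _
    exact Algebra.FormallyEtale.of_equiv e.symm
  · intro h
    haveI : Algebra.FormallyEtale S (Localization.AtPrime (Q.comap (algebraMap T T'))) := h
    haveI : Algebra.FormallyEtale S (Localization.AtPrime Q) := Algebra.FormallyEtale.of_equiv e
    exact Algebra.FormallyEtale.localization_base M

end Transfer

theorem isEtaleAt_of_etale {S T : Type u} [CommRing S] [CommRing T] [Algebra S T] [Algebra.Etale S T]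
    (Q : Ideal T) [Q.IsPrime] : Algebra.IsEtaleAt S Q :=
  haveI : Algebra.FormallyEtale T (Localization.AtPrime Q) := Algebra.FormallyEtale.of_isLocalization Q.primeCompl
  Algebra.FormallyEtale.comp S T _

/-- A finite flat algebra étale off a set of primes of depth two is étale. -/
theorem etale_of_depth {S T : Type u} [CommRing S] [IsNoetherianRing S] [CommRing T] [Algebra S T]
    [Module.Finite S T] [Module.Flat S T]
    (h : ∀ (p : Ideal S) [p.IsPrime], (2 : ℕ∞) ≤ LocCoh.depth (Localization.AtPrime p) (Localization.AtPrime p) ∨
      ∀ (q : Ideal T) [q.IsPrime], q.comap (algebraMap S T) = p → Algebra.IsEtaleAt S q) :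
    Algebra.Etale S T := by
  haveI : Algebra.FiniteType S T := inferInstance
  haveI : Algebra.FinitePresentation S T := Algebra.FinitePresentation.of_finiteType.mp inferInstance
  rw [← Algebra.etaleLocus_eq_univ_iff_etale]
  suffices H : ∀ n : ℕ∞, ∀ (p : Ideal S) [p.IsPrime], p.height = n → ∀ (q : Ideal T) [q.IsPrime],
      q.comap (algebraMap S T) = p → Algebra.IsEtaleAt S q by
    refine Set.eq_univ_of_forall fun q => ?_
    exact H _ (q.asIdeal.comap (algebraMap S T)) rfl q.asIdeal rfl
  intro n
  induction n using WellFoundedLT.induction with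
  | ind n ih =>
  intro p hp hpn q hq hqp
  rcases h p with hd | hgood
  swap
  · exact hgood q hqp
  let S' := Localization.AtPrime p
  let T' := Localization (Algebra.algebraMapSubmonoid T p.primeCompl)
  letI : Algebra S' T' := localizationAlgebra p.primeCompl T
  haveI : Module.Finite S' T' := Module.Finite.of_isLocalization S T p.primeCompl
  haveI : IsLocalizedModule p.primeCompl (IsScalarTower.toAlgHom S T T').toLinearMap :=
    isLocalizedModule_iff_isLocalization.mpr inferInstance
  haveI : Module.Flat S' T' :=
    Module.Flat.of_isLocalizedModule S' p.primeCompl (IsScalarTower.toAlgHom S T T').toLinearMap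
  haveI : Module.Free S' T' := Module.free_of_flat_of_isLocalRing
  classical
  let b := Module.Free.chooseBasis S' T'
  -- transfer to the localization
  suffices hS' : Algebra.Etale S' T' by
    have hdisj : Disjoint (Algebra.algebraMapSubmonoid T p.primeCompl : Set T) (q : Set T) := by
      rw [Set.disjoint_left]
      rintro _ ⟨s, hs, rfl⟩ hsq
      exact hs (hqp ▸ (show s ∈ q.comap (algebraMap S T) from hsq))
    let Q : Ideal T' := q.map (algebraMap T T')
    haveI : Q.IsPrime := IsLocalization.isPrime_of_isPrime_disjoint _ T' q hq hdisj
    have e : Q.comap (algebraMap T T') = q := IsLocalization.comap_map_of_isPrime_disjoint _ T' hq hdisj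
    have := (isEtaleAt_localization_iff (S := S) (T := T) p.primeCompl Q).1 (isEtaleAt_of_etale (S := S') Q)
    simpa only [e] using this
  rw [etale_iff_isUnit_discr b]
  by_contra hd0
  obtain ⟨P, hP⟩ := Ideal.nonempty_minimalPrimes (I := Ideal.span {Algebra.discr S' b})
    (by rwa [Ne, Ideal.span_singleton_eq_top])
  haveI := hP.1.1
  have hP1 : P.height ≤ 1 := Ideal.height_le_one_of_isPrincipal_of_mem_minimalPrimes _ P hP
  have hne : P ≠ maximalIdeal S' := by
    rintro rfl
    have h1 := (WithBot.coe_le_coe.mpr hd).trans (H8Props.FlatDepth.depth_le_dim S')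
    rw [← IsLocalRing.maximalIdeal_height_eq_ringKrullDim] at h1
    exact absurd ((WithBot.coe_le_coe.mp h1).trans hP1) (by decide)
  let p' := P.comap (algebraMap S S')
  have hlt : p' < p := by
    have hle : p' ≤ p := by
      rw [← show (maximalIdeal S').comap (algebraMap S S') = p from IsLocalization.AtPrime.comap_maximalIdeal S' p]
      exact Ideal.comap_mono (le_maximalIdeal hP.1.1.ne_top)
    refine lt_of_le_of_ne hle fun e => hne ?_
    exact (IsLocalization.map_comap p.primeCompl S' P).symm.trans
      ((congrArg (Ideal.map (algebraMap S S')) e).trans (IsLocalization.AtPrime.map_eq_maximalIdeal p S'))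
  let S'' := Localization.AtPrime P
  let T'' := Localization (Algebra.algebraMapSubmonoid T' P.primeCompl)
  letI : Algebra S'' T'' := localizationAlgebra P.primeCompl T'
  haveI : Module.Finite S'' T'' := Module.Finite.of_isLocalization S' T' P.primeCompl
  haveI : Algebra.FinitePresentation S' T' := Algebra.FinitePresentation.of_finiteType.mp inferInstance
  haveI : Algebra.FinitePresentation S'' T'' := Algebra.FinitePresentation.of_finiteType.mp inferInstance
  have het : Algebra.Etale S'' T'' := by
    rw [← Algebra.etaleLocus_eq_univ_iff_etale]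
    refine Set.eq_univ_of_forall fun Q'' => ?_
    show Algebra.IsEtaleAt S'' Q''.asIdeal
    rw [isEtaleAt_localization_iff (S := S') (T := T') P.primeCompl,
      isEtaleAt_localization_iff (S := S) (T := T) p.primeCompl]
    set q₀ := (Q''.asIdeal.comap (algebraMap T' T'')).comap (algebraMap T T')
    have hle : q₀.comap (algebraMap S T) ≤ p' := by
      intro s hs
      by_contra hsp
      refine Q''.isPrime.ne_top (Ideal.eq_top_of_isUnit_mem _ ?_
        (IsLocalization.map_units T'' (⟨algebraMap S' T' (algebraMap S S' s), algebraMap S S' s, hsp, rfl⟩ :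
          Algebra.algebraMapSubmonoid T' P.primeCompl)))
      show algebraMap T' T'' (algebraMap S' T' (algebraMap S S' s)) ∈ Q''.asIdeal
      rw [← IsScalarTower.algebraMap_apply S S' T', IsScalarTower.algebraMap_apply S T T']
      exact hs
    haveI : (q₀.comap (algebraMap S T)).IsPrime := inferInstance
    exact ih _ (hpn ▸ Ideal.height_strict_mono_of_isPrime (lt_of_le_of_lt hle hlt)) _ rfl q₀ rfl
  let b'' := b.localizationLocalization S'' P.primeCompl T''
  rw [etale_iff_isUnit_discr b'', Algebra.discr_localizationLocalization,
    IsLocalization.AtPrime.isUnit_to_map_iff S'' P] at het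
  exact het (hP.1.2 (Ideal.mem_span_singleton_self _))

end Groth.Agent.H18Et.PurityFlat
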