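import Groth.Agent.H9Hens.PtNormal
import Mathlib.RingTheory.Localization.Integral
import Mathlib.RingTheory.LocalProperties.Reduced
import Mathlib.RingTheory.Localization.AtPrime.Basic

/-! Étale algebras over normal domains are normal. -/

set_option autoImplicit false

universe u

open TensorProduct

namespace Groth.Agent.H18Et.EtaleNormal

set_option backward.isDefEq.respectTransparency false

/-- A reduced artinian extension in which `S` is integrally closed gives normal local rings. -/
theorem isDomain_isIntegrallyClosed_of_closed {S L Sq Lq : Type u} [CommRing S] [CommRing L]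
    [CommRing Sq] [CommRing Lq] [Algebra S L] [Algebra S Sq] [Algebra S Lq] [Algebra L Lq]
    [Algebra Sq Lq] [IsScalarTower S Sq Lq] [IsScalarTower S L Lq] (M : Submonoid S)
    [IsLocalization M Sq] [IsLocalization (Algebra.algebraMapSubmonoid L M) Lq] [IsLocalRing Sq]
    [IsArtinianRing L] [IsReduced L] (hinjL : Function.Injective (algebraMap S L))
    (hL : ∀ l : L, IsIntegral S l → ∃ r : S, algebraMap S L r = l) :
    IsDomain Sq ∧ IsIntegrallyClosed Sq := by
  have hle : M ≤ (Algebra.algebraMapSubmonoid L M).comap (algebraMap S L) :=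
    fun x hx => Submonoid.mem_comap.mpr ⟨x, hx, rfl⟩
  have hmap : algebraMap Sq Lq = IsLocalization.map (M := M)
      (T := Algebra.algebraMapSubmonoid L M) Lq (algebraMap S L) hle := by
    refine IsLocalization.ringHom_ext M (RingHom.ext fun x => ?_)
    simp only [RingHom.comp_apply, IsLocalization.map_eq, ← IsScalarTower.algebraMap_apply]
  have hinj : Function.Injective (algebraMap Sq Lq) := by
    refine (injective_iff_map_eq_zero _).mpr fun z hz => ?_
    obtain ⟨s, t, rfl⟩ := IsLocalization.exists_mk'_eq M z
    rw [hmap, IsLocalization.map_mk', IsLocalization.mk'_eq_zero_iff] at hz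
    obtain ⟨⟨_, u, hu, rfl⟩, hu0⟩ := hz
    rw [IsLocalization.mk'_eq_zero_iff]
    exact ⟨⟨u, hu⟩, hinjL (by rw [map_mul, map_zero]; exact hu0)⟩
  -- integral closedness
  have hclosed : ∀ z : Lq, IsIntegral Sq z → ∃ r : Sq, algebraMap Sq Lq r = z := by
    intro z hz
    obtain ⟨⟨l, _, u, hu, rfl⟩, hlu⟩ :=
      IsLocalization.surj (Algebra.algebraMapSubmonoid L M) z
    have hlu' : z * algebraMap S Lq u = algebraMap L Lq l := by
      rw [IsScalarTower.algebraMap_apply S L Lq]
      exact hlu
    obtain ⟨⟨t, ht⟩, htz⟩ := IsIntegral.exists_multiple_integral_of_isLocalization (S := Lq) M z hz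
    have h1 : IsIntegral S (algebraMap L Lq (t • l)) := by
      have e : algebraMap L Lq (t • l) = (t • z) * algebraMap S Lq u := by
        simp only [Algebra.smul_def, map_mul, ← IsScalarTower.algebraMap_apply, ← hlu']
        ring
      rw [e]
      exact IsIntegral.mul (show IsIntegral S (t • z) from htz) isIntegral_algebraMap
    obtain ⟨v, hv, hvl⟩ := IsLocalization.exists_isIntegral_smul_of_isIntegral_map (Sₘ := Lq)
      M (x := t • l) h1
    obtain ⟨r, hr⟩ := hL _ hvl
    refine ⟨IsLocalization.mk' Sq r (⟨v, hv⟩ * ⟨t, ht⟩ * ⟨u, hu⟩ : M), ?_⟩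
    rw [hmap, IsLocalization.map_mk', IsLocalization.mk'_eq_iff_eq_mul]
    have e2 : algebraMap L Lq (algebraMap S L r) = algebraMap L Lq (v • t • l) :=
      congrArg (algebraMap L Lq) hr
    rw [e2]
    show algebraMap L Lq (v • t • l) = z * algebraMap L Lq (algebraMap S L (v * t * u))
    simp only [Algebra.smul_def, map_mul, ← IsScalarTower.algebraMap_apply, ← hlu']
    ring
  have : IsArtinianRing Lq :=
    (IsArtinianRing.localization_surjective (Algebra.algebraMapSubmonoid L M) Lq).isArtinianRing
  have : IsReduced Lq :=
    isReduced_localizationPreserves (Algebra.algebraMapSubmonoid L M) Lq inferInstance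
  have : Nontrivial Lq := (hinj.nontrivial)
  have hfield : ∀ a : Lq, a ≠ 0 → IsUnit a := by
    intro a ha
    obtain ⟨n, y, hy⟩ := IsArtinian.exists_pow_succ_smul_dvd a (1 : Lq)
    simp only [smul_eq_mul, mul_one, Nat.succ_eq_add_one, pow_succ] at hy
    have h0 : a * (1 - a * y) = 0 := by
      refine IsReduced.eq_zero _ ⟨n + 1, ?_⟩
      have h1 : a ^ n * (1 - a * y) = 0 := by
        linear_combination -hy
      rw [mul_pow, pow_succ, pow_succ]
      linear_combination (a * (1 - a * y) ^ n) * h1
    have hidem : (a * y) * (a * y) = a * y := by linear_combination -y * h0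
    obtain ⟨r, hr⟩ := hclosed (a * y) ⟨Polynomial.X ^ 2 - Polynomial.X,
      Polynomial.monic_X_pow_sub (lt_of_le_of_lt Polynomial.degree_X_le (by norm_num)), by
        simp [pow_two, hidem]⟩
    rcases H9Hens.idem_eq_zero_or_one (e := r) (hinj (by rw [map_mul, hr, hidem])) with rfl | rfl
    · rw [map_zero] at hr
      exact absurd (by linear_combination h0 + a * hr.symm) ha
    · rw [map_one] at hr
      exact isUnit_of_dvd_one ⟨y, hr⟩
  letI : Field Lq :=
    (IsField.toField ⟨exists_pair_ne Lq, mul_comm, fun {a} ha => (hfield a ha).exists_right_inv⟩)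
  have hdom : IsDomain Sq := hinj.isDomain _
  refine ⟨hdom, ?_⟩
  rw [isIntegrallyClosed_iff (FractionRing Sq)]
  intro x hx
  haveI := hdom
  haveI : FaithfulSMul Sq Lq := (faithfulSMul_iff_algebraMap_injective _ _).mpr hinj
  let g : FractionRing Sq →ₐ[Sq] Lq := IsFractionRing.liftAlgHom (g := Algebra.ofId Sq Lq) hinj
  obtain ⟨r, hr⟩ := hclosed (g x) (hx.map g)
  exact ⟨r, g.toRingHom.injective (by rw [AlgHom.toRingHom_eq_coe, AlgHom.coe_toRingHom,
    AlgHom.commutes, hr])⟩

variable (A : Type u) [CommRing A] [IsDomain A] [IsIntegrallyClosed A] (S : Type u) [CommRing S]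
  [Algebra A S] [Algebra.Etale A S]

include A in
/-- An étale algebra over a normal domain has normal local rings. -/
theorem isDomain_isIntegrallyClosed_atPrime (q : Ideal S) [q.IsPrime] :
    IsDomain (Localization.AtPrime q) ∧ IsIntegrallyClosed (Localization.AtPrime q) := by
  let K := FractionRing A
  let L := S ⊗[A] K
  let M := q.primeCompl
  let Sq := Localization.AtPrime q
  let Lq := Localization (Algebra.algebraMapSubmonoid L M)
  letI : Algebra Sq Lq := (IsLocalization.map (M := M) (T := Algebra.algebraMapSubmonoid L M) Lq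
    (algebraMap S L) (show M ≤ (Algebra.algebraMapSubmonoid L M).comap (algebraMap S L) from
      fun x hx => Submonoid.mem_comap.mpr ⟨x, hx, rfl⟩)).toAlgebra
  haveI : IsScalarTower S Sq Lq := IsScalarTower.of_algebraMap_eq fun x =>
    ((IsLocalization.map_eq _ x).trans (IsScalarTower.algebraMap_apply S L Lq x).symm).symm
  have : Algebra.FormallyUnramified K (K ⊗[A] S) := inferInstance
  have : Module.Finite K (K ⊗[A] S) := Algebra.FormallyUnramified.finite_of_free K _
  have : IsArtinianRing (K ⊗[A] S) := isArtinian_of_tower K inferInstance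
  have : IsReduced (K ⊗[A] S) := Algebra.FormallyUnramified.isReduced_of_field K _
  let c := (Algebra.TensorProduct.comm A S K).toRingEquiv
  have : IsReduced L := isReduced_of_injective c c.injective
  have : IsArtinianRing L :=
    Function.Surjective.isArtinianRing (f := (c.symm : K ⊗[A] S →+* L)) c.symm.surjective
  exact isDomain_isIntegrallyClosed_of_closed (L := L) (Lq := Lq) M
    (H9Hens.includeLeft_injective_of_flat A K S)
    fun l hl => H9Hens.exists_eq_tmul_one_of_isIntegral A K S hl

/-- Normality of the local rings ascends along étale algebras. -/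
theorem isDomain_isIntegrallyClosed_atPrime_of_atPrime (A : Type u) [CommRing A] (S : Type u)
    [CommRing S] [Algebra A S] [Algebra.Etale A S] (q : Ideal S) [q.IsPrime]
    (hd : IsDomain (Localization.AtPrime (q.comap (algebraMap A S))))
    (hc : IsIntegrallyClosed (Localization.AtPrime (q.comap (algebraMap A S)))) :
    IsDomain (Localization.AtPrime q) ∧ IsIntegrallyClosed (Localization.AtPrime q) := by
  let p := q.comap (algebraMap A S)
  let Ap := Localization.AtPrime p
  let N := Algebra.algebraMapSubmonoid S p.primeCompl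
  let S' := Localization N
  letI : Algebra Ap S' := localizationAlgebra p.primeCompl S
  haveI : IsScalarTower A Ap S' := IsScalarTower.of_algebraMap_eq fun x => by
    rw [IsScalarTower.algebraMap_apply A S S']
    exact (IsLocalization.map_eq (M := p.primeCompl) (T := N) (Q := S') (g := algebraMap A S) _ x).symm
  haveI : IsScalarTower A S S' := inferInstance
  haveI : Algebra.IsPushout A Ap S S' := Algebra.IsPushout.symm
    (Algebra.isPushout_of_isLocalization p.primeCompl Ap S S')
  haveI : Algebra.Etale Ap S' := Algebra.Etale.of_equiv (Algebra.IsPushout.equiv A Ap S S')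
  have hN : N ≤ q.primeCompl := by
    rintro _ ⟨x, hx, rfl⟩
    exact hx
  have hq' : (q.map (algebraMap S S')).IsPrime :=
    IsLocalization.isPrime_of_isPrime_disjoint N S' q ‹_›
      (Set.disjoint_left.mpr fun x hx hxq => hN hx hxq)
  have hcomap : (q.map (algebraMap S S')).comap (algebraMap S S') = q :=
    IsLocalization.comap_map_of_isPrime_disjoint N S' ‹_›
      (Set.disjoint_left.mpr fun x hx hxq => hN hx hxq)
  have h := isDomain_isIntegrallyClosed_atPrime Ap S' (q.map (algebraMap S S'))
  have e : Localization.AtPrime q ≃+* Localization.AtPrime (q.map (algebraMap S S')) := by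
    have h2 := IsLocalization.localizationLocalizationAtPrimeIsoLocalization N
      (q.map (algebraMap S S'))
    have h3 : Localization.AtPrime q ≃+*
        Localization.AtPrime ((q.map (algebraMap S S')).comap (algebraMap S S')) :=
      IsLocalization.ringEquivOfRingEquiv (M := q.primeCompl)
        (T := ((q.map (algebraMap S S')).comap (algebraMap S S')).primeCompl) _ _ (RingEquiv.refl S)
        (Submonoid.ext fun x => ⟨fun ⟨y, hy, e⟩ => (show y = x from e) ▸ fun h =>
          hy ((SetLike.ext_iff.mp hcomap y).mp h), fun hx =>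
          ⟨x, fun h => hx ((SetLike.ext_iff.mp hcomap x).mpr h), rfl⟩⟩)
    exact h3.trans h2.toRingEquiv
  exact ⟨haveI := h.1; e.toMulEquiv.isDomain, haveI := h.2; IsIntegrallyClosed.of_equiv e.symm⟩

end Groth.Agent.H18Et.EtaleNormal
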