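import Groth.Agent.H18Et.TopInvThickening
import Groth.Agent.H17.Separated
import Groth.Agent.H18Et.PropAB
import Groth.Prelude.Def_FEt
import Mathlib.AlgebraicGeometry.ZariskisMainTheorem

/-!
# Finite etale covers and universal homeomorphisms
-/

universe u

open CategoryTheory CategoryTheory.Limits AlgebraicGeometry Opposite

set_option backward.isDefEq.respectTransparency.types false

namespace Groth.Agent.H18Et.TopInv

variable {S S' : Scheme.{u}} (g : S' ⟶ S) [IsIntegralHom g] [UniversallyInjective g] [Surjective g]

omit [UniversallyInjective g] in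
/-- Finiteness of etale morphisms is detected after base change along a universal homeomorphism. -/
theorem isFinite_of_bc {W : Scheme.{u}} (q : W ⟶ S) [Etale q] [IsFinite (pullback.snd q g)] :
    IsFinite q := by
  let π : pullback q g ⟶ W := pullback.fst q g
  have : Surjective π := MorphismProperty.of_isPullback (P := @Surjective)
    (IsPullback.of_hasPullback q g).flip ‹_›
  have hπ : IsIntegralHom π := inferInstanceAs (IsIntegralHom (pullback.fst q g))
  have hcomp : π ≫ q = pullback.snd q g ≫ g := pullback.condition
  have : IsSeparated (π ≫ q) := by rw [hcomp]; infer_instance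
  have : UniversallyClosed (π ≫ q) := by rw [hcomp]; infer_instance
  have : IsSeparated q := H17.isSeparated_of_surjective_universallyClosed π q
  have : UniversallyClosed q := UniversallyClosed.of_comp_surjective π q
  have : IsProper q := { }
  have := locallyQuasiFinite_of_etale q
  exact IsFinite.of_isProper_of_locallyQuasiFinite q

theorem fet_restrict_isEquivalence (h : (EtCoh.bc g).IsEquivalence) :
    (FEt.restrict g).IsEquivalence := by
  have hff := pullback_full_faithful g FEt.prop fun _ h => h.2
  have : (FEt.restrict g).Full := hff.1
  have : (FEt.restrict g).Faithful := hff.2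
  have : (FEt.restrict g).EssSurj := ⟨fun V => by
    have hV : Etale V.hom := V.prop.2
    let U₀ : S'.Etale := MorphismProperty.Over.mk ⊤ V.hom hV
    let W := (EtCoh.bc g).objPreimage U₀
    let e : (EtCoh.bc g).obj W ≅ U₀ := (EtCoh.bc g).objObjPreimageIso U₀
    have : Etale W.hom := W.prop
    let k : pullback W.hom g ⟶ V.left := e.hom.left
    have : IsIso k := isIso_left e
    have hk : k ≫ V.hom = pullback.snd W.hom g := Over.w e.hom.hom
    have : IsFinite V.hom := V.prop.1
    have : IsFinite (pullback.snd W.hom g) := by rw [← hk]; infer_instance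
    let W' : FEt.Cat S := MorphismProperty.Over.mk ⊤ W.hom ⟨isFinite_of_bc g W.hom, W.prop⟩
    exact ⟨W', ⟨MorphismProperty.Over.isoMk (show ((FEt.restrict g).obj W').left ≅ V.left from @asIso _ _ _ _ k ‹_›)
      hk⟩⟩⟩
  exact ⟨‹_›, ‹_›, ‹_›⟩

end Groth.Agent.H18Et.TopInv
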