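import Groth.Agent.H18Et.FEtLimit
import Groth.Agent.H7Lim.GlueOpen
import Mathlib

/-!
# Gluing finite étale covers of two opens
-/

set_option autoImplicit false
set_option linter.style.haveILetI false
set_option backward.isDefEq.respectTransparency false
set_option backward.defeqAttrib.useBackward true

universe u

open CategoryTheory CategoryTheory.Limits AlgebraicGeometry TopologicalSpace

namespace Groth.Agent.H18Et.FEtGlueTwo

/-- Two covers agreeing on the intersection glue. -/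
theorem exists_glue {X : Scheme.{u}} (U W : X.Opens) (Y : FEt.Cat (U : Scheme.{u})) (Z : FEt.Cat (W : Scheme.{u}))
    (e : (FEt.restrict (X.homOfLE (inf_le_right : U ⊓ W ≤ W))).obj Z ≅
      (FEt.restrict (X.homOfLE (inf_le_left : U ⊓ W ≤ U))).obj Y) :
    ∃ P : FEt.Cat (U ⊔ W : X.Opens).toScheme,
      Nonempty ((FEt.restrict (X.homOfLE (le_sup_left : U ≤ U ⊔ W))).obj P ≅ Y) := by
  let jl := X.homOfLE (inf_le_left : U ⊓ W ≤ U)
  let jr := X.homOfLE (inf_le_right : U ⊓ W ≤ W)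
  let kl := X.homOfLE (le_sup_left : U ≤ U ⊔ W)
  let kr := X.homOfLE (le_sup_right : W ≤ U ⊔ W)
  let j₁ : ((FEt.restrict jl).obj Y).left ⟶ Y.left := pullback.fst Y.hom jl
  let eL : ((FEt.restrict jr).obj Z).left ≅ ((FEt.restrict jl).obj Y).left :=
    (MorphismProperty.Over.forget FEt.prop ⊤ _ ⋙ Over.forget _).mapIso e
  let j₂ : ((FEt.restrict jl).obj Y).left ⟶ Z.left := eL.inv ≫ pullback.fst Z.hom jr
  haveI : IsOpenImmersion j₁ := MorphismProperty.pullback_fst _ _ inferInstance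
  haveI : IsOpenImmersion (pullback.fst Z.hom jr) := MorphismProperty.pullback_fst _ _ inferInstance
  haveI : IsOpenImmersion j₂ := inferInstance
  have he : eL.inv ≫ pullback.snd Z.hom jr = pullback.snd Y.hom jl :=
    MorphismProperty.Over.w e.inv
  have hw : j₁ ≫ Y.hom ≫ kl = j₂ ≫ Z.hom ≫ kr := by
    show pullback.fst Y.hom jl ≫ Y.hom ≫ kl = (eL.inv ≫ pullback.fst Z.hom jr) ≫ Z.hom ≫ kr
    rw [Category.assoc, pullback.condition_assoc, pullback.condition_assoc, reassoc_of% he,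
      X.homOfLE_homOfLE, X.homOfLE_homOfLE]
  obtain ⟨P, i₁, i₂, p, hi₁, hi₂, hj, hp₁, hp₂, hcov, hmeet⟩ :=
    H7Lim.exists_glue_open j₁ j₂ (Y.hom ≫ kl) (Z.hom ≫ kr) hw
  -- the preimage of `U` is the image of `Y`
  have hU : p ⁻¹ᵁ kl.opensRange = i₁.opensRange := by
    refine SetLike.ext fun q => ⟨fun hq => ?_, ?_⟩
    · rcases hcov q with ⟨a, rfl⟩ | ⟨b, rfl⟩
      · exact ⟨a, rfl⟩
      · obtain ⟨t, ht⟩ : ∃ t, kl t = p (i₂ b) := hq
        rw [← Scheme.Hom.comp_apply, hp₂, Scheme.Hom.comp_apply] at ht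
        have hZU : (Z.hom b).1 ∈ U := by
          have := congrArg (fun z : (U ⊔ W : X.Opens).toScheme => z.1) ht
          simp only [kl, kr, Scheme.homOfLE_apply] at this
          exact (this.trans (X.homOfLE_apply _ _)) ▸ t.2
        obtain ⟨w, hw1, -⟩ := Scheme.Pullback.exists_preimage_pullback (f := Z.hom) (g := jr) b
          ⟨(Z.hom b).1, hZU, (Z.hom b).2⟩ (by
            apply Subtype.ext
            simp [jr, Scheme.homOfLE_apply])
        refine ⟨j₁ (eL.hom w), ?_⟩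
        rw [← Scheme.Hom.comp_apply, hj, Scheme.Hom.comp_apply, Scheme.Hom.comp_apply]
        congr 1
        rw [← Scheme.Hom.comp_apply eL.hom, Iso.hom_inv_id]
        exact hw1
    · rintro ⟨a, rfl⟩
      exact ⟨Y.hom a, by rw [← Scheme.Hom.comp_apply i₁, hp₁, Scheme.Hom.comp_apply]; rfl⟩
  have hW : p ⁻¹ᵁ kr.opensRange = i₂.opensRange := by
    refine SetLike.ext fun q => ⟨fun hq => ?_, ?_⟩
    · rcases hcov q with ⟨a, rfl⟩ | ⟨b, rfl⟩
      · obtain ⟨t, ht⟩ : ∃ t, kr t = p (i₁ a) := hq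
        rw [← Scheme.Hom.comp_apply, hp₁, Scheme.Hom.comp_apply] at ht
        have hYW : (Y.hom a).1 ∈ W := by
          have := congrArg (fun z : (U ⊔ W : X.Opens).toScheme => z.1) ht
          simp only [kl, kr, Scheme.homOfLE_apply] at this
          exact (this.trans (X.homOfLE_apply _ _)) ▸ t.2
        obtain ⟨w, hw1, -⟩ := Scheme.Pullback.exists_preimage_pullback (f := Y.hom) (g := jl) a
          ⟨(Y.hom a).1, (Y.hom a).2, hYW⟩ (by
            apply Subtype.ext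
            simp [jl, Scheme.homOfLE_apply])
        refine ⟨j₂ w, ?_⟩
        rw [← Scheme.Hom.comp_apply, ← hj, Scheme.Hom.comp_apply]
        exact congrArg _ hw1
      · exact ⟨b, rfl⟩
    · rintro ⟨b, rfl⟩
      exact ⟨Z.hom b, by rw [← Scheme.Hom.comp_apply i₂, hp₂, Scheme.Hom.comp_apply]; rfl⟩
  have hpb₁ : IsPullback i₁ Y.hom p kl := (IsOpenImmersion.isPullback Y.hom i₁ kl p hp₁ hU).flip
  have hpb₂ : IsPullback i₂ Z.hom p kr := (IsOpenImmersion.isPullback Z.hom i₂ kr p hp₂ hW).flip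
  let 𝒱 : ULift.{u} Bool → (U ⊔ W : X.Opens).toScheme.Opens := fun b => if b.down then kl.opensRange else kr.opensRange
  have h𝒱 : iSup 𝒱 = ⊤ := by
    refine top_le_iff.mp fun t _ => Opens.mem_iSup.mpr ?_
    rcases t.2 with ht | ht
    · exact ⟨⟨true⟩, ⟨⟨t.1, ht⟩, Subtype.ext (by simp [kl, Scheme.homOfLE_apply])⟩⟩
    · exact ⟨⟨false⟩, ⟨⟨t.1, ht⟩, Subtype.ext (by simp [kr, Scheme.homOfLE_apply])⟩⟩
  have hprop : FEt.prop p := by
    have key : ∀ (Q : MorphismProperty Scheme.{u}) [IsZariskiLocalAtTarget Q], Q Y.hom → Q Z.hom → Q p := by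
      intro Q _ hY hZ
      rw [IsZariskiLocalAtTarget.iff_of_iSup_eq_top (P := Q) 𝒱 h𝒱]
      rintro ⟨_ | _⟩
      · exact (Q.arrow_mk_iso_iff (morphismRestrictOpensRange p kr)).mpr
          ((Q.cancel_left_of_respectsIso hpb₂.isoPullback.hom _).mp (hpb₂.isoPullback_hom_snd.symm ▸ hZ))
      · exact (Q.arrow_mk_iso_iff (morphismRestrictOpensRange p kl)).mpr
          ((Q.cancel_left_of_respectsIso hpb₁.isoPullback.hom _).mp (hpb₁.isoPullback_hom_snd.symm ▸ hY))
    exact ⟨key _ Y.prop.1 Z.prop.1, key _ Y.prop.2 Z.prop.2⟩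
  exact ⟨MorphismProperty.Over.mk ⊤ p hprop, ⟨MorphismProperty.Over.isoMk hpb₁.isoPullback.symm (by
    show hpb₁.isoPullback.inv ≫ Y.hom = pullback.snd _ _
    exact hpb₁.isoPullback_inv_snd)⟩⟩

end Groth.Agent.H18Et.FEtGlueTwo
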