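import Groth.Agent.H18Et.FEtSpread
import Groth.Agent.H18Et.FEtGlueTwo

/-!
# Extending finite étale covers point by point
-/

set_option autoImplicit false
set_option linter.style.haveILetI false
set_option backward.isDefEq.respectTransparency false
set_option backward.defeqAttrib.useBackward true

universe u

open CategoryTheory CategoryTheory.Limits AlgebraicGeometry TopologicalSpace

namespace Groth.Agent.H18Et.FEtExtend

open FEtLimit

/-- A nonempty closed set contains a point all of whose proper generalizations lie outside it. -/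
theorem exists_maximal_mem {X : Scheme.{u}} {C : Set X} (hC : IsClosed C) (hne : C.Nonempty) :
    ∃ x ∈ C, ∀ z ∈ C, z ⤳ x → z = x := by
  obtain ⟨x, hx⟩ := hne
  obtain ⟨I, hI⟩ := (PrimeSpectrum.isClosed_iff_zeroLocus_ideal _).mp (hC.preimage (X.fromSpecStalk x).continuous)
  have hm : I ≤ IsLocalRing.maximalIdeal (X.presheaf.stalk x) := by
    have : IsLocalRing.closedPoint (X.presheaf.stalk x) ∈ X.fromSpecStalk x ⁻¹' C := by
      show X.fromSpecStalk x _ ∈ C
      rw [Scheme.fromSpecStalk_closedPoint]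
      exact hx
    exact fun a ha => (hI.le this) ha
  obtain ⟨q, hq, -⟩ := Ideal.exists_minimalPrimes_le hm
  let qp : Spec (X.presheaf.stalk x) := (⟨q, hq.1.1⟩ : PrimeSpectrum (X.presheaf.stalk x))
  refine ⟨X.fromSpecStalk x qp, (hI.ge hq.1.2 : qp ∈ X.fromSpecStalk x ⁻¹' C), fun z hz hzq => ?_⟩
  obtain ⟨r, rfl⟩ : z ∈ Set.range (X.fromSpecStalk x) := by
    rw [X.range_fromSpecStalk]
    exact hzq.trans (show X.fromSpecStalk x qp ∈ {y | y ⤳ x} from X.range_fromSpecStalk ▸ Set.mem_range_self qp)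
  have hr : r ⤳ qp := (X.fromSpecStalk x).isEmbedding.isInducing.specializes_iff.mp hzq
  have hle : r.asIdeal ≤ q := (PrimeSpectrum.le_iff_specializes r qp).mpr hr
  have hrI : I ≤ r.asIdeal := fun a ha => hI.le hz ha
  exact congrArg _ (PrimeSpectrum.ext (le_antisymm hle (hq.2 ⟨r.isPrime, hrI⟩ hle)) : r = qp)

/-- The trace of an open on the local scheme at a maximal point of its complement is the punctured spectrum. -/
theorem preimage_eq_puncturedSpec {X : Scheme.{u}} (V : X.Opens) {x : X} (hx : x ∉ V)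
    (hmax : ∀ z : X, z ⤳ x → z ≠ x → z ∈ V) :
    X.fromSpecStalk x ⁻¹ᵁ V = FEt.puncturedSpec (X.presheaf.stalk x) := by
  refine SetLike.ext fun p => ?_
  show X.fromSpecStalk x p ∈ V ↔ p ∈ ({IsLocalRing.closedPoint (X.presheaf.stalk x)}ᶜ : Set _)
  rw [Set.mem_compl_iff, Set.mem_singleton_iff]
  constructor
  · rintro hp rfl
    exact hx (X.fromSpecStalk_closedPoint (x := x) ▸ hp)
  · intro hp
    refine hmax _ (show X.fromSpecStalk x p ∈ {y | y ⤳ x} from X.range_fromSpecStalk ▸ Set.mem_range_self p) fun e => hp ?_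
    exact (X.fromSpecStalk x).isEmbedding.injective (e.trans X.fromSpecStalk_closedPoint.symm)

/-- Extensions exist as soon as they exist locally at maximal points of the complement of every partial
extension. -/
theorem exists_extension {X : Scheme.{u}} [IsNoetherian X] (U : X.Opens) (Y : FEt.Cat (U : Scheme.{u}))
    (h : ∀ (V : X.Opens) (hUV : U ≤ V) (Z : FEt.Cat (V : Scheme.{u})),
      Nonempty ((FEt.restrict (X.homOfLE hUV)).obj Z ≅ Y) → ∀ x : X, x ∉ V →
      (∀ z : X, z ⤳ x → z ≠ x → z ∈ V) →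
      ∃ Zx : FEt.Cat (Spec (X.presheaf.stalk x)),
        Nonempty ((FEt.restrict (pullback.snd V.ι (X.fromSpecStalk x))).obj Zx ≅
          (FEt.restrict (pullback.fst V.ι (X.fromSpecStalk x))).obj Z)) :
    ∃ Y' : FEt.Cat X, Nonempty ((FEt.restrict U.ι).obj Y' ≅ Y) := by
  let S : Set X.Opens := {V | ∃ (hUV : U ≤ V) (Z : FEt.Cat (V : Scheme.{u})),
    Nonempty ((FEt.restrict (X.homOfLE hUV)).obj Z ≅ Y)}
  have hUS : U ∈ S := ⟨le_rfl, (FEt.restrict (𝟙 (U : Scheme.{u}))).obj Y,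
    ⟨restrictCompIso _ _ (𝟙 _) (by simp) Y ≪≫ MorphismProperty.Over.isoMk (asIso (pullback.fst Y.hom (𝟙 _)))
      (by
        show pullback.fst Y.hom (𝟙 _) ≫ Y.hom = pullback.snd Y.hom (𝟙 _)
        rw [pullback.condition, Category.comp_id])⟩⟩
  haveI : WellFoundedGT X.Opens := inferInstance
  obtain ⟨V, ⟨hUV, Z, ⟨eY⟩⟩, hmaxV⟩ := wellFounded_gt.has_min S ⟨U, hUS⟩
  by_cases htop : V = ⊤
  · subst htop
    refine ⟨(FEt.restrict X.topIso.inv).obj Z, ⟨restrictCompIso _ _ (X.homOfLE hUV) ?_ Z ≪≫ eY⟩⟩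
    rw [← cancel_mono (⊤ : X.Opens).ι, X.homOfLE_ι, Category.assoc, ← Scheme.topIso_hom, Iso.inv_hom_id,
      Category.comp_id]
  · exfalso
    have hne : ((V : Set X)ᶜ).Nonempty := Set.nonempty_compl.mpr fun h => htop (SetLike.coe_injective h)
    obtain ⟨x, hxV, hmax⟩ := exists_maximal_mem V.2.isClosed_compl hne
    have hgen : ∀ z : X, z ⤳ x → z ≠ x → z ∈ V := fun z hz hzx => by
      by_contra hzV
      exact hzx (hmax z hzV hz)
    obtain ⟨Zx, ⟨ex⟩⟩ := h V hUV Z ⟨eY⟩ x hxV hgen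
    obtain ⟨W, hxW, ZW, ⟨eW⟩⟩ := FEtSpread.exists_nhd_extension V Z x Zx ex
    obtain ⟨P, ⟨eP⟩⟩ := FEtGlueTwo.exists_glue V W Z ZW eW
    refine hmaxV (V ⊔ W) ⟨hUV.trans le_sup_left, P, ⟨?_⟩⟩ (lt_of_le_of_ne le_sup_left fun e => hxV ?_)
    · exact (restrictCompIso _ _ _ (X.homOfLE_homOfLE hUV le_sup_left) P).symm ≪≫
        (FEt.restrict _).mapIso eP ≪≫ eY
    · exact e.ge (Or.inr hxW)

end Groth.Agent.H18Et.FEtExtend

namespace Groth.Agent.H18Et.FEtExtend

open FEtLimit

/-- At a maximal point of the complement, purity of the local ring gives a local extension. -/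
theorem exists_local_of_purity {X : Scheme.{u}} (V : X.Opens) (Z : FEt.Cat (V : Scheme.{u})) {x : X} (hx : x ∉ V)
    (hmax : ∀ z : X, z ⤳ x → z ≠ x → z ∈ V) (h : FEt.PurityHolds (X.presheaf.stalk x)) :
    ∃ Zx : FEt.Cat (Spec (X.presheaf.stalk x)),
      Nonempty ((FEt.restrict (pullback.snd V.ι (X.fromSpecStalk x))).obj Zx ≅
        (FEt.restrict (pullback.fst V.ι (X.fromSpecStalk x))).obj Z) := by
  let P := FEt.puncturedSpec (X.presheaf.stalk x)
  let σ := IsOpenImmersion.isoOfRangeEq (pullback.snd V.ι (X.fromSpecStalk x)) P.ι (by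
    rw [Scheme.Pullback.range_snd, Scheme.Opens.range_ι, Scheme.Opens.range_ι]
    exact congrArg (fun O : (Spec (X.presheaf.stalk x)).Opens => (O : Set (Spec (X.presheaf.stalk x))))
      (preimage_eq_puncturedSpec V hx hmax))
  haveI : (FEt.restrict P.ι).EssSurj := h
  obtain ⟨Zx, ⟨e⟩⟩ := Functor.EssSurj.mem_essImage (F := FEt.restrict P.ι)
    ((FEt.restrict (σ.inv ≫ pullback.fst V.ι (X.fromSpecStalk x))).obj Z)
  exact ⟨Zx, ⟨(restrictCompIso σ.hom P.ι _ (IsOpenImmersion.isoOfRangeEq_hom_fac _ _ _) Zx).symm ≪≫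
    (FEt.restrict σ.hom).mapIso e ≪≫ restrictCompIso σ.hom _ _ (by simp) Z⟩⟩

end Groth.Agent.H18Et.FEtExtend
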