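import Mathlib.AlgebraicGeometry.Morphisms.Flat
import Mathlib.AlgebraicGeometry.Morphisms.Finite
import Mathlib.AlgebraicGeometry.Morphisms.FinitePresentation
import Mathlib.RingTheory.Finiteness.Projective
import Mathlib.RingTheory.Flat.EquationalCriterion
import Mathlib.RingTheory.Finiteness.ModuleFinitePresentation

/-! Sections commute with finite locally free base change: if `O_S → f_* O_X` is bijective then so
is `O_P → p_* O_{P'}` for `P` finite locally free over `S`. No condition on `f`. -/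

set_option autoImplicit false

universe u

open CategoryTheory CategoryTheory.Limits AlgebraicGeometry TopologicalSpace

namespace Groth.Agent.H18Et.GammaBC

set_option backward.isDefEq.respectTransparency false

section Ring

variable {A B G C : CommRingCat.{u}} {a : A ⟶ G} {b : A ⟶ B} {c : G ⟶ C} {d : B ⟶ C}

theorem isBaseChange_of_isPushout (h : IsPushout a b c d) :
    letI := a.hom.toAlgebra
    letI := b.hom.toAlgebra
    letI := c.hom.toAlgebra
    letI : Algebra A C := (c.hom.comp a.hom).toAlgebra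
    haveI : IsScalarTower A G C := IsScalarTower.of_algebraMap_eq fun _ => rfl
    ∃ δ : B →ₗ[A] C, (∀ x, δ x = d x) ∧ IsBaseChange G δ := by
  letI := a.hom.toAlgebra
  letI := b.hom.toAlgebra
  letI := c.hom.toAlgebra
  letI := d.hom.toAlgebra
  letI : Algebra A C := (c.hom.comp a.hom).toAlgebra
  haveI : IsScalarTower A G C := IsScalarTower.of_algebraMap_eq fun _ => rfl
  haveI : IsScalarTower A B C :=
    IsScalarTower.of_algebraMap_eq fun r => congrArg (fun l : A ⟶ C => l r) h.w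
  haveI : Algebra.IsPushout A G B C := CommRingCat.isPushout_iff_isPushout.mp h
  exact ⟨_, fun x => rfl, Algebra.IsPushout.out⟩

/-- Elements of a pushout are sums of products. -/
theorem induction_on (h : IsPushout a b c d) {motive : C → Prop} (z : C) (h0 : motive 0)
    (hmul : ∀ (g : G) (x : B), motive (c g * d x))
    (hadd : ∀ z w, motive z → motive w → motive (z + w)) : motive z := by
  letI := a.hom.toAlgebra
  letI := b.hom.toAlgebra
  letI := c.hom.toAlgebra
  letI : Algebra A C := (c.hom.comp a.hom).toAlgebra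
  haveI : IsScalarTower A G C := IsScalarTower.of_algebraMap_eq fun _ => rfl
  obtain ⟨δ, hδ, hbc⟩ := isBaseChange_of_isPushout h
  refine IsTensorProduct.inductionOn hbc z h0 (fun g x => ?_) hadd
  show motive (g • δ x)
  rw [Algebra.smul_def, hδ]
  exact hmul g x

/-- A linear form extends to a base change. -/
theorem exists_ext (h : IsPushout a b c d) (l : B →+ A) (hl : ∀ r x, l (b r * x) = r * l x) :
    ∃ L : C →+ G, (∀ g z, L (c g * z) = g * L z) ∧ ∀ x, L (d x) = a (l x) := by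
  letI := a.hom.toAlgebra
  letI := b.hom.toAlgebra
  letI := c.hom.toAlgebra
  letI : Algebra A C := (c.hom.comp a.hom).toAlgebra
  haveI : IsScalarTower A G C := IsScalarTower.of_algebraMap_eq fun _ => rfl
  obtain ⟨δ, hδ, hbc⟩ := isBaseChange_of_isPushout h
  let l' : B →ₗ[A] G :=
    { toFun := fun x => a (l x)
      map_add' := fun x y => by rw [map_add, map_add]
      map_smul' := fun r x => by
        rw [Algebra.smul_def, Algebra.smul_def, RingHom.id_apply]
        exact (congrArg a (hl r x)).trans (map_mul _ _ _) }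
  refine ⟨(hbc.lift l').toAddMonoidHom, fun g z => ?_, fun x => ?_⟩
  · exact ((hbc.lift l').map_smul g z)
  · rw [← hδ]
    exact hbc.lift_eq l' x

end Ring

variable {X S P P' : Scheme.{u}} {f : X ⟶ S} {π : P ⟶ S} {q : P' ⟶ X} {p : P' ⟶ P}

theorem map_map {Y : Scheme.{u}} {U V W : Y.Opens} (i : Opposite.op U ⟶ Opposite.op V)
    (j : Opposite.op V ⟶ Opposite.op W) (k : Opposite.op U ⟶ Opposite.op W) (x : Γ(Y, U)) :
    Y.presheaf.map j (Y.presheaf.map i x) = Y.presheaf.map k x := by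
  rw [← ConcreteCategory.comp_apply, ← Functor.map_comp]
  rfl

theorem preimage_eq (H : IsPullback q p f π) (U : S.Opens) : q ⁻¹ᵁ f ⁻¹ᵁ U = p ⁻¹ᵁ π ⁻¹ᵁ U :=
  congrArg (fun l : P' ⟶ S => l ⁻¹ᵁ U) H.w

theorem exists_dualBasis [IsFinite π] [Flat π] [LocallyOfFinitePresentation π] (U : S.Opens)
    (hU : IsAffineOpen U) :
    ∃ (n : ℕ) (e : Fin n → Γ(P, π ⁻¹ᵁ U)) (l : Fin n → (Γ(P, π ⁻¹ᵁ U) →+ Γ(S, U))),
      (∀ i r x, l i (π.appLE U (π ⁻¹ᵁ U) le_rfl r * x) = r * l i x) ∧
      ∀ x, x = ∑ i, π.appLE U (π ⁻¹ᵁ U) le_rfl (l i x) * e i := by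
  let b := π.appLE U (π ⁻¹ᵁ U) le_rfl
  letI : Algebra Γ(S, U) Γ(P, π ⁻¹ᵁ U) := b.hom.toAlgebra
  have hfin : b.hom.Finite := by
    show (π.appLE U (π ⁻¹ᵁ U) le_rfl).hom.Finite
    rw [Scheme.Hom.appLE_eq_app]
    exact π.finite_app U hU
  haveI : Module.Finite Γ(S, U) Γ(P, π ⁻¹ᵁ U) := hfin
  haveI : Module.Flat Γ(S, U) Γ(P, π ⁻¹ᵁ U) :=
    π.flat_appLE hU (hU.preimage π) le_rfl
  haveI : Algebra.FinitePresentation Γ(S, U) Γ(P, π ⁻¹ᵁ U) :=
    π.finitePresentation_appLE hU (hU.preimage π) le_rfl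
  haveI : Module.FinitePresentation Γ(S, U) Γ(P, π ⁻¹ᵁ U) :=
    Module.FinitePresentation.of_finite_of_finitePresentation _ _
  haveI : Module.Projective Γ(S, U) Γ(P, π ⁻¹ᵁ U) := Module.Flat.projective_of_finitePresentation
  obtain ⟨n, s, g, -, -, hsg⟩ :=
    Module.Finite.exists_comp_eq_id_of_projective Γ(S, U) Γ(P, π ⁻¹ᵁ U)
  refine ⟨n, fun i => s fun j => if i = j then 1 else 0,
    fun i => ((LinearMap.proj i).comp g).toAddMonoidHom, fun i r x => ?_, fun x => ?_⟩
  · exact ((LinearMap.proj i).comp g).map_smul r x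
  · conv_lhs => rw [← show s (g x) = x from LinearMap.congr_fun hsg x,
      LinearMap.pi_apply_eq_sum_univ s (g x)]
    rfl

theorem bijective_app [IsFinite π] [Flat π] [LocallyOfFinitePresentation π]
    (H : IsPullback q p f π) (U : S.Opens) (hU : IsAffineOpen U)
    (hf : Function.Bijective (f.app U)) : Function.Bijective (p.app (π ⁻¹ᵁ U)) := by
  obtain ⟨n, e, l, hl, hsum⟩ := exists_dualBasis (π := π) U hU
  let ι := {V : X.Opens // IsAffineOpen V ∧ V ≤ f ⁻¹ᵁ U}
  have hle : ∀ V : ι, q ⁻¹ᵁ V.1 ≤ p ⁻¹ᵁ π ⁻¹ᵁ U := fun V =>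
    le_trans (q.preimage_mono V.2.2) (preimage_eq H U).le
  have hpo : ∀ V : ι, IsPushout (f.appLE U V.1 V.2.2) (π.appLE U (π ⁻¹ᵁ U) le_rfl)
      (q.appLE V.1 (q ⁻¹ᵁ V.1) le_rfl) (p.appLE (π ⁻¹ᵁ U) (q ⁻¹ᵁ V.1) (hle V)) := fun V =>
    (isIso_pushoutSection_iff H (US := U) (UT := π ⁻¹ᵁ U) (UX := V.1) (UY := q ⁻¹ᵁ V.1) le_rfl
      V.2.2 (inf_eq_left.mpr (hle V)).symm).mp
      (isIso_pushoutSection_of_isAffineOpen H le_rfl V.2.2 _ hU (hU.preimage π) V.2.1)
  choose L hL1 hL2 using fun (i : Fin n) (V : ι) => exists_ext (hpo V) (l i) (hl i)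
  have hcover : f ⁻¹ᵁ U ≤ ⨆ V : ι, V.1 := fun x hx => by
    obtain ⟨V, hV, hxV, hVle⟩ :=
      exists_isAffineOpen_mem_and_subset (x := x) (U := f ⁻¹ᵁ U) hx
    exact Opens.mem_iSup.mpr ⟨⟨V, hV, hVle⟩, hxV⟩
  have hcover' : p ⁻¹ᵁ π ⁻¹ᵁ U ≤ ⨆ V : ι, q ⁻¹ᵁ V.1 := by
    rw [← preimage_eq H U, ← Scheme.Hom.preimage_iSup]
    exact q.preimage_mono hcover
  -- compatibility of the extensions with restriction
  have hnat : ∀ (i : Fin n) (V W : ι) (hWV : W.1 ≤ V.1) (z : Γ(P', q ⁻¹ᵁ V.1)),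
      X.presheaf.map (homOfLE hWV).op (L i V z) =
        L i W (P'.presheaf.map (homOfLE (q.preimage_mono hWV)).op z) := by
    intro i V W hWV z
    induction z using induction_on (hpo V) with
    | h0 => simp only [map_zero]
    | hadd z w hz hw => simp only [map_add, hz, hw]
    | hmul g x =>
      have h1 : P'.presheaf.map (homOfLE (q.preimage_mono hWV)).op (q.appLE V.1 (q ⁻¹ᵁ V.1) le_rfl g)
          = q.appLE W.1 (q ⁻¹ᵁ W.1) le_rfl (X.presheaf.map (homOfLE hWV).op g) := by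
        rw [← ConcreteCategory.comp_apply, ← ConcreteCategory.comp_apply, Scheme.Hom.appLE_map,
          Scheme.Hom.map_appLE]
      have h2 : P'.presheaf.map (homOfLE (q.preimage_mono hWV)).op
          (p.appLE (π ⁻¹ᵁ U) (q ⁻¹ᵁ V.1) (hle V) x) = p.appLE (π ⁻¹ᵁ U) (q ⁻¹ᵁ W.1) (hle W) x := by
        rw [← ConcreteCategory.comp_apply, Scheme.Hom.appLE_map]
      have h3 : X.presheaf.map (homOfLE hWV).op (f.appLE U V.1 V.2.2 (l i x)) =
          f.appLE U W.1 W.2.2 (l i x) := by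
        rw [← ConcreteCategory.comp_apply, Scheme.Hom.appLE_map]
      rw [hL1 i V g, hL2 i V x, map_mul, map_mul, h3, h1, h2, hL1 i W, hL2 i W]
  refine ⟨(injective_iff_map_eq_zero _).mpr fun x hx => ?_, fun z => ?_⟩
  · have hx' : ∀ i, l i x = 0 := by
      intro i
      refine hf.1 ((X.sheaf.eq_of_locally_eq' (fun V : ι => V.1) _ (fun V => homOfLE V.2.2) hcover
        _ _ fun V => ?_))
      have h1 : f.appLE U V.1 V.2.2 (l i x) = 0 := by
        rw [← hL2 i V x]
        have : p.appLE (π ⁻¹ᵁ U) (q ⁻¹ᵁ V.1) (hle V) x = 0 :=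
          (congrArg (P'.presheaf.map (homOfLE (hle V)).op) hx).trans (map_zero _)
        rw [this, map_zero]
      exact h1.trans ((map_zero (f.appLE U V.1 V.2.2).hom).symm)
    rw [hsum x]
    exact Finset.sum_eq_zero fun i _ => by rw [hx' i, map_zero, zero_mul]
  · let zV : ∀ V : ι, Γ(P', q ⁻¹ᵁ V.1) := fun V => P'.presheaf.map (homOfLE (hle V)).op z
    have hglue : ∀ i, ∃ α : Γ(S, U), ∀ V : ι, f.appLE U V.1 V.2.2 α = L i V (zV V) := by
      intro i
      obtain ⟨a, ha, -⟩ := X.sheaf.existsUnique_gluing' (fun V : ι => V.1) _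
        (fun V => homOfLE V.2.2) hcover (fun V => L i V (zV V)) (fun V V' => by
          refine X.sheaf.eq_of_locally_eq' (fun W : {W : ι // W.1 ≤ V.1 ⊓ V'.1} => W.1.1) _
            (fun W => homOfLE W.2) ?_ _ _ fun W => ?_
          · intro x hx
            obtain ⟨W, hW, hxW, hWle⟩ :=
              exists_isAffineOpen_mem_and_subset (x := x) (U := V.1 ⊓ V'.1) hx
            exact Opens.mem_iSup.mpr
              ⟨⟨⟨W, hW, hWle.trans (inf_le_left.trans V.2.2)⟩, hWle⟩, hxW⟩
          · have e1 : ∀ (T : ι) (hT : W.1.1 ≤ T.1),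
                X.presheaf.map (homOfLE hT).op (L i T (zV T)) = L i W.1 (zV W.1) := by
              intro T hT
              rw [hnat i T W.1 hT]
              exact congrArg (L i W.1) (map_map _ _ _ z)
            have hV := map_map (Y := X) (Opens.infLELeft V.1 V'.1).op (homOfLE W.2).op
              (homOfLE (W.2.trans inf_le_left)).op (L i V (zV V))
            have hV' := map_map (Y := X) (Opens.infLERight V.1 V'.1).op (homOfLE W.2).op
              (homOfLE (W.2.trans inf_le_right)).op (L i V' (zV V'))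
            exact hV.trans ((e1 V (W.2.trans inf_le_left)).trans
              ((e1 V' (W.2.trans inf_le_right)).symm.trans hV'.symm)))
      obtain ⟨α, rfl⟩ := hf.2 a
      exact ⟨α, ha⟩
    choose α hα using hglue
    refine ⟨∑ i, π.appLE U (π ⁻¹ᵁ U) le_rfl (α i) * e i, ?_⟩
    refine P'.sheaf.eq_of_locally_eq' (fun V : ι => q ⁻¹ᵁ V.1) _ (fun V => homOfLE (hle V)) hcover'
      _ _ fun V => ?_
    have key : ∀ w : Γ(P', q ⁻¹ᵁ V.1), w = ∑ i, q.appLE V.1 (q ⁻¹ᵁ V.1) le_rfl (L i V w) *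
        p.appLE (π ⁻¹ᵁ U) (q ⁻¹ᵁ V.1) (hle V) (e i) := by
      intro w
      induction w using induction_on (hpo V) with
      | h0 => simp
      | hadd z w hz hw => simp only [map_add, add_mul, Finset.sum_add_distrib, ← hz, ← hw]
      | hmul g x =>
        conv_lhs => rw [hsum x, map_sum, Finset.mul_sum]
        refine Finset.sum_congr rfl fun i _ => ?_
        rw [hL1 i V g, hL2 i V x, map_mul, map_mul, mul_assoc]
        congr 2
        exact (congrArg (fun m : Γ(S, U) ⟶ Γ(P', q ⁻¹ᵁ V.1) => m (l i x)) (hpo V).w).symm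
    change p.appLE (π ⁻¹ᵁ U) (q ⁻¹ᵁ V.1) (hle V) _ = zV V
    rw [key (zV V), map_sum]
    refine Finset.sum_congr rfl fun i _ => ?_
    rw [map_mul, ← hα i V]
    refine congrArg (· * _) ?_
    exact (congrArg (fun m : Γ(S, U) ⟶ Γ(P', q ⁻¹ᵁ V.1) => m (α i)) (hpo V).w).symm

end Groth.Agent.H18Et.GammaBC
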