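import Groth.Agent.H18Et.Stalk
import Groth.Agent.H18Et.Subterminal
import Groth.Agent.H18Et.TopInvariance
import Groth.Agent.H06Unram.SmoothQF
import Mathlib.AlgebraicGeometry.Morphisms.QuasiFinite
import Mathlib.CategoryTheory.CofilteredSystem
import Mathlib.Topology.Sober

/-!
# The points of the small étale site are the geometric points
-/

set_option autoImplicit false
set_option backward.isDefEq.respectTransparency false
set_option backward.isDefEq.respectTransparency.types false

universe u

open CategoryTheory CategoryTheory.Limits AlgebraicGeometry Opposite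
open Groth.Agent.H18Et

namespace Groth.Agent.H18Et.SitePoints

theorem section_eq {X Y : Scheme.{u}} (h : Y ⟶ X) [Etale h] [Subsingleton ↥X] {s s' : X ⟶ Y}
    (hs : s ≫ h = 𝟙 X) (hs' : s' ≫ h = 𝟙 X) (o : X) (e : s o = s' o) : s = s' := by
  haveI : Etale (s ≫ h) := by rw [hs]; exact MorphismProperty.id_mem _ _
  haveI : Etale s := Etale.of_comp s h
  haveI : IsSplitMono s := IsSplitMono.mk' ⟨h, hs⟩
  haveI := TopInv.isOpenImmersion_of_etale_of_universallyInjective s
  have hr : Set.range s' ⊆ Set.range s := by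
    rintro _ ⟨z, rfl⟩
    exact ⟨o, e.trans (congrArg s' (Subsingleton.elim o z))⟩
  have hl := IsOpenImmersion.lift_fac s s' hr
  have h1 : IsOpenImmersion.lift s s' hr = 𝟙 _ := by
    have := congrArg (· ≫ h) hl
    simp only [Category.assoc, hs, hs'] at this
    exact (Category.comp_id _).symm.trans this
  rw [← hl, h1, Category.id_comp]

theorem exists_equalizer_open {Y U S : Scheme.{u}} (q : U ⟶ S) [Etale q] (a b : Y ⟶ U)
    (e : a ≫ q = b ≫ q) : ∃ E : Y.Opens, E.ι ≫ a = E.ι ≫ b ∧
      ∀ {T : Scheme.{u}} (v : T ⟶ Y), v ≫ a = v ≫ b → ∀ z, v z ∈ E := by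
  let m := pullback.fst (pullback.lift a b e) (pullback.diagonal q)
  haveI : IsOpenImmersion m := MorphismProperty.pullback_fst _ _ inferInstance
  have hc : m ≫ pullback.lift a b e = pullback.snd _ _ ≫ pullback.diagonal q := pullback.condition
  have ha : m ≫ a = pullback.snd (pullback.lift a b e) (pullback.diagonal q) := by
    have := congrArg (· ≫ pullback.fst q q) hc
    simpa using this
  have hb : m ≫ b = pullback.snd (pullback.lift a b e) (pullback.diagonal q) := by
    have := congrArg (· ≫ pullback.snd q q) hc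
    simpa using this
  refine ⟨m.opensRange, ?_, fun {T} v hv z => ?_⟩
  · have hr : Set.range m.opensRange.ι ⊆ Set.range m := by rw [Scheme.Opens.range_ι]; rfl
    rw [← IsOpenImmersion.lift_fac m m.opensRange.ι hr, Category.assoc, Category.assoc, ha, hb]
  · let w : T ⟶ pullback (pullback.lift a b e) (pullback.diagonal q) :=
      pullback.lift v (v ≫ a) (pullback.hom_ext (by simp) (by simp [hv]))
    exact ⟨w z, by rw [← Scheme.Hom.comp_apply, pullback.lift_fst]⟩

variable {S : Scheme.{u}} (p : GrothendieckTopology.Point.{u} S.smallEtaleTopology)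

theorem map_map {X Y Z : S.Etale} (f : X ⟶ Y) (g : Y ⟶ Z) (x : p.fiber.obj X) :
    p.fiber.map g (p.fiber.map f x) = p.fiber.map (f ≫ g) x := by
  rw [Functor.map_comp]
  rfl

theorem exists_common {X Y U : S.Etale} (a : X ⟶ U) (b : Y ⟶ U) (x : p.fiber.obj X)
    (y : p.fiber.obj Y) (h : p.fiber.map a x = p.fiber.map b y) :
    ∃ (W : S.Etale) (e : W ⟶ X) (f : W ⟶ Y) (w : p.fiber.obj W),
      p.fiber.map e w = x ∧ p.fiber.map f w = y ∧ e ≫ a = f ≫ b := by
  obtain ⟨⟨W, w⟩, ⟨e, he⟩, ⟨f, hf⟩, -⟩ := IsCofilteredOrEmpty.cone_objs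
    (C := p.fiber.Elements) ⟨X, x⟩ ⟨Y, y⟩
  dsimp at e he f hf
  have h1 : p.fiber.map (e ≫ a) w = p.fiber.map a x := by rw [← map_map, he]
  have h2 : p.fiber.map (f ≫ b) w = p.fiber.map a x := by rw [← map_map, hf, h]
  obtain ⟨⟨W', w'⟩, ⟨k, hk⟩, hk'⟩ := IsCofilteredOrEmpty.cone_maps
    (C := p.fiber.Elements) (X := ⟨W, w⟩) (Y := ⟨U, p.fiber.map a x⟩)
    (CategoryOfElements.homMk _ _ (e ≫ a) h1) (CategoryOfElements.homMk _ _ (f ≫ b) h2)
  dsimp at k hk
  refine ⟨W', k ≫ e, k ≫ f, w', by rw [← map_map, hk, he], by rw [← map_map, hk, hf], ?_⟩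
  rw [Category.assoc, Category.assoc]
  exact congrArg Subtype.val hk'

theorem exists_mem_cover {W : S.Etale} {R : Sieve W}
    (h : ∀ z : W.left, ∃ (V : S.Etale) (k : V ⟶ W) (v : V.left), R k ∧ k.left v = z)
    (w : p.fiber.obj W) : ∃ (V : S.Etale) (k : V ⟶ W) (v : p.fiber.obj V),
      R k ∧ p.fiber.map k v = w := by
  obtain ⟨V, k, hk, v, hv⟩ := p.jointly_surjective R (mem_topology_of_forall_point R h) w
  exact ⟨V, k, v, hk, hv⟩

/-- `u` comes from the open `V`. -/
def InP {U : S.Etale} (u : p.fiber.obj U) (V : U.left.Opens) : Prop :=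
  ∃ (W : S.Etale) (g : W ⟶ U) (w : p.fiber.obj W),
    p.fiber.map g w = u ∧ ∀ z : W.left, g.left z ∈ V

variable {p}

theorem inP_inter {U : S.Etale} {u : p.fiber.obj U} {V₁ V₂ : U.left.Opens} (h₁ : InP p u V₁)
    (h₂ : InP p u V₂) : InP p u (V₁ ⊓ V₂) := by
  obtain ⟨W₁, g₁, w₁, e₁, r₁⟩ := h₁
  obtain ⟨W₂, g₂, w₂, e₂, r₂⟩ := h₂
  obtain ⟨W, e, f, w, he, hf, hc⟩ := exists_common p g₁ g₂ w₁ w₂ (e₁.trans e₂.symm)
  refine ⟨W, e ≫ g₁, w, by rw [← map_map, he, e₁], fun z => ⟨r₁ (e.left z), ?_⟩⟩
  rw [hc]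
  exact r₂ (f.left z)

theorem inP_iSup {U : S.Etale} {u : p.fiber.obj U} {I : Type u} {V : I → U.left.Opens}
    (h : InP p u (⨆ i, V i)) : ∃ i, InP p u (V i) := by
  obtain ⟨W, g, w, hw, hr⟩ := h
  let R : Sieve W :=
    { arrows := fun W' k => ∃ i, ∀ z : W'.left, (k ≫ g).left z ∈ V i
      downward_closed := fun {_ _ k} ⟨i, hi⟩ l => ⟨i, fun z => hi (l.left z)⟩ }
  obtain ⟨W', k, w', ⟨i, hi⟩, hkw⟩ := exists_mem_cover p (R := R) (fun z => by
    obtain ⟨i, hi⟩ := TopologicalSpace.Opens.mem_iSup.1 (hr z)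
    let O : W.left.Opens := g.left ⁻¹ᵁ V i
    exact ⟨Scheme.Etale.mk (O.ι ≫ W.hom), MorphismProperty.Over.homMk O.ι rfl, ⟨z, hi⟩,
      ⟨i, fun y => y.2⟩, rfl⟩) w
  exact ⟨i, W', k ≫ g, w', by rw [← map_map, hkw, hw], hi⟩

theorem not_inP_bot {U : S.Etale} {u : p.fiber.obj U} : ¬ InP p u ⊥ := by
  rintro ⟨W, g, w, -, hr⟩
  obtain ⟨V, k, v, hk, -⟩ := exists_mem_cover p (R := ⊥) (fun z => (hr z).elim) w
  exact hk

theorem exists_point {U : S.Etale} (u : p.fiber.obj U) :
    ∃ z : U.left, ∀ V : U.left.Opens, InP p u V ↔ z ∈ V := by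
  let O : U.left.Opens := ⨆ V : {V : U.left.Opens // ¬ InP p u V}, V.1
  have hO : ¬ InP p u O := fun h => by
    obtain ⟨V, hV⟩ := inP_iSup h
    exact V.2 hV
  have hiff : ∀ V : U.left.Opens, InP p u V ↔ ((O : Set U.left)ᶜ ∩ V).Nonempty := by
    intro V
    constructor
    · intro hV
      by_contra hne
      obtain ⟨W, g, w, e, r⟩ := hV
      exact hO ⟨W, g, w, e, fun z => by
        by_contra hz
        exact hne ⟨_, hz, r z⟩⟩
    · rintro ⟨z, hz, hzV⟩
      by_contra hV
      exact hz (TopologicalSpace.Opens.mem_iSup.2 ⟨⟨V, hV⟩, hzV⟩)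
  have htop : InP p u ⊤ := ⟨U, 𝟙 U, u, by rw [CategoryTheory.Functor.map_id]; rfl, fun _ => trivial⟩
  have hirr : IsIrreducible ((O : Set U.left)ᶜ) := by
    refine ⟨((hiff ⊤).1 htop).mono Set.inter_subset_left, fun A B hA hB h₁ h₂ => ?_⟩
    exact (hiff (⟨A, hA⟩ ⊓ ⟨B, hB⟩)).1 (inP_inter ((hiff ⟨A, hA⟩).2 h₁) ((hiff ⟨B, hB⟩).2 h₂))
  refine ⟨hirr.genericPoint, fun V => ?_⟩
  rw [hiff, ← (hirr.isGenericPoint_genericPoint O.isOpen.isClosed_compl).mem_open_set_iff V.isOpen]
  rfl

variable (p)

/-- The point underlying an element of the fibre. -/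
noncomputable def pt {U : S.Etale} (u : p.fiber.obj U) : U.left := (exists_point u).choose

theorem inP_iff {U : S.Etale} (u : p.fiber.obj U) (V : U.left.Opens) : InP p u V ↔ pt p u ∈ V :=
  (exists_point u).choose_spec V

theorem pt_map {W U : S.Etale} (f : W ⟶ U) (w : p.fiber.obj W) :
    f.left (pt p w) = pt p (p.fiber.map f w) := by
  refine Inseparable.eq (inseparable_iff_forall_isOpen.2 fun A hA => ?_)
  let V : U.left.Opens := ⟨A, hA⟩
  change pt p w ∈ f.left ⁻¹ᵁ V ↔ pt p (p.fiber.map f w) ∈ V
  rw [← inP_iff, ← inP_iff]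
  constructor
  · rintro ⟨W', g, w', e, r⟩
    exact ⟨W', g ≫ f, w', by rw [← map_map, e], r⟩
  · rintro ⟨W', g, w', e, r⟩
    obtain ⟨W'', d, d', w'', hd, hd', hc⟩ := exists_common p f g w w' e.symm
    refine ⟨W'', d, w'', hd, fun z => ?_⟩
    change (d ≫ f).left z ∈ V
    rw [hc]
    exact r (d'.left z)

theorem nonempty_fiber_top : Nonempty (p.fiber.obj (EtCoh.top S)) := by
  obtain ⟨⟨W, w⟩⟩ := IsCofiltered.nonempty (C := p.fiber.Elements)
  exact ⟨p.fiber.map (MorphismProperty.Over.homMk W.hom (Category.comp_id _)) w⟩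

theorem subsingleton_fiber_top : Subsingleton (p.fiber.obj (EtCoh.top S)) := by
  refine ⟨fun a b => ?_⟩
  obtain ⟨⟨W, w⟩, ⟨e, he⟩, ⟨f, hf⟩, -⟩ := IsCofilteredOrEmpty.cone_objs
    (C := p.fiber.Elements) ⟨EtCoh.top S, a⟩ ⟨EtCoh.top S, b⟩
  dsimp at e he f hf
  obtain rfl : e = f := MorphismProperty.Over.Hom.ext
    (((Category.comp_id _).symm.trans (Over.w e.hom)).trans
      ((Over.w f.hom).symm.trans (Category.comp_id _)))
  exact he.symm.trans hf

/-- The image in `S`. -/
noncomputable def x₀ : S := pt p (nonempty_fiber_top p).some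

theorem hom_pt {U : S.Etale} (u : p.fiber.obj U) : U.hom (pt p u) = x₀ p := by
  have := pt_map p (MorphismProperty.Over.homMk (A := U) (B := EtCoh.top S) U.hom
    (Category.comp_id _)) u
  exact this.trans (congrArg (pt p) ((subsingleton_fiber_top p).elim _ _))

/-- The geometric point. -/
noncomputable abbrev ξ₀ : Spec (CommRingCat.of (SeparableClosure (S.residueField (x₀ p)))) ⟶ S :=
  geomPt (x₀ p)

/-- The closed point of the source of the geometric point. -/
noncomputable abbrev o₀ : ↥(Spec (CommRingCat.of (SeparableClosure (S.residueField (x₀ p))))) :=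
  default

/-- The fibre functor of the geometric point. -/
noncomputable abbrev Fib : S.Etale ⥤ Type u := (Scheme.pointSmallEtale (ξ₀ p)).fiber

theorem finite_ptOf_eq {U : S.Etale} (z : U.left) : Finite {t : (Fib p).obj U // ptOf t = z} := by
  by_cases hne : Nonempty {t : (Fib p).obj U // ptOf t = z}
  swap
  · exact @Finite.of_subsingleton _ ⟨fun t => (hne ⟨t⟩).elim⟩
  obtain ⟨t₁, ht₁⟩ := hne
  haveI : Subsingleton ↥(Spec (CommRingCat.of (SeparableClosure (S.residueField (x₀ p))))) :=
    inferInstanceAs (Subsingleton (PrimeSpectrum _))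
  have hxz : (ξ₀ p) default = U.hom z := by
    rw [← ht₁]
    exact (congrArg (fun g => g (o₀ p)) (Over.w t₁)).symm
  obtain ⟨O, hO, hxO, -⟩ := exists_isAffineOpen_mem_and_subset (X := S) (x := U.hom z) (U := ⊤) trivial
  obtain ⟨V, hV, hz, hVO⟩ :=
    exists_isAffineOpen_mem_and_subset (X := U.left) (x := z) (U := U.hom ⁻¹ᵁ O) hxO
  haveI : IsAffine (V : Scheme.{u}) := hV
  haveI : IsAffine (O : Scheme.{u}) := hO
  haveI : Etale U.hom := U.prop
  let a : (V : Scheme.{u}) ⟶ O := IsOpenImmersion.lift O.ι (V.ι ≫ U.hom) (by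
    rw [Scheme.Opens.range_ι]
    rintro _ ⟨y, rfl⟩
    exact hVO y.2)
  let b : Spec (CommRingCat.of (SeparableClosure (S.residueField (x₀ p)))) ⟶ O :=
    IsOpenImmersion.lift O.ι (ξ₀ p) (by
      rw [Scheme.Opens.range_ι]
      rintro _ ⟨y, rfl⟩
      rw [Subsingleton.elim y default, hxz]
      exact hxO)
  haveI : Etale (a ≫ O.ι) := by rw [IsOpenImmersion.lift_fac]; infer_instance
  haveI : Etale a := Etale.of_comp a O.ι
  let π := pullback.snd a b
  haveI : LocallyQuasiFinite π :=
    ((Groth.Agent.H06Unram.etale_iff_smooth_and_locallyQuasiFinite π).mp inferInstance).2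
  haveI : IsAffineHom a := isAffineHom_of_isAffine a
  haveI : IsAffineHom π := MorphismProperty.pullback_snd (P := @IsAffineHom) a b inferInstance
  haveI : Finite ↥(pullback a b) := by
    refine Set.finite_univ_iff.mp ((π.finite_preimage_singleton default).subset fun y _ => ?_)
    exact Subsingleton.elim _ _
  have hr : ∀ t : {t : (Fib p).obj U // ptOf t = z}, Set.range t.1.left ⊆ Set.range V.ι := by
    rintro ⟨t, ht⟩ _ ⟨c, rfl⟩
    rw [Scheme.Opens.range_ι, show c = o₀ p from Subsingleton.elim
      (α := ↥(Spec (CommRingCat.of (SeparableClosure (S.residueField (x₀ p)))))) c (o₀ p)]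
    exact ht.symm ▸ hz
  let l := fun t => pullback.lift (f := a) (g := b)
    (IsOpenImmersion.lift V.ι t.1.left (hr t)) (𝟙 _) (by
      rw [← cancel_mono O.ι, Category.assoc, IsOpenImmersion.lift_fac, Category.id_comp,
        IsOpenImmersion.lift_fac, ← Category.assoc, IsOpenImmersion.lift_fac]
      exact Over.w t.1)
  refine Finite.of_injective (fun t => l t (o₀ p)) fun t t' e => ?_
  have h1 := section_eq π (pullback.lift_snd _ _ _) (pullback.lift_snd _ _ _) (o₀ p) e
  refine Subtype.ext (Over.OverMorphism.ext ?_)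
  rw [← IsOpenImmersion.lift_fac V.ι t.1.left (hr t),
    ← IsOpenImmersion.lift_fac V.ι t'.1.left (hr t')]
  have h2 := congrArg (fun c => c ≫ pullback.fst a b) h1
  simp only [l, pullback.lift_fst] at h2
  rw [h2]

theorem exists_open_inter_eq_singleton {X : Type u} [TopologicalSpace X] {s : Set X}
    (hs : IsDiscrete s) {z : X} (hz : z ∈ s) : ∃ V, IsOpen V ∧ V ∩ s = {z} := by
  haveI := hs.to_subtype
  obtain ⟨V, hV, hVz⟩ := isOpen_induced_iff.1 (isOpen_discrete ({⟨z, hz⟩} : Set s))
  refine ⟨V, hV, Set.ext fun a => ⟨fun ⟨haV, has⟩ => ?_, ?_⟩⟩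
  · exact congrArg Subtype.val (hVz.le (show (⟨a, has⟩ : s) ∈ Subtype.val ⁻¹' V from haV) :
      (⟨a, has⟩ : s) = ⟨z, hz⟩)
  · rintro rfl
    exact ⟨hVz.ge (Set.mem_singleton _), hz⟩

/-- The compatible lifts of the geometric point. -/
noncomputable def system : p.fiber.Elements ⥤ Type u where
  obj x := {t : (Fib p).obj x.1 // ptOf t = pt p x.2}
  map {x y} g := ↾(fun t => ⟨(Fib p).map g.1 t.1, by
    have h : p.fiber.map g.1 x.2 = y.2 := g.2
    rw [← ptOf_map, t.2]
    exact (pt_map p g.1 x.2).trans (congrArg (pt p) h)⟩)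
  map_id x := by
    ext t
    exact congrArg (fun f => f t.1) ((Fib p).map_id x.1)
  map_comp f g := by
    ext t
    exact congrArg (fun k => k t.1) ((Fib p).map_comp f.1 g.1)

theorem exists_nat : ∃ η : ∀ U : S.Etale, p.fiber.obj U → (Fib p).obj U,
    (∀ U u, ptOf (η U u) = pt p u) ∧
      ∀ {U W : S.Etale} (g : W ⟶ U) (w : p.fiber.obj W),
        η U (p.fiber.map g w) = (Fib p).map g (η W w) := by
  haveI : ∀ x, Finite ((system p).obj x) := fun x => finite_ptOf_eq p _
  haveI : ∀ x, Nonempty ((system p).obj x) := fun x => by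
    obtain ⟨t, ht⟩ := exists_fiber_over (pt p x.2) (ξ₀ p)
      ((geomPt_base (x₀ p)).trans (hom_pt p x.2).symm)
    exact ⟨⟨t, ht⟩⟩
  obtain ⟨s, hs⟩ := nonempty_sections_of_finite_cofiltered_system (system p)
  refine ⟨fun U u => (s ⟨U, u⟩).1, fun U u => (s ⟨U, u⟩).2, fun {U W} g w => ?_⟩
  exact (congrArg Subtype.val (hs (CategoryOfElements.homMk (F := p.fiber)
    ⟨W, w⟩ ⟨U, p.fiber.map g w⟩ g rfl))).symm

theorem nonempty_iso :
    Nonempty (p.fiber ≅ (Scheme.pointSmallEtale (ξ₀ p)).fiber) := by
  obtain ⟨η, hη, hnat⟩ := exists_nat p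
  have hinj : ∀ U, Function.Injective (η U) := by
    intro U u v huv
    obtain ⟨⟨W, w⟩, ⟨a, ha⟩, ⟨b, hb⟩, -⟩ := IsCofilteredOrEmpty.cone_objs
      (C := p.fiber.Elements) ⟨U, u⟩ ⟨U, v⟩
    dsimp at a ha b hb
    haveI : Etale U.hom := U.prop
    obtain ⟨E, hE, hmem⟩ := exists_equalizer_open U.hom a.left b.left
      ((Over.w a.hom).trans (Over.w b.hom).symm)
    have ht : (η W w).left ≫ a.left = (η W w).left ≫ b.left := by
      have := congrArg (fun r => r.left) (((hnat a w).symm.trans (congrArg (η U) ha)).trans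
        ((huv.trans (congrArg (η U) hb).symm).trans (hnat b w)))
      exact this
    have hptE : InP p w E := by
      rw [inP_iff, ← hη]
      exact hmem _ ht (o₀ p)
    obtain ⟨W', g, w', hw', hr⟩ := hptE
    have hg : g ≫ a = g ≫ b := by
      refine MorphismProperty.Over.Hom.ext ?_
      have hr' : Set.range g.left ⊆ Set.range E.ι := by
        rw [Scheme.Opens.range_ι]; rintro _ ⟨z, rfl⟩; exact hr z
      change g.left ≫ a.left = g.left ≫ b.left
      rw [← IsOpenImmersion.lift_fac E.ι g.left hr', Category.assoc, Category.assoc, hE]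
    rw [← ha, ← hb, ← hw', map_map, map_map, hg]
  have hsurj : ∀ U, Function.Surjective (η U) := by
    intro U t
    haveI : Etale U.hom := U.prop
    let P : S.Etale → S.Etale := fun W =>
      haveI : Etale W.hom := W.prop
      Scheme.Etale.mk (pullback.snd U.hom W.hom ≫ W.hom)
    let q : ∀ W, P W ⟶ W := fun W => MorphismProperty.Over.homMk (pullback.snd _ _) rfl
    let π : ∀ W, P W ⟶ U := fun W =>
      MorphismProperty.Over.homMk (pullback.fst _ _) pullback.condition
    let pr : ∀ (W : S.Etale), (Fib p).obj U → p.fiber.obj W → (Fib p).obj (P W) := fun W s w =>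
      Over.homMk (pullback.lift s.left (η W w).left ((Over.w s).trans (Over.w (η W w)).symm)) (by
        change pullback.lift _ _ _ ≫ pullback.snd U.hom W.hom ≫ W.hom = ξ₀ p
        rw [pullback.lift_snd_assoc]
        exact Over.w (η W w))
    have eq_pr : ∀ W w (r : (Fib p).obj (P W)), (Fib p).map (q W) r = η W w →
        pr W ((Fib p).map (π W) r) w = r := by
      intro W w r hr
      refine Over.OverMorphism.ext (pullback.hom_ext ?_ ?_)
      · exact pullback.lift_fst _ _ _
      · exact (pullback.lift_snd _ _ _).trans (congrArg (fun r => r.left) hr).symm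
    let A : ∀ (W : S.Etale), p.fiber.obj W → Set ((Fib p).obj U) := fun W w =>
      {s | ptOf (pr W s w) = ptOf (pr W t w)}
    have hfin : ∀ W w, (A W w).Finite := by
      intro W w
      haveI : Finite ↑{r : (Fib p).obj (P W) | ptOf r = ptOf (pr W t w)} :=
        finite_ptOf_eq p (U := P W) (ptOf (pr W t w))
      refine Set.Finite.of_finite_image (f := fun s => pr W s w)
        ((Set.toFinite {r | ptOf r = ptOf (pr W t w)}).subset ?_) ?_
      · rintro _ ⟨s, hs, rfl⟩; exact hs
      · intro s _ s' _ e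
        refine Over.OverMorphism.ext ?_
        have := congrArg (fun r => r.left ≫ pullback.fst U.hom W.hom) e
        simpa [pr] using this
    suffices H : ∀ (n : ℕ) W w, (A W w).ncard ≤ n → ∃ u, η U u = t by
      obtain ⟨⟨W, w⟩⟩ := IsCofiltered.nonempty (C := p.fiber.Elements)
      exact H _ W w le_rfl
    intro n
    induction n with
    | zero =>
      intro W w hn
      exact absurd (Set.nonempty_of_mem (show t ∈ A W w from rfl))
        (by rw [(Set.ncard_eq_zero (hfin W w)).1 (Nat.le_zero.1 hn)]; simp)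
    | succ n ih =>
      intro W w hn
      haveI : Etale W.hom := W.prop
      let z := ptOf (pr W t w)
      have hzq : (q W).left z = pt p w := by
        refine Eq.trans ?_ (hη W w)
        exact (Scheme.Hom.comp_apply (pr W t w).left (pullback.snd U.hom W.hom) (o₀ p)).symm.trans
          (congrArg (fun r : Spec (CommRingCat.of (SeparableClosure (S.residueField (x₀ p)))) ⟶ W.left =>
            r (o₀ p)) (pullback.lift_snd _ _ _))
      haveI : Etale (q W).left := inferInstanceAs (Etale (pullback.snd U.hom W.hom))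
      haveI : LocallyQuasiFinite (q W).left :=
        ((Groth.Agent.H06Unram.etale_iff_smooth_and_locallyQuasiFinite _).mp inferInstance).2
      obtain ⟨V₀, hV₀, hVz⟩ : ∃ V₀ : Set (P W).left, IsOpen V₀ ∧
          V₀ ∩ (q W).left ⁻¹' {pt p w} = {z} :=
        exists_open_inter_eq_singleton ((q W).left.isDiscrete_preimage_singleton (pt p w)) hzq
      have hzV : z ∈ V₀ := (hVz.ge rfl).1
      let O : W.left.Opens := ⟨(q W).left '' V₀, (q W).left.isOpenMap _ hV₀⟩
      obtain ⟨W₁, g, w₁, hw₁, hr⟩ := (inP_iff p w O).2 ⟨z, hzV, hzq⟩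
      let R : Sieve W₁ :=
        { arrows := fun W' h => ∃ k : W' ⟶ P W, k ≫ q W = h ≫ g ∧ ∀ a : W'.left, k.left a ∈ V₀
          downward_closed := fun {_ _ h} ⟨k, hk, hkV⟩ l =>
            ⟨l ≫ k, by rw [Category.assoc, hk, Category.assoc], fun a => hkV (l.left a)⟩ }
      obtain ⟨W', h, w', ⟨k, hk, hkV⟩, hhw⟩ := exists_mem_cover p (R := R) (fun z₁ => by
        obtain ⟨v, hv, hvq⟩ := hr z₁
        let V : (P W).left.Opens := ⟨V₀, hV₀⟩
        haveI : Etale W₁.hom := W₁.prop
        haveI : Etale (V.ι ≫ (q W).left) := inferInstance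
        obtain ⟨y, hy, hy'⟩ := Scheme.Pullback.exists_preimage_pullback
          (f := g.left) (g := V.ι ≫ (q W).left) z₁ ⟨v, hv⟩ hvq.symm
        let W' : S.Etale := Scheme.Etale.mk (pullback.fst g.left (V.ι ≫ (q W).left) ≫ W₁.hom)
        refine ⟨W', MorphismProperty.Over.homMk (pullback.fst _ _) rfl, y,
          ⟨MorphismProperty.Over.homMk (pullback.snd _ _ ≫ V.ι) ?_, ?_, fun a => ?_⟩, hy⟩
        · change (pullback.snd _ _ ≫ V.ι) ≫ pullback.snd U.hom W.hom ≫ W.hom =
            pullback.fst _ _ ≫ W₁.hom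
          have e1 : (pullback.snd g.left (V.ι ≫ (q W).left) ≫ V.ι) ≫ pullback.snd U.hom W.hom =
              pullback.fst g.left (V.ι ≫ (q W).left) ≫ g.left :=
            (Category.assoc _ _ _).trans pullback.condition.symm
          refine (Category.assoc _ _ _).symm.trans ((congrArg (· ≫ W.hom) e1).trans ?_)
          exact (Category.assoc _ _ _).trans (congrArg (_ ≫ ·) (Over.w g.hom))
        · refine MorphismProperty.Over.Hom.ext ?_
          change (pullback.snd _ _ ≫ V.ι) ≫ (q W).left = pullback.fst _ _ ≫ g.left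
          rw [Category.assoc, pullback.condition]
        · exact ((pullback.snd g.left (V.ι ≫ (q W).left)) a).2) w₁
      let e := p.fiber.map k w'
      have hqe : p.fiber.map (q W) e = w := by
        rw [map_map, hk, ← map_map, hhw, hw₁]
      have hze : pt p e = z := by
        have : pt p e ∈ V₀ ∩ (q W).left ⁻¹' {pt p w} := by
          refine ⟨?_, ?_⟩
          · rw [show pt p e = k.left (pt p w') from (pt_map p k w').symm]; exact hkV _
          · change (q W).left (pt p e) = pt p w
            rw [pt_map, hqe]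
        rw [hVz] at this
        exact this
      have hpre : pr W (η U (p.fiber.map (π W) e)) w = η (P W) e := by
        rw [hnat]
        exact eq_pr W w _ (by rw [← hnat, hqe])
      have ht'' : η U (p.fiber.map (π W) e) ∈ A W w := by
        change ptOf _ = _
        rw [hpre, hη, hze]
      by_cases hend : η U (p.fiber.map (π W) e) = t
      · exact ⟨_, hend⟩
      refine ih (P W) e ?_
      have hsub : A (P W) e ⊆ A W w \ {η U (p.fiber.map (π W) e)} := by
        intro s hs
        have hmw : (pullback.fst U.hom (P W).hom) ≫ U.hom =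
            (pullback.snd U.hom (P W).hom ≫ (q W).left) ≫ W.hom :=
          pullback.condition.trans ((congrArg (pullback.snd U.hom (P W).hom ≫ ·)
            (Over.w (q W).hom).symm).trans (Category.assoc _ _ _).symm)
        let m : P (P W) ⟶ P W := MorphismProperty.Over.homMk
          (pullback.lift (pullback.fst U.hom (P W).hom)
            (pullback.snd U.hom (P W).hom ≫ (q W).left) hmw)
          ((Category.assoc _ _ _).symm.trans (by
            refine (congrArg (· ≫ W.hom) (pullback.lift_snd _ _ hmw)).trans ?_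
            exact (Category.assoc _ _ _).trans
              (congrArg (pullback.snd U.hom (P W).hom ≫ ·) (Over.w (q W).hom))))
        have hm : ∀ s, (Fib p).map m (pr (P W) s e) = pr W s w := by
          intro s
          have h1 : (η (P W) e).left ≫ (q W).left = (η W w).left := by
            have := congrArg (fun r => r.left) (hnat (q W) e)
            rw [hqe] at this
            exact this.symm
          refine Over.OverMorphism.ext (pullback.hom_ext ?_ ?_)
          · refine (Category.assoc _ _ _).trans ((congrArg (_ ≫ ·) (pullback.lift_fst _ _ hmw)).trans ?_)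
            exact (pullback.lift_fst _ _ _).trans (pullback.lift_fst _ _ _).symm
          · refine (Category.assoc _ _ _).trans ((congrArg (_ ≫ ·) (pullback.lift_snd _ _ hmw)).trans ?_)
            refine (Category.assoc _ _ _).symm.trans ?_
            refine (congrArg (· ≫ (q W).left) (pullback.lift_snd _ _ _)).trans ?_
            exact h1.trans (pullback.lift_snd _ _ _).symm
        refine ⟨?_, fun hst => hend ?_⟩
        · change ptOf _ = _
          rw [← hm, ← hm, ← ptOf_map, ← ptOf_map]
          exact congrArg m.left hs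
        · obtain rfl : s = η U (p.fiber.map (π W) e) := hst
          haveI : Etale (P W).hom := (P W).prop
          obtain ⟨E, hE, hmem⟩ := exists_equalizer_open U.hom (π (P W)).left
            ((q (P W)).left ≫ (π W).left) (by
              rw [Category.assoc]
              erw [Over.w (π (P W)).hom, Over.w (π W).hom]
              exact (Over.w (q (P W)).hom).symm)
          have h2 : ptOf (pr (P W) t e) ∈ E := by
            rw [← (show _ = ptOf (pr (P W) t e) from hs)]
            refine hmem _ ?_ _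
            change pullback.lift _ _ _ ≫ pullback.fst _ _ =
              pullback.lift _ _ _ ≫ pullback.snd U.hom (P W).hom ≫ (π W).left
            rw [pullback.lift_fst, pullback.lift_snd_assoc, hnat]
            rfl
          have hr' : Set.range (pr (P W) t e).left ⊆ Set.range E.ι := by
            rw [Scheme.Opens.range_ι]
            rintro _ ⟨a, rfl⟩
            rw [show a = o₀ p from Subsingleton.elim (α := PrimeSpectrum _) a (o₀ p)]
            exact h2
          have h3 : (pr (P W) t e).left ≫ (π (P W)).left =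
              (pr (P W) t e).left ≫ (q (P W)).left ≫ (π W).left := by
            rw [← IsOpenImmersion.lift_fac E.ι _ hr', Category.assoc, Category.assoc, hE]
          refine Over.OverMorphism.ext ?_
          change pullback.lift _ _ _ ≫ pullback.fst _ _ =
              pullback.lift _ _ _ ≫ pullback.snd U.hom (P W).hom ≫ (π W).left at h3
          rw [pullback.lift_fst, pullback.lift_snd_assoc] at h3
          rw [h3, hnat]
          rfl
      have := Set.ncard_le_ncard hsub ((hfin W w).diff)
      rw [Set.ncard_diff_singleton_of_mem ht''] at this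
      omega
  exact ⟨NatIso.ofComponents (fun U => Equiv.toIso (Equiv.ofBijective _ ⟨hinj U, hsurj U⟩))
    (fun {W U} g => by ext w; exact hnat g w)⟩

end Groth.Agent.H18Et.SitePoints
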