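import Groth.Agent.H18Et.IntegralLift

/-!
# Sections of etale covers of integral morphisms after etale localisation on the target
-/

universe u

open CategoryTheory CategoryTheory.Limits AlgebraicGeometry Opposite TensorProduct

namespace Groth.Agent.H18Et

attribute [local instance] Algebra.TensorProduct.rightAlgebra

section Algebra

/-- Over a reduced zero-dimensional ring a finitely presented algebra has a section as soon as it
has one over each residue field. -/
theorem exists_algHom_of_forall_residue {B R C : Type u} [CommRing B] [CommRing R] [CommRing C]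
    [Algebra B R] [Algebra B C] [Algebra.FinitePresentation B C] [IsReduced R]
    (hmax : ∀ P : Ideal R, P.IsPrime → P.IsMaximal)
    (h : ∀ (M : Ideal R), M.IsMaximal → Nonempty (C →ₐ[B] R ⧸ M)) : Nonempty (C →ₐ[B] R) := by
  classical
  obtain ⟨n, π, hπ, s, hs⟩ := Algebra.FinitePresentation.out (R := B) (A := C)
  let T : Set R := {e | ∃ x : Fin n → R, ∀ r ∈ s, e * MvPolynomial.aeval x r = 0}
  let I : Ideal R :=
    { carrier := T
      zero_mem' := ⟨0, fun _ _ => zero_mul _⟩
      add_mem' := fun {e e'} he he' => by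
        obtain ⟨y, hy⟩ := exists_mul_self_mul_eq hmax e
        obtain ⟨x, hx⟩ := he
        obtain ⟨x', hx'⟩ := he'
        let ε := e * y
        have hεd : ε = e * y := rfl
        have hε : ε * ε = ε := by simp only [ε]; linear_combination y * hy
        let x'' := fun i => ε * x i + (1 - ε) * x' i
        have key : ∀ (δ : R) (z : Fin n → R), δ * δ = δ → (∀ i, δ * x'' i = δ * z i) →
            ∀ r : MvPolynomial (Fin n) B,
              δ * MvPolynomial.aeval x'' r = δ * MvPolynomial.aeval z r := by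
          intro δ z hδ hz r
          let q := Ideal.Quotient.mkₐ B (Ideal.span {1 - δ})
          have hq : q (MvPolynomial.aeval x'' r) = q (MvPolynomial.aeval z r) := by
            rw [MvPolynomial.comp_aeval_apply, MvPolynomial.comp_aeval_apply]
            have : (fun i => q (x'' i)) = fun i => q (z i) := funext fun i =>
              Ideal.Quotient.eq.2 (Ideal.mem_span_singleton'.2
                ⟨x'' i - z i, by linear_combination -(hz i)⟩)
            rw [this]
          obtain ⟨c, hc⟩ := Ideal.mem_span_singleton'.1 (Ideal.Quotient.eq.1 hq)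
          linear_combination (-δ) * hc + (-c) * hδ
        refine ⟨x'', fun r hr => ?_⟩
        have k1 := key ε x hε (fun i => by simp only [x'']; linear_combination (x i - x' i) * hε) r
        have k2 := key (1 - ε) x' (by linear_combination hε)
          (fun i => by simp only [x'']; linear_combination (x' i - x i) * hε) r
        have a1 : e * MvPolynomial.aeval x'' r = 0 := by
          linear_combination (-MvPolynomial.aeval x'' r) * hy + e * k1 + ε * hx r hr +
            (e * MvPolynomial.aeval x'' r - e * MvPolynomial.aeval x r + e * MvPolynomial.aeval x r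
              - e * MvPolynomial.aeval x'' r) * hεd
        have a2 : e' * MvPolynomial.aeval x'' r = 0 := by
          linear_combination e' * k1 + e' * k2 + (y * e') * hx r hr + (1 - ε) * hx' r hr +
            (e' * MvPolynomial.aeval x r) * hεd
        rw [add_mul, a1, a2, add_zero]
      smul_mem' := fun c e ⟨x, hx⟩ => ⟨x, fun r hr => by
        rw [smul_eq_mul, mul_assoc, hx r hr, mul_zero]⟩ }
  have hI : I = ⊤ := by
    by_contra hne
    obtain ⟨M, hM, hle⟩ := Ideal.exists_le_maximal I hne
    obtain ⟨σ⟩ := h M hM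
    choose x hx using fun i => Ideal.Quotient.mk_surjective (σ (π (MvPolynomial.X i)))
    have hmem : ∀ r ∈ s, MvPolynomial.aeval x r ∈ M := fun r hr => by
      rw [← Ideal.Quotient.eq_zero_iff_mem, ← Ideal.Quotient.mkₐ_eq_mk B,
        MvPolynomial.comp_aeval_apply]
      have : (fun i => Ideal.Quotient.mkₐ B M (x i)) = fun i => (σ.comp π) (MvPolynomial.X i) :=
        funext hx
      rw [this]
      exact (congrArg (fun g => g r) (MvPolynomial.aeval_unique (σ.comp π))).symm.trans
        ((congrArg σ (show π r = 0 from hs.le (Ideal.subset_span hr))).trans (map_zero σ))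
    choose! t ht ht' using fun r (hr : r ∈ s) => exists_mul_eq_zero hmax M (hmem r hr)
    have hnot : ∏ r ∈ s, t r ∉ M := fun hmem' => by
      obtain ⟨r, hr, hr'⟩ := hM.isPrime.prod_mem_iff.1 hmem'
      exact ht r hr hr'
    refine hnot (hle ⟨x, fun r hr => ?_⟩)
    rw [← Finset.mul_prod_erase s t hr, mul_comm (t r), mul_assoc, ht' r hr, mul_zero]
  obtain ⟨x, hx⟩ := (Ideal.eq_top_iff_one I).1 hI
  have hker : ∀ r ∈ RingHom.ker π, MvPolynomial.aeval x r = 0 := fun r hr => by
    refine (show RingHom.ker π ≤ RingHom.ker (MvPolynomial.aeval (R := B) x) from ?_) hr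
    exact hs.ge.trans (Ideal.span_le.2 fun r hr => (one_mul _).symm.trans (hx r hr))
  exact ⟨(Ideal.Quotient.liftₐ _ (MvPolynomial.aeval x) hker).comp
    (Ideal.quotientKerAlgEquivOfSurjective hπ).symm.toAlgHom⟩

variable {A B R : Type u} [CommRing A] [CommRing B] [CommRing R] [Algebra A B] [Algebra A R]

/-- Etale covers of the closed fibre have sections over `R ⊗ B` for strictly henselian `R`. -/
theorem exists_algHom_tensor [Algebra.IsIntegral A B]
    [HenselianLocalRing R] [IsSepClosed (IsLocalRing.ResidueField R)]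
    {C : Type u} [CommRing C] [Algebra B C] [Algebra.Etale B C]
    (hrange : ∀ q : PrimeSpectrum B, q.comap (algebraMap A B) =
      PrimeSpectrum.comap (algebraMap A R) (IsLocalRing.closedPoint R) →
        q ∈ Set.range (PrimeSpectrum.comap (algebraMap B C))) :
    Nonempty (C →ₐ[B] R ⊗[A] B) := by
  let BR := R ⊗[A] B
  let m : Ideal R := IsLocalRing.maximalIdeal R
  let J : Ideal BR := (m.map (algebraMap R BR)).radical
  have : HenselianRing BR (m.map (algebraMap R BR)) := H9Hens.henselianRing_of_isIntegral (I := m) BR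
  have : HenselianRing BR J := H9Hens.henselianRing_radical
  have : IsReduced (BR ⧸ J) :=
    (Ideal.isRadical_iff_quotient_reduced J).1 (Ideal.radical_isRadical _)
  have hover : ∀ M : Ideal BR, M.IsPrime → J ≤ M → M.comap (algebraMap R BR) = m := fun M hM hJ =>
    ((IsLocalRing.maximalIdeal.isMaximal R).eq_of_le (Ideal.comap_ne_top _ hM.ne_top)
      (Ideal.map_le_iff_le_comap.1 (Ideal.le_radical.trans hJ))).symm
  have hmax : ∀ M : Ideal BR, M.IsPrime → J ≤ M → M.IsMaximal := fun M hM hJ =>
    Ideal.isMaximal_of_isIntegral_of_isMaximal_comap M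
      (by rw [hover M hM hJ]; exact IsLocalRing.maximalIdeal.isMaximal R)
  have hJM : ∀ P' : Ideal (BR ⧸ J), J ≤ P'.comap (Ideal.Quotient.mk J) := fun P' y hy => by
    rw [Ideal.mem_comap, Ideal.Quotient.eq_zero_iff_mem.2 hy]; exact P'.zero_mem
  have hmax' : ∀ P' : Ideal (BR ⧸ J), P'.IsPrime → P'.IsMaximal := fun P' hP' => by
    have := hmax _ (hP'.comap _) (hJM P')
    rw [← Ideal.map_comap_of_surjective _ Ideal.Quotient.mk_surjective P']
    refine (Ideal.map_eq_top_or_isMaximal_of_surjective _ Ideal.Quotient.mk_surjective this).resolve_left ?_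
    rw [Ideal.map_comap_of_surjective _ Ideal.Quotient.mk_surjective]
    exact hP'.ne_top
  obtain ⟨σ₁⟩ := exists_algHom_of_forall_residue (B := B) (C := C) hmax' fun M hM => by
    let k := (BR ⧸ J) ⧸ M
    let : Field k := Ideal.Quotient.field _
    have hMm : (M.comap (Ideal.Quotient.mk J)).comap (algebraMap R BR) = m :=
      hover _ (hM.isPrime.comap _) (hJM M)
    have hκ : ∀ r ∈ m, algebraMap R k r = 0 := fun r hr =>
      Ideal.Quotient.eq_zero_iff_mem.2 (hMm.ge hr)
    let : Algebra (IsLocalRing.ResidueField R) k := (Ideal.Quotient.lift m (algebraMap R k) hκ).toAlgebra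
    have : IsScalarTower R (IsLocalRing.ResidueField R) k := .of_algebraMap_eq fun _ => rfl
    have : Algebra.IsIntegral R k := Algebra.IsIntegral.trans BR
    have : Algebra.IsIntegral (IsLocalRing.ResidueField R) k := Algebra.IsIntegral.tower_top (R := R)
    have : IsSepClosed k := Algebra.IsAlgebraic.isSepClosed (F := IsLocalRing.ResidueField R)
    have : Etale (Spec.map (CommRingCat.ofHom (algebraMap B C))) :=
      (HasRingHomProperty.Spec_iff (P := @Etale)).2 (RingHom.etale_algebraMap.mpr inferInstance)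
    let q : PrimeSpectrum B :=
      PrimeSpectrum.comap (algebraMap B k) (default : (Spec (CommRingCat.of k)))
    have hq : q.comap (algebraMap A B) =
        PrimeSpectrum.comap (algebraMap A R) (IsLocalRing.closedPoint R) := by
      refine PrimeSpectrum.ext ((congrArg (Ideal.comap (algebraMap A B))
        (asIdeal_comap_field (algebraMap B k) _)).trans ?_)
      rw [RingHom.comap_ker, ← IsScalarTower.algebraMap_eq, IsScalarTower.algebraMap_eq A R k]
      refine (RingHom.comap_ker _ _).symm.trans (congrArg (Ideal.comap (algebraMap A R)) ?_)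
      refine Eq.trans ?_ hMm
      ext r
      exact Ideal.Quotient.eq_zero_iff_mem
    obtain ⟨Q, hQ⟩ := hrange q hq
    obtain ⟨l, hl, -⟩ := Scheme.exists_fac_of_etale_of_isSepClosed
      (Spec.map (CommRingCat.ofHom (algebraMap B C)))
      (Spec.map (CommRingCat.ofHom (algebraMap B k))) Q hQ
    let σ₀ : CommRingCat.of C ⟶ CommRingCat.of k := Spec.preimage l
    have hσ₀ : CommRingCat.ofHom (algebraMap B C) ≫ σ₀ = CommRingCat.ofHom (algebraMap B k) :=
      Spec.map_injective (by rw [Spec.map_comp, Spec.map_preimage]; exact hl)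
    exact ⟨{ σ₀.hom with commutes' := fun b => ConcreteCategory.congr_hom hσ₀ b }⟩
  let σ : BR ⊗[B] C →ₐ[BR] BR ⧸ J :=
    Algebra.TensorProduct.lift (Algebra.ofId BR (BR ⧸ J)) σ₁ fun _ _ => .all _ _
  obtain ⟨τ, -⟩ := H9Hens.exists_algHom_lift σ
  exact ⟨(τ.restrictScalars B).comp Algebra.TensorProduct.includeRight⟩

end Algebra

section Affine

variable {A B : Type u} [CommRing A] [CommRing B] [Algebra A B]

set_option maxHeartbeats 1000000 in
theorem exists_etale_section_affine [Algebra.IsIntegral A B]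
    {C : Type u} [CommRing C] [Algebra B C] [Algebra.Etale B C]
    (y : Spec (CommRingCat.of A))
    (hfib : ∀ q : PrimeSpectrum B, q.comap (algebraMap A B) = y →
        q ∈ Set.range (PrimeSpectrum.comap (algebraMap B C))) :
    ∃ (V : Scheme.{u}) (q : V ⟶ Spec (CommRingCat.of A)), Etale q ∧ y ∈ Set.range q.base ∧
      ∃ a : pullback q (Spec.map (CommRingCat.ofHom (algebraMap A B))) ⟶ Spec (CommRingCat.of C),
        a ≫ Spec.map (CommRingCat.ofHom (algebraMap B C)) =
          pullback.snd q (Spec.map (CommRingCat.ofHom (algebraMap A B))) := by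
  classical
  let X : Scheme.{u} := Spec (CommRingCat.of A)
  let f : Spec (CommRingCat.of B) ⟶ X := Spec.map (CommRingCat.ofHom (algebraMap A B))
  let η := geomPt (X := X) y
  have : IsSepClosed (SeparableClosure (X.residueField y)) := SeparableClosure.isSepClosed _
  let z₀ : (Scheme.pointSmallEtale η).fiber.obj (EtCoh.top X) := Over.homMk η (Category.comp_id _)
  let R := EtBase.etaleLocalRing η
  let ρ : CommRingCat.of A ⟶ R :=
    (Scheme.ΓSpecIso (CommRingCat.of A)).inv ≫ funGerm η (EtCoh.top X) z₀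
  let : Algebra A R := ρ.hom.toAlgebra
  obtain ⟨hR, hsep⟩ := isStrictlyHenselian_etaleLocalRing η
  have hker : PrimeSpectrum.comap (algebraMap A R) (IsLocalRing.closedPoint R) = y := by
    let χ : CommRingCat.of A ⟶ CommRingCat.of (SeparableClosure (X.residueField y)) :=
      (Scheme.ΓSpecIso (CommRingCat.of A)).inv ≫ η.appTop ≫ (Scheme.ΓSpecIso _).hom
    have h1 : Spec.map χ = η := Spec.map_preimage η ▸ (congrArg Spec.map (by
      change (Scheme.ΓSpecIso _).inv ≫ η.appTop ≫ _ = Spec.preimage η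
      conv_lhs => rw [← Spec.map_preimage η]
      rw [← Scheme.ΓSpecIso_inv_naturality_assoc, Iso.inv_hom_id, Category.comp_id]))
    refine Eq.trans ?_ ((congrArg (fun g => g.base default) h1).trans (geomPt_base y))
    apply PrimeSpectrum.ext
    ext a
    refine Iff.trans ?_ (Iff.of_eq (congrArg (a ∈ ·) (asIdeal_comap_field χ.hom _).symm))
    change ρ a ∈ IsLocalRing.maximalIdeal R ↔ a ∈ RingHom.ker χ.hom
    rw [RingHom.mem_ker, mem_maximalIdeal_iff]
    exact Iff.of_eq (congrArg (· = 0) (funGerm_valueHom η _ z₀ _))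
  obtain ⟨σ⟩ := exists_algHom_tensor (A := A) (R := R) (C := C)
    fun q hq => hfib q (hq.trans hker)
  let W := (Scheme.pointSmallEtale η).presheafFiber.obj (bcFun f)
  let β : ∀ U : X.Etale, CommRingCat.of B ⟶ (bcFun f).obj (op U) := fun U =>
    (Scheme.ΓSpecIso (CommRingCat.of B)).inv ≫ (pullback.snd U.hom f).appTop
  have hβ : ∀ {U V : X.Etale} (g : V ⟶ U), β U ≫ (bcFun f).map g.op = β V := fun {U V} g => by
    refine (Category.assoc _ _ _).trans (congrArg (_ ≫ ·) ?_)
    exact (Scheme.Hom.comp_appTop _ _).symm.trans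
      (congrArg Scheme.Hom.appTop (Over.w ((EtCoh.bc f).map g).hom))
  let gW : ∀ (U : X.Etale) (_ : (Scheme.pointSmallEtale η).fiber.obj U), (bcFun f).obj (op U) ⟶ W :=
    fun U z => (Scheme.pointSmallEtale η).toPresheafFiber U z (bcFun f)
  have hgW : ∀ {U V : X.Etale} (g : V ⟶ U) (z : (Scheme.pointSmallEtale η).fiber.obj V) a,
      gW V z ((bcFun f).map g.op a) = gW U ((Scheme.pointSmallEtale η).fiber.map g z) a :=
    fun g z a => (Scheme.pointSmallEtale η).toPresheafFiber_w_apply g z (bcFun f) a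
  let hB : CommRingCat.of B ⟶ W := β (EtCoh.top X) ≫ gW (EtCoh.top X) z₀
  let hRW : R ⟶ W := (Scheme.pointSmallEtale η).presheafFiber.map (ooToBcFun f)
  have hagree : CommRingCat.ofHom (algebraMap A B) ≫ hB = ρ ≫ hRW := by
    ext a
    refine Eq.trans ?_ ((Scheme.pointSmallEtale η).toPresheafFiber_naturality_apply (ooToBcFun f)
      (EtCoh.top X) z₀ ((Scheme.ΓSpecIso (CommRingCat.of A)).inv a)).symm
    refine congrArg (gW (EtCoh.top X) z₀) ?_
    have h2 : CommRingCat.ofHom (algebraMap A B) ≫ β (EtCoh.top X) =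
        (Scheme.ΓSpecIso (CommRingCat.of A)).inv ≫ (pullback.fst (EtCoh.top X).hom f).appTop :=
      (Scheme.ΓSpecIso_inv_naturality_assoc _ _).trans (congrArg (_ ≫ ·)
        ((Scheme.Hom.comp_appTop _ _).symm.trans (congrArg Scheme.Hom.appTop
          (pullback.condition.symm.trans (Category.comp_id _)))))
    exact ConcreteCategory.congr_hom h2 a
  let : Algebra B W := hB.hom.toAlgebra
  let : Algebra A W := (hB.hom.comp (algebraMap A B)).toAlgebra
  have : IsScalarTower A B W := .of_algebraMap_eq' rfl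
  let lR : R →ₐ[A] W :=
    { hRW.hom with commutes' := fun a => (ConcreteCategory.congr_hom hagree a).symm }
  let h : R ⊗[A] B →ₐ[B] W :=
    { (Algebra.TensorProduct.lift lR (IsScalarTower.toAlgHom A B W) fun _ _ => .all _ _).toRingHom with
      commutes' := fun b => by
        change Algebra.TensorProduct.lift lR _ _ ((1 : R) ⊗ₜ[A] b) = _
        rw [Algebra.TensorProduct.lift_tmul, map_one, one_mul]
        rfl }
  let σW : C →ₐ[B] W := h.comp σ
  obtain ⟨n, π, hπ, s, hs⟩ := Algebra.FinitePresentation.out (R := B) (A := C)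
  have hgerm : ∀ (U : X.Etale) (z : (Scheme.pointSmallEtale η).fiber.obj U) (b : B),
      gW U z (β U b) = algebraMap B W b := by
    intro U z b
    let t : U ⟶ EtCoh.top X := MorphismProperty.Over.homMk U.hom (Category.comp_id _) trivial
    have h1 : (Scheme.pointSmallEtale η).fiber.map t z = z₀ := Over.OverMorphism.ext (Over.w z)
    have h2 := hgW t z (β (EtCoh.top X) b)
    rw [h1] at h2
    exact (congrArg (gW U z) (ConcreteCategory.congr_hom (hβ t) b).symm).trans h2
  -- lift the images of the generators to a common neighbourhood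
  have hstage : ∀ S : Finset (Fin n), ∃ (U : X.Etale) (z : (Scheme.pointSmallEtale η).fiber.obj U)
      (x : Fin n → (bcFun f).obj (op U)), ∀ i ∈ S, gW U z (x i) = σW (π (MvPolynomial.X i)) := by
    intro S
    induction S using Finset.induction with
    | empty => exact ⟨EtCoh.top X, z₀, fun _ => 0, by simp⟩
    | insert i S _ ih =>
      obtain ⟨U, z, x, hx⟩ := ih
      obtain ⟨U', z', c, hc⟩ := (Scheme.pointSmallEtale η).toPresheafFiber_jointly_surjective
        (P := bcFun f) (σW (π (MvPolynomial.X i)))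
      obtain ⟨⟨U₁, z₁⟩, ⟨g, hg⟩, ⟨g', hg'⟩, -⟩ := IsCofilteredOrEmpty.cone_objs
        (C := (Scheme.pointSmallEtale η).fiber.Elements) ⟨U, z⟩ ⟨U', z'⟩
      dsimp at g g' hg hg'
      refine ⟨U₁, z₁, Function.update (fun j => (bcFun f).map g.op (x j)) i ((bcFun f).map g'.op c),
        fun j hj => ?_⟩
      rcases eq_or_ne j i with rfl | hne
      · rw [Function.update_self]
        exact (hgW g' z₁ c).trans (by rw [hg']; exact hc)
      · rw [Function.update_of_ne hne]
        exact (hgW g z₁ _).trans (by rw [hg]; exact hx j ((Finset.mem_insert.1 hj).resolve_left hne))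
  obtain ⟨U₀, u₀, x₀, hx₀⟩ := hstage Finset.univ
  have hpush : ∀ {U V : X.Etale} (g : V ⟶ U) (x : Fin n → (bcFun f).obj (op U)) (r : MvPolynomial (Fin n) B),
      MvPolynomial.eval₂ (β V).hom (fun i => (bcFun f).map g.op (x i)) r =
        (bcFun f).map g.op (MvPolynomial.eval₂ (β U).hom x r) := by
    intro U V g x r
    change _ = ((bcFun f).map g.op).hom (MvPolynomial.eval₂Hom (β U).hom x r)
    rw [MvPolynomial.map_eval₂Hom, ← CommRingCat.hom_comp, hβ]
    rfl
  have hrel : ∀ T : Finset (MvPolynomial (Fin n) B), T ⊆ s →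
      ∃ (U : X.Etale) (z : (Scheme.pointSmallEtale η).fiber.obj U) (x : Fin n → (bcFun f).obj (op U)),
        (∀ i, gW U z (x i) = σW (π (MvPolynomial.X i))) ∧
          ∀ r ∈ T, MvPolynomial.eval₂ (β U).hom x r = 0 := by
    intro T hT
    induction T using Finset.induction with
    | empty => exact ⟨U₀, u₀, x₀, fun i => hx₀ i (Finset.mem_univ i), by simp⟩
    | insert r T _ ih =>
      obtain ⟨U, z, x, hx, hr⟩ := ih ((Finset.subset_insert r T).trans hT)
      have e0 : gW U z (MvPolynomial.eval₂ (β U).hom x r) = gW U z 0 := by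
        change (gW U z).hom (MvPolynomial.eval₂Hom (β U).hom x r) = (gW U z).hom 0
        rw [MvPolynomial.map_eval₂Hom, map_zero]
        have h3 : (gW U z).hom.comp (β U).hom = algebraMap B W := RingHom.ext (hgerm U z)
        have h4 : (fun i => (gW U z).hom (x i)) = fun i => (σW.comp π) (MvPolynomial.X i) := funext hx
        rw [h3, h4]
        exact (congrArg (fun g => g r) (MvPolynomial.aeval_unique (σW.comp π))).symm.trans
          ((congrArg σW (show π r = 0 from hs.le (Ideal.subset_span (hT (Finset.mem_insert_self r T))))).trans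
            (map_zero σW))
      obtain ⟨U', g, z', hz', he⟩ :=
        ((Scheme.pointSmallEtale η).toPresheafFiber_eq_iff' (P := bcFun f) U z _ _).1 e0
      refine ⟨U', z', fun i => (bcFun f).map g.op (x i), fun i => ?_, fun r' hr' => ?_⟩
      · exact (hgW g z' _).trans (by rw [hz']; exact hx i)
      · rw [hpush]
        rcases Finset.mem_insert.1 hr' with rfl | hr'
        · exact he.trans (map_zero _)
        · rw [hr r' hr', map_zero]
  obtain ⟨U, z, x, -, hx⟩ := hrel s le_rfl
  let : Algebra B ((bcFun f).obj (op U)) := (β U).hom.toAlgebra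
  have hle : RingHom.ker π ≤ RingHom.ker (MvPolynomial.aeval (R := B) x) :=
    hs.ge.trans (Ideal.span_le.2 fun r hr => hx r hr)
  let α : C →ₐ[B] (bcFun f).obj (op U) :=
    (Ideal.Quotient.liftₐ _ (MvPolynomial.aeval (R := B) x) hle).comp
      (Ideal.quotientKerAlgEquivOfSurjective hπ).symm.toAlgHom
  have h0 : CommRingCat.ofHom (algebraMap B C) ≫ CommRingCat.ofHom α.toRingHom = β U :=
    CommRingCat.hom_ext (RingHom.ext α.commutes)
  have h1 : ((pullback U.hom f).toSpecΓ ≫ Spec.map (CommRingCat.ofHom α.toRingHom)) ≫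
      Spec.map (CommRingCat.ofHom (algebraMap B C)) = pullback.snd U.hom f :=
    (Category.assoc _ _ _).trans ((congrArg ((pullback U.hom f).toSpecΓ ≫ ·)
      ((Spec.map_comp _ _).symm.trans ((congrArg Spec.map h0).trans (Spec.map_comp _ _)))).trans
        ((Scheme.toSpecΓ_naturality_assoc (pullback.snd U.hom f) _).symm.trans
          ((congrArg (_ ≫ ·) (toSpecΓ_SpecMap_ΓSpecIso_inv _)).trans (Category.comp_id _))))
  have hU : Etale U.hom := U.prop
  exact ⟨U.left, U.hom, hU, ⟨ptOf z,
    (Scheme.pointSmallEtaleFiberObjToPreimage η rfl z).2.trans (geomPt_base y)⟩,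
    (pullback U.hom f).toSpecΓ ≫ Spec.map (CommRingCat.ofHom α.toRingHom), h1⟩

end Affine

section Global

set_option backward.isDefEq.respectTransparency.types false in
set_option maxHeartbeats 1000000 in
/-- An etale morphism covering a fibre of an integral morphism has a section over the preimage of
an etale neighbourhood of the point. -/
theorem exists_etale_section {X Y U : Scheme.{u}} (f : X ⟶ Y) [IsIntegralHom f] (g : U ⟶ X)
    [Etale g] (y : Y) (hy : ∀ x : X, f.base x = y → x ∈ Set.range g.base) :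
    ∃ (V : Scheme.{u}) (q : V ⟶ Y), Etale q ∧ y ∈ Set.range q.base ∧
      ∃ a : pullback q f ⟶ U, a ≫ g = pullback.snd q f := by
  classical
  obtain ⟨W, hW, hyW, -⟩ := TopologicalSpace.Opens.isBasis_iff_nbhd.mp Y.isBasis_affineOpens
    (TopologicalSpace.Opens.mem_top y)
  have hXW : IsAffineOpen (f ⁻¹ᵁ W) := hW.preimage f
  have hfib : IsCompact (f.base ⁻¹' {y}) := f.isCompact_preimage_singleton y
  choose O hO hxO hOle using fun u : ↥(g ⁻¹ᵁ (f ⁻¹ᵁ W)) =>
    TopologicalSpace.Opens.isBasis_iff_nbhd.mp U.isBasis_affineOpens u.2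
  obtain ⟨t, ht⟩ := hfib.elim_finite_subcover (fun u => g.base '' (O u : Set U))
    (fun u => g.isOpenMap _ (O u).2) fun x hx => by
      obtain ⟨u, rfl⟩ := hy x hx
      have hu : u ∈ g ⁻¹ᵁ (f ⁻¹ᵁ W) := show f.base (g.base u) ∈ W from hx ▸ hyW
      exact Set.mem_iUnion.2 ⟨⟨u, hu⟩, u, hxO ⟨u, hu⟩, rfl⟩
  have : ∀ u : t, IsAffine (Scheme.Opens.toScheme (O u.1)) := fun u => hO u.1
  let T := ∐ fun u : t => Scheme.Opens.toScheme (O u.1)
  let j : T ⟶ U := Limits.Sigma.desc fun u => (Scheme.Opens.ι (O u.1))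
  have : IsAffine T := inferInstance
  let g' : ∀ u : t, Scheme.Opens.toScheme (O u.1) ⟶ (f ⁻¹ᵁ W).toScheme := fun u =>
    IsOpenImmersion.lift (f ⁻¹ᵁ W).ι ((Scheme.Opens.ι (O u.1)) ≫ g) (by
      rintro _ ⟨p, rfl⟩
      rw [Scheme.Opens.range_ι]
      exact hOle u.1 p.2)
  have hg' : ∀ u, Etale (g' u) := fun u => by
    have : Etale (g' u ≫ (f ⁻¹ᵁ W).ι) := by
      rw [IsOpenImmersion.lift_fac]; infer_instance
    exact Etale.of_comp (g' u) (f ⁻¹ᵁ W).ι
  let γ : T ⟶ Spec Γ(X, f ⁻¹ᵁ W) := Limits.Sigma.desc g' ≫ hXW.isoSpec.hom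
  have : IsZariskiLocalAtSource (EtCoh.etaleMP.{u}) := inferInstance
  have hdesc : Etale (Limits.Sigma.desc g') :=
    IsZariskiLocalAtSource.sigmaDesc (P := EtCoh.etaleMP.{u}) hg'
  let ψ : Γ(X, f ⁻¹ᵁ W) ⟶ Γ(T, ⊤) := Spec.preimage (T.isoSpec.inv ≫ γ)
  let : Algebra Γ(Y, W) Γ(X, f ⁻¹ᵁ W) := (f.app W).hom.toAlgebra
  let : Algebra Γ(X, f ⁻¹ᵁ W) Γ(T, ⊤) := ψ.hom.toAlgebra
  have : Algebra.IsIntegral Γ(Y, W) Γ(X, f ⁻¹ᵁ W) := ⟨f.isIntegral_app W hW⟩
  have hψ : Spec.map ψ = T.isoSpec.inv ≫ γ := Spec.map_preimage _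
  have : Algebra.Etale Γ(X, f ⁻¹ᵁ W) Γ(T, ⊤) := by
    have : Etale (Spec.map ψ) := by rw [hψ]; infer_instance
    exact (HasRingHomProperty.Spec_iff (P := @Etale)).1 this
  have hγ : γ ≫ hXW.fromSpec = j ≫ g := by
    refine Sigma.hom_ext _ _ fun u => ?_
    rw [Sigma.ι_desc_assoc, Category.assoc, Sigma.ι_desc_assoc, IsAffineOpen.fromSpec,
      Iso.hom_inv_id_assoc]
    exact IsOpenImmersion.lift_fac _ _ _
  have hsq : IsPullback (Spec.map (f.app W)) hXW.fromSpec hW.fromSpec f :=
    IsOpenImmersion.isPullback _ _ _ _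
      ((IsAffineOpen.SpecMap_appLE_fromSpec f hW hXW le_rfl).symm.trans
        congr(Spec.map $((Scheme.Hom.app_eq_appLE f).symm) ≫ hW.fromSpec))
      (by rw [hW.opensRange_fromSpec, hXW.opensRange_fromSpec])
  obtain ⟨V, q, hq, ⟨v, hv⟩, a, ha⟩ := exists_etale_section_affine (A := Γ(Y, W))
    (B := Γ(X, f ⁻¹ᵁ W)) (C := Γ(T, ⊤)) (hW.primeIdealOf ⟨y, hyW⟩) fun x' hx' => by
      have hx : f.base (hXW.fromSpec.base x') = y := by
        refine ((Scheme.Hom.comp_apply _ _ _).symm.trans ((congrArg (fun k => k.base x') hsq.w.symm).trans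
          ((Scheme.Hom.comp_apply _ _ _).trans ?_)))
        exact (congrArg hW.fromSpec.base hx').trans (hW.fromSpec_primeIdealOf ⟨y, hyW⟩)
      obtain ⟨u, hu⟩ := Set.mem_iUnion.1 (ht hx)
      obtain ⟨hut, p, hp, hpx⟩ := Set.mem_iUnion.1 hu
      refine ⟨T.isoSpec.hom.base ((Limits.Sigma.ι _ ⟨u, hut⟩ : _ ⟶ T).base ⟨p, hp⟩),
        hXW.fromSpec.injective (Eq.trans ?_ hpx)⟩
      change hXW.fromSpec.base ((Spec.map ψ).base _) = _
      have h2 : Limits.Sigma.ι (fun u : t => Scheme.Opens.toScheme (O u.1)) ⟨u, hut⟩ ≫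
          T.isoSpec.hom ≫ Spec.map ψ ≫ hXW.fromSpec = (Scheme.Opens.ι (O u)) ≫ g := by
        rw [hψ, Category.assoc, Iso.hom_inv_id_assoc, hγ, ← Category.assoc, Sigma.ι_desc]
      exact congrArg (fun k => k.base (⟨p, hp⟩ : Scheme.Opens.toScheme (O u))) h2
  let fW : Spec Γ(X, f ⁻¹ᵁ W) ⟶ Spec Γ(Y, W) := Spec.map (f.app W)
  have hpb : IsPullback (pullback.fst q fW) (pullback.snd q fW ≫ hXW.fromSpec)
      (q ≫ hW.fromSpec) f := (IsPullback.of_hasPullback q fW).paste_vert hsq
  refine ⟨V, q ≫ hW.fromSpec, inferInstance, ⟨v, ?_⟩, hpb.isoPullback.inv ≫ a ≫ T.isoSpec.inv ≫ j, ?_⟩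
  · exact (Scheme.Hom.comp_apply _ _ _).trans
      ((congrArg hW.fromSpec.base hv).trans (hW.fromSpec_primeIdealOf ⟨y, hyW⟩))
  · have h3 : (T.isoSpec.inv ≫ j) ≫ g = Spec.map ψ ≫ hXW.fromSpec := by
      rw [hψ, Category.assoc, Category.assoc, hγ]
    rw [Category.assoc, Category.assoc, h3, ← Category.assoc a]
    exact (congrArg (fun k => hpb.isoPullback.inv ≫ k ≫ hXW.fromSpec) ha).trans
      hpb.isoPullback_inv_snd

end Global

end Groth.Agent.H18Et
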