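import Mathlib.AlgebraicGeometry.Sites.Etale
import Mathlib.AlgebraicGeometry.Limits
import Mathlib.AlgebraicGeometry.Morphisms.Etale
import Mathlib.AlgebraicGeometry.Morphisms.UniversallyOpen
import Mathlib.CategoryTheory.Sites.Canonical

/-!
# Sheaves on the small étale site: Zariski sheaves with descent along affine surjections
-/

set_option autoImplicit false

universe w u

open CategoryTheory CategoryTheory.Limits AlgebraicGeometry Opposite

namespace Groth.Agent.H18Et.AffineCriterion

set_option backward.isDefEq.respectTransparency false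

variable {X : Scheme.{u}}

theorem openImmersion_le_etale : (@IsOpenImmersion : MorphismProperty Scheme.{u}) ≤ @Etale :=
  fun _ _ _ _ => inferInstance

theorem mem_etale_iff {U : X.Etale} {R : Sieve U} :
    R ∈ X.smallEtaleTopology U ↔
      ∀ x : U.left, ∃ (Y : X.Etale) (f : Y ⟶ U) (y : Y.left), R f ∧ Etale f.left ∧ f.left y = x := by
  rw [show X.smallEtaleTopology = (X.smallPretopology (P := @Etale) (Q := @Etale)).toGrothendieck from
    Scheme.smallGrothendieckTopology_eq_toGrothendieck_smallPretopology X le_rfl]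
  exact Scheme.mem_toGrothendieck_smallPretopology _ _

theorem mem_zariski_iff {U : X.Etale} {R : Sieve U} :
    R ∈ X.smallGrothendieckTopology (P := @IsOpenImmersion) U ↔
      ∀ x : U.left, ∃ (Y : X.Etale) (f : Y ⟶ U) (y : Y.left),
        R f ∧ IsOpenImmersion f.left ∧ f.left y = x := by
  rw [Scheme.smallGrothendieckTopology_eq_toGrothendieck_smallPretopology X openImmersion_le_etale]
  exact Scheme.mem_toGrothendieck_smallPretopology _ _

theorem etale_of_hom {U V : X.Etale} (f : V ⟶ U) : Etale f.left :=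
  haveI : Etale U.hom := U.prop
  haveI : Etale (f.left ≫ U.hom) := by rw [MorphismProperty.Over.w f]; exact V.prop
  Etale.of_comp f.left U.hom

/-- An open subscheme of an object of the small étale site. -/
noncomputable abbrev openObj (U : X.Etale) (W : U.left.Opens) : X.Etale :=
  MorphismProperty.Over.mk ⊤ (W.ι ≫ U.hom)
    (haveI : Etale U.hom := U.prop; inferInstanceAs (Etale (W.ι ≫ U.hom)))

/-- Its inclusion. -/
noncomputable abbrev openHom (U : X.Etale) (W : U.left.Opens) : openObj U W ⟶ U :=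
  MorphismProperty.Over.homMk W.ι rfl trivial

variable {F : X.Etaleᵒᵖ ⥤ Type w}
  (hz : Presieve.IsSheaf (X.smallGrothendieckTopology (P := @IsOpenImmersion)) F)
  (hs : ∀ (U V : X.Etale) [IsAffine U.left] [IsAffine V.left] (f : V ⟶ U) [Surjective f.left],
    Presieve.IsSheafFor F (Presieve.singleton f))

include hz hs in
theorem exists_sub_sheafFor (U : X.Etale) [IsAffine U.left] {R : Sieve U}
    (hR : R ∈ X.smallEtaleTopology U) :
    ∃ S ≤ R, S ∈ X.smallEtaleTopology U ∧ Presieve.IsSheafFor F S.arrows := by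
  classical
  choose Y g y hRg hg hy using mem_etale_iff.1 hR
  choose W hW hyW hle using fun x => exists_isAffineOpen_mem_and_subset (x := y x) (U := ⊤) trivial
  let k : ∀ x, openObj (Y x) (W x) ⟶ U := fun x => openHom (Y x) (W x) ≫ g x
  have hopen : ∀ x, IsOpen (Set.range (k x).left) := fun x =>
    haveI := etale_of_hom (k x)
    (k x).left.isOpenMap.isOpen_range
  have hmem : ∀ x, x ∈ Set.range (k x).left := fun x => ⟨⟨y x, hyW x⟩, hy x⟩
  obtain ⟨t, ht⟩ := isCompact_univ.elim_finite_subcover _ hopen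
    fun x _ => Set.mem_iUnion.2 ⟨x, hmem x⟩
  let A : t → Scheme.{u} := fun i => (openObj (Y i) (W i)).left
  haveI : ∀ i, IsAffine (A i) := fun i => hW i
  have hsig : Etale (Sigma.desc fun i : t => (openObj (Y i) (W i)).hom) :=
    IsZariskiLocalAtSource.sigmaDesc (P := @Etale) fun i => (openObj (Y i) (W i)).prop
  let V : X.Etale := MorphismProperty.Over.mk ⊤ (Sigma.desc fun i : t => (openObj (Y i) (W i)).hom) hsig
  haveI : IsAffine V.left := inferInstanceAs (IsAffine (∐ A))
  let f : V ⟶ U := MorphismProperty.Over.homMk (Sigma.desc fun i : t => (k i).left)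
    (Sigma.hom_ext _ _ fun i => by
      show Sigma.ι A i ≫ _ ≫ U.hom = Sigma.ι A i ≫ _
      rw [Sigma.ι_desc_assoc, MorphismProperty.Over.w (k i)]
      exact (Sigma.ι_desc (fun i : t => (openObj (Y i) (W i)).hom) i).symm) trivial
  let ι : ∀ i : t, openObj (Y i) (W i) ⟶ V :=
    fun i => MorphismProperty.Over.homMk (Sigma.ι A i) (Sigma.ι_desc _ _) trivial
  have hι : ∀ i, ι i ≫ f = k i := fun i =>
    MorphismProperty.Over.Hom.ext (Sigma.ι_desc (fun i : t => (k i).left) i)
  haveI : Surjective f.left := ⟨fun x => by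
    obtain ⟨i, hi⟩ := Set.mem_iUnion.1 (ht (Set.mem_univ x))
    obtain ⟨hi', z, hz⟩ := Set.mem_iUnion.1 hi
    refine ⟨(Sigma.ι A ⟨i, hi'⟩) z, ?_⟩
    rw [← hz]
    exact congrArg (fun m : A ⟨i, hi'⟩ ⟶ U.left => m z)
      (congrArg (fun m : openObj (Y i) (W i) ⟶ U => m.left) (hι ⟨i, hi'⟩))⟩
  let S : Sieve U := Sieve.generate (Presieve.ofArrows (fun i : t => openObj (Y i) (W i)) fun i => k i)
  refine ⟨S, ?_, ?_, ?_⟩
  · rw [Sieve.generate_le_iff]
    rintro _ _ ⟨i⟩
    exact R.downward_closed (hRg i) _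
  · refine mem_etale_iff.2 fun x => ?_
    obtain ⟨i, hi⟩ := Set.mem_iUnion.1 (ht (Set.mem_univ x))
    obtain ⟨hi', z, hz⟩ := Set.mem_iUnion.1 hi
    exact ⟨_, k i, z, Sieve.le_generate _ _ _ (Presieve.ofArrows.mk (⟨i, hi'⟩ : t)), etale_of_hom _, hz⟩
  · refine Presieve.isSheafFor_trans F (Sieve.generate (Presieve.singleton f)) S
      ((Presieve.isSheafFor_iff_generate _).1 (hs U V f)) (fun Z h hh => ?_) (fun Z h hh => ?_)
    · obtain ⟨_, a, _, ⟨i⟩, rfl⟩ := hh
      rw [Sieve.pullback_eq_top_of_mem _ ?_]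
      · exact Presieve.isSeparatedFor_top _
      · rw [← hι i, ← Category.assoc]
        exact ⟨_, a ≫ ι i, f, Presieve.singleton.mk, rfl⟩
    · obtain ⟨_, a, _, ⟨⟩, rfl⟩ := hh
      rw [Sieve.pullback_comp]
      refine hz _ (GrothendieckTopology.pullback_stable _ a (mem_zariski_iff.2 fun x => ?_))
      obtain ⟨⟨i, z⟩, hz⟩ := (sigmaMk A).surjective x
      rw [sigmaMk_mk] at hz
      refine ⟨_, ι i, z, ?_, inferInstanceAs (IsOpenImmersion (Sigma.ι A i)), hz⟩
      show S (ι i ≫ f)
      rw [hι i]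
      exact Sieve.le_generate _ _ _ (Presieve.ofArrows.mk i)

theorem cover_affine_mem (U : X.Etale) :
    Sieve.generate (Presieve.ofArrows (fun W : U.left.affineOpens => openObj U W.1)
      fun W => openHom U W.1) ∈ X.smallGrothendieckTopology (P := @IsOpenImmersion) U := by
  refine mem_zariski_iff.2 fun x => ?_
  obtain ⟨W, hW, hx, -⟩ := exists_isAffineOpen_mem_and_subset (x := x) (U := ⊤) trivial
  exact ⟨_, openHom U W, ⟨x, hx⟩, Sieve.le_generate _ _ _ (Presieve.ofArrows.mk (⟨W, hW⟩ : U.left.affineOpens)),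
    inferInstanceAs (IsOpenImmersion W.ι), rfl⟩

include hz hs in
theorem isSeparatedFor (U : X.Etale) {R : Sieve U} (hR : R ∈ X.smallEtaleTopology U) :
    Presieve.IsSeparatedFor F R.arrows := by
  intro x a b ha hb
  refine (hz _ (cover_affine_mem U)).isSeparatedFor.ext fun Z q hq => ?_
  obtain ⟨_, c, _, ⟨W⟩, rfl⟩ := hq
  rw [op_comp, F.map_comp]
  refine congrArg (F.map c.op) ?_
  haveI : IsAffine (openObj U W.1).left := W.2
  obtain ⟨S, hle, -, hS⟩ := exists_sub_sheafFor hz hs (openObj U W.1)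
    (GrothendieckTopology.pullback_stable _ (openHom U W.1) hR)
  refine hS.isSeparatedFor.ext fun T m hm => ?_
  have h1 := ha _ (hle _ hm)
  have h2 := hb _ (hle _ hm)
  rw [op_comp, F.map_comp] at h1 h2
  exact h1.trans h2.symm

include hz hs in
theorem isSheafFor_affine (U : X.Etale) [IsAffine U.left] {R : Sieve U}
    (hR : R ∈ X.smallEtaleTopology U) : Presieve.IsSheafFor F R.arrows := by
  rw [← Presieve.isSeparatedFor_and_exists_isAmalgamation_iff_isSheafFor]
  refine ⟨isSeparatedFor hz hs U hR, fun x hx => ?_⟩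
  obtain ⟨S, hle, hSJ, hS⟩ := exists_sub_sheafFor hz hs U hR
  let x' := x.restrict hle
  have hx' : x'.Compatible := hx.restrict hle
  refine ⟨hS.amalgamate x' hx', fun Z g hg => ?_⟩
  refine (isSeparatedFor hz hs Z (GrothendieckTopology.pullback_stable _ g hSJ)).ext fun T m hm => ?_
  have h1 := hS.valid_glue hx' (m ≫ g) hm
  rw [op_comp, F.map_comp] at h1
  refine h1.trans ?_
  exact (Presieve.compatible_iff_sieveCompatible x).1 hx g m hg

include hz hs in
theorem isSheaf : Presieve.IsSheaf X.smallEtaleTopology F := by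
  intro U R hR
  rw [← Presieve.isSeparatedFor_and_exists_isAmalgamation_iff_isSheafFor]
  refine ⟨isSeparatedFor hz hs U hR, fun x hx => ?_⟩
  have hxs := (Presieve.compatible_iff_sieveCompatible x).1 hx
  let fam : ∀ W : U.left.affineOpens, Presieve.FamilyOfElements F (R.pullback (openHom U W.1)).arrows :=
    fun W Z m hm => x (m ≫ openHom U W.1) hm
  have hfam : ∀ W, (fam W).Compatible := fun W =>
    (Presieve.compatible_iff_sieveCompatible _).2 fun Y Z m n hm => by
      refine Eq.trans ?_ (hxs (m ≫ openHom U W.1) n hm)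
      show x ((n ≫ m) ≫ openHom U W.1) _ = x (n ≫ m ≫ openHom U W.1) _
      congr 1
  have hW : ∀ W : U.left.affineOpens, Presieve.IsSheafFor F (R.pullback (openHom U W.1)).arrows := fun W =>
    haveI : IsAffine (openObj U W.1).left := W.2
    isSheafFor_affine hz hs (openObj U W.1) (GrothendieckTopology.pullback_stable _ (openHom U W.1) hR)
  let s : ∀ W : U.left.affineOpens, F.obj (op (openObj U W.1)) := fun W =>
    (hW W).amalgamate (fam W) (hfam W)
  have hs' : ∀ (W : U.left.affineOpens) {T : X.Etale} (m : T ⟶ openObj U W.1) (hm : R (m ≫ openHom U W.1)),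
      F.map m.op (s W) = x (m ≫ openHom U W.1) hm := fun W T m hm => (hW W).valid_glue (hfam W) m hm
  have hcompat : Presieve.Arrows.Compatible F (fun W : U.left.affineOpens => openHom U W.1) s := by
    intro i j Z gi gj hg
    refine (isSeparatedFor hz hs Z
      (GrothendieckTopology.pullback_stable _ (gi ≫ openHom U i.1) hR)).ext fun T m hm => ?_
    have hm' : R ((m ≫ gi) ≫ openHom U i.1) := by rwa [Category.assoc]
    have hm'' : R ((m ≫ gj) ≫ openHom U j.1) := by rw [Category.assoc, ← hg]; exact hm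
    have h1 := hs' i (m ≫ gi) hm'
    have h2 := hs' j (m ≫ gj) hm''
    rw [op_comp, F.map_comp] at h1 h2
    refine h1.trans (Eq.trans ?_ h2.symm)
    congr 1
    rw [Category.assoc, Category.assoc, hg]
  obtain ⟨t, ht, -⟩ := (Presieve.isSheafFor_arrows_iff _ _).1
    ((Presieve.isSheafFor_iff_generate _).2 (hz _ (cover_affine_mem U))) s hcompat
  refine ⟨t, fun Z g hg => ?_⟩
  refine (hz _ (GrothendieckTopology.pullback_stable _ g (cover_affine_mem U))).isSeparatedFor.ext
    fun T m hm => ?_
  obtain ⟨_, c, _, ⟨W⟩, e⟩ := hm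
  have h1 : F.map m.op (F.map g.op t) = F.map c.op (s W) := by
    rw [← ht W]
    show (F.map g.op ≫ F.map m.op) t = (F.map (openHom U W.1).op ≫ F.map c.op) t
    rw [← F.map_comp, ← F.map_comp, ← op_comp, ← op_comp, e]
  have hm' : R (c ≫ openHom U W.1) := by rw [e]; exact R.downward_closed hg m
  rw [h1, hs' W c hm']
  refine Eq.trans ?_ (hxs g m hg)
  congr 1

end Groth.Agent.H18Et.AffineCriterion
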