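import Groth.Agent.H28Top.Spectral
import Groth.Agent.H28Top.Components

/-!
# Spectral spaces all of whose points are closed, and retractions onto closed points
-/

open Set Topology

namespace Groth.Agent.H18Et

universe u

variable {X : Type u} [TopologicalSpace X] [SpectralSpace X]

theorem totallySeparated_of_t1 [T1Space X] : TotallySeparatedSpace X := by
  refine totallySeparatedSpace_iff_exists_isClopen.2 fun x y hxy => ?_
  obtain ⟨U, ⟨hUo, hUc⟩, hxU, hU⟩ := PrespectralSpace.isTopologicalBasis.exists_subset_of_mem_open
    (show x ∈ ({y}ᶜ : Set X) from hxy) isClosed_singleton.isOpen_compl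
  have hcl : IsClosed U := H28Top.isClosed_of_isClosed_constr
    (H28Top.isClosed_constr_of_compactOpen hUo hUc)
    fun a b hab ha => hab.eq ▸ ha
  exact ⟨U, ⟨hcl, hUo⟩, hxU, fun hy => hU hy rfl⟩

theorem exists_closedPoint (x : X) : ∃ z, IsClosed ({z} : Set X) ∧ x ⤳ z := by
  obtain ⟨z, hz, hzc⟩ := (isClosed_closure (s := ({x} : Set X))).exists_closed_singleton
    ⟨x, subset_closure rfl⟩
  exact ⟨z, hzc, specializes_iff_mem_closure.2 hz⟩

theorem mem_connectedComponent_of_specializes {x z : X} (h : x ⤳ z) :
    z ∈ connectedComponent x :=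
  isPreconnected_singleton.closure.subset_connectedComponent (subset_closure rfl)
    (specializes_iff_mem_closure.1 h)

theorem surjective_closedPoints_mk : Function.Surjective
    (fun x : {x : X // IsClosed ({x} : Set X)} => ConnectedComponents.mk x.1) := by
  intro c
  obtain ⟨x, rfl⟩ := ConnectedComponents.surjective_coe c
  obtain ⟨z, hz, hxz⟩ := exists_closedPoint x
  exact ⟨⟨z, hz⟩, (ConnectedComponents.coe_eq_coe'.2 (mem_connectedComponent_of_specializes hxz))⟩

end Groth.Agent.H18Et
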