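import Groth.Agent.H18Et.PropAB
import Groth.Agent.H18Et.PushClosed

/-!
# Consequences of conditions (A) and (C) for direct images
-/

universe u

open CategoryTheory CategoryTheory.Limits AlgebraicGeometry Opposite

namespace Groth.Agent.H18Et

variable {X Y : Scheme.{u}}

section Glue

variable {A : Type*} [Category.{u + 1} A] [HasColimitsOfSize.{u, u} A]
  {FA : A → A → Type*} {CA : A → Type (u + 1)} [∀ P Q, FunLike (FA P Q) (CA P) (CA Q)]
  [ConcreteCategory.{u + 1} A FA] [PreservesFilteredColimitsOfSize.{u, u} (CategoryTheory.forget A)]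
  [X.smallEtaleTopology.HasSheafCompose (CategoryTheory.forget A)]

/-- Sections on pairwise disjoint pieces of a covering glue. -/
theorem exists_glue_disjoint (F : Sheaf X.smallEtaleTopology A) {T : X.Etale} {μ : Type u}
    (P : μ → X.Etale) (π : ∀ a, P a ⟶ T) [∀ a, Mono (π a).left]
    (hdisj : ∀ a b, a ≠ b → ∀ (p : (P a).left) (q : (P b).left), (π a).left.base p ≠ (π b).left.base q)
    (hcov : ∀ x : T.left, ∃ (a : μ) (p : (P a).left), (π a).left.base p = x)
    (s : ∀ a, ToType (F.obj.obj (op (P a)))) :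
    ∃ t : ToType (F.obj.obj (op T)), ∀ a, F.obj.map (π a).op t = s a := by
  have hgen : Sieve.generate (Presieve.ofArrows P π) ∈ X.smallEtaleTopology T := by
    refine mem_topology_of_forall_point _ fun x => ?_
    obtain ⟨a, p, hp⟩ := hcov x
    exact ⟨P a, π a, p, ⟨P a, 𝟙 _, π a, Presieve.ofArrows.mk a, Category.id_comp _⟩, hp⟩
  have hsheaf : Presieve.IsSheafFor (F.obj ⋙ CategoryTheory.forget A) (Presieve.ofArrows P π) := by
    rw [Presieve.isSheafFor_iff_generate]
    exact ((isSheaf_iff_isSheaf_of_type _ _).1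
      ((sheafCompose _ (CategoryTheory.forget A)).obj F).property) _ hgen
  have hcomp : Presieve.Arrows.Compatible (F.obj ⋙ CategoryTheory.forget A) π s := by
    intro a a' Z ga ga' hZ
    by_cases haa : a = a'
    · subst haa
      have : ga = ga' := by
        apply (Scheme.Etale.forget _).map_injective
        apply Over.OverMorphism.ext
        exact (cancel_mono (π a).left).1 (congrArg (fun e => e.left) hZ)
      rw [this]
    · refine sect_ext' (F := F) (U := Z) _ _ fun x =>
        ⟨_, _, SeparableClosure.isSepClosed _, geomPt x, geomPt_base x, fun z => ?_⟩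
      exact absurd (congrArg (fun e => e.left.base (ptOf z)) hZ) (hdisj a a' haa _ _)
  obtain ⟨t, ht, -⟩ := (Presieve.isSheafFor_arrows_iff _ _).1 hsheaf s hcomp
  exact ⟨t, ht⟩

end Glue

open scoped Groth.Agent.H18Et

theorem exists_bc_point (f : X ⟶ Y) {V V' : Y.Etale} (g : V' ⟶ V) (p : ((EtCoh.bc f).obj V).left)
    (v' : V'.left) (hv : g.left.base v' = (pullback.fst V.hom f).base p) :
    ∃ p' : ((EtCoh.bc f).obj V').left, ((EtCoh.bc f).map g).left.base p' = p := by
  have sq := EtCoh.isPullback_bc_map f g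
  obtain ⟨z, hz1, -⟩ := Scheme.Pullback.exists_preimage_pullback
    (f := (pullback.fst V.hom f : ((EtCoh.bc f).obj V).left ⟶ V.left)) (g := g.left) p v' hv.symm
  refine ⟨sq.isoPullback.inv.base z, ?_⟩
  exact (Scheme.Hom.comp_apply _ _ _).symm.trans
    ((congrArg (fun k => k.base z) sq.isoPullback_inv_fst).trans hz1)

theorem pushSh_reflects_of_propC (f : X ⟶ Y) (hC : BigSite.PropC f) :
    (EtDesc.pushSh f).ReflectsMonomorphisms ∧ (EtDesc.pushSh f).ReflectsEpimorphisms := by
  have hcover : ∀ U : X.Etale, ∃ (V : Y.Etale) (h : (EtCoh.bc f).obj V ⟶ U),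
      ∀ u : U.left, ∃ p, h.left.base p = u := by
    intro U
    have : Etale U.hom := U.prop
    obtain ⟨V, v, hv, h, hh, hs⟩ := hC U.left U.hom
    let V₀ : Y.Etale := MorphismProperty.Over.mk ⊤ v hv
    refine ⟨V₀, MorphismProperty.Over.homMk ((pullbackSymmetry v f).hom ≫ h)
      ((Category.assoc _ _ _).trans ((congrArg (_ ≫ ·) hh).trans
        (pullbackSymmetry_hom_comp_fst v f))) trivial, fun u => ?_⟩
    obtain ⟨p, hp⟩ := h.surjective u
    refine ⟨(pullbackSymmetry v f).inv.base p, ?_⟩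
    exact (Scheme.Hom.comp_apply _ _ _).symm.trans
      ((congrArg (fun k : pullback f v ⟶ U.left => k.base p)
        (Iso.inv_hom_id_assoc (pullbackSymmetry v f) h)).trans hp)
  constructor
  · refine ⟨fun {F G} φ hφ => Sheaf.mono_of_injective φ fun U s t hst => ?_⟩
    obtain ⟨V, h, hh⟩ := hcover U.unop
    have hgen : Sieve.generate (Presieve.singleton h) ∈ X.smallEtaleTopology U.unop :=
      mem_topology_of_forall_point _ fun u => by
        obtain ⟨p, hp⟩ := hh u
        exact ⟨_, h, p, ⟨_, 𝟙 _, h, Presieve.singleton_self h, Category.id_comp _⟩, hp⟩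
    refine (((isSheaf_iff_isSheaf_of_type _ _).1 F.property) _ hgen).isSeparatedFor.ext ?_
    rintro W k ⟨_, l, _, hl, rfl⟩
    cases hl
    change F.obj.map (l ≫ h).op s = F.obj.map (l ≫ h).op t
    rw [op_comp, Functor.map_comp, CategoryTheory.comp_apply, CategoryTheory.comp_apply]
    refine congrArg _ ?_
    have hinj : Function.Injective (((EtDesc.pushSh f).map φ).hom.app (op V)) :=
      (CategoryTheory.mono_iff_injective _).1
        (inferInstanceAs (Mono ((sheafToPresheaf _ _ ⋙ (evaluation _ _).obj (op V)).map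
          ((EtDesc.pushSh f).map φ))))
    apply hinj
    refine (NatTrans.naturality_apply φ.hom h.op s).trans (Eq.trans ?_
      (NatTrans.naturality_apply φ.hom h.op t).symm)
    exact congrArg _ hst
  · refine ⟨fun {F G} φ hφ => ?_⟩
    have : CategoryTheory.Sheaf.IsLocallySurjective ((EtDesc.pushSh f).map φ) :=
      (CategoryTheory.Sheaf.isLocallySurjective_iff_epi _).2 hφ
    suffices CategoryTheory.Sheaf.IsLocallySurjective φ from Sheaf.epi_of_isLocallySurjective φ
    refine ⟨fun {U} t => mem_topology_of_forall_point _ fun u => ?_⟩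
    obtain ⟨V, h, hh⟩ := hcover U
    obtain ⟨p, rfl⟩ := hh u
    have hsieve := Presheaf.imageSieve_mem Y.smallEtaleTopology ((EtDesc.pushSh f).map φ).hom
      (U := op V) (G.obj.map h.op t)
    obtain ⟨V', g, v', ⟨s, hs⟩, hv'⟩ := exists_of_mem_topology hsieve ((pullback.fst V.hom f).base p)
    obtain ⟨p', hp'⟩ := exists_bc_point f g p v' hv'
    refine ⟨(EtCoh.bc f).obj V', (EtCoh.bc f).map g ≫ h, p', ⟨s, ?_⟩,
      (Scheme.Hom.comp_apply _ _ _).trans (congrArg h.left.base hp')⟩
    rw [op_comp, Functor.map_comp, CategoryTheory.comp_apply]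
    exact hs

set_option backward.isDefEq.respectTransparency.types false in
theorem epi_counit_of_propA (f : X ⟶ Y) (hA : BigSite.PropA f) (F : EtCoh.Ab X) :
    Epi ((EtCoh.pullPushAdj f).counit.app F) := by
  refine epi_of_stalk _ fun x => ?_
  have : IsSepClosed (SeparableClosure (X.residueField x)) := SeparableClosure.isSepClosed _
  refine ⟨_, _, this, geomPt x, geomPt_base x, fun p => ?_⟩
  let ζ := geomPt x
  obtain ⟨U, z, s, rfl⟩ := germ_surjective ζ F p
  have : Etale U.hom := U.prop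
  obtain ⟨V, v, hv, W, hW, h, hh, w, hw⟩ := hA U.left U.hom (ptOf z)
  let V₀ : Y.Etale := MorphismProperty.Over.mk ⊤ v hv
  let T : X.Etale := (EtCoh.bc f).obj V₀
  let τ := pullbackSymmetry f v
  let W' : (pullback f v).Opens := ⟨(W : Set _)ᶜ, hW.isOpen_compl⟩
  have hT : Etale T.hom := T.prop
  let O : ULift.{u} Bool → (pullback f v).Opens := fun b => if b.down then W else W'
  let P : ULift.{u} Bool → X.Etale := fun b => MorphismProperty.Over.mk ⊤ (((O b).ι ≫ τ.hom) ≫ T.hom)
    (MorphismProperty.comp_mem _ _ _ (inferInstance : Etale ((O b).ι ≫ τ.hom)) hT)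
  let π : ∀ b, P b ⟶ T := fun b => MorphismProperty.Over.homMk ((O b).ι ≫ τ.hom) rfl trivial
  have hτT : τ.hom ≫ T.hom = pullback.fst f v := pullbackSymmetry_hom_comp_snd f v
  let β : P ⟨true⟩ ⟶ U := MorphismProperty.Over.homMk h
    (hh.trans ((congrArg (W.ι ≫ ·) hτT.symm).trans (Category.assoc _ _ _).symm)) trivial
  let σ : ∀ b, ToType (F.obj.obj (op (P b))) := fun b => match b with
    | ⟨true⟩ => F.obj.map β.op s
    | ⟨false⟩ => 0
  have : ∀ b, Mono (π b).left := fun b => inferInstanceAs (Mono ((O b).ι ≫ τ.hom))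
  obtain ⟨t, ht⟩ := exists_glue_disjoint F P π
    (fun a b hab p q hpq => by
      have h2 : (O a).ι.base p = (O b).ι.base q := τ.hom.isOpenEmbedding.injective hpq
      rcases a with ⟨_ | _⟩ <;> rcases b with ⟨_ | _⟩
      · exact hab rfl
      · exact p.2 (show (O ⟨false⟩).ι.base p ∈ W from h2 ▸ q.2)
      · exact q.2 (show (O ⟨false⟩).ι.base q ∈ W from h2 ▸ p.2)
      · exact hab rfl)
    (fun x => by
      by_cases hx : τ.inv.base x ∈ W
      · exact ⟨⟨true⟩, ⟨τ.inv.base x, hx⟩, (Scheme.Hom.comp_apply τ.inv τ.hom x).symm.trans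
          (congrArg (fun e : T.left ⟶ T.left => e.base x) τ.inv_hom_id)⟩
      · exact ⟨⟨false⟩, ⟨τ.inv.base x, hx⟩, (Scheme.Hom.comp_apply τ.inv τ.hom x).symm.trans
          (congrArg (fun e : T.left ⟶ T.left => e.base x) τ.inv_hom_id)⟩) σ
  obtain ⟨y, hy⟩ := exists_fiber_lift β z w hw
  let x' : (Scheme.pointSmallEtale ζ).fiber.obj T := (Scheme.pointSmallEtale ζ).fiber.map (π ⟨true⟩) y
  refine ⟨(((Scheme.pointSmallEtale ζ).sheafFiberComapIso (EtCoh.bc f) (EtCoh.coverPreserving_bc f)
      AddCommGrpCat.{u + 1}).hom.app ((EtCoh.push f).obj F))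
    (((Scheme.pointSmallEtale ζ).comap (EtCoh.bc f) (EtCoh.coverPreserving_bc f)).toPresheafFiber
      V₀ x' ((EtCoh.push f).obj F).obj t), ?_⟩
  refine (ConcreteCategory.congr_hom (sheafFiberComapIso_hom_counit (Scheme.pointSmallEtale ζ)
    (EtCoh.bc f) (EtCoh.coverPreserving_bc f) AddCommGrpCat.{u + 1} F) _).trans ?_
  refine (ConcreteCategory.congr_hom (toPresheafFiber_pushFiberApp (Scheme.pointSmallEtale ζ)
    (EtCoh.bc f) (EtCoh.coverPreserving_bc f) AddCommGrpCat.{u + 1} F V₀ x') t).trans ?_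
  have e1 := (Scheme.pointSmallEtale ζ).toPresheafFiber_w_apply (π ⟨true⟩) y F.obj t
  have e2 := (Scheme.pointSmallEtale ζ).toPresheafFiber_w_apply β y F.obj s
  rw [ht] at e1
  rw [hy] at e2
  exact e1.symm.trans e2

theorem push_faithful_of_propA (f : X ⟶ Y) (hA : BigSite.PropA f) : (EtCoh.push f).Faithful := by
  have := fun F => epi_counit_of_propA f hA F
  exact (EtCoh.pullPushAdj f).faithful_R_of_epi_counit_app

end Groth.Agent.H18Et
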