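import Groth.Agent.H18Et.PropACConseq
import Groth.Agent.H18Et.StalkSets
import Groth.Prelude.Def_EtCore
import Mathlib.AlgebraicGeometry.Limits
import Mathlib.AlgebraicGeometry.Morphisms.Etale

/-!
# The sheaf condition for a Galois covering; coproducts in the etale site
-/

set_option autoImplicit false

universe w u

open CategoryTheory CategoryTheory.Limits AlgebraicGeometry Opposite

namespace Groth.Agent.H18Et.GaloisSheaf

set_option backward.isDefEq.respectTransparency false
set_option backward.isDefEq.respectTransparency.types false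

variable {X : Scheme.{u}}

theorem isColimit_cofan_spec {μ : Type u} {Z : μ → X.Etale} {c : Cofan Z} (hc : IsColimit c) :
    (∀ i, IsOpenImmersion (c.inj i).left) ∧
      (∀ i j, i ≠ j → ∀ (p : (Z i).left) (q : (Z j).left), (c.inj i).left p ≠ (c.inj j).left q) ∧
      (∀ x : c.pt.left, ∃ (i : μ) (p : (Z i).left), (c.inj i).left p = x) := by
  haveI : ∀ i, Etale (Z i).hom := fun i => (Z i).prop
  haveI : Etale (Sigma.desc fun i => (Z i).hom) := IsZariskiLocalAtSource.sigmaDesc fun i => (Z i).prop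
  let W : X.Etale := Scheme.Etale.mk (Sigma.desc fun i => (Z i).hom)
  let inj : ∀ i, Z i ⟶ W := fun i =>
    MorphismProperty.Over.homMk (Sigma.ι (fun i => (Z i).left) i) (Sigma.ι_desc (fun i => (Z i).hom) i)
  have hW : IsColimit (Cofan.mk W inj) := by
    refine mkCofanColimit _ (fun t => MorphismProperty.Over.homMk (Sigma.desc fun i => (t.inj i).left) ?_)
      (fun t i => MorphismProperty.Over.Hom.ext (Sigma.ι_desc (fun i => (t.inj i).left) i)) fun t m hm => ?_
    · refine Limits.Sigma.hom_ext _ _ fun i => ?_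
      exact (Category.assoc _ _ _).symm.trans ((congrArg (· ≫ t.pt.hom) (Sigma.ι_desc _ i)).trans
        ((Over.w (t.inj i).hom).trans (Sigma.ι_desc (fun i => (Z i).hom) i).symm))
    · refine MorphismProperty.Over.Hom.ext (Limits.Sigma.hom_ext _ _ fun i => ?_)
      exact (congrArg (fun k => k.left) (hm i)).trans (Sigma.ι_desc (fun i => (t.inj i).left) i).symm
  let e : W ≅ c.pt := hW.coconePointUniqueUpToIso hc
  have he : ∀ i, (c.inj i).left = Sigma.ι (fun i => (Z i).left) i ≫ e.hom.left := fun i =>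
    (congrArg (fun k => k.left) (hW.comp_coconePointUniqueUpToIso_hom hc ⟨i⟩)).symm
  haveI : IsIso e.hom.left := ⟨e.inv.left, congrArg (fun k => k.left) e.hom_inv_id, congrArg (fun k => k.left) e.inv_hom_id⟩
  refine ⟨fun i => by rw [he]; infer_instance, fun i j hij p q h => ?_, fun x => ?_⟩
  · rw [he, he, Scheme.Hom.comp_apply, Scheme.Hom.comp_apply] at h
    have h' := e.hom.left.isOpenEmbedding.injective h
    exact Set.disjoint_left.1 (TopologicalSpace.Opens.coe_disjoint.2
      (disjoint_opensRange_sigmaι (fun i => (Z i).left) i j hij)) ⟨p, rfl⟩ ⟨q, h'.symm⟩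
  · obtain ⟨y, rfl⟩ := e.hom.left.homeomorph.surjective x
    obtain ⟨i, p, rfl⟩ := (sigmaOpenCover fun i => (Z i).left).exists_eq y
    exact ⟨i, p, by rw [he, Scheme.Hom.comp_apply]; rfl⟩

/-- An abelian sheaf takes coproducts of the site to products. -/
theorem bijective_of_isColimit {μ : Type u} {Z : μ → X.Etale} {c : Cofan Z} (hc : IsColimit c)
    (F : EtCoh.Ab X) :
    Function.Bijective fun (s : F.obj.obj (op c.pt)) (i : μ) => F.obj.map (c.inj i).op s := by
  obtain ⟨hoi, hdisj, hcov⟩ := isColimit_cofan_spec hc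
  haveI : ∀ i, Mono (c.inj i).left := fun i => by haveI := hoi i; infer_instance
  refine ⟨fun s t h => ?_, fun s => ?_⟩
  · have hgen : Sieve.generate (Presieve.ofArrows Z c.inj) ∈ X.smallEtaleTopology c.pt :=
      mem_topology_of_forall_point _ fun x => by
        obtain ⟨i, p, hp⟩ := hcov x
        exact ⟨Z i, c.inj i, p, ⟨Z i, 𝟙 _, c.inj i, Presieve.ofArrows.mk i, Category.id_comp _⟩, hp⟩
    refine (((isSheaf_iff_isSheaf_of_type _ _).1
      ((sheafCompose _ (CategoryTheory.forget AddCommGrpCat.{u + 1})).obj F).property) _ hgen).isSeparatedFor.ext ?_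
    rintro V k ⟨W, a, b, ⟨i⟩, rfl⟩
    simp only [Functor.map_comp, op_comp]
    exact congrArg (F.obj.map a.op) (congrFun h i)
  · obtain ⟨t, ht⟩ := exists_glue_disjoint F Z c.inj hdisj hcov s
    exact ⟨t, funext ht⟩

variable {Y : X.Etale} {G : Type u} [Group G] (σ : G →* Aut Y)

theorem isSheafFor_iff (P : X.Etaleᵒᵖ ⥤ Type w)
    (hP : Function.Bijective (fun s : P.obj (op (Y ⨯ Y)) => fun g : G => P.map (prod.lift (𝟙 Y) (σ g).hom).op s)) :
    Presieve.IsSheafFor P (Presieve.singleton ((EtCore.topIsTerminal X).from Y)) ↔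
      (Function.Injective (P.map ((EtCore.topIsTerminal X).from Y).op) ∧
        Set.range (P.map ((EtCore.topIsTerminal X).from Y).op) = {s | ∀ g : G, P.map (σ g).hom.op s = s}) := by
  let f := (EtCore.topIsTerminal X).from Y
  have hfrom : ∀ {Z : X.Etale} (p₁ p₂ : Z ⟶ Y), p₁ ≫ f = p₂ ≫ f := fun _ _ => (EtCore.topIsTerminal X).hom_ext _ _
  have key : ∀ x : P.obj (op Y), (∀ {Z : X.Etale} (p₁ p₂ : Z ⟶ Y), p₁ ≫ f = p₂ ≫ f →
      P.map p₁.op x = P.map p₂.op x) ↔ ∀ g : G, P.map (σ g).hom.op x = x := by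
    refine fun x => ⟨fun h g => ?_, fun h Z p₁ p₂ _ => ?_⟩
    · refine (h (σ g).hom (𝟙 Y) (hfrom _ _)).trans ?_
      simp
    · have e : P.map prod.fst.op x = P.map prod.snd.op x := hP.1 (funext fun g => by
        show P.map _ (P.map _ x) = P.map _ (P.map _ x)
        rw [← Functor.map_comp_apply, ← Functor.map_comp_apply, ← op_comp, ← op_comp, prod.lift_fst, prod.lift_snd]
        refine Eq.trans ?_ (h g).symm
        simp)
      have := congrArg (P.map (prod.lift p₁ p₂).op) e
      rwa [← Functor.map_comp_apply, ← Functor.map_comp_apply, ← op_comp, ← op_comp, prod.lift_fst, prod.lift_snd] at this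
  rw [Presieve.isSheafFor_singleton]
  constructor
  · intro h
    refine ⟨fun a b hab => ?_, Set.ext fun x => ⟨?_, fun hx => ?_⟩⟩
    · refine (h (P.map f.op a) fun p₁ p₂ hp => ?_).unique rfl hab.symm
      rw [← Functor.map_comp_apply, ← Functor.map_comp_apply, ← op_comp, ← op_comp, hp]
    · rintro ⟨y, rfl⟩ g
      rw [← Functor.map_comp_apply, ← op_comp, hfrom (σ g).hom (𝟙 Y) |>.trans (Category.id_comp f)]
    · exact (h x ((key x).2 hx)).exists
  · rintro ⟨hi, hr⟩ x hx
    obtain ⟨y, hy⟩ := (Set.ext_iff.1 hr x).2 ((key x).1 hx)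
    exact ⟨y, hy, fun z hz => hi (hz.trans hy.symm)⟩

theorem sections_eq_invariants (hY : Function.Surjective Y.hom)
    (hgal : IsColimit (Cofan.mk (Y ⨯ Y) (fun g : G => prod.lift (𝟙 Y) (σ g).hom))) (F : EtCoh.Ab X) :
    Function.Injective (F.obj.map ((EtCore.topIsTerminal X).from Y).op) ∧
      Set.range (F.obj.map ((EtCore.topIsTerminal X).from Y).op) =
        {s : F.obj.obj (op Y) | ∀ g : G, F.obj.map (σ g).hom.op s = s} := by
  refine (isSheafFor_iff σ (F.obj ⋙ CategoryTheory.forget AddCommGrpCat.{u + 1})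
    (bijective_of_isColimit hgal F)).1 ?_
  rw [← Presieve.ofArrows_pUnit.{0}, Presieve.isSheafFor_iff_generate]
  refine ((isSheaf_iff_isSheaf_of_type _ _).1
    ((sheafCompose _ (CategoryTheory.forget AddCommGrpCat.{u + 1})).obj F).property) _
      (mem_topology_of_forall_point _ fun x => ?_)
  obtain ⟨y, hy⟩ := hY x
  refine ⟨Y, (EtCore.topIsTerminal X).from Y, y, Sieve.ofArrows_mk _ _ PUnit.unit, ?_⟩
  exact (congrArg (fun k => k y) ((Category.comp_id _).symm.trans (Over.w ((EtCore.topIsTerminal X).from Y).hom))).trans hy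

end Groth.Agent.H18Et.GaloisSheaf
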