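import Groth.Agent.H18Et.FibrePoints
import Groth.Agent.H18Et.PropAB
import Groth.Agent.H18Et.PropACConseq

/-!
# Stalks of direct images along integral morphisms

The stalk at `η` of the direct image of a sheaf along an integral morphism is the set of
continuous families of germs at the points of the geometric fibre.
-/

universe u

open CategoryTheory CategoryTheory.Limits AlgebraicGeometry Opposite

namespace Groth.Agent.H18Et

set_option linter.unusedSectionVars false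

variable {X Y : Scheme.{u}} {Ω : Type u} [Field Ω] [IsAlgClosed Ω] {f : X ⟶ Y}
  {η : Spec (CommRingCat.of Ω) ⟶ Y}

/-- An open subscheme of an etale scheme. -/
noncomputable abbrev openObj (T : X.Etale) (O : T.left.Opens) : X.Etale :=
  MorphismProperty.Over.mk ⊤ (O.ι ≫ T.hom)
    (by have : Etale T.hom := T.prop
        exact inferInstanceAs (Etale (O.ι ≫ T.hom)))

/-- Its inclusion. -/
noncomputable abbrev openHom (T : X.Etale) (O : T.left.Opens) : openObj T O ⟶ T :=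
  MorphismProperty.Over.homMk O.ι rfl trivial

set_option backward.isDefEq.respectTransparency.types false in
set_option maxHeartbeats 2000000 in
/-- Maps between open subschemes. -/
noncomputable def openLift {T T' : X.Etale} (φ : T' ⟶ T) (O : T.left.Opens) (O' : T'.left.Opens)
    (h : O' ≤ φ.left ⁻¹ᵁ O) : openObj T' O' ⟶ openObj T O :=
  MorphismProperty.Over.homMk (φ.left.resLE O O' h) (by
      have h2 : φ.left ≫ T.hom = T'.hom := Over.w φ.hom
      exact (Category.assoc _ _ _).symm.trans ((congrArg (· ≫ T.hom)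
        (φ.left.resLE_comp_ι h)).trans ((Category.assoc _ _ _).trans
          (congrArg (O'.ι ≫ ·) h2)))) trivial

set_option backward.isDefEq.respectTransparency.types false in
set_option maxHeartbeats 2000000 in
theorem openLift_openHom {T T' : X.Etale} (φ : T' ⟶ T) (O : T.left.Opens) (O' : T'.left.Opens)
    (h : O' ≤ φ.left ⁻¹ᵁ O) : openLift φ O O' h ≫ openHom T O = openHom T' O' ≫ φ :=
  (Scheme.Etale.forget _).map_injective (Over.OverMorphism.ext (φ.left.resLE_comp_ι h))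

theorem exists_openPt {ξ : Spec (CommRingCat.of Ω) ⟶ X} {T : X.Etale} (O : T.left.Opens)
    (z : (Scheme.pointSmallEtale ξ).fiber.obj T) (hz : ptOf z ∈ O) :
    ∃ y, (Scheme.pointSmallEtale ξ).fiber.map (openHom T O) y = z :=
  exists_fiber_lift (openHom T O) z ⟨ptOf z, hz⟩ rfl

theorem openPt_unique {ξ : Spec (CommRingCat.of Ω) ⟶ X} {T : X.Etale} (O : T.left.Opens)
    (y y' : (Scheme.pointSmallEtale ξ).fiber.obj (openObj T O))
    (h : (Scheme.pointSmallEtale ξ).fiber.map (openHom T O) y =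
      (Scheme.pointSmallEtale ξ).fiber.map (openHom T O) y') : y = y' :=
  Over.OverMorphism.ext ((cancel_mono O.ι).1 (congrArg (fun k => k.left) h))

theorem openPt_mem {ξ : Spec (CommRingCat.of Ω) ⟶ X} {T : X.Etale} (O : T.left.Opens)
    (y : (Scheme.pointSmallEtale ξ).fiber.obj (openObj T O))
    {z : (Scheme.pointSmallEtale ξ).fiber.obj T}
    (h : (Scheme.pointSmallEtale ξ).fiber.map (openHom T O) y = z) : ptOf z ∈ O := by
  rw [← h, ← ptOf_map]
  exact (ptOf y).2

theorem fiber_map_map {C : Type*} [Category C] (G : C ⥤ Type u) {U V W : C} (a : U ⟶ V) (b : V ⟶ W)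
    (z : G.obj U) : G.map b (G.map a z) = G.map (a ≫ b) z :=
  (ConcreteCategory.congr_hom (G.map_comp a b) z).symm

theorem exists_common_nbhd {ι : Type*} (s : Finset ι) (V : ι → Y.Etale)
    (v : ∀ i, (Scheme.pointSmallEtale η).fiber.obj (V i)) :
    ∃ (V' : Y.Etale) (v' : (Scheme.pointSmallEtale η).fiber.obj V'),
      ∀ i ∈ s, ∃ g : V' ⟶ V i, (Scheme.pointSmallEtale η).fiber.map g v' = v i := by
  classical
  obtain ⟨⟨V', v'⟩, h⟩ := IsCofiltered.inf_objs_exists
    (C := (Scheme.pointSmallEtale η).fiber.Elements) (s.image fun i => ⟨V i, v i⟩)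
  refine ⟨V', v', fun i hi => ?_⟩
  obtain ⟨g, hg⟩ := (h (Finset.mem_image_of_mem _ hi)).some
  exact ⟨g, hg⟩

variable [IsIntegralHom f]

theorem exists_nbhd_whole (V : Y.Etale) (v : (Scheme.pointSmallEtale η).fiber.obj V)
    (O : ((EtCoh.bc f).obj V).left.Opens) (hO : ∀ q, (ιFib V v).base q ∈ O) :
    ∃ (V' : Y.Etale) (g : V' ⟶ V) (v' : (Scheme.pointSmallEtale η).fiber.obj V'),
      (Scheme.pointSmallEtale η).fiber.map g v' = v ∧
        ∀ p, ((EtCoh.bc f).map g).left.base p ∈ O := by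
  let π : ((EtCoh.bc f).obj V).left ⟶ V.left := pullback.fst V.hom f
  have : IsIntegralHom π := inferInstanceAs (IsIntegralHom (pullback.fst V.hom f))
  let N : V.left.Opens :=
    ⟨(π.base '' (O : Set _)ᶜ)ᶜ, (π.isClosedMap _ O.2.isClosed_compl).isOpen_compl⟩
  have hv : ptOf v ∈ N := by
    rintro ⟨c, hc, hcv⟩
    let lv : Spec (CommRingCat.of Ω) ⟶ V.left := v.left
    obtain ⟨p, hp, -⟩ := Scheme.Pullback.exists_preimage_pullback (f := π) (g := lv) c default hcv
    refine hc ?_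
    have h := hO ((isPullback_ιFib (f := f) V v).isoPullback.inv.base p)
    rw [← Scheme.Hom.comp_apply, (isPullback_ιFib (f := f) V v).isoPullback_inv_fst, hp] at h
    exact h
  obtain ⟨V', g, v', hv', e, he⟩ := exists_nbhd_opens η V v N hv
  refine ⟨V', g, v', hv', fun p => ?_⟩
  by_contra hn
  have h1 : π.base (((EtCoh.bc f).map g).left.base p) =
      g.left.base ((pullback.fst V'.hom f).base p) :=
    (Scheme.Hom.comp_apply _ _ _).symm.trans ((congrArg (fun k => k.base p)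
      (EtCoh.isPullback_bc_map f g).w).trans (Scheme.Hom.comp_apply _ _ _))
  have h2 : g.left.base ((pullback.fst V'.hom f).base p) ∈ N := by
    rw [← he, Scheme.Hom.comp_apply]
    exact (e.hom.base ((pullback.fst V'.hom f).base p)).2
  exact h2 ⟨_, hn, h1⟩

set_option backward.isDefEq.respectTransparency.types false in
/-- Etale neighbourhoods of a point of the fibre are dominated by opens of base changes. -/
theorem exists_bc_lift (ξ : Pts f η) (U : X.Etale) (z : (Scheme.pointSmallEtale ξ.1).fiber.obj U) :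
    ∃ (V : Y.Etale) (v : (Scheme.pointSmallEtale η).fiber.obj V)
      (O : ((EtCoh.bc f).obj V).left.Opens) (k : openObj ((EtCoh.bc f).obj V) O ⟶ U),
      ptOf (bcPt ξ V v) ∈ O ∧
        ∀ y, (Scheme.pointSmallEtale ξ.1).fiber.map (openHom _ O) y = bcPt ξ V v →
          (Scheme.pointSmallEtale ξ.1).fiber.map k y = z := by
  have : Etale U.hom := U.prop
  obtain ⟨V₀, q, hq, W, -, h, hh, u, hu⟩ := propA_of_isIntegralHom f U.left U.hom (ptOf z)
  let V : Y.Etale := MorphismProperty.Over.mk ⊤ q hq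
  let T := (EtCoh.bc f).obj V
  let σ : T.left ⟶ pullback f q := (pullbackSymmetry q f).hom
  let O : T.left.Opens := σ ⁻¹ᵁ W
  let r : O.toScheme ⟶ W.toScheme := IsOpenImmersion.lift W.ι (O.ι ≫ σ) (by
    rw [Scheme.Opens.range_ι]
    rintro _ ⟨p, rfl⟩
    exact p.2)
  let k : openObj T O ⟶ U := MorphismProperty.Over.homMk (r ≫ h) (by
    refine (Category.assoc _ _ _).trans ((congrArg (r ≫ ·) hh).trans ?_)
    refine (Category.assoc _ _ _).symm.trans ((congrArg (· ≫ pullback.fst f q)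
      (IsOpenImmersion.lift_fac _ _ _)).trans ?_)
    exact (Category.assoc _ _ _).trans
      (congrArg (O.ι ≫ ·) (pullbackSymmetry_hom_comp_fst q f))) trivial
  let t : T.left := (pullbackSymmetry q f).inv.base u.1
  have hσt : σ.base t = u.1 := (Scheme.Hom.comp_apply _ _ _).symm.trans
    (congrArg (fun k : pullback f q ⟶ pullback f q => k.base u.1) (pullbackSymmetry q f).inv_hom_id)
  have ht : t ∈ O := (congrArg (· ∈ W) hσt).mpr u.2
  have hrt : r.base ⟨t, ht⟩ = u := W.ι.isOpenEmbedding.injective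
    ((Scheme.Hom.comp_apply _ _ _).symm.trans ((congrArg (fun k : O.toScheme ⟶ pullback f q => k.base (⟨t, ht⟩ : O.toScheme))
      (IsOpenImmersion.lift_fac _ _ _)).trans ((Scheme.Hom.comp_apply _ _ _).trans hσt)))
  obtain ⟨y, hy⟩ := exists_fiber_lift k z (show (openObj T O).left from (⟨t, ht⟩ : O.toScheme))
    ((Scheme.Hom.comp_apply _ _ _).trans ((congrArg h.base hrt).trans hu))
  obtain ⟨v, hv⟩ := exists_bcPt ξ V ((Scheme.pointSmallEtale ξ.1).fiber.map (openHom T O) y)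
  refine ⟨V, v, O, k, openPt_mem O y hv.symm, fun y' hy' => ?_⟩
  rw [openPt_unique O y' y (hy'.trans hv)]
  exact hy

theorem exists_isolating [Finite (Pts f η)] (ξ : Pts f η) :
    ∃ (V : Y.Etale) (v : (Scheme.pointSmallEtale η).fiber.obj V)
      (O : ((EtCoh.bc f).obj V).left.Opens),
      ptOf (bcPt ξ V v) ∈ O ∧ ∀ ξ', ptOf (bcPt ξ' V v) ∈ O → ξ' = ξ := by
  have : Finite ↥(pullback f η) := .of_surjective _ (surjective_qOf (f := f) (η := η))
  have hcl : ∀ q : ↥(pullback f η), IsClosed ({q} : Set ↥(pullback f η)) := fun q =>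
    closure_eq_iff_isClosed.1 (Set.Subset.antisymm (fun r hr =>
      eq_of_specializes_of_isIntegralHom (pullback.snd f η)
        (Subsingleton.elim (α := (Spec (CommRingCat.of Ω))) _ _)
        (specializes_iff_mem_closure.2 hr)) subset_closure)
  have : T1Space ↥(pullback f η) := ⟨hcl⟩
  obtain ⟨V, v, O, hO, hle⟩ := exists_nbhd_open ⟨{qOf ξ}, isOpen_discrete _⟩ ξ rfl
  refine ⟨V, v, O, (congrArg (· ∈ O) (ptOf_bcPt ξ V v)).mpr hO, fun ξ' h => ?_⟩
  exact injective_qOf (hle ((congrArg (· ∈ O) (ptOf_bcPt ξ' V v)).mp h) : qOf ξ' = qOf ξ)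

section Sheaves

variable {A : Type*} [Category.{u + 1} A] [HasColimitsOfSize.{u, u} A]
  {FA : A → A → Type*} {CA : A → Type (u + 1)} [∀ P Q, FunLike (FA P Q) (CA P) (CA Q)]
  [ConcreteCategory.{u + 1} A FA] [PreservesFilteredColimitsOfSize.{u, u} (CategoryTheory.forget A)]
  [X.smallEtaleTopology.HasSheafCompose (CategoryTheory.forget A)]
  [Y.smallEtaleTopology.HasSheafCompose (CategoryTheory.forget A)]

set_option backward.isDefEq.respectTransparency.types false in
set_option maxHeartbeats 2000000 in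
/-- Sections on opens of base changes with prescribed germs at the fibre glue. -/
theorem exists_section_of_germs (F : Sheaf X.smallEtaleTopology A)
    (t : ∀ ξ : Pts f η, ToType ((Scheme.pointSmallEtale ξ.1).sheafFiber.obj F))
    (hloc : ∀ ξ : Pts f η, ∃ (V : Y.Etale) (v : (Scheme.pointSmallEtale η).fiber.obj V)
      (O : ((EtCoh.bc f).obj V).left.Opens)
      (s : ToType (F.obj.obj (op (openObj ((EtCoh.bc f).obj V) O)))),
      ptOf (bcPt ξ V v) ∈ O ∧ ∀ (ξ' : Pts f η) y,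
        (Scheme.pointSmallEtale ξ'.1).fiber.map (openHom _ O) y = bcPt ξ' V v →
          germ ξ'.1 F _ y s = t ξ') :
    ∃ (V : Y.Etale) (v : (Scheme.pointSmallEtale η).fiber.obj V)
      (s : ToType (F.obj.obj (op ((EtCoh.bc f).obj V)))),
      ∀ ξ, germ ξ.1 F _ (bcPt ξ V v) s = t ξ := by
  classical
  choose Vj vj Oj sj hj hgerm using hloc
  have : IsAffine (pullback f η) := isAffine_of_isAffineHom (pullback.snd f η)
  obtain ⟨S, hS⟩ := isCompact_univ.elim_finite_subcover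
    (fun ξ => ((ιFib (Vj ξ) (vj ξ) ⁻¹ᵁ Oj ξ : (pullback f η).Opens) : Set ↥(pullback f η)))
    (fun ξ => (ιFib (Vj ξ) (vj ξ) ⁻¹ᵁ Oj ξ).2) (fun q _ => by
      obtain ⟨ξ, rfl⟩ := surjective_qOf q
      exact Set.mem_iUnion.2 ⟨ξ, (congrArg (· ∈ Oj ξ) (ptOf_bcPt ξ _ _)).mp (hj ξ)⟩)
  obtain ⟨V, v, hg⟩ := exists_common_nbhd S Vj vj
  choose g hg using hg
  let O₁ : S → ((EtCoh.bc f).obj V).left.Opens :=
    fun i => ((EtCoh.bc f).map (g i.1 i.2)).left ⁻¹ᵁ Oj i.1
  obtain ⟨V', g', v', hv', hcov⟩ := exists_nbhd_whole V v (⨆ i, O₁ i) fun q => by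
    obtain ⟨ξ, hξ, hq⟩ := Set.mem_iUnion₂.1 (hS (Set.mem_univ q))
    refine TopologicalSpace.Opens.mem_iSup.2 ⟨⟨ξ, hξ⟩, ?_⟩
    change ((EtCoh.bc f).map (g ξ hξ)).left.base ((ιFib V v).base q) ∈ Oj ξ
    rw [← Scheme.Hom.comp_apply, ιFib_naturality (g ξ hξ) (hg ξ hξ)]
    exact hq
  let T' := (EtCoh.bc f).obj V'
  let G : ∀ i : S, T' ⟶ (EtCoh.bc f).obj (Vj i.1) :=
    fun i => (EtCoh.bc f).map (g' ≫ g i.1 i.2)
  let O₂ : S → T'.left.Opens := fun i => (G i).left ⁻¹ᵁ Oj i.1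
  have hcov2 : ∀ p : T'.left, ∃ i, p ∈ O₂ i := fun p => by
    obtain ⟨i, hi⟩ := TopologicalSpace.Opens.mem_iSup.1 (hcov p)
    refine ⟨i, ?_⟩
    change ((EtCoh.bc f).map (g' ≫ g i.1 i.2)).left.base p ∈ Oj i.1
    rw [Functor.map_comp]
    exact hi
  let π : T'.left ⟶ V'.left := pullback.fst V'.hom f
  have : IsIntegralHom π := inferInstanceAs (IsIntegralHom (pullback.fst V'.hom f))
  let F' : S → Scheme.{u} := fun i => (O₂ i).toScheme
  let d : ∀ i, F' i ⟶ T'.left := fun i => (O₂ i).ι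
  have : Etale (Limits.Sigma.desc d) := by
    have : IsZariskiLocalAtSource (EtCoh.etaleMP.{u}) := inferInstance
    exact IsZariskiLocalAtSource.sigmaDesc (P := EtCoh.etaleMP.{u})
      fun i => (inferInstance : Etale (O₂ i).ι)
  obtain ⟨V₁, q, hq, ⟨w, hw⟩, a, ha⟩ := exists_etale_section π (Limits.Sigma.desc d) (ptOf v')
    fun x _ => by
      obtain ⟨i, hi⟩ := hcov2 x
      exact ⟨(Limits.Sigma.ι F' i).base ⟨x, hi⟩, (Scheme.Hom.comp_apply _ _ _).symm.trans
        (congrArg (fun k => k.base (⟨x, hi⟩ : F' i)) (Sigma.ι_desc d i))⟩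
  have : Etale V'.hom := V'.prop
  let V'' : Y.Etale :=
    MorphismProperty.Over.mk ⊤ (q ≫ V'.hom) (inferInstanceAs (Etale (q ≫ V'.hom)))
  let h : V'' ⟶ V' := MorphismProperty.Over.homMk q rfl trivial
  obtain ⟨v'', hv''⟩ := exists_fiber_lift h v' w hw
  let T'' := (EtCoh.bc f).obj V''
  have sq := (EtCoh.isPullback_bc_map f h).flip
  let a' : T''.left ⟶ ∐ F' := sq.isoPullback.hom ≫ a
  have ha' : a' ≫ Limits.Sigma.desc d = ((EtCoh.bc f).map h).left :=
    (Category.assoc _ _ _).trans ((congrArg (sq.isoPullback.hom ≫ ·) ha).trans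
      sq.isoPullback_hom_snd)
  let W : S → T''.left.Opens := fun i => a' ⁻¹ᵁ (Limits.Sigma.ι F' i).opensRange
  have hle : ∀ i, W i ≤ ((EtCoh.bc f).map h ≫ G i).left ⁻¹ᵁ Oj i.1 := by
    rintro i p ⟨b, hb⟩
    have h1 : ((EtCoh.bc f).map h).left.base p = (O₂ i).ι.base b := by
      refine (congrArg (fun k => k.base p) ha'.symm).trans ?_
      refine (Scheme.Hom.comp_apply _ _ _).trans ((congrArg (Limits.Sigma.desc d).base hb.symm).trans ?_)
      exact (Scheme.Hom.comp_apply _ _ _).symm.trans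
        (congrArg (fun k => k.base b) (Sigma.ι_desc d i))
    change (G i).left.base (((EtCoh.bc f).map h).left.base p) ∈ Oj i.1
    rw [h1]
    exact b.2
  have : ∀ i, Mono (openHom T'' (W i)).left := fun i => inferInstanceAs (Mono (W i).ι)
  obtain ⟨s, hs⟩ := exists_glue_disjoint F (fun i => openObj T'' (W i)) (fun i => openHom T'' (W i))
    (fun i j hij p p' he => Set.disjoint_left.1 (TopologicalSpace.Opens.coe_disjoint.2
      (disjoint_opensRange_sigmaι F' i j hij))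
        (show a'.base p.1 ∈ ((Limits.Sigma.ι F' i).opensRange : Set _) from p.2)
        ((congrArg (fun x => a'.base x ∈ ((Limits.Sigma.ι F' j).opensRange : Set _)) he).mpr p'.2))
    (fun p => by
      obtain ⟨i, b, hb⟩ := (sigmaOpenCover F').exists_eq (a'.base p)
      exact ⟨i, ⟨p, ⟨b, hb⟩⟩, rfl⟩)
    (fun i => F.obj.map (openLift _ (Oj i.1) (W i) (hle i)).op (sj i.1))
  refine ⟨V'', v'', s, fun ξ => ?_⟩
  obtain ⟨i, b, hb⟩ := (sigmaOpenCover F').exists_eq (a'.base (ptOf (bcPt ξ V'' v'')))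
  obtain ⟨y, hy⟩ := exists_openPt (W i) (bcPt ξ V'' v'') ⟨b, hb⟩
  have e1 : germ ξ.1 F _ (bcPt ξ V'' v'') s = germ ξ.1 F _ y (F.obj.map (openHom T'' (W i)).op s) := by
    rw [← hy]
    exact ((Scheme.pointSmallEtale ξ.1).toPresheafFiber_w_apply (openHom T'' (W i)) y F.obj s).symm
  rw [e1, hs i]
  refine ((Scheme.pointSmallEtale ξ.1).toPresheafFiber_w_apply
    (openLift _ (Oj i.1) (W i) (hle i)) y F.obj (sj i.1)).trans (hgerm i.1 ξ _ ?_)
  refine (ConcreteCategory.congr_hom ((Scheme.pointSmallEtale ξ.1).fiber.map_comp _ _) y).symm.trans ?_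
  rw [openLift_openHom]
  refine (ConcreteCategory.congr_hom ((Scheme.pointSmallEtale ξ.1).fiber.map_comp _ _) y).trans ?_
  refine (congrArg ((Scheme.pointSmallEtale ξ.1).fiber.map _) hy).trans ?_
  rw [← Functor.map_comp]
  refine bcPt_map ξ (h ≫ g' ≫ g i.1 i.2) ?_
  rw [Functor.map_comp, Functor.map_comp]
  exact (congrArg (fun x => (Scheme.pointSmallEtale η).fiber.map (g i.1 i.2)
    ((Scheme.pointSmallEtale η).fiber.map g' x)) hv'').trans
      ((congrArg ((Scheme.pointSmallEtale η).fiber.map (g i.1 i.2)) hv').trans (hg i.1 i.2))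

set_option backward.isDefEq.respectTransparency.types false in
set_option maxHeartbeats 2000000 in
/-- Sections over a base change with equal germs at the fibre agree near `η`. -/
theorem exists_map_eq_of_germs (F : Sheaf X.smallEtaleTopology A) (V : Y.Etale)
    (v : (Scheme.pointSmallEtale η).fiber.obj V)
    (s s' : ToType (F.obj.obj (op ((EtCoh.bc f).obj V))))
    (h : ∀ ξ, germ ξ.1 F _ (bcPt ξ V v) s = germ ξ.1 F _ (bcPt ξ V v) s') :
    ∃ (V' : Y.Etale) (g : V' ⟶ V) (v' : (Scheme.pointSmallEtale η).fiber.obj V'),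
      (Scheme.pointSmallEtale η).fiber.map g v' = v ∧
        F.obj.map ((EtCoh.bc f).map g).op s = F.obj.map ((EtCoh.bc f).map g).op s' := by
  choose U γ y hy he using fun ξ => (germ_eq_iff ξ.1 F _ (bcPt ξ V v) s s').1 (h ξ)
  let E : ((EtCoh.bc f).obj V).left.Opens := ⨆ ξ : Pts f η,
    ⟨Set.range (γ ξ).left.base, (have := etale_left (γ ξ); (γ ξ).left.isOpenMap.isOpen_range)⟩
  obtain ⟨V', g, v', hv', hE⟩ := exists_nbhd_whole V v E fun q => by
    obtain ⟨ξ, rfl⟩ := surjective_qOf q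
    refine TopologicalSpace.Opens.mem_iSup.2 ⟨ξ, ?_⟩
    rw [← ptOf_bcPt, ← hy ξ, ← ptOf_map]
    exact Set.mem_range_self _
  refine ⟨V', g, v', hv', sect_ext' (F := F) _ _ fun x => ⟨_, _, SeparableClosure.isSepClosed _,
    geomPt x, geomPt_base x, fun z => ?_⟩⟩
  refine ((Scheme.pointSmallEtale (geomPt x)).toPresheafFiber_w_apply _ z F.obj s).trans
    (Eq.trans ?_ ((Scheme.pointSmallEtale (geomPt x)).toPresheafFiber_w_apply _ z F.obj s').symm)
  obtain ⟨ξ, u, hu⟩ := TopologicalSpace.Opens.mem_iSup.1 (hE (ptOf z))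
  obtain ⟨y', hy'⟩ := exists_fiber_lift (γ ξ)
    ((Scheme.pointSmallEtale (geomPt x)).fiber.map ((EtCoh.bc f).map g) z) u (hu.trans (ptOf_map _ z))
  rw [← hy']
  exact ((Scheme.pointSmallEtale (geomPt x)).toPresheafFiber_w_apply _ y' F.obj s).symm.trans
    ((congrArg _ (he ξ)).trans ((Scheme.pointSmallEtale (geomPt x)).toPresheafFiber_w_apply _ y' F.obj s'))

variable [Functor.IsContinuous (EtCoh.bc f) Y.smallEtaleTopology X.smallEtaleTopology]

set_option backward.isDefEq.respectTransparency.types false in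
set_option maxHeartbeats 2000000 in
/-- The compatibility defining `pushEval`. -/
theorem pushEval_w (ξ : Pts f η) (F : Sheaf X.smallEtaleTopology A) {V' V : Y.Etale} (g : V' ⟶ V)
    (v : (Scheme.pointSmallEtale η).fiber.obj V') :
    ((EtCoh.bc f).op ⋙ F.obj).map g.op ≫
        (Scheme.pointSmallEtale ξ.1).toPresheafFiber _ (bcPt ξ V' v) F.obj =
      (Scheme.pointSmallEtale ξ.1).toPresheafFiber _
        (bcPt ξ V ((Scheme.pointSmallEtale η).fiber.map g v)) F.obj :=
  ((Scheme.pointSmallEtale ξ.1).toPresheafFiber_w ((EtCoh.bc f).map g) (bcPt ξ V' v) F.obj).trans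
    (congrArg (fun x => (Scheme.pointSmallEtale ξ.1).toPresheafFiber ((EtCoh.bc f).obj V) x F.obj)
      (bcPt_map ξ g rfl))

/-- Evaluation at a point of the geometric fibre of germs of a direct image. -/
noncomputable def pushEval (ξ : Pts f η) :
    (EtCoh.bc f).sheafPushforwardContinuous A Y.smallEtaleTopology X.smallEtaleTopology ⋙
      (Scheme.pointSmallEtale η).sheafFiber ⟶ (Scheme.pointSmallEtale ξ.1).sheafFiber where
  app F := (Scheme.pointSmallEtale η).presheafFiberDesc (P := (EtCoh.bc f).op ⋙ F.obj)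
    (fun V v => (Scheme.pointSmallEtale ξ.1).toPresheafFiber _ (bcPt ξ V v) F.obj)
    (fun _ _ g v => pushEval_w ξ F g v)
  naturality F G φ := by
    refine GrothendieckTopology.Point.presheafFiber_hom_ext _ fun V v => ?_
    refine Eq.trans ((Scheme.pointSmallEtale η).toPresheafFiber_naturality_assoc _ V v _) ?_
    refine Eq.trans (congrArg (_ ≫ ·) ((Scheme.pointSmallEtale η).toPresheafFiber_presheafFiberDesc
      (P := (EtCoh.bc f).op ⋙ G.obj) _ _ V v)) ?_
    refine Eq.trans ?_ (Category.assoc _ _ _)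
    refine Eq.trans ?_ (congrArg (· ≫ _) ((Scheme.pointSmallEtale η).toPresheafFiber_presheafFiberDesc
      (P := (EtCoh.bc f).op ⋙ F.obj) _ _ V v).symm)
    exact ((Scheme.pointSmallEtale ξ.1).toPresheafFiber_naturality φ.hom _ (bcPt ξ V v)).symm

theorem pushEval_germ (ξ : Pts f η) (F : Sheaf X.smallEtaleTopology A) (V : Y.Etale)
    (v : (Scheme.pointSmallEtale η).fiber.obj V)
    (s : ToType (F.obj.obj (op ((EtCoh.bc f).obj V)))) :
    (pushEval ξ).app F (germ η
      (((EtCoh.bc f).sheafPushforwardContinuous A Y.smallEtaleTopology X.smallEtaleTopology).obj F)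
      V v s) = germ ξ.1 F _ (bcPt ξ V v) s :=
  (CategoryTheory.comp_apply _ _ _).symm.trans <| ConcreteCategory.congr_hom
    ((Scheme.pointSmallEtale η).toPresheafFiber_presheafFiberDesc (P := (EtCoh.bc f).op ⋙ F.obj)
      (fun V v => (Scheme.pointSmallEtale ξ.1).toPresheafFiber _ (bcPt ξ V v) F.obj)
      (fun _ _ g v => pushEval_w ξ F g v) V v) s

theorem pushEval_jointly_injective (F : Sheaf X.smallEtaleTopology A)
    (a b : ToType ((Scheme.pointSmallEtale η).sheafFiber.obj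
      (((EtCoh.bc f).sheafPushforwardContinuous A Y.smallEtaleTopology X.smallEtaleTopology).obj F)))
    (h : ∀ ξ, (pushEval ξ).app F a = (pushEval ξ).app F b) : a = b := by
  obtain ⟨V₁, v₁, s₁, rfl⟩ := germ_surjective η _ a
  obtain ⟨V₂, v₂, s₂, rfl⟩ := germ_surjective η _ b
  obtain ⟨⟨V, v⟩, ⟨g₁, hg₁⟩, ⟨g₂, hg₂⟩, -⟩ := IsCofilteredOrEmpty.cone_objs
    (C := (Scheme.pointSmallEtale η).fiber.Elements) ⟨V₁, v₁⟩ ⟨V₂, v₂⟩
  dsimp at g₁ g₂ hg₁ hg₂
  let P := ((EtCoh.bc f).sheafPushforwardContinuous A Y.smallEtaleTopology X.smallEtaleTopology).obj F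
  have e₁ : germ η P V v (P.obj.map g₁.op s₁) = germ η P V₁ v₁ s₁ := by
    rw [← hg₁]; exact (Scheme.pointSmallEtale η).toPresheafFiber_w_apply g₁ v P.obj s₁
  have e₂ : germ η P V v (P.obj.map g₂.op s₂) = germ η P V₂ v₂ s₂ := by
    rw [← hg₂]; exact (Scheme.pointSmallEtale η).toPresheafFiber_w_apply g₂ v P.obj s₂
  obtain ⟨V', g, v', hv', he⟩ := exists_map_eq_of_germs F V v (P.obj.map g₁.op s₁) (P.obj.map g₂.op s₂)
    fun ξ => by
      refine (pushEval_germ ξ F V v _).symm.trans (Eq.trans ?_ (pushEval_germ ξ F V v _))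
      exact (congrArg ((pushEval ξ).app F) e₁).trans ((h ξ).trans (congrArg ((pushEval ξ).app F) e₂).symm)
  rw [← e₁, ← e₂]
  exact (germ_eq_iff η P V v _ _).2 ⟨V', g, v', hv', he⟩

theorem exists_pushEval_eq (F : Sheaf X.smallEtaleTopology A)
    (t : ∀ ξ : Pts f η, ToType ((Scheme.pointSmallEtale ξ.1).sheafFiber.obj F))
    (hloc : ∀ ξ : Pts f η, ∃ (V : Y.Etale) (v : (Scheme.pointSmallEtale η).fiber.obj V)
      (O : ((EtCoh.bc f).obj V).left.Opens)
      (s : ToType (F.obj.obj (op (openObj ((EtCoh.bc f).obj V) O)))),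
      ptOf (bcPt ξ V v) ∈ O ∧ ∀ (ξ' : Pts f η) y,
        (Scheme.pointSmallEtale ξ'.1).fiber.map (openHom _ O) y = bcPt ξ' V v →
          germ ξ'.1 F _ y s = t ξ') :
    ∃ a, ∀ ξ, (pushEval ξ).app F a = t ξ := by
  obtain ⟨V, v, s, hs⟩ := exists_section_of_germs F t hloc
  exact ⟨germ η
    (((EtCoh.bc f).sheafPushforwardContinuous A Y.smallEtaleTopology X.smallEtaleTopology).obj F)
    V v s, fun ξ => (pushEval_germ ξ F V v s).trans (hs ξ)⟩

set_option backward.isDefEq.respectTransparency.types false in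
set_option maxHeartbeats 2000000 in
theorem exists_pushEval_eq_of_finite [Finite (Pts f η)] (F : Sheaf X.smallEtaleTopology A)
    (t : ∀ ξ : Pts f η, ToType ((Scheme.pointSmallEtale ξ.1).sheafFiber.obj F)) :
    ∃ a, ∀ ξ, (pushEval ξ).app F a = t ξ := by
  refine exists_pushEval_eq F t fun ξ => ?_
  obtain ⟨U, z, s, hz⟩ := germ_surjective ξ.1 F (t ξ)
  obtain ⟨V₁, v₁, O₁, k, hO₁, hk⟩ := exists_bc_lift ξ U z
  obtain ⟨V₂, v₂, O₂, hO₂, hiso⟩ := exists_isolating ξ
  obtain ⟨⟨V, v⟩, ⟨g₁, hg₁⟩, ⟨g₂, hg₂⟩, -⟩ := IsCofilteredOrEmpty.cone_objs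
    (C := (Scheme.pointSmallEtale η).fiber.Elements) ⟨V₁, v₁⟩ ⟨V₂, v₂⟩
  dsimp at g₁ g₂ hg₁ hg₂
  let m₁ := (EtCoh.bc f).map g₁
  let m₂ := (EtCoh.bc f).map g₂
  let O : ((EtCoh.bc f).obj V).left.Opens := m₁.left ⁻¹ᵁ O₁ ⊓ m₂.left ⁻¹ᵁ O₂
  have hpt₁ : ∀ ξ' : Pts f η, m₁.left.base (ptOf (bcPt ξ' V v)) = ptOf (bcPt ξ' V₁ v₁) := fun ξ' =>
    (ptOf_map m₁ _).trans (congrArg ptOf (bcPt_map ξ' g₁ hg₁))
  have hpt₂ : ∀ ξ' : Pts f η, m₂.left.base (ptOf (bcPt ξ' V v)) = ptOf (bcPt ξ' V₂ v₂) := fun ξ' =>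
    (ptOf_map m₂ _).trans (congrArg ptOf (bcPt_map ξ' g₂ hg₂))
  obtain ⟨l, hl⟩ : ∃ l, l ≫ openHom _ O₁ = openHom _ O ≫ m₁ :=
    ⟨_, openLift_openHom m₁ O₁ O inf_le_left⟩
  refine ⟨V, v, O, F.obj.map (l ≫ k).op s, ⟨(congrArg (· ∈ O₁) (hpt₁ ξ)).mpr hO₁,
    (congrArg (· ∈ O₂) (hpt₂ ξ)).mpr hO₂⟩, fun ξ' y hy => ?_⟩
  obtain rfl : ξ' = ξ := hiso ξ' ((congrArg (· ∈ O₂) (hpt₂ ξ')).mp (openPt_mem O y hy).2)
  refine ((Scheme.pointSmallEtale ξ'.1).toPresheafFiber_w_apply (l ≫ k) y F.obj s).trans ?_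
  refine Eq.trans ?_ hz
  refine congrArg (fun x => germ ξ'.1 F U x s) ?_
  refine (fiber_map_map (Scheme.pointSmallEtale ξ'.1).fiber l k y).symm.trans (hk _ ?_)
  refine (fiber_map_map (Scheme.pointSmallEtale ξ'.1).fiber l (openHom _ O₁) y).trans ?_
  rw [hl, ← fiber_map_map]
  exact (congrArg ((Scheme.pointSmallEtale ξ'.1).fiber.map m₁) hy).trans (bcPt_map ξ' g₁ hg₁)

end Sheaves

end Groth.Agent.H18Et
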