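import Groth.Agent.H18Et.FreeSheaf
import Groth.Agent.H18Ext.MapNatTrans

/-!
# Relative pullback of cohomology classes in terms of free sheaves
-/

set_option autoImplicit false

universe u

open CategoryTheory CategoryTheory.Limits AlgebraicGeometry Opposite Abelian

namespace Groth.Agent.H18Et.FreeSheaf

set_option backward.isDefEq.respectTransparency false
set_option backward.isDefEq.respectTransparency.types false

variable {X V W : Scheme.{u}} (t : V ⟶ X) [Etale t] (f : W ⟶ V) (f₀ : W ⟶ X) [Etale f₀] (w : f ≫ t = f₀)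

/-- The morphism of the site underlying a factorisation. -/
noncomputable def mor : obj f₀ ⟶ obj t :=
  MorphismProperty.Over.homMk f (show f ≫ 𝟙 V ≫ t = 𝟙 W ≫ f₀ by rw [Category.id_comp, Category.id_comp, w])

variable [PreservesFiniteLimits (EtCoh.pull f)]

/-- Composition with a morphism commutes with the relative pullback. -/
theorem HpullVia_comp_mk₀ {F G : EtCoh.Ab X} (g : F ⟶ G) (n : ℕ) (y : EtCoh.H V ((EtCoh.pull t).obj F) n) :
    EtCore.HpullVia f t f₀ w G n (y.comp (Ext.mk₀ ((EtCoh.pull t).map g)) (add_zero n)) =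
      (EtCore.HpullVia f t f₀ w F n y).comp (Ext.mk₀ ((EtCoh.pull f₀).map g)) (add_zero n) := by
  let e := (EtCore.pullComp f t).symm ≪≫ EtCore.pullCongr w
  show ((Ext.mk₀ _).comp ((y.comp (Ext.mk₀ ((EtCoh.pull t).map g)) (add_zero n)).mapExactFunctor (EtCoh.pull f))
      (zero_add n)).comp (Ext.mk₀ (e.hom.app G)) (add_zero n) =
    (((Ext.mk₀ _).comp (y.mapExactFunctor (EtCoh.pull f)) (zero_add n)).comp (Ext.mk₀ (e.hom.app F)) (add_zero n)).comp
      (Ext.mk₀ ((EtCoh.pull f₀).map g)) (add_zero n)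
  rw [Ext.mapExactFunctor_comp, Ext.mapExactFunctor_mk₀, ← Ext.comp_assoc_of_third_deg_zero,
    Ext.comp_assoc_of_second_deg_zero, Ext.comp_assoc_of_second_deg_zero (α := (Ext.mk₀ _).comp _ _),
    Ext.mk₀_comp_mk₀, Ext.mk₀_comp_mk₀]
  refine congrArg (fun k => Ext.comp _ (Ext.mk₀ k) (add_zero n)) ?_
  exact e.hom.naturality g

/-- In degree zero the relative pullback after a pullback is the pullback. -/
theorem HpullVia_Hpull [PreservesFiniteLimits (EtCoh.pull t)] [PreservesFiniteLimits (EtCoh.pull f₀)]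
    (G : EtCoh.Ab X) (x : EtCoh.H X G 0) :
    EtCore.HpullVia f t f₀ w G 0 (EtCore.Hpull t G 0 x) = EtCore.Hpull f₀ G 0 x := by
  subst w
  refine (Sheaf.H.equiv₀ _ (EtCore.topIsTerminal W)).injective ?_
  rw [PullSections.equiv₀_Hpull]
  show Sheaf.H.equiv₀ _ _ (Sheaf.H.map _ 0 (EtCore.Hpull f _ 0 (EtCore.Hpull t G 0 x))) = _
  rw [← Sheaf.H.equiv₀_naturality, PullSections.equiv₀_Hpull, PullSections.equiv₀_Hpull]
  have h := PullSections.res0_comp f t G
  have hi : ((EtCore.pullComp f t).hom.app G).hom.app (op (EtCoh.top W)) ≫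
      (((EtCore.pullComp f t).symm ≪≫ EtCore.pullCongr (rfl : f ≫ t = f ≫ t)).app G).hom.hom.app (op (EtCoh.top W)) = 𝟙 _ := by
    rw [← NatTrans.comp_app, ← ObjectProperty.FullSubcategory.comp_hom]
    simp [EtCore.pullCongr]
  rw [← ConcreteCategory.comp_apply, ← ConcreteCategory.comp_apply]
  rw [← Category.assoc, ← h, Category.assoc, hi, Category.comp_id]

variable [PreservesFiniteLimits (EtCoh.pull t)] [PreservesFiniteLimits (EtCoh.pull f₀)]

/-- In degree zero the relative pullback is restriction along the morphism of the site, for monomorphisms. -/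
theorem sec_HpullVia (ρ : obj t ⟶ EtCoh.top X) [Mono ρ] (F : EtCoh.Ab X)
    (y : EtCoh.H V ((EtCoh.pull t).obj F) 0) :
    sec f₀ F (EtCore.HpullVia f t f₀ w F 0 y) = F.obj.map (mor t f f₀ w).op (sec t F y) := by
  let u₀ := homEquiv (obj t) ((free X).obj (obj t)) (𝟙 _)
  have key : sec f₀ _ (EtCore.HpullVia f t f₀ w _ 0 (Ext.mk₀ (eta t))) =
      ((free X).obj (obj t)).obj.map (mor t f f₀ w).op u₀ := by
    haveI := mono_map ρ
    haveI : Mono ((free X).map ρ).hom := (sheafToPresheaf _ _).map_mono ((free X).map ρ)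
    apply (AddCommGrpCat.mono_iff_injective (((free X).map ρ).hom.app (op (obj f₀)))).1 inferInstance
    let uT := homEquiv (EtCoh.top X) ((free X).obj (EtCoh.top X)) (𝟙 _)
    have hu : ((free X).map ρ).hom.app (op (obj t)) u₀ = ((free X).obj (EtCoh.top X)).obj.map ρ.op uT := by
      rw [← homEquiv_comp, Category.id_comp, ← homEquiv_map, Category.comp_id]
    let x := (Sheaf.H.equiv₀ _ (EtCore.topIsTerminal X)).symm uT
    have hy : (Ext.mk₀ (eta t)).comp (Ext.mk₀ ((EtCoh.pull t).map ((free X).map ρ))) (add_zero 0) =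
        EtCore.Hpull t _ 0 x := by
      refine (sec t _).injective ?_
      rw [sec_Hpull t _ ρ, AddEquiv.apply_symm_apply, Ext.mk₀_comp_mk₀, sec_eta_comp, ← hu, ← homEquiv_comp,
        Category.id_comp]
    rw [← sec_comp, ← HpullVia_comp_mk₀, hy, HpullVia_Hpull,
      sec_Hpull f₀ _ (mor t f f₀ w ≫ ρ), AddEquiv.apply_symm_apply, NatTrans.naturality_apply, hu,
      ← ConcreteCategory.comp_apply, ← Functor.map_comp, ← op_comp]
  obtain ⟨φ, hφ⟩ := (homEquiv (obj t) F).surjective (sec t F y)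
  have hy : y = (Ext.mk₀ (eta t)).comp (Ext.mk₀ ((EtCoh.pull t).map φ)) (add_zero 0) := by
    refine (sec t F).injective ?_
    rw [Ext.mk₀_comp_mk₀, sec_eta_comp, hφ]
  rw [← hφ, hy, HpullVia_comp_mk₀, sec_comp, key, NatTrans.naturality_apply, ← homEquiv_comp, Category.id_comp]

/-- The relative pullback corresponds to precomposition with the map of free sheaves. -/
theorem HpullVia_phi (ρ : obj t ⟶ EtCoh.top X) [Mono ρ] (F : EtCoh.Ab X) (n : ℕ)
    (x : Ext ((free X).obj (obj t)) F n) :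
    EtCore.HpullVia f t f₀ w F n (phi t F n x) =
      phi f₀ F n ((Ext.mk₀ ((free X).map (mor t f f₀ w))).comp x (zero_add n)) := by
  let e := (EtCore.pullComp f t).symm ≪≫ EtCore.pullCongr w
  let Z := (free X).obj (obj t)
  let k := (EtCore.pullConst f ℤ).inv ≫ (EtCoh.pull f).map (eta t) ≫ e.hom.app Z
  have hk : k = eta f₀ ≫ (EtCoh.pull f₀).map ((free X).map (mor t f f₀ w)) := by
    have h := sec_HpullVia t f f₀ w ρ Z (Ext.mk₀ (eta t))
    rw [show EtCore.HpullVia f t f₀ w Z 0 (Ext.mk₀ (eta t)) = Ext.mk₀ k by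
      show ((Ext.mk₀ _).comp ((Ext.mk₀ (eta t)).mapExactFunctor (EtCoh.pull f)) (zero_add 0)).comp
        (Ext.mk₀ (e.hom.app Z)) (add_zero 0) = _
      rw [Ext.mapExactFunctor_mk₀, Ext.mk₀_comp_mk₀, Ext.mk₀_comp_mk₀, Category.assoc]] at h
    refine (Ext.mk₀_bijective _ _).injective ((sec f₀ _).injective ?_)
    rw [h, sec_eta_comp, ← Category.comp_id ((free X).map (mor t f f₀ w)), homEquiv_map]
    refine congrArg _ ?_
    have := sec_eta_comp t (𝟙 Z)
    rw [CategoryTheory.Functor.map_id, Category.comp_id] at this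
    exact this
  haveI : EnoughInjectives (EtCoh.Ab X) := inferInstance
  have hnt := H18Ext.mapExactFunctor_natTrans (EtCoh.pull t) (EtCoh.pull f) (EtCoh.pull f₀) e.hom _ n F x
  show ((Ext.mk₀ _).comp (((Ext.mk₀ (eta t)).comp (x.mapExactFunctor (EtCoh.pull t)) (zero_add n)).mapExactFunctor
      (EtCoh.pull f)) (zero_add n)).comp (Ext.mk₀ (e.hom.app F)) (add_zero n) =
    (Ext.mk₀ (eta f₀)).comp (((Ext.mk₀ ((free X).map (mor t f f₀ w))).comp x (zero_add n)).mapExactFunctor
      (EtCoh.pull f₀)) (zero_add n)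
  rw [Ext.mapExactFunctor_comp, Ext.mapExactFunctor_comp, Ext.mapExactFunctor_mk₀, Ext.mapExactFunctor_mk₀,
    Ext.mk₀_comp_mk₀_assoc, Ext.mk₀_comp_mk₀_assoc, ← hk, Ext.comp_assoc_of_third_deg_zero]
  erw [hnt]
  rw [Ext.mk₀_comp_mk₀_assoc]
  simp only [k, Category.assoc]
  rfl

end Groth.Agent.H18Et.FreeSheaf
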