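import Groth.Agent.H9Hens.PtColim
import Mathlib.LinearAlgebra.DirectSum.Finsupp
import Mathlib.LinearAlgebra.TensorProduct.RightExactness

/-! Tensor products with colimits of pointed étale algebras. -/

set_option autoImplicit false

universe u

open TensorProduct

namespace Groth.Agent.H18Et.PtColimTensor

open H9Hens

set_option backward.isDefEq.respectTransparency false

variable {A : Type u} [CommRing A] {k : Type u} [CommRing k] [Algebra A k]
variable {H : Type u} [CommRing H] [Algebra A H] {π : H →ₐ[A] k}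

/-- Finitely many elements vanishing in the colimit vanish at a common stage. -/
theorem exists_eq_zero_finset (hH : IsPtColim π) {S : Type u} [CommRing S] [Algebra A S]
    [Algebra.Etale A S] (φ : S →ₐ[A] H) (F : Finset S) (h : ∀ s ∈ F, φ s = 0) :
    ∃ (T : Type u) (_ : CommRing T) (_ : Algebra A T) (_ : Algebra.Etale A T) (ψ : S →ₐ[A] T)
      (φT : T →ₐ[A] H), φT.comp ψ = φ ∧ ∀ s ∈ F, ψ s = 0 := by
  classical
  induction F using Finset.induction with
  | empty => exact ⟨S, inferInstance, inferInstance, inferInstance, AlgHom.id A S, φ,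
      AlgHom.comp_id φ, by simp⟩
  | insert a F _ ih =>
    obtain ⟨T, _, _, _, ψ, φT, hcomp, hz⟩ := ih fun s hs => h s (Finset.mem_insert_of_mem hs)
    obtain ⟨T', _, _, _, ψ', φT', hcomp', hz'⟩ := hH.exists_eq_zero T φT (ψ a)
      ((DFunLike.congr_fun hcomp a).trans (h a (Finset.mem_insert_self a F)))
    refine ⟨T', inferInstance, inferInstance, inferInstance, ψ'.comp ψ, φT',
      by rw [← AlgHom.comp_assoc, hcomp', hcomp], fun s hs => ?_⟩
    rcases Finset.mem_insert.mp hs with rfl | hs
    · exact hz'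
    · rw [AlgHom.comp_apply, hz s hs, map_zero]

variable (M : Type u) [AddCommGroup M] [Module A M]

/-- Elements of a tensor product with the colimit come from a stage over any given one. -/
theorem exists_lTensor_eq (hH : IsPtColim π) (z : M ⊗[A] H) (S : Type u) [CommRing S] [Algebra A S]
    [Algebra.Etale A S] (φ : S →ₐ[A] H) :
    ∃ (T : Type u) (_ : CommRing T) (_ : Algebra A T) (_ : Algebra.Etale A T) (ψ : S →ₐ[A] T)
      (φT : T →ₐ[A] H), φT.comp ψ = φ ∧
      ∃ w : M ⊗[A] T, φT.toLinearMap.lTensor M w = z := by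
  induction z generalizing S with
  | zero => exact ⟨S, inferInstance, inferInstance, inferInstance, AlgHom.id A S, φ,
      AlgHom.comp_id φ, 0, map_zero _⟩
  | tmul m x =>
    obtain ⟨S', i₁, i₂, i₃, φ', s, hs⟩ := hH.exists_rep x
    refine ⟨S ⊗[A] S', inferInstance, inferInstance, Algebra.Etale.comp A S (S ⊗[A] S'),
      Algebra.TensorProduct.includeLeft,
      Algebra.TensorProduct.lift φ φ' fun _ _ => Commute.all _ _,
      AlgHom.ext fun a => by simp, m ⊗ₜ (1 ⊗ₜ s), ?_⟩
    simp [hs]
  | add x y hx hy =>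
    obtain ⟨T₁, _, _, _, ψ₁, φ₁, hc₁, w₁, hw₁⟩ := hx S φ
    obtain ⟨T₂, _, _, _, ψ₂, φ₂, hc₂, w₂, hw₂⟩ := hy T₁ φ₁
    refine ⟨T₂, inferInstance, inferInstance, inferInstance, ψ₂.comp ψ₁, φ₂,
      by rw [← AlgHom.comp_assoc, hc₂, hc₁], ψ₂.toLinearMap.lTensor M w₁ + w₂, ?_⟩
    rw [map_add, hw₂, ← LinearMap.comp_apply, ← LinearMap.lTensor_comp, ← hw₁]
    congr 2
    rw [← hc₂]
    rfl

/-- The vanishing property of a module. -/
def ZeroProp (N : Type u) [AddCommGroup N] [Module A N] (φ' : H →ₐ[A] H) : Prop :=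
  ∀ (S : Type u) [CommRing S] [Algebra A S] [Algebra.Etale A S] (φ : S →ₐ[A] H) (w : N ⊗[A] S),
    (φ'.comp φ).toLinearMap.lTensor N w = 0 →
      ∃ (T : Type u) (_ : CommRing T) (_ : Algebra A T) (_ : Algebra.Etale A T) (ψ : S →ₐ[A] T)
        (φT : T →ₐ[A] H), φT.comp ψ = φ ∧ ψ.toLinearMap.lTensor N w = 0

theorem zeroProp_finsupp (hH : IsPtColim π) (ι : Type u) :
    ZeroProp (ι →₀ A) (AlgHom.id A H) := by
  classical
  intro S _ _ _ φ w hw
  rw [AlgHom.id_comp] at hw
  have key : ∀ (T : Type u) [CommRing T] [Algebra A T] (f : S →ₐ[A] T) (i : ι) (x : (ι →₀ A) ⊗[A] S),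
      TensorProduct.finsuppScalarLeft A T ι (f.toLinearMap.lTensor _ x) i =
        f (TensorProduct.finsuppScalarLeft A S ι x i) := by
    intro T _ _ f i x
    induction x with
    | zero => simp
    | tmul p t => simp
    | add x y hx hy => simp only [map_add, Finsupp.add_apply, hx, hy]
  let E := TensorProduct.finsuppScalarLeft A S ι w
  obtain ⟨T, _, _, _, ψ, φT, hc, hz⟩ := exists_eq_zero_finset hH φ (E.support.image E) (by
    simp only [Finset.mem_image]
    rintro s ⟨i, -, rfl⟩
    rw [← key H φ i w, hw, map_zero, Finsupp.zero_apply])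
  refine ⟨T, inferInstance, inferInstance, inferInstance, ψ, φT, hc, ?_⟩
  refine (TensorProduct.finsuppScalarLeft A T ι).injective (Finsupp.ext fun i => ?_)
  rw [key T ψ i w, map_zero, Finsupp.zero_apply]
  by_cases hi : i ∈ E.support
  · exact hz _ (Finset.mem_image_of_mem _ hi)
  · rw [show TensorProduct.finsuppScalarLeft A S ι w i = E i from rfl,
      Finsupp.notMem_support_iff.mp hi, map_zero]

theorem zeroProp_of_surjective (hH : IsPtColim π) {N P : Type u} [AddCommGroup N] [Module A N]
    [AddCommGroup P] [Module A P] (g : N →ₗ[A] P) (hg : Function.Surjective g)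
    (hN : ZeroProp N (AlgHom.id A H)) : ZeroProp P (AlgHom.id A H) := by
  intro S _ _ _ φ w hw
  rw [AlgHom.id_comp] at hw
  let R := LinearMap.ker g
  have hex : Function.Exact R.subtype g :=
    fun x => ⟨fun h => ⟨⟨x, h⟩, rfl⟩, fun ⟨r, hr⟩ => hr ▸ r.2⟩
  obtain ⟨w', rfl⟩ := LinearMap.rTensor_surjective S hg w
  have h0 : g.rTensor H (φ.toLinearMap.lTensor N w') = 0 := by
    rw [← hw, ← LinearMap.comp_apply, ← LinearMap.comp_apply, LinearMap.rTensor_comp_lTensor,
      LinearMap.lTensor_comp_rTensor]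
  obtain ⟨z, hz⟩ := (rTensor_exact H hex hg _).mp h0
  obtain ⟨T, _, _, _, ψ, φT, hc, wz, hwz⟩ := exists_lTensor_eq (↥R) hH z S φ
  let d := ψ.toLinearMap.lTensor N w' - R.subtype.rTensor T wz
  have hd : ((AlgHom.id A H).comp φT).toLinearMap.lTensor N d = 0 := by
    rw [AlgHom.id_comp]
    simp only [d, map_sub]
    rw [sub_eq_zero, ← LinearMap.comp_apply, ← LinearMap.lTensor_comp,
      ← LinearMap.comp_apply (φT.toLinearMap.lTensor _), LinearMap.lTensor_comp_rTensor,
      ← LinearMap.rTensor_comp_lTensor, LinearMap.comp_apply, hwz, hz]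
    rw [← hc]
    rfl
  obtain ⟨T', _, _, _, ψ', φT', hc', hd'⟩ := hN T φT d hd
  refine ⟨T', inferInstance, inferInstance, inferInstance, ψ'.comp ψ, φT',
    by rw [← AlgHom.comp_assoc, hc', hc], ?_⟩
  have h1 : (ψ'.comp ψ).toLinearMap.lTensor N w' =
      R.subtype.rTensor T' (ψ'.toLinearMap.lTensor (↥R) wz) := by
    simp only [d, map_sub, sub_eq_zero] at hd'
    rw [AlgHom.comp_toLinearMap, LinearMap.lTensor_comp, LinearMap.comp_apply, hd',
      ← LinearMap.comp_apply, ← LinearMap.comp_apply (LinearMap.rTensor T' _),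
      LinearMap.rTensor_comp_lTensor, LinearMap.lTensor_comp_rTensor]
  rw [← LinearMap.comp_apply, LinearMap.lTensor_comp_rTensor, ← LinearMap.rTensor_comp_lTensor,
    LinearMap.comp_apply, h1, ← LinearMap.comp_apply, ← LinearMap.rTensor_comp]
  have : g ∘ₗ R.subtype = 0 := LinearMap.ext fun r => r.2
  rw [this, LinearMap.rTensor_zero, LinearMap.zero_apply]

/-- An element vanishing in the tensor product with the colimit vanishes at a stage. -/
theorem exists_lTensor_eq_zero (hH : IsPtColim π) (S : Type u) [CommRing S] [Algebra A S]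
    [Algebra.Etale A S] (φ : S →ₐ[A] H) (w : M ⊗[A] S) (hw : φ.toLinearMap.lTensor M w = 0) :
    ∃ (T : Type u) (_ : CommRing T) (_ : Algebra A T) (_ : Algebra.Etale A T) (ψ : S →ₐ[A] T)
      (φT : T →ₐ[A] H), φT.comp ψ = φ ∧ ψ.toLinearMap.lTensor M w = 0 :=
  zeroProp_of_surjective hH (Finsupp.linearCombination A (id : M → M))
    (fun m => ⟨Finsupp.single m 1, by simp⟩) (zeroProp_finsupp hH M) S φ w
    (by rw [AlgHom.id_comp]; exact hw)

/-- Base change of a map of stages. -/
noncomputable def mapB (B : Type u) [CommRing B] [Algebra A B] {S T : Type u} [CommRing S]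
    [Algebra A S] [CommRing T] [Algebra A T] (f : S →ₐ[A] T) : B ⊗[A] S →ₐ[B] B ⊗[A] T :=
  Algebra.TensorProduct.map (AlgHom.id B B) f

theorem mapB_apply (B : Type u) [CommRing B] [Algebra A B] {S T : Type u} [CommRing S]
    [Algebra A S] [CommRing T] [Algebra A T] (f : S →ₐ[A] T) (x : B ⊗[A] S) :
    mapB B f x = f.toLinearMap.lTensor B x := by
  induction x with
  | zero => simp
  | tmul b s => simp [mapB]
  | add x y hx hy => simp only [map_add, hx, hy]

theorem mapB_comp (B : Type u) [CommRing B] [Algebra A B] {S T U : Type u} [CommRing S]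
    [Algebra A S] [CommRing T] [Algebra A T] [CommRing U] [Algebra A U] (f : S →ₐ[A] T)
    (g : T →ₐ[A] U) : mapB B (g.comp f) = (mapB B g).comp (mapB B f) := by
  refine AlgHom.ext fun x => ?_
  simp only [AlgHom.comp_apply, mapB_apply, AlgHom.comp_toLinearMap, LinearMap.lTensor_comp,
    LinearMap.comp_apply]

/-- Algebra maps from finitely presented algebras descend to a stage. -/
theorem exists_descend_algHom (hH : IsPtColim π) (B : Type u) [CommRing B] [Algebra A B]
    (C : Type u) [CommRing C] [Algebra B C] [Algebra.FinitePresentation B C]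
    (θ : C →ₐ[B] B ⊗[A] H) :
    ∃ (T : Type u) (_ : CommRing T) (_ : Algebra A T) (_ : Algebra.Etale A T) (φT : T →ₐ[A] H)
      (θT : C →ₐ[B] B ⊗[A] T), (mapB B φT).comp θT = θ := by
  classical
  obtain ⟨n, f, hf, F, hF⟩ := Algebra.FinitePresentation.out (R := B) (A := C)
  have hgen : ∀ t : Finset (Fin n), ∃ (T : Type u) (_ : CommRing T) (_ : Algebra A T)
      (_ : Algebra.Etale A T) (φT : T →ₐ[A] H) (w : Fin n → B ⊗[A] T),
      ∀ i ∈ t, mapB B φT (w i) = θ (f (MvPolynomial.X i)) := by
    intro t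
    induction t using Finset.induction with
    | empty => exact ⟨A, inferInstance, inferInstance, inferInstance, Algebra.ofId A H, 0, by simp⟩
    | insert a t hat ih =>
      obtain ⟨T, _, _, _, φT, w, hw⟩ := ih
      obtain ⟨T', _, _, _, ψ, φT', hc, w', hw'⟩ :=
        exists_lTensor_eq B hH (θ (f (MvPolynomial.X a))) T φT
      refine ⟨T', inferInstance, inferInstance, inferInstance, φT',
        Function.update (fun i => mapB B ψ (w i)) a w', fun i hi => ?_⟩
      rcases Finset.mem_insert.mp hi with rfl | hi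
      · rw [Function.update_self, mapB_apply, hw']
      · rw [Function.update_of_ne (fun h : i = a => hat (h ▸ hi)), ← AlgHom.comp_apply, ← mapB_comp,
          hc, hw i hi]
  obtain ⟨T, _, _, _, φT, w, hw⟩ := hgen Finset.univ
  have hf' : (mapB B φT).comp (MvPolynomial.aeval w) = θ.comp f := MvPolynomial.algHom_ext fun i => by
    simp [hw i (Finset.mem_univ i)]
  have hrel : ∀ t : Finset (MvPolynomial (Fin n) B), (∀ r ∈ t, f r = 0) →
      ∃ (T' : Type u) (_ : CommRing T') (_ : Algebra A T') (_ : Algebra.Etale A T') (ψ : T →ₐ[A] T')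
        (φT' : T' →ₐ[A] H), φT'.comp ψ = φT ∧ ∀ r ∈ t, mapB B ψ (MvPolynomial.aeval w r) = 0 := by
    intro t
    induction t using Finset.induction with
    | empty => exact fun _ => ⟨T, inferInstance, inferInstance, inferInstance, AlgHom.id A T, φT,
        AlgHom.comp_id φT, by simp⟩
    | insert a t _ ih =>
      intro h
      obtain ⟨T', _, _, _, ψ, φT', hc, hz⟩ := ih fun r hr => h r (Finset.mem_insert_of_mem hr)
      obtain ⟨T'', _, _, _, ψ', φT'', hc', hz'⟩ := exists_lTensor_eq_zero B hH T' φT'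
        (mapB B ψ (MvPolynomial.aeval w a)) (by
          rw [← mapB_apply, ← AlgHom.comp_apply, ← mapB_comp, hc, ← AlgHom.comp_apply, hf',
            AlgHom.comp_apply, h a (Finset.mem_insert_self a t), map_zero])
      refine ⟨T'', inferInstance, inferInstance, inferInstance, ψ'.comp ψ, φT'',
        by rw [← AlgHom.comp_assoc, hc', hc], fun r hr => ?_⟩
      rw [mapB_comp, AlgHom.comp_apply]
      rcases Finset.mem_insert.mp hr with rfl | hr
      · rw [mapB_apply, hz']
      · rw [hz r hr, map_zero]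
  obtain ⟨T', _, _, _, ψ, φT', hc, hz⟩ := hrel F fun r hr => by
    have : r ∈ RingHom.ker f.toRingHom := hF ▸ Ideal.subset_span hr
    exact this
  have hker : RingHom.ker f.toRingHom ≤
      RingHom.ker ((mapB B ψ).comp (MvPolynomial.aeval w)).toRingHom := by
    rw [← hF]
    exact Ideal.span_le.mpr fun r hr => hz r hr
  refine ⟨T', inferInstance, inferInstance, inferInstance, φT',
    AlgHom.liftOfSurjective f hf ((mapB B ψ).comp (MvPolynomial.aeval w)) hker, ?_⟩
  refine AlgHom.ext fun x => ?_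
  obtain ⟨r, rfl⟩ := hf x
  rw [AlgHom.comp_apply, AlgHom.liftOfSurjective_apply, AlgHom.comp_apply, ← AlgHom.comp_apply (mapB B φT'),
    ← mapB_comp, hc]
  exact DFunLike.congr_fun hf' r

end Groth.Agent.H18Et.PtColimTensor
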