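import Mathlib

/-!
# Finite étale algebras in characteristic `p` extend from closed subschemes as summands

Frobenius generates a finite unramified algebra, hence it is a quotient of an algebra
`R[x]/(x_i ^ p - ∑ M i j x_j)` with `M` invertible, which is finite étale over `R`.
-/

set_option autoImplicit false
universe u

open scoped TensorProduct

namespace Groth.Agent.H18Et.AchingerLift

section Frobenius

variable {A B : Type u} [CommRing A] [CommRing B] [Algebra A B] [Module.Finite A B]
  [Algebra.FormallyUnramified A B] (p : ℕ) [hp : Fact p.Prime]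

/-- `p`-th powers of a spanning family of a finite unramified algebra of characteristic `p` span. -/
theorem span_pow_eq_top (hB : (p : B) = 0) {ι : Type*} (b : ι → B)
    (hb : Submodule.span A (Set.range b) = ⊤) :
    Submodule.span A (Set.range fun i => b i ^ p) = ⊤ := by
  rcases subsingleton_or_nontrivial B with h | h
  · exact Subsingleton.elim _ _
  haveI : CharP B p := (CharP.charP_iff_prime_eq_zero hp.out).mpr hB
  let B' : Subalgebra A B := Algebra.adjoin A (Set.range fun x : B => x ^ p)
  have hB' : Subalgebra.toSubmodule B' ≤ Submodule.span A (Set.range fun i => b i ^ p) := by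
    rw [Algebra.adjoin_eq_span, Submodule.span_le]
    intro y hy
    have hy' : y ∈ MonoidHom.mrange (powMonoidHom p : B →* B) := by
      refine (Submonoid.closure_le.mpr ?_) hy
      rintro _ ⟨x, rfl⟩; exact ⟨x, rfl⟩
    obtain ⟨x, rfl⟩ := hy'
    have hx : x ∈ Submodule.span A (Set.range b) := hb ▸ Submodule.mem_top
    show x ^ p ∈ _
    refine Submodule.span_induction (p := fun x _ => x ^ p ∈ Submodule.span A (Set.range fun i => b i ^ p))
      ?_ ?_ ?_ ?_ hx
    · rintro _ ⟨i, rfl⟩; exact Submodule.subset_span ⟨i, rfl⟩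
    · rw [zero_pow hp.out.ne_zero]; exact zero_mem _
    · intro x y _ _ hx hy; rw [add_pow_char]; exact add_mem hx hy
    · intro a x _ hx; rw [smul_pow]; exact Submodule.smul_mem _ _ hx
  haveI : Algebra.FormallyUnramified B' B := Algebra.FormallyUnramified.of_restrictScalars A B' B
  haveI : Module.Finite B' B := Module.Finite.of_restrictScalars_finite A B' B
  have hepi : Algebra.IsEpi B' B := by
    rw [Algebra.isEpi_iff_forall_one_tmul_eq]
    intro a
    let I := KaehlerDifferential.ideal B' B
    have hI : IsIdempotentElem I :=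
      (Ideal.cotangent_subsingleton_iff I).mp (Algebra.FormallyUnramified.subsingleton_kaehlerDifferential (R := B') (A := B))
    obtain ⟨e, he, hIe⟩ := (I.isIdempotentElem_iff_of_fg (KaehlerDifferential.ideal_fg B' B)).mp hI
    have hnil : I ≤ nilradical (B ⊗[B'] B) := by
      show KaehlerDifferential.ideal B' B ≤ _
      rw [← KaehlerDifferential.span_range_eq_ideal, Ideal.span_le]
      rintro _ ⟨s, rfl⟩
      refine ⟨p, ?_⟩
      let s' : B' := ⟨s ^ p, Algebra.subset_adjoin ⟨s, rfl⟩⟩
      show ((1 : B) ⊗ₜ[B'] s - s ⊗ₜ[B'] (1 : B)) ^ p = 0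
      have hcp : (p : B ⊗[B'] B) = 0 := by
        rw [← map_natCast (algebraMap B (B ⊗[B'] B)), hB, map_zero]
      rcases subsingleton_or_nontrivial (B ⊗[B'] B) with h2 | h2
      · exact Subsingleton.elim _ _
      haveI : CharP (B ⊗[B'] B) p := (CharP.charP_iff_prime_eq_zero hp.out).mpr hcp
      rw [sub_pow_char, Algebra.TensorProduct.tmul_pow, Algebra.TensorProduct.tmul_pow, one_pow]
      have e1 : s ^ p = s' • (1 : B) := by
        show s ^ p = (s' : B) * 1
        rw [mul_one]
      rw [e1, TensorProduct.tmul_smul, TensorProduct.smul_tmul']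
      exact sub_self _
    have he0 : e = 0 := by
      obtain ⟨k, hk⟩ := hnil (hIe ▸ Submodule.mem_span_singleton_self e : e ∈ I)
      calc e = e ^ (k + 1) := (he.pow_succ_eq k).symm
        _ = 0 := by rw [pow_succ, (show e ^ k = 0 from hk), zero_mul]
    have : (1 : B) ⊗ₜ[B'] a - a ⊗ₜ[B'] (1 : B) ∈ I := KaehlerDifferential.one_smul_sub_smul_one_mem_ideal B' a
    rw [hIe, he0, Submodule.span_zero_singleton, Submodule.mem_bot, sub_eq_zero] at this
    exact this
  have hsurj := Algebra.isEpi_iff_surjective_algebraMap_of_finite.mp hepi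
  rw [eq_top_iff]
  intro x _
  obtain ⟨⟨y, hy⟩, rfl⟩ := hsurj x
  exact hB' hy

end Frobenius

section Cover

variable {R : Type u} [CommRing R] (p : ℕ) {ι : Type} [Fintype ι] [DecidableEq ι] (M : Matrix ι ι R)

/-- The ideal of the equations `x_i ^ p = ∑ M i j x_j`. -/
noncomputable def eqIdeal : Ideal (MvPolynomial ι R) :=
  Ideal.span (Set.range fun i => MvPolynomial.X i ^ p - ∑ j, MvPolynomial.C (M i j) * MvPolynomial.X j)

/-- The Frobenius-linear cover attached to a matrix. -/
abbrev Cover : Type u := MvPolynomial ι R ⧸ eqIdeal p M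

/-- The coordinates. -/
noncomputable def coord (i : ι) : Cover p M := Ideal.Quotient.mk _ (MvPolynomial.X i)

theorem coord_pow (i : ι) : coord p M i ^ p = ∑ j, M i j • coord p M j := by
  have h : Ideal.Quotient.mk (eqIdeal p M) (MvPolynomial.X i ^ p) =
      Ideal.Quotient.mk (eqIdeal p M) (∑ j, MvPolynomial.C (M i j) * MvPolynomial.X j) :=
    Ideal.Quotient.eq.mpr (Ideal.subset_span ⟨i, rfl⟩)
  rw [map_pow, map_sum] at h
  refine h.trans (Finset.sum_congr rfl fun j _ => ?_)
  rw [map_mul]
  exact (Algebra.smul_def (M i j) (coord p M j)).symm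

/-- Points of the cover. -/
theorem exists_hom {T : Type u} [CommRing T] [Algebra R T] (t : ι → T)
    (ht : ∀ i, t i ^ p = ∑ j, M i j • t j) : ∃ φ : Cover p M →ₐ[R] T, ∀ i, φ (coord p M i) = t i := by
  refine ⟨Ideal.Quotient.liftₐ _ (MvPolynomial.aeval t) fun a ha => ?_, fun i => ?_⟩
  · have : eqIdeal p M ≤ RingHom.ker (MvPolynomial.aeval (R := R) t) := by
      rw [eqIdeal, Ideal.span_le]
      rintro _ ⟨i, rfl⟩
      simp [ht i, Algebra.smul_def]
    exact this ha
  · exact (Ideal.Quotient.lift_mk _ _ _).trans (MvPolynomial.aeval_X t i)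

theorem hom_ext {T : Type u} [CommRing T] [Algebra R T] {φ ψ : Cover p M →ₐ[R] T}
    (h : ∀ i, φ (coord p M i) = ψ (coord p M i)) : φ = ψ :=
  Ideal.Quotient.algHom_ext R (MvPolynomial.algHom_ext h)

theorem finite (hp : 1 < p) : Module.Finite R (Cover p M) := by
  classical
  let mon : (ι →₀ ℕ) → Cover p M := fun e => e.prod fun i n => coord p M i ^ n
  let S : Submodule R (Cover p M) :=
    Submodule.span R (Set.range fun f : ι → Fin p => ∏ i, coord p M i ^ (f i : ℕ))
  have hmon : ∀ (d : ℕ) (e : ι →₀ ℕ), (∑ i, e i) = d → mon e ∈ S := by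
    intro d
    induction d using Nat.strong_induction_on with
    | _ d ih =>
      intro e he
      have hmeq : ∀ e : ι →₀ ℕ, mon e = ∏ i, coord p M i ^ e i := fun e =>
        Finsupp.prod_fintype _ _ fun i => pow_zero _
      rw [hmeq]
      by_cases hall : ∀ i, e i < p
      · exact Submodule.subset_span ⟨fun i => ⟨e i, hall i⟩, rfl⟩
      push Not at hall
      obtain ⟨i, hi⟩ := hall
      let e' : ι →₀ ℕ := e - Finsupp.single i p
      have hsum : e = e' + Finsupp.single i p :=
        (tsub_add_cancel_of_le (Finsupp.single_le_iff.mpr hi)).symm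
      have hs : ∀ (k : ι) (n : ℕ), ∑ l, Finsupp.single k n l = n := fun k n => by
        simp [Finsupp.single_apply]
      have hp' : ∀ (k : ι) (n : ℕ), ∏ l, coord p M l ^ Finsupp.single k n l = coord p M k ^ n := fun k n => by
        refine (Finset.prod_eq_single k (fun l _ hl => ?_) (by simp)).trans (by rw [Finsupp.single_eq_same])
        rw [Finsupp.single_eq_of_ne hl, pow_zero]
      rw [hsum]
      simp only [Finsupp.add_apply, pow_add, Finset.prod_mul_distrib]
      rw [hp', coord_pow, Finset.mul_sum]
      refine Submodule.sum_mem _ fun j _ => ?_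
      rw [mul_smul_comm]
      refine Submodule.smul_mem _ _ ?_
      have : (∏ l, coord p M l ^ e' l) * coord p M j = mon (e' + Finsupp.single j 1) := by
        rw [hmeq]
        simp only [Finsupp.add_apply, pow_add, Finset.prod_mul_distrib, hp', pow_one]
      rw [this]
      refine ih _ ?_ _ rfl
      rw [← he, hsum]
      simp only [Finsupp.add_apply, Finset.sum_add_distrib, hs]
      omega
  refine ⟨⟨Finset.univ.image (fun f : ι → Fin p => ∏ i, coord p M i ^ (f i : ℕ)), ?_⟩⟩
  rw [Finset.coe_image, Finset.coe_univ, Set.image_univ, eq_top_iff]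
  intro x _
  obtain ⟨P, rfl⟩ := Ideal.Quotient.mk_surjective x
  induction P using MvPolynomial.induction_on' with
  | monomial e a =>
    have : Ideal.Quotient.mk (eqIdeal p M) (MvPolynomial.monomial e a) = a • mon e := by
      rw [MvPolynomial.monomial_eq, map_mul, map_finsuppProd]
      refine Eq.trans ?_ (Algebra.smul_def a (mon e)).symm
      congr 1
    rw [this]
    exact Submodule.smul_mem _ _ (hmon _ e rfl)
  | add P Q hP hQ => rw [map_add]; exact Submodule.add_mem _ (hP trivial) (hQ trivial)

theorem etale [hp : Fact p.Prime] (hR : (p : R) = 0) (N : Matrix ι ι R) (hMN : M * N = 1) :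
    Algebra.Etale R (Cover p M) := by
  classical
  have hNM : N * M = 1 := mul_eq_one_comm.mp hMN
  haveI : Algebra.FinitePresentation R (Cover p M) :=
    Algebra.FinitePresentation.quotient ⟨Finset.univ.image
      (fun i => MvPolynomial.X i ^ p - ∑ j, MvPolynomial.C (M i j) * MvPolynomial.X j), by
        rw [Finset.coe_image, Finset.coe_univ, Set.image_univ]; rfl⟩
  refine ⟨?_, inferInstance⟩
  rw [Algebra.FormallyEtale.iff_comp_bijective]
  intro T _ _ I hI
  have hpT : (p : T) = 0 := by rw [← map_natCast (algebraMap R T), hR, map_zero]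
  have hsq : ∀ {x y : T}, x ∈ I → y ∈ I → x * y = 0 := fun hx hy => by
    have h := Ideal.mul_mem_mul hx hy
    rwa [← pow_two, hI, Ideal.mem_bot] at h
  have hpow : ∀ (x n : T), n ∈ I → (x + n) ^ p = x ^ p := by
    intro x n hn
    have key : ∀ m : ℕ, ∃ c : T, (x + n) ^ m = x ^ m + c * n ∧ c = (m : T) * x ^ (m - 1) := by
      intro m
      induction m with
      | zero => exact ⟨0, by simp, by simp⟩
      | succ m ih =>
        obtain ⟨c, hc, rfl⟩ := ih
        refine ⟨_, ?_, rfl⟩
        rw [pow_succ, hc]
        rcases m with _ | m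
        · simp
        · simp only [Nat.add_sub_cancel, pow_succ, Nat.cast_succ]
          linear_combination ((m : T) + 1) * x ^ m * hsq hn hn
    obtain ⟨c, hc, rfl⟩ := key p
    rw [hc, hpT, zero_mul, zero_mul, add_zero]
  constructor
  · intro φ ψ h
    refine hom_ext p M fun i => ?_
    have hd : ∀ j, φ (coord p M j) - ψ (coord p M j) ∈ I := fun j =>
      Ideal.Quotient.eq.mp (DFunLike.congr_fun h (coord p M j))
    have hlin : ∀ k, ∑ j, M k j • (φ (coord p M j) - ψ (coord p M j)) = 0 := fun k => by
      simp only [smul_sub, Finset.sum_sub_distrib, ← map_smul, ← map_sum, ← coord_pow, map_pow]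
      rw [sub_eq_zero]
      conv_lhs => rw [show φ (coord p M k) = ψ (coord p M k) + (φ (coord p M k) - ψ (coord p M k)) by ring]
      exact hpow _ _ (hd k)
    have h2 : ∑ k, N i k • (∑ j, M k j • (φ (coord p M j) - ψ (coord p M j))) = 0 := by simp [hlin]
    simp only [Finset.smul_sum, smul_smul] at h2
    rw [Finset.sum_comm] at h2
    simp only [← Finset.sum_smul] at h2
    have h3 : ∀ j, ∑ k, N i k * M k j = (1 : Matrix ι ι R) i j := fun j => by rw [← hNM]; rfl
    simp only [h3, Matrix.one_apply, ite_smul, one_smul, zero_smul, Finset.sum_ite_eq, Finset.mem_univ,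
      if_true, sub_eq_zero] at h2
    exact h2
  · intro g
    choose t ht using fun i => Ideal.Quotient.mk_surjective (g (coord p M i))
    let d : ι → T := fun k => t k ^ p - ∑ j, M k j • t j
    have hd : ∀ k, d k ∈ I := fun k => by
      rw [← Ideal.Quotient.eq_zero_iff_mem]
      have hg := congrArg g (coord_pow p M k)
      simp only [map_pow, map_sum, map_smul, ← ht] at hg
      simp only [d, map_sub, map_pow, map_sum, sub_eq_zero]
      exact hg
    let n : ι → T := fun i => ∑ k, N i k • d k
    have hn : ∀ i, n i ∈ I := fun i => Submodule.sum_mem _ fun k _ =>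
      Submodule.smul_of_tower_mem I _ (hd k)
    have hMn : ∀ k, ∑ j, M k j • n j = d k := fun k => by
      simp only [n, Finset.smul_sum, smul_smul]
      rw [Finset.sum_comm]
      simp only [← Finset.sum_smul]
      have h3 : ∀ l, ∑ j, M k j * N j l = (1 : Matrix ι ι R) k l := fun l => by rw [← hMN]; rfl
      simp [h3, Matrix.one_apply]
    obtain ⟨φ, hφ⟩ := exists_hom p M (fun i => t i + n i) fun k => by
      rw [hpow _ _ (hn k)]
      simp only [smul_add, Finset.sum_add_distrib, hMn]
      simp [d]
    refine ⟨φ, hom_ext p M fun i => ?_⟩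
    show Ideal.Quotient.mk I (φ (coord p M i)) = g (coord p M i)
    rw [hφ, map_add, Ideal.Quotient.eq_zero_iff_mem.mpr (hn i), add_zero, ht]

end Cover

/-- A finite étale algebra over a quotient of a characteristic `p` ring is a quotient of one over the ring. -/
theorem exists_lift {R A B : Type u} [CommRing R] [CommRing A] [CommRing B] (p : ℕ) [hp : Fact p.Prime]
    (hR : (p : R) = 0) [Algebra R A] (hRA : Function.Surjective (algebraMap R A)) [Algebra A B]
    [Module.Finite A B] [Algebra.Etale A B] :
    ∃ (C : Type u) (_ : CommRing C) (_ : Algebra R C), Module.Finite R C ∧ Algebra.Etale R C ∧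
      ∃ ψ : A ⊗[R] C →ₐ[A] B, Function.Surjective ψ := by
  classical
  letI : Algebra R B := ((algebraMap A B).comp (algebraMap R A)).toAlgebra
  haveI : IsScalarTower R A B := IsScalarTower.of_algebraMap_eq fun _ => rfl
  haveI : Module.Finite R A := Module.Finite.of_surjective (Algebra.linearMap R A) hRA
  haveI : Module.Finite R B := Module.Finite.trans A B
  haveI : Algebra.FormallyUnramified R A := Algebra.FormallyUnramified.of_surjective (Algebra.ofId R A) hRA
  haveI : Algebra.FormallyUnramified R B := Algebra.FormallyUnramified.comp R A B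
  have hB : (p : B) = 0 := by rw [← map_natCast (algebraMap R B), hR, map_zero]
  obtain ⟨m, b, hb⟩ := Module.Finite.exists_fin (R := R) (M := B)
  have hT : ∀ i, b i ∈ Submodule.span R (Set.range fun j => b j ^ p) := fun i => by
    rw [span_pow_eq_top p hB b hb]; trivial
  have hS : ∀ i, b i ^ p ∈ Submodule.span R (Set.range b) := fun i => by rw [hb]; trivial
  choose T hT using fun i => (Submodule.mem_span_range_iff_exists_fun R).mp (hT i)
  choose S hS using fun i => (Submodule.mem_span_range_iff_exists_fun R).mp (hS i)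
  let S' : Matrix (Fin m) (Fin m) R := Matrix.of S
  let T' : Matrix (Fin m) (Fin m) R := Matrix.of T
  let M := Matrix.fromBlocks S' 1 (T' * S' - 1) T'
  let N := Matrix.fromBlocks T' (-1) (1 - S' * T') S'
  have hMN : M * N = 1 := by
    rw [Matrix.fromBlocks_multiply, ← Matrix.fromBlocks_one]
    congr 1 <;> noncomm_ring
  let c : Fin m ⊕ Fin m → B := Sum.elim b 0
  have hc : ∀ i, c i ^ p = ∑ j, M i j • c j := by
    rintro (i | i)
    · simp [M, c, Fintype.sum_sum_type, S', hS]
    · have h : ∑ j, (T' * S') i j • b j = b i := by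
        simp only [Matrix.mul_apply, Finset.sum_smul, ← smul_smul]
        rw [Finset.sum_comm]
        simp only [← Finset.smul_sum]
        simp only [S', T', Matrix.of_apply, hS, hT]
      simp [M, c, Fintype.sum_sum_type, zero_pow hp.out.ne_zero, sub_smul, Finset.sum_sub_distrib, h,
        Matrix.one_apply, ite_smul]
  obtain ⟨φ, hφ⟩ := exists_hom p M c hc
  refine ⟨Cover p M, inferInstance, inferInstance, finite p M hp.out.one_lt, etale p M hR N hMN,
    Algebra.TensorProduct.lift (Algebra.ofId A B) φ (fun x y => mul_comm _ _), fun x => ?_⟩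
  have hx : x ∈ LinearMap.range φ.toLinearMap := by
    have : Submodule.span R (Set.range b) ≤ LinearMap.range φ.toLinearMap := by
      rw [Submodule.span_le]
      rintro _ ⟨i, rfl⟩
      exact ⟨coord p M (Sum.inl i), hφ _⟩
    exact this (hb ▸ Submodule.mem_top)
  obtain ⟨y, rfl⟩ := hx
  exact ⟨1 ⊗ₜ y, by simp⟩

end Groth.Agent.H18Et.AchingerLift
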