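import Groth.Agent.H18Et.ConstSheaf
import Groth.Agent.H18Et.Support

/-!
# Subsheaves of constant sheaves on irreducible schemes
-/

set_option backward.isDefEq.respectTransparency false
set_option backward.isDefEq.respectTransparency.types false

universe u

open CategoryTheory CategoryTheory.Limits AlgebraicGeometry Opposite

namespace Groth.Agent.H18Et.ConstSheaf

variable {X : Scheme.{u}}

variable {A : Type (u + 2)} [Category.{u + 1} A] [HasColimitsOfSize.{u, u} A]
  {FA : A → A → Type*} {CA : A → Type (u + 1)} [∀ P Q, FunLike (FA P Q) (CA P) (CA Q)]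
  [ConcreteCategory.{u + 1} A FA] [PreservesFilteredColimitsOfSize.{u, u} (CategoryTheory.forget A)]
  [X.smallEtaleTopology.HasSheafCompose (CategoryTheory.forget A)]
  [HasWeakSheafify X.smallEtaleTopology A] [X.smallEtaleTopology.WEqualsLocallyBijective A]
  [HasProducts.{u} A]

theorem map_rest_unitTop {M N : A} (φ : M ⟶ N) (U : X.Etale) (m : ToType M) :
    ((constantSheaf X.smallEtaleTopology A).map φ).hom.app (op U)
        (rest ((constantSheaf X.smallEtaleTopology A).obj M) U (unitTop M m)) =
      rest ((constantSheaf X.smallEtaleTopology A).obj N) U (unitTop N (φ m)) := by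
  rw [rest_unitTop, rest_unitTop]
  have := congrArg (fun k => NatTrans.app k (op U))
    (toSheafify_naturality X.smallEtaleTopology ((Functor.const X.Etaleᵒᵖ).map φ))
  simp only [NatTrans.comp_app, Functor.const_map_app] at this
  refine Eq.trans ?_ ((ConcreteCategory.congr_hom this m).symm.trans (ConcreteCategory.comp_apply _ _ _))
  exact (ConcreteCategory.comp_apply _ _ _).symm

theorem isLocallySurjective_constMono [IrreducibleSpace ↥X] {Ω : Type u} [Field Ω] [IsSepClosed Ω]
    (ξ : Spec (CommRingCat.of Ω) ⟶ X) (hξ : ξ.base default = genericPoint ↥X)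
    {M' M : A} (i : M' ⟶ M) (G : Sheaf X.smallEtaleTopology A)
    (a : (constantSheaf X.smallEtaleTopology A).obj M' ⟶ G)
    (b : G ⟶ (constantSheaf X.smallEtaleTopology A).obj M)
    (hb : ∀ U : X.Etale, Function.Injective (b.hom.app (op U)))
    (hab : a ≫ b = (constantSheaf X.smallEtaleTopology A).map i)
    (hst : Function.Surjective ((Scheme.pointSmallEtale ξ).sheafFiber.map a)) :
    CategoryTheory.Sheaf.IsLocallySurjective a := by
  have hM := isConstant_unitTop (X := X) M
  have hM' := isConstant_unitTop (X := X) M'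
  refine isLocallySurjective_of_stalk a fun x => ⟨SeparableClosure (X.residueField x), inferInstance, inferInstance, geomPt x, geomPt_base x, fun p => ?_⟩
  obtain ⟨U, z, s, rfl⟩ := germ_surjective _ G p
  obtain ⟨m, hm⟩ := exists_mem_locus hM (b.hom.app (op U) s) (ptOf z)
  obtain ⟨V, g, ⟨v, hv⟩, e⟩ := hm
  haveI : Etale V.hom := V.prop
  obtain ⟨w, -, hw⟩ : genericPoint ↥X ∈ V.hom.base '' Set.univ :=
    ((genericPoint_spec ↥X).mem_open_set_iff (V.hom.isOpenMap _ isOpen_univ)).2
      ⟨V.hom.base v, trivial, v, trivial, rfl⟩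
  obtain ⟨y, -⟩ := exists_fiber_over w ξ (hξ.trans hw.symm)
  obtain ⟨q, hq⟩ := hst (germ ξ G V y (G.obj.map g.op s))
  obtain ⟨m', rfl⟩ := (hM' Ω ξ V y).2 q
  dsimp only at hq
  have hcomp : ∀ k : ToType M', b.hom.app (op V) (a.hom.app (op V)
      (rest ((constantSheaf X.smallEtaleTopology A).obj M') V (unitTop M' k))) =
        rest ((constantSheaf X.smallEtaleTopology A).obj M) V (unitTop M (i k)) := fun k =>
    ((ConcreteCategory.comp_apply (a.hom.app (op V)) (b.hom.app (op V)) _).symm.trans
      (ConcreteCategory.congr_hom (congrArg (fun φ => φ.hom.app (op V)) hab) _)).trans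
      (map_rest_unitTop i V k)
  have e' : b.hom.app (op V) (G.obj.map g.op s) =
      rest ((constantSheaf X.smallEtaleTopology A).obj M) V (unitTop M m) :=
    (NatTrans.naturality_apply b.hom g.op s).trans e
  have hmm : m = i m' := by
    refine (hM Ω ξ V y).1 ?_
    dsimp only
    rw [← e', ← hcomp, ← germ_naturality, ← germ_naturality, ← hq, germ_naturality]
  have hs : G.obj.map g.op s = a.hom.app (op V)
      (rest ((constantSheaf X.smallEtaleTopology A).obj M') V (unitTop M' m')) :=
    hb V (by rw [e', hcomp, hmm])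
  obtain ⟨y₀, hy₀⟩ := exists_fiber_lift g z v hv
  refine ⟨germ _ ((constantSheaf X.smallEtaleTopology A).obj M') V y₀ (rest ((constantSheaf X.smallEtaleTopology A).obj M') V (unitTop M' m')), ?_⟩
  rw [germ_naturality, ← hs, ← hy₀]
  exact (Scheme.pointSmallEtale (geomPt x)).toPresheafFiber_w_apply g y₀ G.obj s

end Groth.Agent.H18Et.ConstSheaf
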