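import Groth.Agent.H18Et.EtaleRestrict
import Groth.Agent.H18Et.StalkSets
import Groth.Agent.H17.OpenPushout

/-!
# Doubling an etale scheme along an open
-/

set_option autoImplicit false

universe u

open CategoryTheory CategoryTheory.Limits AlgebraicGeometry Opposite

namespace Groth.Agent.H18Et.Doubling

set_option backward.isDefEq.respectTransparency false
set_option backward.isDefEq.respectTransparency.types false

variable {X : Scheme.{u}} {U V : X.Etale} (g : V ⟶ U) [IsOpenImmersion g.left]

/-- The structure map of the doubled scheme. -/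
noncomputable def q : pushout g.left g.left ⟶ X := pushout.desc U.hom U.hom rfl

theorem inl_q : pushout.inl g.left g.left ≫ q g = U.hom := pushout.inl_desc _ _ _

theorem inr_q : pushout.inr g.left g.left ≫ q g = U.hom := pushout.inr_desc _ _ _

/-- The cover of the doubled scheme by the two copies of `U`. -/
noncomputable def cover : (pushout g.left g.left).OpenCover :=
  Scheme.Cover.mkOfCovers Bool (fun _ => U.left)
    (fun b => bif b then pushout.inl g.left g.left else pushout.inr g.left g.left)
    (fun x => by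
      rcases H17.OpenPushout.inl_or_inr g.left g.left x with h | h
      · exact ⟨true, h⟩
      · exact ⟨false, h⟩)
    (fun b => by cases b <;> dsimp <;> infer_instance)

instance etale_q : Etale (q g) := by
  refine IsZariskiLocalAtSource.of_openCover (P := @Etale) (cover g) fun b => ?_
  cases b
  · show Etale (pushout.inr g.left g.left ≫ q g)
    rw [inr_q]; exact U.prop
  · show Etale (pushout.inl g.left g.left ≫ q g)
    rw [inl_q]; exact U.prop

/-- The doubled scheme as an object of the etale site. -/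
noncomputable def obj : X.Etale := (EtaleRestrict.emap (q g)).obj (EtCoh.top _)

/-- The first copy. -/
noncomputable def i₁ : U ⟶ obj g :=
  MorphismProperty.Over.homMk (pushout.inl g.left g.left)
    ((congrArg (pushout.inl g.left g.left ≫ ·) (Category.id_comp (q g))).trans (inl_q g))

/-- The second copy. -/
noncomputable def i₂ : U ⟶ obj g :=
  MorphismProperty.Over.homMk (pushout.inr g.left g.left)
    ((congrArg (pushout.inr g.left g.left ≫ ·) (Category.id_comp (q g))).trans (inr_q g))

theorem comp_i₁ : g ≫ i₁ g = g ≫ i₂ g := MorphismProperty.Over.Hom.ext pushout.condition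

theorem factor {Z : X.Etale} {a b : Z ⟶ U} (h : a ≫ i₁ g = b ≫ i₂ g) : ∃ c : Z ⟶ V, c ≫ g = a ∧ c ≫ g = b := by
  have hl : a.left ≫ pushout.inl g.left g.left = b.left ≫ pushout.inr g.left g.left := congrArg (fun t => t.left) h
  have hp : ∀ z, ∃ w, g.left w = a.left z ∧ g.left w = b.left z := fun z => by
    refine H17.OpenPushout.inl_eq_inr g.left g.left ?_
    rw [← Scheme.Hom.comp_apply, hl, Scheme.Hom.comp_apply]
  have hra : Set.range a.left ⊆ Set.range g.left := by
    rintro _ ⟨z, rfl⟩
    obtain ⟨w, hw, -⟩ := hp z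
    exact ⟨w, hw⟩
  have hrb : Set.range b.left ⊆ Set.range g.left := by
    rintro _ ⟨z, rfl⟩
    obtain ⟨w, -, hw⟩ := hp z
    exact ⟨w, hw⟩
  have h1 := IsOpenImmersion.lift_fac g.left a.left hra
  have h2 := IsOpenImmersion.lift_fac g.left b.left hrb
  have heq : IsOpenImmersion.lift g.left a.left hra = IsOpenImmersion.lift g.left b.left hrb := by
    rw [← cancel_mono (g.left ≫ pushout.inl g.left g.left), reassoc_of% h1, pushout.condition, reassoc_of% h2]
    exact hl
  let c : Z ⟶ V := MorphismProperty.Over.homMk (IsOpenImmersion.lift g.left a.left hra) (by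
    calc IsOpenImmersion.lift g.left a.left hra ≫ V.hom
        = IsOpenImmersion.lift g.left a.left hra ≫ g.left ≫ U.hom := congrArg _ (Over.w g.hom).symm
      _ = a.left ≫ U.hom := by rw [reassoc_of% h1]
      _ = Z.hom := Over.w a.hom)
  exact ⟨c, MorphismProperty.Over.Hom.ext h1, MorphismProperty.Over.Hom.ext (show IsOpenImmersion.lift g.left a.left hra ≫ g.left = b.left by rw [heq]; exact h2)⟩

theorem mono_i₁ {Z : X.Etale} {a b : Z ⟶ U} (h : a ≫ i₁ g = b ≫ i₁ g) : a = b :=
  MorphismProperty.Over.Hom.ext ((cancel_mono (pushout.inl g.left g.left)).1 (congrArg (fun t => t.left) h))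

theorem mono_i₂ {Z : X.Etale} {a b : Z ⟶ U} (h : a ≫ i₂ g = b ≫ i₂ g) : a = b :=
  MorphismProperty.Over.Hom.ext ((cancel_mono (pushout.inr g.left g.left)).1 (congrArg (fun t => t.left) h))

/-- A section on `U` vanishing on `V` glues with the zero section on the other copy. -/
theorem exists_glue_zero (F : EtCoh.Ab X) (s : F.obj.obj (op U)) (hs : F.obj.map g.op s = 0) :
    ∃ t : F.obj.obj (op (obj g)), F.obj.map (i₁ g).op t = s ∧ F.obj.map (i₂ g).op t = 0 := by
  let π : Bool → (U ⟶ obj g) := fun b => bif b then i₁ g else i₂ g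
  have hcov : Sieve.ofArrows (fun _ : Bool => U) π ∈ X.smallEtaleTopology (obj g) := by
    refine mem_topology_of_forall_point _ fun x => ?_
    rcases H17.OpenPushout.inl_or_inr g.left g.left x with ⟨a, ha⟩ | ⟨a, ha⟩
    · exact ⟨U, i₁ g, a, Sieve.ofArrows_mk _ π true, ha⟩
    · exact ⟨U, i₂ g, a, Sieve.ofArrows_mk _ π false, ha⟩
  have hsheaf : Presieve.IsSheafFor (F.obj ⋙ CategoryTheory.forget AddCommGrpCat.{u + 1})
      (Presieve.ofArrows (fun _ : Bool => U) π) :=
    Presieve.isSheafFor_iff_generate _ |>.2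
      (((isSheaf_iff_isSheaf_of_type _ _).1
        ((sheafCompose _ (CategoryTheory.forget AddCommGrpCat.{u + 1})).obj F).property) _ hcov)
  let x : Bool → F.obj.obj (op U) := fun b => bif b then s else 0
  obtain ⟨t, ht, -⟩ := (Presieve.isSheafFor_arrows_iff _ π).1 hsheaf x fun i k Z a b hab => by
    show F.obj.map a.op (x i) = F.obj.map b.op (x k)
    have cross : ∀ {a b : Z ⟶ U}, a ≫ i₁ g = b ≫ i₂ g → F.obj.map a.op s = 0 := fun {a b} h => by
      obtain ⟨c, hc, -⟩ := factor g h
      rw [← hc, op_comp, Functor.map_comp, CategoryTheory.comp_apply, hs, map_zero]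
    cases i <;> cases k <;> dsimp [x, π] at hab ⊢
    · rw [mono_i₂ g hab]
    · rw [map_zero, cross hab.symm]
    · rw [map_zero, cross hab]
    · rw [mono_i₁ g hab]
  exact ⟨t, ht true, ht false⟩

/-- If `H¹` of the doubled scheme vanishes for the first term, sections of the quotient lift. -/
theorem surjective_app_of_subsingleton {S : ShortComplex (EtCoh.Ab X)} (hS : S.ShortExact)
    (h : Subsingleton (EtCoh.H (pushout g.left g.left) ((EtCoh.pull (q g)).obj S.X₁) 1)) :
    Function.Surjective (S.g.hom.app (op (obj g))) := by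
  let W := pushout g.left g.left
  let R := EtaleRestrict.res (q g)
  haveI : PreservesLimitsOfSize.{0, 0} R :=
    ((EtaleRestrict.emap (q g)).sheafAdjunctionContinuous AddCommGrpCat.{u + 1} W.smallEtaleTopology
      X.smallEtaleTopology).rightAdjoint_preservesLimits
  haveI : PreservesColimitsOfSize.{0, 0} R := (EtaleRestrict.resPushAdj (q g)).leftAdjoint_preservesColimits
  haveI : PreservesFiniteLimits R := PreservesLimitsOfSize.preservesFiniteLimits _
  haveI : PreservesFiniteColimits R := PreservesColimitsOfSize.preservesFiniteColimits _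
  haveI : R.Additive := (EtaleRestrict.resPushAdj (q g)).left_adjoint_additive
  have hS' := hS.map_of_exact R
  have h1 : Subsingleton (EtCoh.H W (R.obj S.X₁) 1) :=
    @Equiv.subsingleton _ _ ((EtCoh.HF W 1).mapIso ((EtaleRestrict.pullIso (q g)).app S.X₁)).addCommGroupIsoToAddEquiv.symm.toEquiv h
  intro t
  let hT := EtCore.topIsTerminal W
  let e := (CategoryTheory.Sheaf.H.equiv₀ (R.obj S.X₃) hT).symm t
  obtain ⟨e', he'⟩ := Abelian.Ext.covariant_sequence_exact₃ _ hS' e rfl (Subsingleton.elim (h := h1) _ _)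
  refine ⟨CategoryTheory.Sheaf.H.equiv₀ (R.obj S.X₂) hT e', ?_⟩
  have h2 := CategoryTheory.Sheaf.H.equiv₀_naturality hT (R.map S.g) e'
  rw [show CategoryTheory.Sheaf.H.map (R.map S.g) 0 e' = e from he'] at h2
  exact h2.trans ((CategoryTheory.Sheaf.H.equiv₀ (R.obj S.X₃) hT).apply_symm_apply t)

/-- Two lifts from `U` of sections agreeing on `V`: restriction to an open is surjective. -/
theorem surjective_restrict (F : EtCoh.Ab X) (S : ShortComplex (EtCoh.Ab X)) (hS : S.ShortExact)
    (hF : S.X₁ = F) [Injective S.X₂]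
    (hI : Function.Surjective (S.X₂.obj.map g.op))
    (h : Subsingleton (EtCoh.H (pushout g.left g.left) ((EtCoh.pull (q g)).obj S.X₁) 1))
    (hinj : ∀ W : X.Etale, Function.Injective (S.f.hom.app (op W)))
    (hex : ∀ (W : X.Etale) (a : S.X₂.obj.obj (op W)), S.g.hom.app (op W) a = 0 →
      ∃ b, S.f.hom.app (op W) b = a) :
    Function.Surjective (F.obj.map g.op) := by
  subst hF
  intro s
  have nat : ∀ {A B : X.Etale} (k : A ⟶ B) {P Q : EtCoh.Ab X} (φ : P ⟶ Q) (z : P.obj.obj (op B)),
      φ.hom.app (op A) (P.obj.map k.op z) = Q.obj.map k.op (φ.hom.app (op B) z) :=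
    fun {A B} k {P Q} φ z => NatTrans.naturality_apply φ.hom k.op z
  obtain ⟨t, ht⟩ := hI (S.f.hom.app (op V) s)
  have hzero : ∀ (W : X.Etale) (z : S.X₁.obj.obj (op W)), S.g.hom.app (op W) (S.f.hom.app (op W) z) = 0 := fun W z => by
    rw [← CategoryTheory.comp_apply, ← NatTrans.comp_app, ← ObjectProperty.FullSubcategory.comp_hom, S.zero]
    rfl
  have hq : S.X₃.obj.map g.op (S.g.hom.app (op U) t) = 0 := by
    rw [← nat g S.g t, ht, hzero]
  obtain ⟨T, hT1, hT2⟩ := exists_glue_zero g S.X₃ _ hq
  obtain ⟨r, hr⟩ := surjective_app_of_subsingleton g hS h T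
  obtain ⟨a, ha⟩ := hex U (t - S.X₂.obj.map (i₁ g).op r) (by
    rw [map_sub, nat (i₁ g) S.g r, hr, hT1, sub_self])
  obtain ⟨b, hb⟩ := hex U (S.X₂.obj.map (i₂ g).op r) (by rw [nat (i₂ g) S.g r, hr, hT2])
  refine ⟨a + b, hinj V ?_⟩
  rw [nat g S.f, map_add, ha, hb, map_add, map_sub, ht]
  have e : S.X₂.obj.map g.op (S.X₂.obj.map (i₁ g).op r) = S.X₂.obj.map g.op (S.X₂.obj.map (i₂ g).op r) := by
    rw [← CategoryTheory.comp_apply, ← CategoryTheory.comp_apply, ← Functor.map_comp, ← Functor.map_comp,
      ← op_comp, ← op_comp, comp_i₁]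
  rw [e, sub_add_cancel]

end Groth.Agent.H18Et.Doubling
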