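import Groth.Agent.H18Et.ExtZeroOpen
import Groth.Agent.H18Et.ExtZeroBaseChange
import Groth.Agent.H18Et.PushClosed
import Groth.Agent.H18Et.FibreSections

/-!
# Extension by zero commutes with finite direct images
-/

set_option autoImplicit false

universe u

open CategoryTheory CategoryTheory.Limits AlgebraicGeometry Opposite

namespace Groth.Agent.H18Et.ExtZeroStalk

set_option backward.isDefEq.respectTransparency false
set_option backward.isDefEq.respectTransparency.types false

variable {U X : Scheme.{u}} (j : U ⟶ X) [Etale j] [EtShriek.JCont j] [IsOpenImmersion j]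

/-- It is enough to test the vanishing at algebraically closed points. -/
theorem isIso_counit_of_algClosed (G : EtCoh.Ab X)
    (hzero : ∀ (Ω : Type u) [Field Ω] [IsAlgClosed Ω] (ξ : Spec (CommRingCat.of Ω) ⟶ X),
      ξ default ∉ Set.range j → Subsingleton ((EtCoh.stalk ξ).obj G)) :
    IsIso ((EtShriek.extZeroAdj j).counit.app G) := by
  refine isIso_of_stalk _ fun x => ?_
  let ξ : Spec (CommRingCat.of (AlgebraicClosure (X.residueField x))) ⟶ X :=
    (Scheme.SpecToEquivOfField (AlgebraicClosure (X.residueField x)) X).symm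
      ⟨x, CommRingCat.ofHom (algebraMap (X.residueField x) _)⟩
  refine ⟨_, _, inferInstance, ξ, by simp [ξ, Scheme.SpecToEquivOfField], ?_⟩
  by_cases h : ξ default ∈ Set.range j
  · haveI := isIso_stalk_counit_of_mem ξ G h
    exact ConcreteCategory.bijective_of_isIso _
  · haveI : Subsingleton ↑((EtCoh.stalk ξ).obj ((EtShriek.restrAlong j ⋙ EtShriek.extZero j).obj G)) :=
      AddCommGrpCat.subsingleton_of_isZero (isZero_stalk_extZero_of_notMem j ξ ((EtShriek.restrAlong j).obj G) h)
    haveI := hzero _ ξ h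
    exact ⟨Function.injective_of_subsingleton _, fun p => ⟨0, Subsingleton.elim (α := (EtCoh.stalk ξ).obj G) _ _⟩⟩

/-- Restriction of a direct image is the direct image of the restriction. -/
noncomputable def restrPushIso {U' X' : Scheme.{u}} {f : X' ⟶ X} {j' : U' ⟶ X'} [Etale j'] [EtShriek.JCont j']
    {g : U' ⟶ U} (h : IsPullback j' g f j) :
    EtShriek.restrAlong j' ⋙ EtCoh.push g ≅ EtCoh.push f ⋙ EtShriek.restrAlong j :=
  let J₁ := U.smallEtaleTopology
  let J₂ := X'.smallEtaleTopology
  haveI : (EtCoh.bc g ⋙ EtShriek.compEtale j').IsContinuous J₁ J₂ :=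
    Functor.isContinuous_comp _ _ J₁ U'.smallEtaleTopology J₂
  haveI : (EtShriek.compEtale j ⋙ EtCoh.bc f).IsContinuous J₁ J₂ :=
    Functor.isContinuous_comp _ _ J₁ X.smallEtaleTopology J₂
  Functor.sheafPushforwardContinuousIso (ExtZeroBaseChange.siteIso h) AddCommGrpCat.{u + 1} J₁ J₂

theorem nonempty_push_extZero_iso {U' X' : Scheme.{u}} (f : X' ⟶ X) [IsFinite f] (j' : U' ⟶ X') [IsOpenImmersion j']
    [Etale j'] [EtShriek.JCont j'] (g : U' ⟶ U) (h : IsPullback j' g f j) (F : EtCoh.Ab U')
    (hunit : IsIso ((EtShriek.extZeroAdj j').unit.app F)) :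
    Nonempty ((EtCoh.push f).obj ((EtShriek.extZero j').obj F) ≅ (EtShriek.extZero j).obj ((EtCoh.push g).obj F)) := by
  have hi : IsIso ((EtShriek.extZeroAdj j).counit.app ((EtCoh.push f).obj ((EtShriek.extZero j').obj F))) := by
    refine isIso_counit_of_algClosed j _ fun Ω _ _ η hη => ⟨fun a b => ?_⟩
    refine pushEval_jointly_injective (f := f) (η := η) ((EtShriek.extZero j').obj F) a b fun ξ => ?_
    haveI := AddCommGrpCat.subsingleton_of_isZero (isZero_stalk_extZero_of_notMem j' ξ.1 F (fun ⟨p, hp⟩ => hη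
      ⟨g p, by rw [← Scheme.Hom.comp_apply, ← h.w, Scheme.Hom.comp_apply, hp, ← Scheme.Hom.comp_apply, ξ.2]⟩))
    exact Subsingleton.elim (α := (EtCoh.stalk ξ.1).obj ((EtShriek.extZero j').obj F)) _ _
  exact ⟨(@asIso _ _ _ _ _ hi).symm ≪≫ (EtShriek.extZero j).mapIso
    (((restrPushIso j h).app _).symm ≪≫ (EtCoh.push g).mapIso (asIso ((EtShriek.extZeroAdj j').unit.app F)).symm)⟩

end Groth.Agent.H18Et.ExtZeroStalk
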