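import Mathlib.AlgebraicGeometry.Geometrically.Irreducible
import Mathlib.AlgebraicGeometry.Morphisms.UniversallyOpen
import Groth.Agent.H18Et.FEtRestrictApps

/-! Connectedness of base changes of finite etale covers of an irreducible scheme. -/

set_option autoImplicit false

universe u

open CategoryTheory CategoryTheory.Limits AlgebraicGeometry

namespace Groth.Agent.H18Et.FEtConnected

open FEtGalois

set_option backward.isDefEq.respectTransparency false

theorem connectedSpace_pullback {X W : Scheme.{u}} [IrreducibleSpace X] (π : W ⟶ X) [Flat π]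
    [GeometricallyIrreducible π] (Z : FEt.Cat X) [ConnectedSpace Z.left] :
    ConnectedSpace ↥(pullback Z.hom π) := by
  have : IsFinite Z.hom := isFinite_hom Z
  have : Etale Z.hom := etale_hom Z
  let p := pullback.fst Z.hom π
  have : Flat p := inferInstance
  have : GeometricallyIrreducible p := inferInstance
  have hp : Function.Surjective p := p.surjective
  have hgen : GeneralizingMap p := Flat.generalizingMap p
  have hne : Nonempty ↥(pullback Z.hom π) := ⟨(hp (Classical.arbitrary Z.left)).choose⟩
  refine { toPreconnectedSpace := preconnectedSpace_iff_clopen.mpr ?_, toNonempty := hne }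
  intro A hA
  by_contra hA'
  push Not at hA'
  have hfib : ∀ q q', p q = p q' → q ∈ A → q' ∈ A := fun q q' h hq =>
    (show IsIrreducible (p ⁻¹' {p q}) by
      rw [← p.range_fiberι, ← Set.image_univ]
      exact (IrreducibleSpace.isIrreducible_univ _).image _
        (p.fiberι _).continuous.continuousOn).isPreirreducible.isPreconnected.subset_isClopen hA
      ⟨q, rfl, hq⟩ h.symm
  have hgenA : StableUnderGeneralization (p '' A) :=
    hgen.stableUnderGeneralization_image hA.2.stableUnderGeneralization
  have hgenA' : StableUnderGeneralization (p '' Aᶜ) :=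
    hgen.stableUnderGeneralization_image hA.1.isOpen_compl.stableUnderGeneralization
  have hcompl : (p '' A)ᶜ = p '' Aᶜ := by
    ext z
    constructor
    · intro hz
      obtain ⟨q, rfl⟩ := hp z
      exact ⟨q, fun hq => hz ⟨q, hq, rfl⟩, rfl⟩
    · rintro ⟨q, hq, rfl⟩ ⟨q', hq', h⟩
      exact hq (hfib q' q h hq')
  let F : Set Z.left := Z.hom ⁻¹' {genericPoint X}
  have hF : F.Finite := Z.hom.finite_preimage_singleton _
  have hgenZ : GeneralizingMap Z.hom := Flat.generalizingMap Z.hom
  have hclosed : ∀ T : Set Z.left, StableUnderGeneralization T → StableUnderGeneralization Tᶜ →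
      IsClosed T := by
    intro T h1 h2
    have heq : T = ⋃ w ∈ F ∩ T, closure {w} := by
      refine Set.Subset.antisymm (fun z hz => ?_) (Set.iUnion₂_subset fun w hw z hz => ?_)
      · obtain ⟨w, hw, hwη⟩ := hgenZ (genericPoint_spec X |>.specializes (Set.mem_univ (Z.hom z)))
        exact Set.mem_biUnion ⟨hwη, h1 hw hz⟩ hw.mem_closure
      · by_contra hzT
        exact h2 (specializes_iff_mem_closure.mpr hz) hzT hw.2
    rw [heq]
    exact (hF.inter_of_left T).isClosed_biUnion fun _ _ => isClosed_closure
  have hTc : IsClosed (p '' A) := hclosed _ hgenA (hcompl ▸ hgenA')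
  have hTo : IsClosed (p '' A)ᶜ := hclosed _ (hcompl ▸ hgenA') (by rw [compl_compl]; exact hgenA)
  have huniv : p '' A = Set.univ :=
    IsClopen.eq_univ (α := Z.left) ⟨hTc, isClosed_compl_iff.mp hTo⟩ (hA'.1.image p)
  refine hA'.2 (Set.eq_univ_of_forall fun q => ?_)
  obtain ⟨q', hq', h⟩ := huniv.ge (Set.mem_univ (p q))
  exact hfib q' q h hq'

end Groth.Agent.H18Et.FEtConnected
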