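import Mathlib.CategoryTheory.Galois.Prorepresentability
import Mathlib.CategoryTheory.Limits.Constructions.FiniteProductsOfBinaryProducts

/-!
# Uniqueness of fibre functors
-/

set_option autoImplicit false

universe u v w

open CategoryTheory CategoryTheory.Limits CategoryTheory.PreGaloisCategory

namespace Groth.Agent.H18Et.FibreUnique

variable {C : Type u} [Category.{v} C] [GaloisCategory C] (F : C ⥤ FintypeCat.{w}) [FiberFunctor F]
  (F' : C ⥤ FintypeCat.{w}) [PreservesFiniteLimits F']

theorem isCofilteredOrEmpty : IsCofilteredOrEmpty (PointedGaloisObject F) where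
  cone_objs := fun ⟨A, a, _⟩ ⟨B, b, _⟩ ↦ by
    obtain ⟨Z, f, z, hgal, hfz⟩ := exists_hom_from_galois_of_fiber F (A ⨯ B)
      <| (fiberBinaryProductEquiv F A B).symm (a, b)
    refine ⟨⟨Z, z, hgal⟩, ⟨f ≫ prod.fst, ?_⟩, ⟨f ≫ prod.snd, ?_⟩, trivial⟩
    · simp only [F.map_comp, hfz, FintypeCat.comp_apply, fiberBinaryProductEquiv_symm_fst_apply]
    · simp only [F.map_comp, hfz, FintypeCat.comp_apply, fiberBinaryProductEquiv_symm_snd_apply]
  cone_maps := fun ⟨A, a, _⟩ ⟨B, b, _⟩ ⟨f, hf⟩ ⟨g, hg⟩ ↦ by
    obtain ⟨Z, h, z, hgal, hhz⟩ := exists_hom_from_galois_of_fiber F A a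
    refine ⟨⟨Z, z, hgal⟩, ⟨h, hhz⟩, PointedGaloisObject.hom_ext ?_⟩
    apply evaluation_injective_of_isConnected F Z B z
    simp [hhz, hf, hg]

section

variable [PreservesColimitsOfShape (Discrete WalkingPair) F']
  (hne : ∀ X : C, IsEmpty (F'.obj X) → Nonempty (IsInitial X))

theorem isEmpty_obj_of_isInitial {I : C} (hI : IsInitial I) : IsEmpty (F'.obj I) := by
  constructor
  intro x
  let c : BinaryCofan I I := BinaryCofan.mk (𝟙 I) (𝟙 I)
  have hc : IsColimit c := BinaryCofan.IsColimit.mk _ (fun a _ => a)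
    (fun a b => Category.id_comp _) (fun a b => (Category.id_comp _).trans (hI.hom_ext a b))
    (fun a b m h _ => (Category.id_comp m).symm.trans h)
  have h := (isColimitMapCoconeBinaryCofanEquiv (F' ⋙ FintypeCat.incl) _ _)
    (isColimitOfPreserves (F' ⋙ FintypeCat.incl) hc)
  have hd := (Types.binaryCofan_isColimit_iff _).mp ⟨h⟩
  exact Set.disjoint_left.mp hd.2.2.1 ⟨x, rfl⟩ ⟨x, rfl⟩

theorem preservesFiniteCoproducts : PreservesFiniteCoproducts F' :=
  haveI h0 : PreservesColimit (Functor.empty C) F' := by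
    refine preservesColimit_of_preserves_colimit_cocone initialIsInitial ?_
    refine (isColimitMapCoconeEmptyCoconeEquiv _ _).symm ?_
    have := isEmpty_obj_of_isInitial F' (initialIsInitial (C := C))
    exact ((Concrete.initial_iff_empty_of_preserves_of_reflects _).mpr this).some
  haveI := preservesColimitsOfShape_pempty_of_preservesInitial F'
  ⟨fun n => PreservesFiniteCoproducts.of_preserves_binary_and_initial F' (Fin n)⟩

include hne in
theorem nonempty_obj {X : C} [Nonempty (F.obj X)] : Nonempty (F'.obj X) := by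
  rw [← not_isEmpty_iff]
  intro h
  obtain ⟨hI⟩ := hne X h
  exact not_initial_of_inhabited F (Classical.arbitrary (F.obj X)) hI

theorem evaluation_injective (A X : C) [PreGaloisCategory.IsConnected A] (x : F'.obj A)
    {f g : A ⟶ X} (h : F'.map f x = F'.map g x) : f = g := by
  have : IsIso (equalizer.ι f g) := by
    apply PreGaloisCategory.IsConnected.noTrivialComponent _ (equalizer.ι f g)
    intro hI
    have hemp := isEmpty_obj_of_isInitial F' hI
    exact hemp.false (((PreservesEqualizer.iso (F' ⋙ FintypeCat.incl) f g ≪≫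
      Types.equalizerIso _ _).inv) ⟨x, h⟩)
  exact eq_of_epi_equalizer

include hne in
/-- Key lemma: if `F`-evaluation `Hom(A, X) → F X` is surjective at every point of `F A`, so is
`F'`-evaluation at every point of `F' A`. -/
theorem evaluation_surjective (A X : C)
    (H : ∀ (a : F.obj A) (c : F.obj X), ∃ h : A ⟶ X, F.map h a = c)
    (x : F'.obj A) (y : F'.obj X) : ∃ h : A ⟶ X, F'.map h x = y := by
  have := preservesFiniteCoproducts F'
  let G := F' ⋙ FintypeCat.incl
  let P := A ⨯ X
  let p : F'.obj P := (PreservesLimitPair.iso G A X ≪≫ Types.binaryProductIso _ _).inv (x, y)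
  have hp1 : F'.map prod.fst p = x := by
    change ((Types.binaryProductIso _ _).inv ≫ (PreservesLimitPair.iso G A X).inv ≫
      G.map prod.fst) (x, y) = x
    erw [PreservesLimitPair.iso_inv_fst, Types.binaryProductIso_inv_comp_fst]
    rfl
  have hp2 : F'.map prod.snd p = y := by
    change ((Types.binaryProductIso _ _).inv ≫ (PreservesLimitPair.iso G A X).inv ≫
      G.map prod.snd) (x, y) = y
    erw [PreservesLimitPair.iso_inv_snd, Types.binaryProductIso_inv_comp_snd]
    rfl
  obtain ⟨ι, f, g, hl, hc, he⟩ := has_decomp_connected_components P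
  obtain ⟨⟨j⟩, z, hz⟩ := Concrete.isColimit_exists_rep _ (isColimitOfPreserves F' hl) p
  have hz' : F'.map (g j) z = p := hz
  have := hc j
  obtain ⟨d⟩ : Nonempty (F.obj (f j)) := inferInstance
  obtain ⟨h, hh⟩ := H (F.map (g j ≫ prod.fst) d) (F.map (g j ≫ prod.snd) d)
  have heq : (g j ≫ prod.fst) ≫ h = g j ≫ prod.snd := by
    apply evaluation_injective_of_isConnected F (f j) X d
    simpa using hh
  refine ⟨h, ?_⟩
  rw [← hp1, ← hp2, ← hz']
  have := congrArg (fun k => F'.map k z) heq
  simpa using this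

include hne in
theorem exists_iso : Nonempty (F' ≅ F) := by
  have := isCofilteredOrEmpty F
  let sys : PointedGaloisObject F ⥤ Type w := PointedGaloisObject.incl F ⋙ F' ⋙ FintypeCat.incl
  have (A : PointedGaloisObject F) : Finite (sys.obj A) :=
    inferInstanceAs (Finite (F'.obj A.obj))
  have (A : PointedGaloisObject F) : Nonempty (sys.obj A) := nonempty_obj F F' hne (X := A.obj)
  obtain ⟨ξ, hξ'⟩ : ∃ ξ : ∀ A : PointedGaloisObject F, F'.obj A.obj,
      ∀ {A B : PointedGaloisObject F} (f : A ⟶ B), F'.map f.val (ξ A) = ξ B := by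
    obtain ⟨ξ, hξ⟩ := nonempty_sections_of_finite_cofiltered_system sys
    exact ⟨ξ, fun f => hξ f⟩
  have hrep : ∀ (X : C) (x : F.obj X),
      ∃ (A : PointedGaloisObject F) (f : A.obj ⟶ X), F.map f A.pt = x := fun X x => by
    obtain ⟨A, f, a, hA, hf⟩ := exists_hom_from_galois_of_fiber F X x
    exact ⟨⟨A, a, hA⟩, f, hf⟩
  have hwell : ∀ (X : C) (A B : PointedGaloisObject F) (f : A.obj ⟶ X) (g : B.obj ⟶ X),
      F.map f A.pt = F.map g B.pt → F'.map f (ξ A) = F'.map g (ξ B) := fun X A B f g h => by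
    obtain ⟨Z, p, q, -⟩ := IsCofilteredOrEmpty.cone_objs A B
    have : p.val ≫ f = q.val ≫ g := by
      apply evaluation_injective_of_isConnected F Z.obj X Z.pt
      simp only [Functor.map_comp, FintypeCat.comp_apply, p.comp, q.comp, h]
    rw [← hξ' p, ← hξ' q, ← FintypeCat.comp_apply, ← FintypeCat.comp_apply, ← F'.map_comp,
      ← F'.map_comp, this]
  choose repA repf hrep' using hrep
  let η : ∀ X, F.obj X → F'.obj X := fun X x => F'.map (repf X x) (ξ (repA X x))
  have hη : ∀ (X : C) (A : PointedGaloisObject F) (f : A.obj ⟶ X),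
      η X (F.map f A.pt) = F'.map f (ξ A) := fun X A f =>
    hwell X _ _ _ _ (hrep' X _)
  have hinj : ∀ X, Function.Injective (η X) := fun X x y h => by
    obtain ⟨Z, p, q, -⟩ := IsCofilteredOrEmpty.cone_objs (repA X x) (repA X y)
    have : p.val ≫ repf X x = q.val ≫ repf X y := by
      apply evaluation_injective F' Z.obj X (ξ Z)
      simp only [Functor.map_comp, FintypeCat.comp_apply, hξ']
      exact h
    have := congrArg (fun k => F.map k Z.pt) this
    simp only [Functor.map_comp, FintypeCat.comp_apply, p.comp, q.comp, hrep'] at this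
    exact this
  have hsurj : ∀ X, Function.Surjective (η X) := fun X y => by
    have := preservesFiniteCoproducts F'
    obtain ⟨ι, f, g, hl, hc, he⟩ := has_decomp_connected_components X
    obtain ⟨⟨j⟩, z, hz⟩ := Concrete.isColimit_exists_rep _ (isColimitOfPreserves F' hl) y
    have hz' : F'.map (g j) z = y := hz
    have := hc j
    obtain ⟨c₀⟩ : Nonempty (F.obj (f j)) := inferInstance
    obtain ⟨A, k, a, hA, -⟩ := exists_hom_from_galois_of_fiber F (f j) c₀
    obtain ⟨h, hh⟩ := evaluation_surjective F F' hne A (f j) (fun a' c => by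
      have : Nonempty (F.obj A) := ⟨a⟩
      obtain ⟨a'', ha''⟩ := surjective_of_nonempty_fiber_of_isConnected F k c
      obtain ⟨σ, hσ⟩ := MulAction.exists_smul_eq (Aut A) a' a''
      refine ⟨σ.hom ≫ k, ?_⟩
      rw [Functor.map_comp, FintypeCat.comp_apply, ← ha'', ← hσ]
      rfl) (ξ ⟨A, a, hA⟩) z
    refine ⟨F.map (h ≫ g j) a, ?_⟩
    exact (hη X ⟨A, a, hA⟩ (h ≫ g j)).trans (by simp [hh, hz'])
  refine ⟨(NatIso.ofComponents
    (fun X => FintypeCat.equivEquivIso (Equiv.ofBijective _ ⟨hinj X, hsurj X⟩))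
    fun {X Y} φ => ?_).symm⟩
  ext x
  change η Y (F.map φ x) = F'.map φ (η X x)
  rw [← hrep' X x, ← FintypeCat.comp_apply, ← F.map_comp, hη, hη, Functor.map_comp,
    FintypeCat.comp_apply]

end

omit [PreservesFiniteLimits F'] in
theorem epi_to_terminal {X : C} [Nonempty (F.obj X)] : Epi (terminal.from X) := by
  constructor
  intro Z a b h
  apply F.map_injective
  ext t
  obtain ⟨x⟩ := (inferInstance : Nonempty (F.obj X))
  have ht : F.map (terminal.from X) x = t := by
    have h1 : IsTerminal (F.obj (⊤_ C)) := terminalIsTerminal.isTerminalObj F _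
    exact ConcreteCategory.congr_hom
      (h1.hom_ext (FintypeCat.homMk fun _ : F.obj (⊤_ C) => F.map (terminal.from X) x)
        (𝟙 _)) t
  rw [← ht, ← FintypeCat.comp_apply, ← FintypeCat.comp_apply, ← F.map_comp, ← F.map_comp, h]

include F in
theorem nonempty_obj_of_exact [PreservesFiniteColimits F'] (X : C) (h : IsEmpty (F'.obj X)) :
    Nonempty (IsInitial X) := by
  rw [initial_iff_fiber_empty F]
  by_contra hX
  rw [not_isEmpty_iff] at hX
  have := epi_to_terminal F (X := X)
  have h1 : IsTerminal (F'.obj (⊤_ C)) := terminalIsTerminal.isTerminalObj F' _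
  let t : F'.obj (⊤_ C) := h1.from (FintypeCat.of PUnit.{w + 1}) PUnit.unit
  obtain ⟨x, -⟩ := surjective_of_epi (FintypeCat.incl.map (F'.map (terminal.from X))) t
  exact h.false x

end Groth.Agent.H18Et.FibreUnique
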