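import Groth.Agent.H18Et.FEtGalois
import Groth.Agent.H18Et.FibreUnique

/-! Independence of the geometric point. -/

set_option autoImplicit false

universe u

open CategoryTheory CategoryTheory.Limits AlgebraicGeometry

namespace Groth.Agent.H18Et.FEtFibre

open FEtGalois

variable {X : Scheme.{u}} [ConnectedSpace X] {Ω Ω' : Type u} [Field Ω] [IsAlgClosed Ω]
  [Field Ω'] [IsAlgClosed Ω']

theorem galoisCategory (ξ : Spec (CommRingCat.of Ω) ⟶ X) : GaloisCategory (FEt.Cat X) where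
  toPreGaloisCategory := preGaloisCategory
  hasFiberFunctor := ⟨fibF ξ, ⟨fiberFunctor ξ⟩⟩

theorem nonempty_fibF_iso (ξ : Spec (CommRingCat.of Ω) ⟶ X)
    (ξ' : Spec (CommRingCat.of Ω') ⟶ X) : Nonempty (fibF ξ ≅ fibF ξ') := by
  have := galoisCategory ξ'
  have := fiberFunctor ξ
  have := fiberFunctor ξ'
  have := preservesFiniteLimits_fibF ξ
  have := preservesFiniteColimits_fibF ξ
  exact FibreUnique.exists_iso (fibF ξ') (fibF ξ) fun A h =>
    FibreUnique.nonempty_obj_of_exact (fibF ξ') (fibF ξ) A h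

theorem nonempty_fiber_iso (ξ : Spec (CommRingCat.of Ω) ⟶ X)
    (ξ' : Spec (CommRingCat.of Ω') ⟶ X) : Nonempty (FEt.fiber ξ ≅ FEt.fiber ξ') := by
  obtain ⟨e⟩ := nonempty_fibF_iso ξ ξ'
  exact ⟨Functor.isoWhiskerRight e FintypeCat.incl⟩

theorem isIso_fiber_hom (ξ : Spec (CommRingCat.of Ω) ⟶ X) (ξ' : Spec (CommRingCat.of Ω') ⟶ X)
    (φ : FEt.fiber ξ ⟶ FEt.fiber ξ') : IsIso φ := by
  have := galoisCategory ξ
  have := fiberFunctor ξ
  let W := (Functor.FullyFaithful.ofFullyFaithful FintypeCat.incl.{u}).whiskeringRight (FEt.Cat X)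
  let ψ : fibF ξ ⟶ fibF ξ' := W.preimage φ
  obtain ⟨e⟩ := nonempty_fibF_iso ξ ξ'
  have h1 : IsIso (ψ ≫ e.inv) :=
    PreGaloisCategory.FibreFunctor.end_isIso (fibF ξ) (ψ ≫ e.inv)
  have h2 : IsIso ψ := IsIso.of_isIso_comp_right ψ e.inv
  have h3 : IsIso (((Functor.whiskeringRight (FEt.Cat X) _ _).obj FintypeCat.incl.{u}).map ψ) :=
    inferInstance
  have h4 := W.map_preimage (X := fibF ξ) (Y := fibF ξ') φ
  exact Eq.mp (congrArg IsIso h4) h3

end Groth.Agent.H18Et.FEtFibre
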