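import Groth.Agent.H18Et.FEtLimit
import Groth.Agent.H18Et.FEtRestrict
import Mathlib

/-!
# Extending a finite étale cover from unique extensions over affine opens
-/

set_option autoImplicit false
set_option linter.style.haveILetI false
set_option backward.isDefEq.respectTransparency false
set_option backward.defeqAttrib.useBackward true

universe u

open CategoryTheory CategoryTheory.Limits AlgebraicGeometry TopologicalSpace

namespace Groth.Agent.H18Et.FEtGlueAffine

/-- A morphism which is injective and locally on the source an open immersion is an open immersion. -/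
theorem isOpenImmersion_of_locally {A B : Scheme.{u}} (f : A ⟶ B) (hinj : Function.Injective f)
    (h : ∀ a : A, ∃ (C : Scheme.{u}) (g : C ⟶ A), IsOpenImmersion g ∧ IsOpenImmersion (g ≫ f) ∧ a ∈ Set.range g) :
    IsOpenImmersion f := by
  rw [IsOpenImmersion.iff_isIso_stalkMap]
  refine ⟨.of_continuous_injective_isOpenMap f.continuous hinj (isOpenMap_iff_nhds_le.mpr fun a => ?_), fun a => ?_⟩
  · obtain ⟨C, g, hg, hgf, c, rfl⟩ := h a
    haveI := hg
    haveI := hgf
    have h1 : Filter.map (g ≫ f) (nhds c) = nhds ((g ≫ f) c) := (g ≫ f).isOpenEmbedding.map_nhds_eq c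
    have h2 : Filter.map g (nhds c) = nhds (g c) := g.isOpenEmbedding.map_nhds_eq c
    rw [← h2, Filter.map_map]
    exact le_of_eq (Eq.trans rfl h1.symm)
  · obtain ⟨C, g, hg, hgf, c, rfl⟩ := h a
    haveI := hg
    haveI := hgf
    haveI : IsIso (g.stalkMap c) := inferInstance
    haveI : IsIso (f.stalkMap (g c) ≫ g.stalkMap c) := by
      rw [← Scheme.Hom.stalkMap_comp]
      infer_instance
    exact IsIso.of_isIso_comp_right (f.stalkMap (g c)) (g.stalkMap c)

section

variable {X : Scheme.{u}} {U : X.Opens} {Y : FEt.Cat (U : Scheme.{u})}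

/-- An extension of `Y` over an open `D`, recorded by the map from the part of `Y` over `D`. -/
structure Ext (Y : FEt.Cat (U : Scheme.{u})) (D : X.Opens) where
  Z : FEt.Cat (D : Scheme.{u})
  ψ : pullback Y.hom (X.homOfLE (inf_le_left : U ⊓ D ≤ U)) ⟶ Z.left
  hψ : IsPullback ψ (pullback.snd Y.hom (X.homOfLE (inf_le_left : U ⊓ D ≤ U))) Z.hom
    (X.homOfLE (inf_le_right : U ⊓ D ≤ D))

theorem nonempty_ext (D : X.Opens)
    (h : ∃ Z : FEt.Cat (D : Scheme.{u}), Nonempty ((FEt.restrict (X.homOfLE (inf_le_right : U ⊓ D ≤ D))).obj Z ≅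
      (FEt.restrict (X.homOfLE (inf_le_left : U ⊓ D ≤ U))).obj Y)) : Nonempty (Ext Y D) := by
  obtain ⟨Z, ⟨e⟩⟩ := h
  let eL : pullback Z.hom (X.homOfLE (inf_le_right : U ⊓ D ≤ D)) ≅ pullback Y.hom (X.homOfLE (inf_le_left : U ⊓ D ≤ U)) :=
    (MorphismProperty.Over.forget FEt.prop ⊤ _ ⋙ Over.forget _).mapIso e
  have hsnd : eL.hom ≫ pullback.snd Y.hom _ = pullback.snd Z.hom _ := MorphismProperty.Over.w e.hom
  exact ⟨⟨Z, eL.inv ≫ pullback.fst _ _, (IsPullback.of_hasPullback Z.hom _).of_iso eL (Iso.refl _) (Iso.refl _)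
    (Iso.refl _) (by simp) (by simp [hsnd]) (by simp) (by simp)⟩⟩

/-- The inclusion of the parts of `Y` over smaller opens. -/
noncomputable def κ (Y : FEt.Cat (U : Scheme.{u})) {D E : X.Opens} (hDE : D ≤ E) :
    pullback Y.hom (X.homOfLE (inf_le_left : U ⊓ D ≤ U)) ⟶ pullback Y.hom (X.homOfLE (inf_le_left : U ⊓ E ≤ U)) :=
  pullback.lift (pullback.fst _ _) (pullback.snd _ _ ≫ X.homOfLE (inf_le_inf_left U hDE)) (by
    rw [pullback.condition, Category.assoc, X.homOfLE_homOfLE])

theorem κ_refl (D : X.Opens) : κ Y (le_refl D) = 𝟙 _ := by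
  apply pullback.hom_ext <;> simp [κ]

theorem κ_trans {D E F : X.Opens} (h : D ≤ E) (h' : E ≤ F) : κ Y h ≫ κ Y h' = κ Y (h.trans h') := by
  apply pullback.hom_ext <;> simp [κ]

theorem isPullback_κ {D E : X.Opens} (hDE : D ≤ E) :
    IsPullback (κ Y hDE) (pullback.snd Y.hom (X.homOfLE (inf_le_left : U ⊓ D ≤ U)))
      (pullback.snd Y.hom (X.homOfLE (inf_le_left : U ⊓ E ≤ U))) (X.homOfLE (inf_le_inf_left U hDE)) := by
  refine IsPullback.of_right ?_ (pullback.lift_snd _ _ _) (IsPullback.of_hasPullback _ _)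
  simpa [κ] using IsPullback.of_hasPullback Y.hom (X.homOfLE (inf_le_left : U ⊓ D ≤ U))

variable (hff : ∀ D : X.Opens, IsAffineOpen D →
  (FEt.restrict (X.homOfLE (inf_le_right : U ⊓ D ≤ D))).Full ∧
    (FEt.restrict (X.homOfLE (inf_le_right : U ⊓ D ≤ D))).Faithful)
include hff

theorem ext_unique {D E : X.Opens} (hD : IsAffineOpen D) (hDE : D ≤ E) (a : Ext Y D) (b : Ext Y E)
    (m m' : a.Z.left ⟶ b.Z.left) (hm : m ≫ b.Z.hom = a.Z.hom ≫ X.homOfLE hDE)
    (hm' : m' ≫ b.Z.hom = a.Z.hom ≫ X.homOfLE hDE) (he : a.ψ ≫ m = a.ψ ≫ m') : m = m' := by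
  haveI := (hff D hD).2
  let R := FEt.restrict (X.homOfLE (inf_le_right : U ⊓ D ≤ D))
  let lift : ∀ (m : a.Z.left ⟶ b.Z.left), m ≫ b.Z.hom = a.Z.hom ≫ X.homOfLE hDE →
      (a.Z ⟶ (FEt.restrict (X.homOfLE hDE)).obj b.Z) := fun m h =>
    MorphismProperty.Over.homMk (pullback.lift m a.Z.hom h) (pullback.lift_snd _ _ _) trivial
  have h : R.map (lift m hm) = R.map (lift m' hm') := by
    refine MorphismProperty.Over.Hom.ext (pullback.hom_ext ?_ ?_)
    · refine (FEtRestrict.map_left_fst _ _).trans (Eq.trans ?_ (FEtRestrict.map_left_fst _ _).symm)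
      refine pullback.hom_ext ?_ ?_
      · have hfst : pullback.fst a.Z.hom (X.homOfLE (inf_le_right : U ⊓ D ≤ D)) = a.hψ.isoPullback.inv ≫ a.ψ :=
          a.hψ.isoPullback_inv_fst.symm
        simp only [Category.assoc, lift]
        show pullback.fst a.Z.hom _ ≫ pullback.lift m a.Z.hom _ ≫ pullback.fst _ _ =
          pullback.fst a.Z.hom _ ≫ pullback.lift m' a.Z.hom _ ≫ pullback.fst _ _
        rw [pullback.lift_fst, pullback.lift_fst, hfst, Category.assoc, Category.assoc, he]
      · simp only [Category.assoc, lift]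
        show pullback.fst a.Z.hom _ ≫ pullback.lift m a.Z.hom _ ≫ pullback.snd _ _ =
          pullback.fst a.Z.hom _ ≫ pullback.lift m' a.Z.hom _ ≫ pullback.snd _ _
        rw [pullback.lift_snd, pullback.lift_snd]
    · exact (pullback.lift_snd _ _ _).trans (pullback.lift_snd _ _ _).symm
  have := congrArg (fun f => f.left ≫ pullback.fst b.Z.hom (X.homOfLE hDE)) (R.map_injective h)
  simpa [lift] using this

theorem ext_exists {D E : X.Opens} (hD : IsAffineOpen D) (hDE : D ≤ E) (a : Ext Y D) (b : Ext Y E) :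
    ∃ m : a.Z.left ⟶ b.Z.left, IsPullback m a.Z.hom b.Z.hom (X.homOfLE hDE) ∧ a.ψ ≫ m = κ Y hDE ≫ b.ψ := by
  haveI := (hff D hD).1
  haveI := (hff D hD).2
  let R := FEt.restrict (X.homOfLE (inf_le_right : U ⊓ D ≤ D))
  let b' := (FEt.restrict (X.homOfLE hDE)).obj b.Z
  have hbig : IsPullback (κ Y hDE ≫ b.ψ) (pullback.snd Y.hom (X.homOfLE (inf_le_left : U ⊓ D ≤ U))) b.Z.hom
      (X.homOfLE (inf_le_right : U ⊓ D ≤ D) ≫ X.homOfLE hDE) := by
    have := (isPullback_κ (Y := Y) hDE).paste_horiz b.hψ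
    simpa only [Scheme.homOfLE_homOfLE] using this
  let l : pullback Y.hom (X.homOfLE (inf_le_left : U ⊓ D ≤ U)) ⟶ b'.left :=
    pullback.lift (κ Y hDE ≫ b.ψ) (pullback.snd _ _ ≫ X.homOfLE inf_le_right) (by
      rw [Category.assoc _ (X.homOfLE _) (X.homOfLE hDE)]
      exact hbig.w)
  have hl : IsPullback l (pullback.snd Y.hom (X.homOfLE (inf_le_left : U ⊓ D ≤ U))) b'.hom
      (X.homOfLE (inf_le_right : U ⊓ D ≤ D)) := by
    refine IsPullback.of_right ?_ (pullback.lift_snd _ _ _) (IsPullback.of_hasPullback b.Z.hom (X.homOfLE hDE))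
    rw [pullback.lift_fst]
    exact hbig
  let g : (R.obj a.Z) ≅ R.obj b' := MorphismProperty.Over.isoMk (a.hψ.isoPullback.symm ≪≫ hl.isoPullback) (by
    show (a.hψ.isoPullback.inv ≫ hl.isoPullback.hom) ≫ pullback.snd _ _ = pullback.snd _ _
    rw [Category.assoc, hl.isoPullback_hom_snd, a.hψ.isoPullback_inv_snd])
  let θ : a.Z ≅ b' := R.preimageIso g
  have hθ : R.map θ.hom = g.hom := R.map_preimage _
  have hw : θ.hom.left ≫ pullback.snd b.Z.hom (X.homOfLE hDE) = a.Z.hom := MorphismProperty.Over.w θ.hom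
  refine ⟨θ.hom.left ≫ pullback.fst b.Z.hom (X.homOfLE hDE), ?_, ?_⟩
  · haveI : IsIso θ.hom.left := (MorphismProperty.Over.forget FEt.prop ⊤ _ ⋙ Over.forget _).map_isIso θ.hom
    exact (IsPullback.of_hasPullback b.Z.hom (X.homOfLE hDE)).of_iso (asIso θ.hom.left).symm (Iso.refl _)
      (Iso.refl _) (Iso.refl _) (by simp) (by simp [← hw]) (by simp) (by simp)
  · have h1 := FEtRestrict.map_left_fst (X.homOfLE (inf_le_right : U ⊓ D ≤ D)) θ.hom
    rw [hθ] at h1
    have h2 : g.hom.left = a.hψ.isoPullback.inv ≫ hl.isoPullback.hom := rfl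
    have h3 : a.ψ ≫ θ.hom.left = l := by
      rw [← a.hψ.isoPullback_hom_fst, Category.assoc, ← h1, h2, Category.assoc]
      show a.hψ.isoPullback.hom ≫ a.hψ.isoPullback.inv ≫ hl.isoPullback.hom ≫ pullback.fst b'.hom _ = l
      rw [Iso.hom_inv_id_assoc, hl.isoPullback_hom_fst]
    rw [reassoc_of% h3]
    exact pullback.lift_fst _ _ _

/-- A cover over an open extends once it extends uniquely over every affine open. -/
theorem exists_extension
    (h : ∀ D : X.Opens, IsAffineOpen D → ∃ Z : FEt.Cat (D : Scheme.{u}),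
      Nonempty ((FEt.restrict (X.homOfLE (inf_le_right : U ⊓ D ≤ D))).obj Z ≅
        (FEt.restrict (X.homOfLE (inf_le_left : U ⊓ D ≤ U))).obj Y)) :
    ∃ Y' : FEt.Cat X, Nonempty ((FEt.restrict U.ι).obj Y' ≅ Y) := by
  let ext := fun D : X.directedAffineCover.I₀ => (nonempty_ext (Y := Y) D.1 (h D.1 D.2)).some
  have hex : ∀ (D E : X.directedAffineCover.I₀) (f : D.1 ≤ E.1), ∃ q : (ext D).Z.left ⟶ (ext E).Z.left,
      IsPullback q (ext D).Z.hom (ext E).Z.hom (X.homOfLE f) ∧ (ext D).ψ ≫ q = κ Y f ≫ (ext E).ψ :=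
    fun D E f => ext_exists hff D.2 f (ext D) (ext E)
  choose m' hpb' hm' using hex
  let m := fun {D E : X.directedAffineCover.I₀} (f : D.1 ≤ E.1) => m' D E f
  have hpb : ∀ {D E : X.directedAffineCover.I₀} (f : D.1 ≤ E.1),
      IsPullback (m f) (ext D).Z.hom (ext E).Z.hom (X.homOfLE f) := fun {D E} f => hpb' D E f
  have hm : ∀ {D E : X.directedAffineCover.I₀} (f : D.1 ≤ E.1), (ext D).ψ ≫ m f = κ Y f ≫ (ext E).ψ :=
    fun {D E} f => hm' D E f
  have hid : ∀ D : X.directedAffineCover.I₀, m (le_refl D.1) = 𝟙 (ext D).Z.left := fun D =>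
    ext_unique hff D.2 le_rfl (ext D) (ext D) _ _ (hpb _).w (by simp) (by rw [hm, κ_refl]; simp)
  have hcomp : ∀ {D E F : X.directedAffineCover.I₀} (f : D.1 ≤ E.1) (g : E.1 ≤ F.1),
      m (f.trans g) = m f ≫ m g := fun {D E F} f g =>
    ext_unique hff D.2 (f.trans g) (ext D) (ext F) _ _ (hpb _).w
      (by rw [Category.assoc, (hpb g).w, reassoc_of% (hpb f).w, X.homOfLE_homOfLE])
      (by rw [hm, ← Category.assoc (ext D).ψ, hm, Category.assoc, hm, reassoc_of% (κ_trans (Y := Y) f g)])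
  let F : X.directedAffineCover.I₀ ⥤ Scheme.{u} :=
    { obj := fun D => (ext D).Z.left
      map := fun {D E} f => m (leOfHom f)
      map_id := hid
      map_comp := fun f g => hcomp (leOfHom f) (leOfHom g) }
  let d : Scheme.Cover.RelativeGluingData X.directedAffineCover :=
    { functor := F
      natTrans :=
        { app := fun D => (ext D).Z.hom
          naturality := fun D E f => by
            show m (leOfHom f) ≫ (ext E).Z.hom = (ext D).Z.hom ≫ X.directedAffineCover.trans f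
            rw [(hpb (leOfHom f)).w]
            congr 1 }
      equifibered := fun {D E} f => by
        have hf : X.directedAffineCover.trans f = X.homOfLE (leOfHom f) := by
          rw [← cancel_mono E.1.ι, X.homOfLE_ι]
          exact X.directedAffineCover.trans_map f
        show IsPullback (m (leOfHom f)) (ext D).Z.hom (ext E).Z.hom (X.directedAffineCover.trans f)
        rw [hf]
        exact hpb _ }
  haveI : Quiver.IsThin X.directedAffineCover.I₀ := fun _ _ => inferInstance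
  haveI : Small.{u} X.directedAffineCover.I₀ := inferInstanceAs (Small.{u} X.affineOpens)
  haveI : ∀ {i j : X.directedAffineCover.I₀} (f : i ⟶ j), IsOpenImmersion (d.functor.map f) :=
    fun f => MorphismProperty.of_isPullback (d.equifibered f).flip inferInstance
  haveI : (d.functor ⋙ Scheme.forget).IsLocallyDirected :=
    Scheme.isLocallyDirected_of_equifibered_of_injective d.natTrans d.equifibered
      fun hij => (d.functor.map hij).injective
  haveI : HasColimit d.functor := inferInstance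
  have hprop : FEt.prop d.toBase := by
    have key : ∀ (Q : MorphismProperty Scheme.{u}) [IsZariskiLocalAtTarget Q],
        (∀ D, Q (ext D).Z.hom) → Q d.toBase := by
      intro Q _ hQ
      refine IsZariskiLocalAtTarget.of_openCover X.directedAffineCover fun D => ?_
      exact (Q.cancel_left_of_respectsIso (d.isPullback_natTrans_ι_toBase D).flip.isoPullback.hom _).mp
        ((d.isPullback_natTrans_ι_toBase D).flip.isoPullback_hom_snd.symm ▸ hQ D)
    exact ⟨key _ fun D => (ext D).Z.prop.1, key _ fun D => (ext D).Z.prop.2⟩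
  refine ⟨MorphismProperty.Over.mk ⊤ d.toBase hprop, ?_⟩
  -- the comparison over `U`
  let f : Y.left ⟶ X := Y.hom ≫ U.ι
  let 𝒱 : Y.left.OpenCover := X.directedAffineCover.pullback₁ f
  let ρ : ∀ D : X.directedAffineCover.I₀, pullback f D.1.ι ⟶ (U ⊓ D.1 : X.Opens).toScheme := fun D =>
    IsOpenImmersion.lift (U ⊓ D.1).ι (pullback.fst f D.1.ι ≫ f) (by
      rw [Scheme.Opens.range_ι]
      rintro _ ⟨z, rfl⟩
      refine ⟨(Y.hom (pullback.fst f D.1.ι z)).2, ?_⟩
      rw [pullback.condition]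
      exact (pullback.snd f D.1.ι z).2)
  have hρ : ∀ D, ρ D ≫ (U ⊓ D.1).ι = pullback.fst f D.1.ι ≫ f := fun D => IsOpenImmersion.lift_fac _ _ _
  let τ : ∀ D : X.directedAffineCover.I₀, pullback f D.1.ι ⟶ pullback Y.hom (X.homOfLE (inf_le_left : U ⊓ D.1 ≤ U)) :=
    fun D => pullback.lift (pullback.fst _ _) (ρ D) (by
      rw [← cancel_mono U.ι, Category.assoc, Category.assoc, X.homOfLE_ι, hρ])
  have hτ : ∀ D, τ D ≫ pullback.fst _ _ = pullback.fst f D.1.ι := fun D => pullback.lift_fst _ _ _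
  let ω : Y.left ⟶ d.glued := 𝒱.glueMorphismsOfLocallyDirected
    (fun D => τ D ≫ (ext D).ψ ≫ colimit.ι d.functor D) (by
      intro D E hDE
      have h1 : 𝒱.trans hDE ≫ τ E = τ D ≫ κ Y (leOfHom hDE) := by
        show pullback.map f (X.directedAffineCover.f D) f (X.directedAffineCover.f E) (𝟙 _)
          (X.directedAffineCover.trans hDE) (𝟙 _) (by simp)
          (by rw [Category.comp_id, X.directedAffineCover.trans_map]) ≫ τ E = _
        apply pullback.hom_ext
        · simp [τ, κ]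
        · rw [← cancel_mono (U ⊓ E.1).ι]
          simp [τ, κ, hρ]
      show 𝒱.trans hDE ≫ τ E ≫ (ext E).ψ ≫ colimit.ι d.functor E = τ D ≫ (ext D).ψ ≫ colimit.ι d.functor D
      rw [reassoc_of% h1, ← reassoc_of% (hm (leOfHom hDE))]
      exact congrArg (fun q => τ D ≫ (ext D).ψ ≫ q) (colimit.w d.functor hDE))
  have hω : ∀ D, pullback.fst f D.1.ι ≫ ω = τ D ≫ (ext D).ψ ≫ colimit.ι d.functor D := fun D =>
    𝒱.map_glueMorphismsOfLocallyDirected _ _ D
  have hωb : ω ≫ d.toBase = f := by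
    refine 𝒱.hom_ext _ _ fun D => ?_
    show pullback.fst f D.1.ι ≫ ω ≫ d.toBase = pullback.fst f D.1.ι ≫ f
    rw [reassoc_of% hω D, Scheme.Cover.RelativeGluingData.ι_toBase]
    show τ D ≫ (ext D).ψ ≫ (ext D).Z.hom ≫ D.1.ι = _
    rw [reassoc_of% (ext D).hψ.w, X.homOfLE_ι, ← Category.assoc, pullback.lift_snd, hρ]
  have hpiece : ∀ (D : X.directedAffineCover.I₀) (y : Y.left), f y ∈ D.1 →
      ∃ z, pullback.fst f D.1.ι z = y := fun D y hy => by
    obtain ⟨z, hz, -⟩ := Scheme.Pullback.exists_preimage_pullback (f := f) (g := D.1.ι) y ⟨f y, hy⟩ rfl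
    exact ⟨z, hz⟩
  have hDx : ∀ x : X, ∃ D : X.directedAffineCover.I₀, x ∈ D.1 := fun x => by
    obtain ⟨D, hD, hx, -⟩ := exists_isAffineOpen_mem_and_subset (x := x) (U := ⊤) trivial
    exact ⟨⟨D, hD⟩, hx⟩
  haveI : ∀ D, IsOpenImmersion (ext D).ψ := fun D =>
    MorphismProperty.of_isPullback (ext D).hψ.flip (inferInstanceAs (IsOpenImmersion (X.homOfLE _)))
  haveI : ∀ D : X.directedAffineCover.I₀, IsOpenImmersion (colimit.ι d.functor D) := fun D =>
    MorphismProperty.of_isPullback (d.isPullback_natTrans_ι_toBase D) (inferInstanceAs (IsOpenImmersion D.1.ι))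
  haveI : ∀ D, IsOpenImmersion (τ D) := fun D => by
    haveI : IsOpenImmersion (pullback.fst Y.hom (X.homOfLE (inf_le_left : U ⊓ D.1 ≤ U))) :=
      MorphismProperty.pullback_fst _ _ inferInstance
    haveI : IsOpenImmersion (pullback.fst f D.1.ι) := MorphismProperty.pullback_fst _ _ inferInstance
    haveI : IsOpenImmersion (τ D ≫ pullback.fst _ _) := by rw [hτ]; infer_instance
    exact IsOpenImmersion.of_comp (τ D) (pullback.fst _ _)
  haveI : IsOpenImmersion ω := by
    refine isOpenImmersion_of_locally ω (fun y y' hyy => ?_) fun y => ?_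
    · have hb : f y = f y' := by
        rw [← hωb, Scheme.Hom.comp_apply, Scheme.Hom.comp_apply, hyy]
      obtain ⟨D, hD⟩ := hDx (f y)
      obtain ⟨z, rfl⟩ := hpiece D y hD
      obtain ⟨z', rfl⟩ := hpiece D y' (hb ▸ hD)
      rw [← Scheme.Hom.comp_apply, ← Scheme.Hom.comp_apply, hω] at hyy
      rw [(τ D ≫ (ext D).ψ ≫ colimit.ι d.functor D).isOpenEmbedding.injective hyy]
    · obtain ⟨D, hD⟩ := hDx (f y)
      obtain ⟨z, hz⟩ := hpiece D y hD
      exact ⟨_, pullback.fst f D.1.ι, MorphismProperty.pullback_fst _ _ inferInstance,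
        by rw [hω]; infer_instance, z, hz⟩
  have hrange : d.toBase ⁻¹ᵁ U.ι.opensRange = ω.opensRange := by
    refine SetLike.ext fun x => ⟨fun hx => ?_, ?_⟩
    · replace hx : d.toBase x ∈ U := by rw [← Scheme.Opens.opensRange_ι U]; exact hx
      obtain ⟨D, z, rfl⟩ := Scheme.IsLocallyDirected.ι_jointly_surjective d.functor x
      rw [← Scheme.Hom.comp_apply, Scheme.Cover.RelativeGluingData.ι_toBase, Scheme.Hom.comp_apply] at hx
      obtain ⟨w, hw, -⟩ := Scheme.exists_preimage_of_isPullback (ext D).hψ z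
        ⟨((ext D).Z.hom z).1, hx, ((ext D).Z.hom z).2⟩ (by
          apply Subtype.ext
          simp [Scheme.homOfLE_apply])
      obtain ⟨y, hy⟩ : ∃ y, pullback.fst f D.1.ι y = pullback.fst Y.hom (X.homOfLE inf_le_left) w := by
        refine hpiece D _ ?_
        show (Y.hom ≫ U.ι) _ ∈ D.1
        rw [← Scheme.Hom.comp_apply, pullback.condition_assoc, X.homOfLE_ι]
        exact (pullback.snd Y.hom _ w).2.2
      have hτy : τ D y = w := by
        haveI : IsOpenImmersion (pullback.fst Y.hom (X.homOfLE (inf_le_left : U ⊓ D.1 ≤ U))) :=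
          MorphismProperty.pullback_fst _ _ inferInstance
        apply (pullback.fst Y.hom (X.homOfLE (inf_le_left : U ⊓ D.1 ≤ U))).isOpenEmbedding.injective
        rw [← hy, ← Scheme.Hom.comp_apply, hτ]
        rfl
      refine ⟨pullback.fst f D.1.ι y, ?_⟩
      rw [← Scheme.Hom.comp_apply, hω, Scheme.Hom.comp_apply, Scheme.Hom.comp_apply, hτy, hw]
    · rintro ⟨y, rfl⟩
      exact ⟨Y.hom y, by rw [← Scheme.Hom.comp_apply ω, hωb]; rfl⟩
  have hPB : IsPullback ω Y.hom d.toBase U.ι :=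
    (IsOpenImmersion.isPullback Y.hom ω U.ι d.toBase hωb hrange).flip
  exact ⟨MorphismProperty.Over.isoMk hPB.isoPullback.symm (by
    show hPB.isoPullback.inv ≫ Y.hom = pullback.snd _ _
    exact hPB.isoPullback_inv_snd)⟩

end

end Groth.Agent.H18Et.FEtGlueAffine
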