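import Groth.Agent.H18Et.FEtDepth
import Groth.Agent.H18Et.EtaleNormalScheme
import Groth.Agent.H17.TwoGlue

/-!
# Restriction to a dense open with normal complement points is fully faithful
-/

set_option autoImplicit false
set_option linter.style.haveILetI false
set_option backward.isDefEq.respectTransparency false

universe u

open CategoryTheory CategoryTheory.Limits AlgebraicGeometry TopologicalSpace

namespace Groth.Agent.H18Et.FEtNormalOutside

open FEtGalois FEtRestrict

theorem clopensDescend {X X' : Scheme.{u}} [IsLocallyNoetherian X] (j : X' ⟶ X) [IsOpenImmersion j]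
    (hU : Dense (Set.range j))
    (h : ∀ x : X, x ∉ Set.range j → IsDomain (X.presheaf.stalk x) ∧ IsIntegrallyClosed (X.presheaf.stalk x)) :
    ClopensDescend j := fun P W' hW' => by
  let U : X.Opens := j.opensRange
  let f : P.left ⟶ X := P.hom
  haveI : IsFinite f := isFinite_hom P
  haveI : Etale f := etale_hom P
  haveI : IsLocallyNoetherian P.left := LocallyOfFiniteType.isLocallyNoetherian f
  let p := pullback.fst f j
  have hp : Topology.IsOpenEmbedding p := p.isOpenEmbedding
  have hr : Set.range p = ((f ⁻¹ᵁ U : P.left.Opens) : Set P.left) := by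
    show Set.range (pullback.fst f j) = _
    rw [Scheme.Pullback.range_fst]
    rfl
  have hdense : Dense ((f ⁻¹ᵁ U : P.left.Opens) : Set P.left) := hU.preimage f.isOpenMap
  obtain ⟨S, hS, e⟩ := FEtDepth.exists_isClopen_inter (U := ((f ⁻¹ᵁ U : P.left.Opens) : Set P.left)) (C := p '' W')
    (hp.isOpenMap _ hW'.2) (hr ▸ Set.image_subset_range _ _)
    (by
      rw [← hr, ← Set.image_compl_eq_range_diff_image hp.injective]
      exact hp.isOpenMap _ hW'.1.isOpen_compl)
    (fun x hx W hW hxW => by
      obtain ⟨hdom, -⟩ := EtaleNormalScheme.normal_stalk_of_etale f x (h (f x) hx)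
      haveI := hdom
      obtain ⟨W₀, hxW₀, -, hint⟩ := H17.exists_isIntegral_nhd x (Or.inl inferInstance)
      haveI := hint
      have hirr : IsPreirreducible (W₀ : Set P.left) := by
        have h1 : IsPreirreducible (Set.univ : Set (W₀ : Scheme.{u})) := PreirreducibleSpace.isPreirreducible_univ
        have h2 := h1.image W₀.ι W₀.ι.continuous.continuousOn
        rwa [Set.image_univ, Scheme.Opens.range_ι] at h2
      refine ⟨W ∩ W₀, hW.inter W₀.2, ⟨hxW, hxW₀⟩, Set.inter_subset_left, ?_, ?_⟩
      · exact (hirr.open_subset ((hW.inter W₀.2).inter (f ⁻¹ᵁ U).2) fun z hz => hz.1.2).isPreconnected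
      · exact hdense.inter_open_nonempty _ (hW.inter W₀.2) ⟨x, hxW, hxW₀⟩)
  refine ⟨S, hS, ?_⟩
  ext q
  constructor
  · intro hq
    obtain ⟨a, ha, hap⟩ : p q ∈ p '' W' := e ▸ ⟨hq, hr ▸ Set.mem_range_self q⟩
    exact hp.injective hap ▸ ha
  · intro hq
    exact (e.ge ⟨q, hq, rfl⟩).1

theorem full_faithful {X X' : Scheme.{u}} [IsLocallyNoetherian X] (j : X' ⟶ X) [IsOpenImmersion j]
    (hU : Dense (Set.range j))
    (h : ∀ x : X, x ∉ Set.range j → IsDomain (X.presheaf.stalk x) ∧ IsIntegrallyClosed (X.presheaf.stalk x)) :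
    (FEt.restrict j).Full ∧ (FEt.restrict j).Faithful := by
  have hm : MeetsClopens j := fun V hV hne => hU.inter_open_nonempty V hV.2 hne
  exact ⟨FEtRestrict.full _ hm (clopensDescend j hU h), FEtRestrict.faithful _ hm⟩

end Groth.Agent.H18Et.FEtNormalOutside
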