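import Groth.Agent.H18Et.FEtFieldLimit
import Groth.Agent.H7Lim.GeomConnFinite
import Groth.Agent.S0289

/-!
# A finite level may be replaced by a finite separable one
-/

set_option autoImplicit false
set_option linter.style.haveILetI false
set_option backward.isDefEq.respectTransparency false

universe u

open CategoryTheory CategoryTheory.Limits AlgebraicGeometry Opposite

namespace Groth.Agent.H18Et.FEtSepLevel

variable (k L : Type u) [Field k] [Field L] [Algebra k L] [FiniteDimensional k L]

/-- The spectrum of the separable part over the base. -/
noncomputable abbrev sepMap : Spec (CommRingCat.of (separableClosure k L)) ⟶ Spec (CommRingCat.of k) :=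
  Spec.map (CommRingCat.ofHom (algebraMap k (separableClosure k L)))

/-- The spectrum of the extension over its separable part. -/
noncomputable abbrev inMap : Spec (CommRingCat.of L) ⟶ Spec (CommRingCat.of (separableClosure k L)) :=
  Spec.map (CommRingCat.ofHom (algebraMap (separableClosure k L) L))

instance isFinite_sepMap : IsFinite (sepMap k L) :=
  (IsFinite.SpecMap_iff _).mpr (RingHom.finite_algebraMap.mpr inferInstance)

instance etale_sepMap : Etale (sepMap k L) := by
  haveI : Algebra.FormallyEtale k (separableClosure k L) :=
    (Algebra.FormallyEtale.iff_isSeparable k (separableClosure k L)).mpr inferInstance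
  haveI : Algebra.FinitePresentation k (separableClosure k L) :=
    Algebra.FinitePresentation.of_finiteType.mp inferInstance
  haveI : Algebra.Etale k (separableClosure k L) := ⟨inferInstance, inferInstance⟩
  exact (HasRingHomProperty.Spec_iff (P := @Etale)).mpr (RingHom.etale_algebraMap.mpr inferInstance)

instance isIntegralHom_inMap : IsIntegralHom (inMap k L) := by
  haveI : Module.Finite (separableClosure k L) L := Module.Finite.of_restrictScalars_finite k _ _
  exact IsIntegralHom.SpecMap_iff.mpr (RingHom.Finite.to_isIntegral (RingHom.finite_algebraMap.mpr inferInstance))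

instance universallyInjective_inMap : UniversallyInjective (inMap k L) :=
  H7Lim.GeomConnFinite.universallyInjective_SpecMap (separableClosure k L) L

instance surjective_inMap : Surjective (inMap k L) :=
  ⟨fun x => ⟨(⟨⊥, Ideal.isPrime_bot⟩ : PrimeSpectrum L),
    @Subsingleton.elim _ (inferInstanceAs (Subsingleton (PrimeSpectrum (separableClosure k L)))) _ x⟩⟩

variable {k L} {X : Scheme.{u}} (f : X ⟶ Spec (CommRingCat.of k))

/-- The comparison map `X_L ⟶ X_{L_s}`. -/
noncomputable def toSep : pullback f (Spec.map (CommRingCat.ofHom (algebraMap k L))) ⟶ pullback f (sepMap k L) :=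
  pullback.map _ _ _ _ (𝟙 X) (inMap k L) (𝟙 _) (by simp) (by
    rw [Category.comp_id, ← Spec.map_comp, ← CommRingCat.ofHom_comp, ← IsScalarTower.algebraMap_eq])

lemma toSep_fst : toSep (L := L) f ≫ pullback.fst f (sepMap k L) = pullback.fst f _ := by simp [toSep]

lemma toSep_snd : toSep (L := L) f ≫ pullback.snd f (sepMap k L) = pullback.snd f _ ≫ inMap k L := by
  simp [toSep]

lemma isPullback_toSep : IsPullback (toSep (L := L) f) (pullback.snd f _) (pullback.snd f (sepMap k L)) (inMap k L) := by
  refine IsPullback.of_right ?_ (toSep_snd f) (IsPullback.of_hasPullback f (sepMap k L))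
  rw [toSep_fst, ← Spec.map_comp, ← CommRingCat.ofHom_comp, ← IsScalarTower.algebraMap_eq]
  exact IsPullback.of_hasPullback f _

instance : IsIntegralHom (toSep (L := L) f) :=
  MorphismProperty.of_isPullback (P := @IsIntegralHom) (isPullback_toSep f).flip inferInstance

instance : UniversallyInjective (toSep (L := L) f) :=
  MorphismProperty.of_isPullback (P := @UniversallyInjective) (isPullback_toSep f).flip inferInstance

instance : Surjective (toSep (L := L) f) :=
  MorphismProperty.of_isPullback (P := @Surjective) (isPullback_toSep f).flip inferInstance

instance : (FEt.restrict (toSep (L := L) f)).IsEquivalence := Groth.Agent.S0289.result _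

end Groth.Agent.H18Et.FEtSepLevel
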