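import Groth.Agent.H18Et.FEtLimit
import Groth.Agent.H8Props.SpreadGeneric

/-!
# Spreading out an extension of a finite étale cover from a local scheme
-/

set_option autoImplicit false
set_option linter.style.haveILetI false
set_option backward.isDefEq.respectTransparency false
set_option backward.defeqAttrib.useBackward true

universe u

open CategoryTheory CategoryTheory.Limits AlgebraicGeometry TopologicalSpace

namespace Groth.Agent.H18Et.FEtSpread

open H8Props.SpreadGeneric FEtLimit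

/-- An extension over the local scheme at `x` spreads to an open neighbourhood of `x`. -/
theorem exists_nhd_extension {X : Scheme.{u}} [IsLocallyNoetherian X] (U : X.Opens)
    (Y : FEt.Cat (U : Scheme.{u})) (x : X) (Zx : FEt.Cat (Spec (X.presheaf.stalk x)))
    (e : (FEt.restrict (pullback.snd U.ι (X.fromSpecStalk x))).obj Zx ≅
      (FEt.restrict (pullback.fst U.ι (X.fromSpecStalk x))).obj Y) :
    ∃ (W : X.Opens) (_ : x ∈ W) (Z : FEt.Cat (W : Scheme.{u})),
      Nonempty ((FEt.restrict (X.homOfLE (inf_le_right : U ⊓ W ≤ W))).obj Z ≅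
        (FEt.restrict (X.homOfLE (inf_le_left : U ⊓ W ≤ U))).obj Y) := by
  obtain ⟨i, Zi, ⟨α⟩⟩ := exists_stage_obj (isLimitStageCone x) Zx
  let a : pullback U.ι (toBase i) ⟶ (stageFun x).obj i := pullback.snd U.ι (toBase i)
  haveI : IsNoetherianRing Γ(X, i.1.1) := IsLocallyNoetherian.component_noetherian ⟨i.1.1, i.1.2⟩
  haveI : IsLocallyNoetherian ((stageFun x).obj i) := inferInstanceAs (IsLocallyNoetherian (Spec Γ(X, i.1.1)))
  haveI : QuasiCompact a := MorphismProperty.pullback_snd _ _ inferInstance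
  haveI : QuasiSeparated a := MorphismProperty.pullback_snd _ _ inferInstance
  let D' := H7Lim.pbDiagram (stageFun x) i a
  let c' := H7Lim.pbCone (stageFun x) (stageCone x) i a
  haveI : ∀ (j k : Over i) (g : j ⟶ k), IsAffineHom (D'.map g) :=
    H7Lim.isAffineHom_pbDiagram_map (stageFun x) i a
  haveI : ∀ k, CompactSpace ↥(D'.obj k) := fun k =>
    haveI : QuasiCompact (pullback.snd a ((stageFun x).map k.hom)) :=
      MorphismProperty.pullback_snd _ _ inferInstance
    QuasiCompact.compactSpace_of_compactSpace (pullback.snd a ((stageFun x).map k.hom))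
  haveI : ∀ k, QuasiSeparatedSpace ↥(D'.obj k) := fun k =>
    haveI : QuasiSeparated (pullback.snd a ((stageFun x).map k.hom)) :=
      MorphismProperty.pullback_snd _ _ inferInstance
    quasiSeparatedSpace_of_quasiSeparated (pullback.snd a ((stageFun x).map k.hom))
  let k₀ : Over i := Over.mk (𝟙 i)
  let p₀ : D'.obj k₀ ⟶ pullback U.ι (toBase i) := pullback.fst _ _
  let A₀ := (FEt.restrict (p₀ ≫ a)).obj Zi
  let B₀ := (FEt.restrict (p₀ ≫ pullback.fst U.ι (toBase i))).obj Y
  -- compare over the limit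
  let θ : c'.pt ⟶ pullback U.ι (X.fromSpecStalk x) :=
    pullback.lift (pullback.fst a _ ≫ pullback.fst U.ι (toBase i)) (pullback.snd a _) (by
      rw [Category.assoc, pullback.condition, ← Category.assoc, pullback.condition, Category.assoc, cone_toBase])
  have hπ : c'.π.app k₀ ≫ p₀ = pullback.fst a ((stageCone x).π.app i) := by
    exact (pullback.lift_fst _ _ _).trans (Category.comp_id _)
  have h1 : c'.π.app k₀ ≫ p₀ ≫ a = pullback.snd a _ ≫ (stageCone x).π.app i := by
    rw [← Category.assoc, hπ]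
    exact pullback.condition
  have h2 : θ ≫ pullback.fst U.ι (X.fromSpecStalk x) = c'.π.app k₀ ≫ p₀ ≫ pullback.fst U.ι (toBase i) := by
    rw [← Category.assoc (c'.π.app k₀), hπ]
    exact pullback.lift_fst _ _ _
  let e₁ : (FEt.restrict (c'.π.app k₀)).obj A₀ ≅ (FEt.restrict (c'.π.app k₀)).obj B₀ :=
    restrictCompIso _ _ _ h1 Zi ≪≫ (restrictCompIso _ _ _ rfl Zi).symm ≪≫
      (FEt.restrict _).mapIso α ≪≫ (restrictCompIso θ _ _ (pullback.lift_snd _ _ _) Zx).symm ≪≫
      (FEt.restrict θ).mapIso e ≪≫ restrictCompIso θ _ _ h2 Y ≪≫ (restrictCompIso _ _ _ rfl Y).symm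
  obtain ⟨k, φ, ⟨e₂⟩⟩ := exists_stage_iso (H7Lim.isLimitPbCone (stageFun x) i a (isLimitStageCone x)) A₀ B₀ e₁
  -- the neighbourhood
  let W : X.Opens := k.left.1.1
  have hW : IsAffineOpen W := k.left.1.2
  let s : (W : Scheme.{u}) ⟶ (stageFun x).obj k.left := hW.isoSpec.hom
  have hs : s ≫ toBase k.left = W.ι := by
    show hW.isoSpec.hom ≫ hW.fromSpec = _
    rw [← hW.isoSpec_inv_ι, Iso.hom_inv_id_assoc]
  let t := X.homOfLE (inf_le_right : U ⊓ W ≤ W) ≫ s
  let v : (U ⊓ W : X.Opens).toScheme ⟶ pullback U.ι (toBase i) :=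
    pullback.lift (X.homOfLE (inf_le_left : U ⊓ W ≤ U)) (t ≫ (stageFun x).map k.hom) (by
      rw [Category.assoc, map_toBase k.hom, Category.assoc, hs, Scheme.homOfLE_ι, Scheme.homOfLE_ι])
  let q : (U ⊓ W : X.Opens).toScheme ⟶ D'.obj k := pullback.lift v t (pullback.lift_snd _ _ _)
  have hq : q ≫ D'.map φ ≫ p₀ = v := by
    show q ≫ D'.map φ ≫ pullback.fst _ _ = v
    simp [q, D', pullback.map]
  refine ⟨W, k.left.2, (FEt.restrict (s ≫ (stageFun x).map k.hom)).obj Zi, ⟨?_⟩⟩
  have hA : q ≫ D'.map φ ≫ p₀ ≫ a = X.homOfLE (inf_le_right : U ⊓ W ≤ W) ≫ s ≫ (stageFun x).map k.hom := by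
    rw [reassoc_of% hq]
    exact (pullback.lift_snd _ _ _).trans (Category.assoc _ _ _)
  have hB : q ≫ D'.map φ ≫ p₀ ≫ pullback.fst U.ι (toBase i) = X.homOfLE (inf_le_left : U ⊓ W ≤ U) := by
    rw [reassoc_of% hq]
    exact pullback.lift_fst _ _ _
  exact restrictCompIso _ _ _ hA.symm Zi ≪≫ (restrictCompIso q _ _ rfl Zi).symm ≪≫
    (FEt.restrict q).mapIso ((restrictCompIso _ _ _ rfl Zi).symm ≪≫ e₂ ≪≫ restrictCompIso _ _ _ rfl Y) ≪≫
    restrictCompIso q _ _ hB Y

end Groth.Agent.H18Et.FEtSpread
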