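import Groth.Agent.H18Et.FEtFibre
import Groth.Agent.H18Et.FEtRestrictApps
import Groth.Agent.H18Gal.KrullCompact
import Mathlib.CategoryTheory.Galois.IsFundamentalgroup
import Mathlib.CategoryTheory.Galois.Equivalence
import Mathlib.FieldTheory.AbsoluteGaloisGroup
import Mathlib.FieldTheory.PurelyInseparable.Basic
import Mathlib.RingTheory.Etale.Field

/-! The absolute Galois group is the fundamental group of the spectrum of a field. -/

set_option autoImplicit false

universe u

open CategoryTheory CategoryTheory.Limits AlgebraicGeometry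

namespace Groth.Agent.H18Et.FieldPi1

open FEtGalois FEtGlobal FEtRestrict FEtRestrictApps

set_option backward.isDefEq.respectTransparency false

variable (K : Type u) [Field K]

/-- The geometric point given by the algebraic closure. -/
noncomputable abbrev η : Spec (CommRingCat.of (AlgebraicClosure K)) ⟶ Spec (CommRingCat.of K) :=
  Spec.map (CommRingCat.ofHom (algebraMap K (AlgebraicClosure K)))

variable {K}

local notation "Ω" => AlgebraicClosure K
local notation "G" => AlgebraicClosure K ≃ₐ[K] AlgebraicClosure K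

/-- The automorphism of `Spec` of the algebraic closure. -/
noncomputable def specAut (g : G) : Spec (CommRingCat.of Ω) ⟶ Spec (CommRingCat.of Ω) :=
  Spec.map (CommRingCat.ofHom g.toRingEquiv.toRingHom)

theorem specAut_η (g : G) : specAut g ≫ η K = η K := by
  rw [specAut, η, ← Spec.map_comp]
  congr 1
  ext x
  exact g.commutes x

theorem specAut_one : specAut (1 : G) = 𝟙 _ := Spec.map_id _

theorem specAut_mul (g h : G) : specAut (g * h) = specAut g ≫ specAut h :=
  (congrArg Spec.map (CommRingCat.hom_ext (RingHom.ext fun _ => rfl) :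
    CommRingCat.ofHom (g * h).toRingEquiv.toRingHom =
      CommRingCat.ofHom h.toRingEquiv.toRingHom ≫ CommRingCat.ofHom g.toRingEquiv.toRingHom)).trans
    (Spec.map_comp _ _)

noncomputable instance mulAction (Y : FEt.Cat (Spec (CommRingCat.of K))) :
    MulAction G ((fibF (η K)).obj Y) where
  smul g s := ⟨specAut g ≫ s.1, (Category.assoc _ _ _).trans
    ((congrArg (specAut g ≫ ·) s.2).trans (specAut_η g))⟩
  one_smul s := Subtype.ext ((congrArg (· ≫ s.1) specAut_one).trans (Category.id_comp _))
  mul_smul g h s := Subtype.ext ((congrArg (· ≫ s.1) (specAut_mul g h)).trans (Category.assoc _ _ _))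

theorem smul_val {Y : FEt.Cat (Spec (CommRingCat.of K))} (g : G) (s : (fibF (η K)).obj Y) :
    (g • s).1 = specAut g ≫ s.1 := rfl

instance isNaturalSMul : PreGaloisCategory.IsNaturalSMul (fibF (η K)) G where
  naturality g _ _ f s := Subtype.ext (Category.assoc _ _ _)

/-- The evaluation of global sections at a geometric point. -/
noncomputable def evalAt {Y : FEt.Cat (Spec (CommRingCat.of K))} (s : (fibF (η K)).obj Y) :
    Γ(Y.left, ⊤) →+* Ω :=
  (s.1.appTop ≫ (Scheme.ΓSpecIso (CommRingCat.of Ω)).hom).hom

/-- The structure map on global sections. -/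
noncomputable def baseHom (Y : FEt.Cat (Spec (CommRingCat.of K))) : K →+* Γ(Y.left, ⊤) :=
  ((Scheme.ΓSpecIso (CommRingCat.of K)).inv ≫
    (Scheme.Hom.appTop (Y := Spec (CommRingCat.of K)) Y.hom)).hom

theorem evalAt_baseHom {Y : FEt.Cat (Spec (CommRingCat.of K))} (s : (fibF (η K)).obj Y) (c : K) :
    evalAt s (baseHom Y c) = algebraMap K Ω c := by
  have h : Scheme.Hom.appTop (Y := Spec (CommRingCat.of K)) Y.hom ≫ s.1.appTop =
      (η K).appTop := (Scheme.Hom.comp_appTop _ _).symm.trans (congrArg Scheme.Hom.appTop s.2)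
  have h2 : (Scheme.ΓSpecIso (CommRingCat.of K)).inv ≫ (η K).appTop ≫
      (Scheme.ΓSpecIso (CommRingCat.of Ω)).hom = CommRingCat.ofHom (algebraMap K Ω) := by
    rw [Scheme.ΓSpecIso_naturality, Iso.inv_hom_id_assoc]
  rw [← h] at h2
  exact congrArg (fun l : CommRingCat.of K ⟶ CommRingCat.of Ω => l c) h2

theorem finite_baseHom (Y : FEt.Cat (Spec (CommRingCat.of K))) : (baseHom Y).Finite :=
  haveI : IsFinite Y.hom := isFinite_hom Y
  haveI : IsAffine Y.left := isAffine_of_isAffineHom (Y := Spec (CommRingCat.of K)) Y.hom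
  (Scheme.Hom.finite_appTop (Y := Spec (CommRingCat.of K)) Y.hom).comp
    (RingHom.Finite.of_surjective _
      (Scheme.ΓSpecIso (CommRingCat.of K)).commRingCatIsoToRingEquiv.symm.surjective)

theorem evalAt_injective {Y : FEt.Cat (Spec (CommRingCat.of K))} :
    Function.Injective (evalAt (Y := Y)) := fun s t h => by
  have : IsFinite Y.hom := isFinite_hom Y
  have : IsAffine Y.left := isAffine_of_isAffineHom (Y := Spec (CommRingCat.of K)) Y.hom
  have h' : s.1.appTop ≫ (Scheme.ΓSpecIso (CommRingCat.of Ω)).hom =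
      t.1.appTop ≫ (Scheme.ΓSpecIso (CommRingCat.of Ω)).hom := CommRingCat.hom_ext h
  exact Subtype.ext (ext_of_isAffine ((cancel_mono _).mp h'))

theorem evalAt_smul {Y : FEt.Cat (Spec (CommRingCat.of K))} (g : G) (s : (fibF (η K)).obj Y) :
    evalAt (g • s) = g.toRingEquiv.toRingHom.comp (evalAt s) := by
  have h : (specAut g ≫ s.1).appTop ≫ (Scheme.ΓSpecIso (CommRingCat.of Ω)).hom =
      (s.1.appTop ≫ (Scheme.ΓSpecIso (CommRingCat.of Ω)).hom) ≫
        CommRingCat.ofHom g.toRingEquiv.toRingHom := by
    rw [Scheme.Hom.comp_appTop, Category.assoc, Category.assoc, specAut,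
      Scheme.ΓSpecIso_naturality]
  exact congrArg CommRingCat.Hom.hom h

open FintypeCatDiscrete in
theorem continuous_smul (Y : FEt.Cat (Spec (CommRingCat.of K))) :
    ContinuousSMul G ((fibF (η K)).obj Y) := by
  let _ : Algebra K Γ(Y.left, ⊤) := (baseHom Y).toAlgebra
  have : Module.Finite K Γ(Y.left, ⊤) := finite_baseHom Y
  obtain ⟨T, hT⟩ := this.fg_top
  refine continuousSMul_iff_stabilizer_isOpen.mpr fun s => ?_
  refine Subgroup.isOpen_of_mem_nhds _ (g := 1) ?_
  refine Filter.mem_of_superset
    ((isOpen_biInter_finset (s := T) fun a _ =>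
      (stabilizer_isOpen_of_isIntegral (K := K) (evalAt s a))).mem_nhds
        (Set.mem_iInter₂.mpr fun a _ => one_mem _)) ?_
  intro g hg
  refine evalAt_injective (RingHom.ext fun a => ?_)
  rw [evalAt_smul]
  let φ : Γ(Y.left, ⊤) →ₐ[K] Ω := { evalAt s with commutes' := evalAt_baseHom s }
  have hlin : (g.toAlgHom.comp φ).toLinearMap = φ.toLinearMap :=
    LinearMap.ext_on hT fun a ha => Set.mem_iInter₂.mp hg a ha
  exact LinearMap.congr_fun hlin a

theorem connectedSpace_spec : ConnectedSpace ↥(Spec (CommRingCat.of K)) :=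
  have : Unique (PrimeSpectrum K) := inferInstance
  (inferInstance : ConnectedSpace (PrimeSpectrum K))

/-- A connected finite étale cover of a field has one point. -/
theorem subsingleton_of_isConnected (Y : FEt.Cat (Spec (CommRingCat.of K)))
    [PreGaloisCategory.IsConnected Y] : Subsingleton Y.left := by
  refine ⟨fun p q => ?_⟩
  have := discreteTopology_of_finite Y
  let W : Set Y.left := {p}
  have hW : IsClopen W := isClopen_discrete _
  have : IsFinite Y.hom := isFinite_hom Y
  let i := clopenι Y W hW
  have hm : Mono i.left := inferInstanceAs (Mono (Scheme.Opens.ι (X := Y.left) ⟨W, hW.2⟩))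
  have : Mono i := ⟨fun a b h => MorphismProperty.Over.Hom.ext ((cancel_mono i.left).mp
    (congrArg (fun l => l.left) h))⟩
  have := connectedSpace_spec (K := K)
  have := FEtFibre.galoisCategory (η K)
  have := fiberFunctor (η K)
  have hiso : IsIso i := PreGaloisCategory.IsConnected.noTrivialComponent _ i fun hinit => by
    obtain ⟨q₀, hq₀, -⟩ := Scheme.Pullback.exists_preimage_pullback
      (f := (clopenObj Y W hW).hom) (g := η K) (⟨p, rfl⟩ : ↥(clopenObj Y W hW).left) default
      (Subsingleton.elim (α := PrimeSpectrum K) _ _)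
    have : IsFinite (clopenObj Y W hW).hom := isFinite_hom _
    obtain ⟨t, -⟩ := surjective_qOf (f := (clopenObj Y W hW).hom) (η := η K) q₀
    let t' : (fibF (η K)).obj (clopenObj Y W hW) := ⟨t.1, t.2⟩
    exact PreGaloisCategory.not_initial_of_inhabited (fibF (η K)) t' hinit
  have : IsIso i.left := inferInstanceAs
    (IsIso ((MorphismProperty.Over.forget _ _ _ ⋙ Over.forget _).map i))
  obtain ⟨w, hw⟩ := i.left.homeomorph.surjective q
  exact (show q = p from hw ▸ w.2).symm

theorem isPretransitive (Y : FEt.Cat (Spec (CommRingCat.of K)))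
    [PreGaloisCategory.IsConnected Y] : MulAction.IsPretransitive G ((fibF (η K)).obj Y) := by
  refine ⟨fun s t => ?_⟩
  have : IsFinite Y.hom := isFinite_hom Y
  have : IsAffine Y.left := isAffine_of_isAffineHom (Y := Spec (CommRingCat.of K)) Y.hom
  have := subsingleton_of_isConnected Y
  have hsub : Subsingleton (PrimeSpectrum Γ(Y.left, ⊤)) :=
    Y.left.isoSpec.hom.homeomorph.surjective.subsingleton
  let _ : Algebra K Γ(Y.left, ⊤) := (baseHom Y).toAlgebra
  have : Module.Finite K Γ(Y.left, ⊤) := finite_baseHom Y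
  let φ : Γ(Y.left, ⊤) →ₐ[K] Ω := { evalAt s with commutes' := evalAt_baseHom s }
  let ψ : Γ(Y.left, ⊤) →ₐ[K] Ω := { evalAt t with commutes' := evalAt_baseHom t }
  let m := RingHom.ker φ.toRingHom
  have hm : m.IsPrime := RingHom.ker_isPrime _
  have hm' : RingHom.ker ψ.toRingHom = m :=
    congrArg PrimeSpectrum.asIdeal (hsub.elim ⟨_, RingHom.ker_isPrime _⟩ ⟨m, hm⟩)
  have hmax : m.IsMaximal := by
    have : Nontrivial Γ(Y.left, ⊤) :=
      ⟨0, 1, fun h => zero_ne_one (α := Ω) (by simpa using congrArg φ h)⟩
    obtain ⟨M, hM⟩ := Ideal.exists_maximal Γ(Y.left, ⊤)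
    have := congrArg PrimeSpectrum.asIdeal (hsub.elim ⟨m, hm⟩ ⟨M, hM.isPrime⟩)
    exact (show m = M from this) ▸ hM
  let Q := Γ(Y.left, ⊤) ⧸ m
  let _ : Field Q := Ideal.Quotient.field m
  let φ' : Q →ₐ[K] Ω := Ideal.Quotient.liftₐ m φ fun a ha => ha
  let ψ' : Q →ₐ[K] Ω := Ideal.Quotient.liftₐ m ψ fun a ha => by
    rw [← hm'] at ha
    exact ha
  let _ : Algebra Q Ω := φ'.toRingHom.toAlgebra
  have : IsScalarTower K Q Ω := IsScalarTower.of_algebraMap_eq fun c => (φ'.commutes c).symm
  have key : ∃ g : G, ∀ x : Q, g (φ' x) = ψ' x := by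
    refine ⟨AlgEquiv.ofBijective (ψ'.liftNormal Ω) (AlgHom.normal_bijective K Ω Ω _), fun x => ?_⟩
    exact AlgHom.liftNormal_commutes (K₁ := Q) (K₂ := Ω) ψ' Ω x
  obtain ⟨g, hg⟩ := key
  refine ⟨g, evalAt_injective (RingHom.ext fun a => ?_)⟩
  rw [evalAt_smul]
  exact hg (Ideal.Quotient.mk m a)

/-- The cover given by a finite separable extension. -/
noncomputable def sepObj (E : IntermediateField K Ω) [FiniteDimensional K E]
    [Algebra.IsSeparable K E] : FEt.Cat (Spec (CommRingCat.of K)) :=
  MorphismProperty.Over.mk ⊤ (Spec.map (CommRingCat.ofHom (algebraMap K E))) <| by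
    refine ⟨(IsFinite.SpecMap_iff _).mpr (RingHom.finite_algebraMap.mpr inferInstance), ?_⟩
    refine (HasRingHomProperty.Spec_iff (P := @Etale)).mpr ?_
    have := Algebra.FormallyEtale.of_isSeparable K E
    have : Algebra.FinitePresentation K E :=
      Algebra.FinitePresentation.of_finiteType.mp inferInstance
    exact RingHom.etale_algebraMap.mpr {}

theorem eq_one_of_smul_eq (g : G)
    (h : ∀ (Y : FEt.Cat (Spec (CommRingCat.of K))) (s : (fibF (η K)).obj Y), g • s = s) :
    g = 1 := by
  let S := separableClosure K Ω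
  have hS : ∀ a : S, g (a : Ω) = a := by
    intro a
    have hint : IsIntegral K (a : Ω) := Algebra.IsIntegral.isIntegral _
    let E : IntermediateField K Ω := IntermediateField.adjoin K {(a : Ω)}
    have : FiniteDimensional K E := IntermediateField.adjoin.finiteDimensional hint
    have : Algebra.IsSeparable K E :=
      (IntermediateField.isSeparable_adjoin_simple_iff_isSeparable K Ω).mpr
        (mem_separableClosure_iff.mp a.2)
    let s : (fibF (η K)).obj (sepObj E) := ⟨Spec.map (CommRingCat.ofHom E.val.toRingHom), by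
      refine (Spec.map_comp _ _).symm.trans ?_
      rfl⟩
    have h1 : specAut g ≫ Spec.map (CommRingCat.ofHom E.val.toRingHom) =
        Spec.map (CommRingCat.ofHom E.val.toRingHom) := congrArg Subtype.val (h (sepObj E) s)
    rw [specAut, ← Spec.map_comp] at h1
    exact congrArg (fun l : CommRingCat.of E ⟶ CommRingCat.of Ω =>
      l ⟨a, IntermediateField.mem_adjoin_simple_self K _⟩) (Spec.map_injective h1)
  have : IsPurelyInseparable S Ω := separableClosure.isPurelyInseparable K Ω
  refine AlgEquiv.ext fun x => ?_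
  have := IsPurelyInseparable.injective_comp_algebraMap S Ω Ω
    (a₁ := g.toRingEquiv.toRingHom) (a₂ := RingHom.id Ω) (RingHom.ext fun a => hS a)
  exact RingHom.congr_fun this x

theorem isFundamentalGroup :
    letI := H18Gal.KrullCompact.compactSpace K Ω
    haveI := connectedSpace_spec (K := K)
    haveI := FEtFibre.galoisCategory (X := Spec (CommRingCat.of K)) (η K)
    PreGaloisCategory.IsFundamentalGroup (fibF (η K)) G := by
  have := connectedSpace_spec (K := K)
  have := FEtFibre.galoisCategory (η K)
  have := H18Gal.KrullCompact.compactSpace K Ω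
  exact
    { transitive_of_isGalois := fun X _ => isPretransitive X
      continuous_smul := continuous_smul
      non_trivial' := eq_one_of_smul_eq }

/-- The absolute Galois group is the automorphism group of the fibre functor. -/
theorem nonempty_mulEquiv_fibF : Nonempty (G ≃* Aut (fibF (η K))) := by
  have := connectedSpace_spec (K := K)
  have := FEtFibre.galoisCategory (η K)
  have := fiberFunctor (η K)
  have := H18Gal.KrullCompact.compactSpace K Ω
  have := isFundamentalGroup (K := K)
  exact ⟨PreGaloisCategory.toAutMulEquiv (fibF (η K)) G⟩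

theorem nonempty_mulEquiv_piOne :
    Nonempty (G ≃* FEt.piOne (Spec (CommRingCat.of K)) (η K)) := by
  obtain ⟨e⟩ := nonempty_mulEquiv_fibF (K := K)
  exact ⟨e.trans (((Functor.FullyFaithful.ofFullyFaithful FintypeCat.incl.{u}).whiskeringRight
    (FEt.Cat (Spec (CommRingCat.of K)))).autMulEquivOfFullyFaithful (fibF (η K)))⟩

open FintypeCatDiscrete in
theorem nonempty_equivalence :
    Nonempty (FEt.Cat (Spec (CommRingCat.of K)) ≌ ContAction FintypeCat.{u} G) := by
  have := connectedSpace_spec (K := K)
  have := FEtFibre.galoisCategory (η K)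
  have := fiberFunctor (η K)
  have := H18Gal.KrullCompact.compactSpace K Ω
  have := isFundamentalGroup (K := K)
  let e : G ≃ₜ* Aut (fibF (η K)) :=
    { PreGaloisCategory.toAutMulEquiv (fibF (η K)) G with
      continuous_toFun := (PreGaloisCategory.toAutHomeo (fibF (η K)) G).continuous
      continuous_invFun := (PreGaloisCategory.toAutMulEquiv_isHomeomorph (fibF (η K)) G
        |>.homeomorph).symm.continuous }
  exact ⟨(PreGaloisCategory.functorToContAction (fibF (η K))).asEquivalence.trans
    (ContAction.resEquiv _ e)⟩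

end Groth.Agent.H18Et.FieldPi1
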