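import Mathlib.RingTheory.Unramified.LocalRing
import Mathlib.RingTheory.Unramified.Locus
import Mathlib.AlgebraicGeometry.Morphisms.FormallyUnramified
import Mathlib.AlgebraicGeometry.Morphisms.ClosedImmersion
import Mathlib.AlgebraicGeometry.Morphisms.Finite
import Mathlib.AlgebraicGeometry.ResidueField
import Groth.Agent.H18Et.TopInvariance

/-!
# Finite unramified morphisms with a single rational point in a fibre
-/

universe u

open CategoryTheory AlgebraicGeometry

namespace Groth.Agent.H18Et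

section Ring

variable {R S : Type u} [CommRing R] [CommRing S] [Algebra R S] [Module.Finite R S]
  [Algebra.FormallyUnramified R S]

theorem exists_mul_mem_range_of_unique_prime (q : Ideal S) [q.IsPrime]
    (huniq : ∀ (q' : Ideal S), q'.IsPrime → q'.under R = q.under R → q' = q)
    (hres : ∀ y : S, ∃ a b : R, b ∉ q.under R ∧ algebraMap R S b * y - algebraMap R S a ∈ q) :
    ∃ r ∉ q.under R, ∀ y : S, algebraMap R S r * y ∈ Set.range (algebraMap R S) := by
  classical
  let p := q.under R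
  have hq : p.primesOver S = {q} := by
    ext q'
    refine ⟨fun h => huniq q' h.1 h.2.over.symm, ?_⟩
    rintro rfl
    exact ⟨‹_›, ⟨rfl⟩⟩
  haveI : q.LiesOver p := ⟨rfl⟩
  let := Localization.AtPrime.algebraOfLiesOver p q
  haveI : Algebra.IsUnramifiedAt R q := Algebra.FormallyUnramified.comp R S (Localization.AtPrime q)
  have hsurj : Function.Surjective (algebraMap p.ResidueField q.ResidueField) := by
    intro z
    obtain ⟨z₁, z₂, hz₂, rfl⟩ := IsFractionRing.div_surjective (S ⧸ q) z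
    have key : ∀ y : S ⧸ q, ∃ c : p.ResidueField,
        algebraMap p.ResidueField q.ResidueField c = algebraMap (S ⧸ q) q.ResidueField y := by
      intro y
      obtain ⟨y, rfl⟩ := Ideal.Quotient.mk_surjective y
      obtain ⟨a, b, hb, hy⟩ := hres y
      refine ⟨algebraMap R p.ResidueField a / algebraMap R p.ResidueField b, ?_⟩
      have hb0 : algebraMap S q.ResidueField (algebraMap R S b) ≠ 0 :=
        fun h => hb (Ideal.mem_comap.2 (Ideal.algebraMap_residueField_eq_zero.1 h))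
      have h0 := Ideal.algebraMap_residueField_eq_zero (I := q).2 hy
      rw [map_sub, map_mul, sub_eq_zero] at h0
      rw [map_div₀, ← IsScalarTower.algebraMap_apply R p.ResidueField q.ResidueField,
        ← IsScalarTower.algebraMap_apply R p.ResidueField q.ResidueField,
        IsScalarTower.algebraMap_apply R S q.ResidueField, IsScalarTower.algebraMap_apply R S q.ResidueField,
        div_eq_iff hb0, ← h0, mul_comm]
      rfl
    obtain ⟨c₁, hc₁⟩ := key z₁
    obtain ⟨c₂, hc₂⟩ := key z₂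
    exact ⟨c₁ / c₂, by rw [map_div₀, hc₁, hc₂]⟩
  have hloc := Localization.localRingHom_surjective_of_primesOver_eq_singleton hq hsurj
  have hy : ∀ y : S, ∃ r ∉ p, algebraMap R S r * y ∈ Set.range (algebraMap R S) := by
    intro y
    obtain ⟨x, hx⟩ := hloc (algebraMap S _ y)
    obtain ⟨a, ⟨b, hb⟩, rfl⟩ := IsLocalization.exists_mk'_eq p.primeCompl x
    rw [Localization.localRingHom_mk', IsLocalization.mk'_eq_iff_eq_mul, ← map_mul,
      IsLocalization.eq_iff_exists q.primeCompl] at hx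
    obtain ⟨⟨c, hc⟩, hce⟩ := hx
    obtain ⟨d, hd, e, he⟩ := Ideal.exists_notMem_dvd_algebraMap_of_primesOver_eq_singleton hq _ hc
    refine ⟨d * b, fun h => (Ideal.IsPrime.mem_or_mem inferInstance h).elim hd hb, d * a, ?_⟩
    simp only at hce
    rw [map_mul, map_mul, he, show c * e * algebraMap R S a = e * (c * algebraMap R S a) by ring, hce]
    ring
  choose r hr hry using hy
  obtain ⟨s, hs⟩ := Module.Finite.fg_top (R := R) (M := S)
  refine ⟨∏ i ∈ s, r i, (prod_mem fun i _ => hr i : ∏ i ∈ s, r i ∈ p.primeCompl), fun y => ?_⟩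
  have hy : y ∈ Submodule.span R (s : Set S) := hs ▸ Submodule.mem_top
  induction hy using Submodule.span_induction with
  | mem x hx =>
    obtain ⟨a, ha⟩ := hry x
    refine ⟨(∏ i ∈ s.erase x, r i) * a, ?_⟩
    rw [← Finset.prod_erase_mul s r hx, map_mul, map_mul, mul_assoc, ← ha]
  | zero => exact ⟨0, by simp⟩
  | add x y _ _ hx hy =>
    obtain ⟨a, ha⟩ := hx; obtain ⟨b, hb⟩ := hy
    exact ⟨a + b, by rw [map_add, mul_add, ha, hb]⟩
  | smul c x _ hx =>
    obtain ⟨a, ha⟩ := hx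
    exact ⟨c * a, by rw [map_mul, ha, Algebra.smul_def]; ring⟩

end Ring

theorem surjective_awayMap {R S Rr Sr : Type u} [CommRing R] [CommRing S] [CommRing Rr] [CommRing Sr]
    [Algebra R Rr] [Algebra S Sr] (φ : R →+* S) (r : R) [IsLocalization.Away r Rr]
    [IsLocalization.Away (φ r) Sr] (h : ∀ y : S, φ r * y ∈ Set.range φ) :
    Function.Surjective (IsLocalization.Away.map Rr Sr φ r) := by
  intro z
  obtain ⟨y, ⟨_, n, rfl⟩, rfl⟩ := IsLocalization.exists_mk'_eq (Submonoid.powers (φ r)) z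
  obtain ⟨a, ha⟩ := h y
  refine ⟨IsLocalization.mk' Rr a (⟨r ^ (n + 1), Submonoid.pow_mem _ (Submonoid.mem_powers r) _⟩ : Submonoid.powers r), ?_⟩
  rw [IsLocalization.Away.map, IsLocalization.map_mk', IsLocalization.mk'_eq_iff_eq]
  exact congrArg _ (show φ r ^ n * φ a = φ (r ^ (n + 1)) * y by rw [ha, map_pow, pow_succ]; ring)

theorem surjective_comp_of_isIso {A B C : CommRingCat.{u}} (g : A ⟶ B) (h : B ⟶ C) [IsIso h]
    (hg : Function.Surjective g) : Function.Surjective (g ≫ h) :=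
  (ConcreteCategory.bijective_of_isIso h).2.comp hg

set_option backward.isDefEq.respectTransparency false

variable {X Y : Scheme.{u}} (f : X ⟶ Y)

theorem exists_isClosedImmersion_nhd [IsFinite f] [FormallyUnramified f] (s : Y) (x : X)
    (hx : f.base ⁻¹' {s} = {x}) (hκ : Function.Surjective (f.residueFieldMap x)) :
    ∃ U : Y.Opens, s ∈ U ∧ IsClosedImmersion (f ∣_ U) := by
  have hfx : f.base x = s := (hx.symm ▸ Set.mem_singleton x : x ∈ f.base ⁻¹' {s})
  subst hfx
  obtain ⟨_, ⟨U, hU, rfl⟩, hsU, -⟩ := Y.isBasis_affineOpens.exists_subset_of_mem_open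
    (Set.mem_univ (f.base x)) isOpen_univ
  have hV : IsAffineOpen (f ⁻¹ᵁ U) := hU.preimage f
  let φ := (f.app U).hom
  algebraize [(f.app U).hom]
  haveI : Module.Finite Γ(Y, U) Γ(X, f ⁻¹ᵁ U) := IsFinite.finite_app f U hU
  haveI : Algebra.FormallyUnramified Γ(Y, U) Γ(X, f ⁻¹ᵁ U) := by
    have h := HasRingHomProperty.appLE @FormallyUnramified f ‹_› ⟨U, hU⟩ ⟨f ⁻¹ᵁ U, hV⟩ le_rfl
    simp [Scheme.Hom.appLE] at h
    exact h
  let q := (hV.primeIdealOf ⟨x, hsU⟩).asIdeal
  haveI : q.IsPrime := (hV.primeIdealOf ⟨x, hsU⟩).isPrime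
  let := TopCat.Presheaf.algebra_section_stalk X.presheaf (⟨x, hsU⟩ : ((f ⁻¹ᵁ U : X.Opens)))
  haveI : IsLocalization.AtPrime (X.presheaf.stalk x) q := hV.isLocalization_stalk ⟨x, hsU⟩
  have hev : ∀ y, X.evaluation (f ⁻¹ᵁ U) x hsU y = 0 ↔ y ∈ q := fun y => by
    refine (IsLocalRing.residue_eq_zero_iff _).trans ?_
    exact IsLocalization.AtPrime.to_map_mem_maximal_iff (X.presheaf.stalk x) q y
  have huniq : ∀ q' : Ideal Γ(X, f ⁻¹ᵁ U), q'.IsPrime →
      q'.under Γ(Y, U) = q.under Γ(Y, U) → q' = q := by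
    intro q' hq' e
    let q'' : PrimeSpectrum Γ(X, f ⁻¹ᵁ U) := ⟨q', hq'⟩
    have hmem : hV.fromSpec q'' ∈ f ⁻¹ᵁ U := by
      have : hV.fromSpec q'' ∈ Set.range hV.fromSpec := ⟨q'', rfl⟩
      rwa [hV.range_fromSpec] at this
    have hpt : f.base (hV.fromSpec q'') = f.base x := by
      have hcomm : ∀ z, f.base (hV.fromSpec z) = hU.fromSpec ((Spec.map (f.app U)) z) := fun z => by
        have := hU.SpecMap_appLE_fromSpec f hV (le_refl (f ⁻¹ᵁ U))
        simp [Scheme.Hom.appLE] at this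
        exact (congrArg (fun g : _ ⟶ Y => g.base z) this).symm
      rw [hcomm]
      refine Eq.trans ?_ ((hcomm _).symm.trans (congrArg f.base (hV.fromSpec_primeIdealOf ⟨x, hsU⟩)))
      exact congrArg hU.fromSpec.base (PrimeSpectrum.ext e)
    have : hV.fromSpec q'' = x := by
      have h : hV.fromSpec q'' ∈ f.base ⁻¹' {f.base x} := hpt
      rwa [hx] at h
    have h2 : q'' = hV.primeIdealOf ⟨x, hsU⟩ := hV.fromSpec.injective (by
      rw [this, hV.fromSpec_primeIdealOf])
    exact congrArg PrimeSpectrum.asIdeal h2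
  have hres : ∀ y : Γ(X, f ⁻¹ᵁ U), ∃ a b : Γ(Y, U), b ∉ q.under Γ(Y, U) ∧
      algebraMap Γ(Y, U) Γ(X, f ⁻¹ᵁ U) b * y - algebraMap Γ(Y, U) Γ(X, f ⁻¹ᵁ U) a ∈ q := by
    intro y
    let := TopCat.Presheaf.algebra_section_stalk Y.presheaf (⟨f.base x, hsU⟩ : U)
    haveI : IsLocalization.AtPrime (Y.presheaf.stalk (f.base x)) (hU.primeIdealOf ⟨f.base x, hsU⟩).asIdeal :=
      hU.isLocalization_stalk ⟨f.base x, hsU⟩
    obtain ⟨z, hz⟩ := hκ (X.evaluation (f ⁻¹ᵁ U) x hsU y)
    obtain ⟨w, rfl⟩ := Y.residue_surjective (f.base x) z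
    obtain ⟨a, ⟨b, hb⟩, hab⟩ := IsLocalization.exists_mk'_eq (hU.primeIdealOf ⟨f.base x, hsU⟩).asIdeal.primeCompl w
    have hbY : Y.evaluation U (f.base x) hsU b ≠ 0 := fun h => hb
      ((IsLocalization.AtPrime.to_map_mem_maximal_iff (Y.presheaf.stalk (f.base x))
        (hU.primeIdealOf ⟨f.base x, hsU⟩).asIdeal b).1 ((IsLocalRing.residue_eq_zero_iff _).1 h))
    refine ⟨a, b, fun hbq => hbY ((f.residueFieldMap x).hom.injective ?_), (hev _).1 ?_⟩
    · rw [map_zero, Scheme.evaluation_naturality_apply f x hsU b]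
      exact (hev _).2 hbq
    · have hrel : Y.evaluation U (f.base x) hsU b * Y.residue (f.base x) w =
          Y.evaluation U (f.base x) hsU a := by
        rw [← hab]
        exact (map_mul (Y.residue (f.base x)).hom _ _).symm.trans
          (congrArg _ (IsLocalization.mk'_spec' _ a ⟨b, hb⟩))
      have h3 := congrArg (f.residueFieldMap x) hrel
      rw [map_mul, hz, Scheme.evaluation_naturality_apply f x hsU b, Scheme.evaluation_naturality_apply f x hsU a,
        ← sub_eq_zero, ← map_mul, ← map_sub] at h3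
      exact h3

  obtain ⟨r, hr, hry⟩ := exists_mul_mem_range_of_unique_prime (R := Γ(Y, U)) q huniq hres
  refine ⟨Y.basicOpen r, ?_, ?_⟩
  · by_contra h
    apply hr
    show φ r ∈ q
    rw [← hev]
    refine (Scheme.evaluation_naturality_apply f x hsU r).symm.trans ?_
    rw [(Y.evaluation_eq_zero_iff_notMem_basicOpen (f.base x) hsU r).2 h, map_zero]
  · haveI : IsAffine (Y.basicOpen r : Scheme.{u}) := hU.basicOpen r
    have hV' : IsAffineOpen (f ⁻¹ᵁ Y.basicOpen r) := (hU.basicOpen r).preimage f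
    haveI : IsAffine (f ⁻¹ᵁ Y.basicOpen r : Scheme.{u}) := hV'
    haveI := hU.isLocalization_basicOpen r
    haveI := hV.isLocalization_basicOpen (f.app U r)
    apply IsClosedImmersion.of_surjective_of_isAffine
    have h1 : Function.Surjective (f.app (Y.basicOpen r)) := by
      rw [IsAffineOpen.app_basicOpen_eq_away_map f hU hV r]
      exact surjective_comp_of_isIso _ _ (surjective_awayMap φ r hry)
    rw [morphismRestrict_appTop]
    have h2 : ∀ W, W = Y.basicOpen r → Function.Surjective (f.app W) := by rintro W rfl; exact h1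
    exact surjective_comp_of_isIso _ _ (h2 _ (Y.basicOpen r).ι_image_top)

theorem exists_isIso_nhd [IsFinite f] [Etale f] (s : Y) (x : X)
    (hx : f.base ⁻¹' {s} = {x}) (hκ : Function.Surjective (f.residueFieldMap x)) :
    ∃ U : Y.Opens, s ∈ U ∧ IsIso (f ∣_ U) := by
  obtain ⟨U, hsU, hU⟩ := exists_isClosedImmersion_nhd f s x hx hκ
  haveI := hU
  haveI : Etale (f ∣_ U) := IsZariskiLocalAtTarget.restrict (P := @Etale) ‹_› U
  haveI : IsOpenImmersion (f ∣_ U) := TopInv.isOpenImmersion_of_etale_of_universallyInjective _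
  haveI : IsOpenImmersion (f ⁻¹ᵁ U).ι := inferInstance
  let W : Y.Opens := U.ι ''ᵁ (f ∣_ U).opensRange
  have hle : W ≤ U := U.ι_image_le _
  have hxU : x ∈ f ⁻¹ᵁ U := by
    show f.base x ∈ U
    rwa [show f.base x = s from (hx.symm ▸ Set.mem_singleton x : x ∈ f.base ⁻¹' {s})]
  refine ⟨W, ⟨(f ∣_ U).base ⟨x, hxU⟩, (show (f ∣_ U).base ⟨x, hxU⟩ ∈ Set.range (f ∣_ U).base from Set.mem_range_self _), ?_⟩, ?_⟩
  · have h4 := congrArg (fun g : ((f ⁻¹ᵁ U : X.Opens) : Scheme.{u}) ⟶ Y => g.base ⟨x, hxU⟩) (morphismRestrict_ι f U)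
    exact h4.trans (hx.symm ▸ Set.mem_singleton x : x ∈ f.base ⁻¹' {s})
  · haveI : IsIso ((f ∣_ U) ∣_ (f ∣_ U).opensRange) := by
      haveI : Surjective ((f ∣_ U) ∣_ (f ∣_ U).opensRange) := ⟨fun w => by
        obtain ⟨z, hz⟩ := w.2
        have hzm : (f ∣_ U).base z ∈ (f ∣_ U).opensRange := by exact Set.mem_range_self _
        refine ⟨⟨z, hzm⟩, Subtype.ext ?_⟩
        rw [← hz]
        exact congrArg (fun g : (((f ∣_ U) ⁻¹ᵁ (f ∣_ U).opensRange : ((f ⁻¹ᵁ U : X.Opens) : Scheme.{u}).Opens) : Scheme.{u}) ⟶ (U : Scheme.{u}) => g.base ⟨z, hzm⟩)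
          (morphismRestrict_ι (f ∣_ U) (f ∣_ U).opensRange)⟩
      haveI : IsOpenImmersion ((f ∣_ U) ∣_ (f ∣_ U).opensRange) :=
        IsZariskiLocalAtTarget.restrict (P := @IsOpenImmersion) ‹_› _
      exact (isIso_iff_isOpenImmersion_and_surjective _).mpr ⟨inferInstance, inferInstance⟩
    exact ((MorphismProperty.isomorphisms Scheme).arrow_mk_iso_iff
      (morphismRestrictRestrict f U (f ∣_ U).opensRange)).1 ‹_›

end Groth.Agent.H18Et
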