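import Mathlib.CategoryTheory.Galois.Equivalence
import Mathlib.Topology.Algebra.Group.Quotient
import Groth.Prelude.Def_Pi1X
import Groth.Agent.H18Et.FibreUnique

/-!
# Exact functors of Galois categories and the induced maps of fundamental groups
-/

set_option autoImplicit false

universe u v w

open CategoryTheory CategoryTheory.Limits CategoryTheory.PreGaloisCategory

open scoped FintypeCatDiscrete

namespace Groth.Agent.H18Et.GalExact

section One

variable {C : Type u} [Category.{v} C] [GaloisCategory C] (F : C ⥤ FintypeCat.{w}) [FiberFunctor F]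

omit [GaloisCategory C] [FiberFunctor F] in
theorem smul_def {X : C} (σ : Aut F) (x : F.obj X) : σ • x = σ.hom.app X x := rfl

theorem smul_map {X Y : C} (σ : Aut F) (f : X ⟶ Y) (x : F.obj X) :
    σ • F.map f x = F.map f (σ • x) :=
  mulAction_naturality F σ f x

theorem exists_hom {X Y : C} (φ : F.obj X → F.obj Y)
    (h : ∀ (σ : Aut F) (x : F.obj X), φ (σ • x) = σ • φ x) :
    ∃ f : X ⟶ Y, ∀ x, F.map f x = φ x := by
  obtain ⟨f, hf⟩ := (functorToAction F).map_surjective
    (X := X) (Y := Y) ⟨FintypeCat.homMk φ, fun σ => by ext x; exact h σ x⟩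
  exact ⟨f, fun x => ConcreteCategory.congr_hom (congrArg Action.Hom.hom hf) x⟩

theorem exists_iso {X Y : C} (φ : F.obj X → F.obj Y) (hb : Function.Bijective φ)
    (h : ∀ (σ : Aut F) (x : F.obj X), φ (σ • x) = σ • φ x) :
    ∃ f : X ≅ Y, ∀ x, F.map f.hom x = φ x := by
  obtain ⟨f, hf⟩ := exists_hom F φ h
  have : IsIso (F.map f) := (ConcreteCategory.isIso_iff_bijective (F.map f)).mpr (by
    rw [show ⇑(ConcreteCategory.hom (F.map f)) = φ from funext hf]; exact hb)
  have := isIso_of_reflects_iso f F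
  exact ⟨asIso f, hf⟩

theorem isConnected_of_transitive {X : C} [Nonempty (F.obj X)]
    (h : ∀ x y : F.obj X, ∃ σ : Aut F, σ • x = y) : IsConnected X where
  notInitial hI := not_initial_of_inhabited F (Classical.arbitrary (F.obj X)) hI
  noTrivialComponent Z i _ hZ := by
    obtain ⟨z⟩ := (not_initial_iff_fiber_nonempty F Z).mp hZ
    have : IsIso (F.map i) := by
      rw [ConcreteCategory.isIso_iff_bijective]
      refine ⟨ConcreteCategory.injective_of_mono_of_preservesPullback (F.map i), fun y => ?_⟩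
      obtain ⟨σ, hσ⟩ := h (F.map i z) y
      exact ⟨σ • z, (smul_map F σ i z).symm.trans hσ⟩
    exact isIso_of_reflects_iso i F

theorem eq_of_terminal (s t : F.obj (⊤_ C)) : s = t := by
  have h1 : IsTerminal (F.obj (⊤_ C)) := terminalIsTerminal.isTerminalObj F _
  exact (ConcreteCategory.congr_hom
    (h1.hom_ext (FintypeCat.homMk fun _ : F.obj (⊤_ C) => t) (𝟙 _)) s).symm

theorem nonempty_terminal : Nonempty (F.obj (⊤_ C)) := by
  have h1 : IsTerminal (F.obj (⊤_ C)) := terminalIsTerminal.isTerminalObj F _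
  exact ⟨h1.from (FintypeCat.of PUnit.{w + 1}) PUnit.unit⟩

/-- Sections from the final object are fixed points. -/
theorem exists_section_iff {X : C} (a : F.obj X) :
    (∃ s : ⊤_ C ⟶ X, ∀ t : F.obj (⊤_ C), F.map s t = a) ↔ ∀ σ : Aut F, σ • a = a := by
  constructor
  · rintro ⟨s, hs⟩ σ
    obtain ⟨t⟩ := nonempty_terminal F
    rw [← hs t, smul_map, eq_of_terminal F (σ • t) t]
  · intro h
    exact exists_hom F (fun _ => a) fun σ _ => (h σ).symm

theorem exists_coproduct_fiber {n : ℕ} (X : Fin n → C) (y : F.obj (∐ X)) :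
    ∃ (i : Fin n) (x : F.obj (X i)), F.map (Sigma.ι X i) x = y := by
  obtain ⟨⟨i⟩, x, hx⟩ := Concrete.isColimit_exists_rep _
    (isColimitOfPreserves F (coproductIsCoproduct X)) y
  exact ⟨i, x, hx⟩

/-- Trivial action = finite sum of final objects. -/
theorem trivial_iff {X : C} :
    (∀ (σ : Aut F) (x : F.obj X), σ • x = x) ↔
      ∃ n : ℕ, Nonempty (X ≅ ∐ fun _ : Fin n => ⊤_ C) := by
  constructor
  · intro h
    obtain ⟨n, ⟨e⟩⟩ := Finite.exists_equiv_fin (F.obj X)
    choose s hs using fun i => (exists_section_iff F (e.symm i)).mpr fun σ => h σ _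
    let m : (∐ fun _ : Fin n => ⊤_ C) ⟶ X := Sigma.desc s
    have hm : ∀ i t, F.map m (F.map (Sigma.ι _ i) t) = e.symm i := fun i t => by
      rw [← FintypeCat.comp_apply, ← F.map_comp, Sigma.ι_desc]
      exact hs i t
    have hb : Function.Bijective (F.map m) := by
      refine ⟨fun y y' hyy => ?_, fun x => ?_⟩
      · obtain ⟨i, t, rfl⟩ := exists_coproduct_fiber F _ y
        obtain ⟨i', t', rfl⟩ := exists_coproduct_fiber F _ y'
        rw [hm, hm] at hyy
        obtain rfl := e.symm.injective hyy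
        rw [eq_of_terminal F t t']
      · obtain ⟨t⟩ := nonempty_terminal F
        exact ⟨F.map (Sigma.ι _ (e x)) t, (hm _ t).trans (e.symm_apply_apply x)⟩
    have : IsIso (F.map m) := (ConcreteCategory.isIso_iff_bijective (F.map m)).mpr hb
    have := isIso_of_reflects_iso m F
    exact ⟨n, ⟨(asIso m).symm⟩⟩
  · rintro ⟨n, ⟨e⟩⟩ σ x
    obtain ⟨i, t, ht⟩ := exists_coproduct_fiber F _ (F.map e.hom x)
    have hx : F.map e.inv (F.map (Sigma.ι _ i) t) = x := by
      rw [ht, ← FintypeCat.comp_apply, ← F.map_comp, e.hom_inv_id]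
      simp
    rw [← hx, smul_map, smul_map, eq_of_terminal F (σ • t) t]

/-- Every orbit is the fibre of a connected subobject. -/
theorem exists_component {X : C} (x : F.obj X) :
    ∃ (Y : C) (i : Y ⟶ X) (y : F.obj Y), F.map i y = x ∧ IsConnected Y ∧ Mono i :=
  fiber_in_connected_component F X x

/-- Separation of a closed set from a point by the fibre of a Galois object. -/
theorem exists_galois_separating {K : Set (Aut F)} (hK : IsClosed K) {σ : Aut F} (hσ : σ ∉ K) :
    ∃ A : PointedGaloisObject F, ∀ g ∈ K, g • A.pt ≠ σ • A.pt := by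
  have hopen : {τ : Aut F | σ * τ ∉ K} ∈ nhds (1 : Aut F) :=
    (hK.isOpen_compl.preimage (continuous_const_mul σ)).mem_nhds (by simpa using hσ)
  obtain ⟨A, -, hA⟩ := (nhds_one_has_basis_stabilizers F).mem_iff.mp hopen
  refine ⟨A, fun g hg h => ?_⟩
  have hmem : σ⁻¹ * g ∈ MulAction.stabilizer (Aut F) A.pt := by
    rw [MulAction.mem_stabilizer_iff, mul_smul, h, inv_smul_smul]
  have := hA hmem
  simp only [Set.mem_ofPred_eq, mul_inv_cancel_left] at this
  exact this hg

/-- An open subgroup containing a closed subgroup and missing a point. -/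
theorem exists_openSubgroup_separating {G : Subgroup (Aut F)} (hG : IsClosed (G : Set (Aut F)))
    {σ : Aut F} (hσ : σ ∉ G) :
    ∃ V : OpenSubgroup (Aut F), G ≤ V.toSubgroup ∧ σ ∉ V.toSubgroup := by
  obtain ⟨A, hA⟩ := exists_galois_separating F hG hσ
  have hn := stabilizer_normal_of_isGalois F A.obj A.pt
  refine ⟨⟨G ⊔ MulAction.stabilizer (Aut F) A.pt,
    Subgroup.isOpen_mono le_sup_right (stabilizer_isOpen (Aut F) A.pt)⟩, le_sup_left, ?_⟩
  intro h
  rw [Subgroup.mem_sup_of_normal_right] at h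
  obtain ⟨g, hg, n, hn', rfl⟩ := h
  exact hA g hg (by rw [mul_smul, MulAction.mem_stabilizer_iff.mp hn'])

/-- Finite sets with open stabilizers come from objects. -/
theorem exists_lift (T : FintypeCat.{w}) [MulAction (Aut F) T]
    (hT : ∀ t : T, IsOpen (MulAction.stabilizer (Aut F) t : Set (Aut F))) :
    ∃ (X : C) (φ : F.obj X → T),
      Function.Bijective φ ∧ ∀ (σ : Aut F) x, φ (σ • x) = σ • φ x := by
  let A : Action FintypeCat.{w} (Aut F) := Action.FintypeCat.ofMulAction (Aut F) T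
  have hA : ContinuousSMul (Aut F) ((forget₂ _ TopCat).obj A) := by
    have : DiscreteTopology ((forget₂ _ TopCat).obj A) := ⟨rfl⟩
    exact continuousSMul_iff_stabilizer_isOpen.mpr hT
  obtain ⟨X, ⟨e⟩⟩ := Functor.EssSurj.mem_essImage (F := functorToContAction F) ⟨A, hA⟩
  refine ⟨X, fun x => e.hom.hom.hom x, ?_, fun σ x => ?_⟩
  · have : IsIso e.hom.hom := ((ObjectProperty.ι _).mapIso e).isIso_hom
    have : IsIso e.hom.hom.hom := (Action.forget _ _).map_isIso e.hom.hom
    exact ConcreteCategory.bijective_of_isIso e.hom.hom.hom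
  · exact ConcreteCategory.congr_hom (e.hom.hom.comm σ) x

/-- The coset object of an open subgroup. -/
theorem exists_object_stabilizer_eq (V : OpenSubgroup (Aut F)) :
    ∃ (X : C) (a : F.obj X), IsConnected X ∧ MulAction.stabilizer (Aut F) a = V.toSubgroup := by
  have : Finite (Aut F ⧸ V.toSubgroup) := V.toSubgroup.quotient_finite_of_isOpen V.isOpen'
  obtain ⟨n, ⟨e₀⟩⟩ := Finite.exists_equiv_fin (Aut F ⧸ V.toSubgroup)
  let e : Aut F ⧸ V.toSubgroup ≃ ULift.{w} (Fin n) := e₀.trans Equiv.ulift.symm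
  let T : FintypeCat.{w} := FintypeCat.of (ULift.{w} (Fin n))
  let _ : MulAction (Aut F) T :=
    { smul := fun σ t => e (σ • e.symm t)
      one_smul := fun t => by
        change e ((1 : Aut F) • e.symm t) = t
        rw [one_smul, e.apply_symm_apply]
      mul_smul := fun σ τ t => by
        change e ((σ * τ) • e.symm t) = e (σ • e.symm (e (τ • e.symm t)))
        rw [mul_smul, e.symm_apply_apply] }
  have hstab : ∀ (σ : Aut F) (t : T), σ • t = t ↔ σ • e.symm t = e.symm t := fun σ t => by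
    change e (σ • e.symm t) = t ↔ _
    exact e.apply_eq_iff_eq_symm_apply
  obtain ⟨X, φ, hb, hφ⟩ := exists_lift F T fun t => by
    have hset : (MulAction.stabilizer (Aut F) t : Set (Aut F)) =
        MulAction.stabilizer (Aut F) (e.symm t) := Set.ext fun σ => hstab σ t
    rw [hset]
    obtain ⟨g, hg⟩ := QuotientGroup.mk_surjective (e.symm t)
    refine Subgroup.isOpen_of_mem_nhds _ (g := (1 : Aut F)) ?_
    have ho : IsOpen {σ : Aut F | g⁻¹ * σ * g ∈ V.toSubgroup} :=
      V.isOpen'.preimage (by fun_prop)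
    refine Filter.mem_of_superset (ho.mem_nhds (by simp)) fun σ hσ => ?_
    rw [SetLike.mem_coe, MulAction.mem_stabilizer_iff, ← hg]
    change QuotientGroup.mk (σ * g) = QuotientGroup.mk g
    rw [eq_comm, QuotientGroup.eq]
    simpa [mul_assoc] using hσ
  obtain ⟨a, ha⟩ := hb.2 (e (QuotientGroup.mk 1))
  have : Nonempty (F.obj X) := ⟨a⟩
  refine ⟨X, a, isConnected_of_transitive F fun x y => ?_, ?_⟩
  · obtain ⟨σ, hσ⟩ := MulAction.exists_smul_eq (Aut F) (e.symm (φ x)) (e.symm (φ y))
    refine ⟨σ, hb.1 ((hφ σ x).trans ?_)⟩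
    change e (σ • e.symm (φ x)) = φ y
    rw [hσ, e.apply_symm_apply]
  · ext σ
    rw [MulAction.mem_stabilizer_iff, ← hb.1.eq_iff, hφ, ha, hstab, e.symm_apply_apply]
    change QuotientGroup.mk (σ * 1) = QuotientGroup.mk 1 ↔ σ ∈ V.toSubgroup
    rw [mul_one, QuotientGroup.eq, mul_one, inv_mem_iff]

end One

section Two

variable {C C' : Type u} [Category.{v} C] [Category.{v} C'] [GaloisCategory C] [GaloisCategory C']
  (H : C ⥤ C') (F' : C' ⥤ FintypeCat.{w}) [FiberFunctor F'] [FiberFunctor (H ⋙ F')]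

local notation "u" => Pi1X.autWhisker H F'

omit [GaloisCategory C] [GaloisCategory C'] [FiberFunctor F'] [FiberFunctor (H ⋙ F')] in
theorem autWhisker_smul (σ : Aut F') {X : C} (x : (H ⋙ F').obj X) :
    u σ • x = σ • (show F'.obj (H.obj X) from x) := rfl

omit [GaloisCategory C] [GaloisCategory C'] [FiberFunctor F'] [FiberFunctor (H ⋙ F')] in
theorem continuous_autWhisker : Continuous u := by
  rw [(⟨rfl⟩ : Topology.IsInducing (autEmbedding (H ⋙ F'))).continuous_iff, continuous_pi_iff]
  intro X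
  exact (continuous_apply (H.obj X)).comp
    (continuous_induced_dom (f := autEmbedding F'))

theorem isClosed_range : IsClosed (Set.range u) :=
  (isCompact_range (continuous_autWhisker H F')).isClosed

theorem surjective_of_preservesConnected
    (h : ∀ X : C, IsConnected X → IsConnected (H.obj X)) : Function.Surjective u := by
  intro σ
  by_contra hσ
  obtain ⟨A, hA⟩ := exists_galois_separating (H ⋙ F') (isClosed_range H F') hσ
  have := h A.obj inferInstance
  obtain ⟨τ, hτ⟩ := MulAction.exists_smul_eq (Aut F') (show F'.obj (H.obj A.obj) from A.pt)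
    (show F'.obj (H.obj A.obj) from σ • A.pt)
  exact hA (u τ) ⟨τ, rfl⟩ hτ

theorem preservesConnected_of_surjective (hs : Function.Surjective u) (X : C)
    (hX : IsConnected X) : IsConnected (H.obj X) := by
  have : Nonempty (F'.obj (H.obj X)) := (inferInstance : Nonempty ((H ⋙ F').obj X))
  refine isConnected_of_transitive F' fun x y => ?_
  obtain ⟨σ, hσ⟩ := MulAction.exists_smul_eq (Aut (H ⋙ F')) (show (H ⋙ F').obj X from x) y
  obtain ⟨τ, rfl⟩ := hs σ
  exact ⟨τ, hσ⟩

include F' in
theorem faithful : H.Faithful := Functor.Faithful.of_comp H F'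

theorem full_of_surjective (hs : Function.Surjective u) : H.Full where
  map_surjective {X Y} φ := by
    obtain ⟨f, hf⟩ := exists_hom (H ⋙ F') (X := X) (Y := Y) (fun x => F'.map φ x) (fun σ x => by
      obtain ⟨τ, rfl⟩ := hs σ
      exact (smul_map F' τ φ x).symm)
    exact ⟨f, F'.map_injective (FintypeCat.hom_ext _ _ hf)⟩

theorem surjective_of_full [H.Full] [PreservesFiniteColimits H] [PreservesFiniteLimits H] :
    Function.Surjective u := by
  intro σ
  by_contra hσ
  obtain ⟨V, hGV, hσV⟩ := exists_openSubgroup_separating (H ⋙ F')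
    (G := MonoidHom.range u) (isClosed_range H F') hσ
  obtain ⟨X, a, -, hstab⟩ := exists_object_stabilizer_eq (H ⋙ F') V
  obtain ⟨s, hs⟩ := (exists_section_iff F' (X := H.obj X) a).mpr fun τ => by
    have : u τ ∈ MulAction.stabilizer (Aut (H ⋙ F')) a := hstab ▸ hGV ⟨τ, rfl⟩
    exact this
  let e : H.obj (⊤_ C) ≅ ⊤_ C' := PreservesTerminal.iso H
  obtain ⟨s₀, hs₀⟩ := H.map_surjective (e.hom ≫ s)
  apply hσV
  rw [← hstab, MulAction.mem_stabilizer_iff]
  refine (exists_section_iff (H ⋙ F') a).mp ⟨s₀, fun t => ?_⟩ σ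
  change F'.map (H.map s₀) t = a
  rw [hs₀, Functor.map_comp, FintypeCat.comp_apply]
  exact hs _

/-- `ker u ≤ stab a'` produces a dominating subobject. -/
theorem exists_dominating [PreservesFiniteLimits H] (X' : C') [IsConnected X'] (a' : F'.obj X')
    (h : (MonoidHom.ker u) ≤ MulAction.stabilizer (Aut F') a') :
    ∃ (X : C) (Y' : C') (i : Y' ⟶ H.obj X) (q : Y' ⟶ X'), Mono i ∧ IsConnected Y' := by
  -- the image of the stabilizer is closed and misses `1` outside
  let K : Set (Aut (H ⋙ F')) := u '' {τ | τ • a' ≠ a'}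
  have hK : IsClosed K := by
    refine (IsClosed.isCompact ?_).image (continuous_autWhisker H F') |>.isClosed
    have hopen : IsOpen (MulAction.stabilizer (Aut F') a' : Set (Aut F')) :=
      stabilizer_isOpen (Aut F') a'
    exact hopen.isClosed_compl
  have h1 : (1 : Aut (H ⋙ F')) ∉ K := fun ⟨τ, hτ, hτ1⟩ => hτ (h hτ1)
  obtain ⟨A, hA⟩ := exists_galois_separating (H ⋙ F') hK h1
  have key : ∀ τ : Aut F', τ • (show F'.obj (H.obj A.obj) from A.pt) = A.pt → τ • a' = a' := fun τ hτ => by
    by_contra hne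
    exact hA (u τ) ⟨τ, hne, rfl⟩ (hτ.trans (one_smul (Aut (H ⋙ F')) A.pt).symm)
  obtain ⟨Y', i, b, hib, hY', hi⟩ := exists_component F' (X := H.obj A.obj) A.pt
  have hwd : ∀ τ τ' : Aut F', τ • b = τ' • b → τ • a' = τ' • a' := fun τ τ' hτ => by
    have : (τ'⁻¹ * τ) • b = b := by rw [mul_smul, hτ, inv_smul_smul]
    have h3 : (τ'⁻¹ * τ) • a' = a' := key _ (by rw [← hib, smul_map, this])
    rwa [mul_smul, inv_smul_eq_iff] at h3
  choose t ht using fun y : F'.obj Y' => MulAction.exists_smul_eq (Aut F') b y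
  obtain ⟨q, -⟩ := exists_hom F' (X := Y') (Y := X') (fun y => t y • a') fun σ y => by
    rw [← mul_smul]
    exact hwd _ _ (by rw [ht, mul_smul, ht])
  exact ⟨A.obj, Y', i, q, hi, hY'⟩

theorem smul_eq_of_ker {τ : Aut F'} (hτ : u τ = 1) {X : C} (x : F'.obj (H.obj X)) : τ • x = x := by
  rw [← autWhisker_smul H F' τ (show (H ⋙ F').obj X from x), hτ, one_smul]

theorem ker_le_stabilizer (X' : C') [IsConnected X'] (a' : F'.obj X') {X : C} {Y' : C'}
    (i : Y' ⟶ H.obj X) (q : Y' ⟶ X') [Mono i] [Nonempty (F'.obj Y')] :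
    MonoidHom.ker u ≤ MulAction.stabilizer (Aut F') a' := by
  intro τ hτ
  obtain ⟨b, rfl⟩ := surjective_of_nonempty_fiber_of_isConnected F' q a'
  rw [MulAction.mem_stabilizer_iff, smul_map]
  refine congrArg (F'.map q) ?_
  apply ConcreteCategory.injective_of_mono_of_preservesPullback (F'.map i)
  rw [← smul_map]
  exact smul_eq_of_ker H F' hτ _

theorem injective_iff [PreservesFiniteLimits H] : Function.Injective u ↔
    ∀ X' : C', IsConnected X' →
      ∃ (X : C) (Y' : C') (p : Y' ⟶ X') (q : Y' ⟶ H.obj X), Epi p ∧ Mono q := by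
  constructor
  · intro hu X' hX'
    obtain ⟨a'⟩ : Nonempty (F'.obj X') := inferInstance
    obtain ⟨X, Y', i, q, hi, hY'⟩ := exists_dominating H F' X' a'
      (by rw [(MonoidHom.ker_eq_bot_iff _).mpr hu]; exact bot_le)
    exact ⟨X, Y', q, i, epi_of_nonempty_of_isConnected F' q, hi⟩
  · intro h
    rw [← MonoidHom.ker_eq_bot_iff, eq_bot_iff]
    intro τ hτ
    rw [Subgroup.mem_bot]
    ext Z z
    change τ • z = z
    obtain ⟨X', j, x', rfl, hX', -⟩ := exists_component F' z
    obtain ⟨X, Y', p, q, hp, hq⟩ := h X' hX'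
    obtain ⟨y, -⟩ := surjective_on_fiber_of_epi F' p x'
    have : Nonempty (F'.obj Y') := ⟨y⟩
    rw [smul_map, MulAction.mem_stabilizer_iff.mp (ker_le_stabilizer H F' X' x' q p hτ)]

theorem normalClosure_le_stabilizer_iff (X : C) [IsConnected X] (a : (H ⋙ F').obj X) :
    Subgroup.normalClosure ((MonoidHom.range u) : Set (Aut (H ⋙ F'))) ≤
      MulAction.stabilizer (Aut (H ⋙ F')) a ↔
    ∃ n : ℕ, Nonempty (H.obj X ≅ ∐ fun _ : Fin n => ⊤_ C') := by
  rw [← trivial_iff F']
  constructor
  · intro h τ x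
    obtain ⟨σ, rfl⟩ := MulAction.exists_smul_eq (Aut (H ⋙ F')) a (show (H ⋙ F').obj X from x)
    have hmem : σ⁻¹ * u τ * σ ∈ MulAction.stabilizer (Aut (H ⋙ F')) a :=
      h (by
        simpa using (Subgroup.normalClosure_normal.conj_mem (u τ)
          (Subgroup.subset_normalClosure (s := (MonoidHom.range u : Set (Aut (H ⋙ F')))) ⟨τ, rfl⟩) σ⁻¹))
    rw [MulAction.mem_stabilizer_iff, mul_smul, mul_smul, inv_smul_eq_iff] at hmem
    exact hmem
  · intro h
    have hn : (MonoidHom.range u : Set (Aut (H ⋙ F'))) ⊆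
        (MulAction.toPermHom (Aut (H ⋙ F')) ((H ⋙ F').obj X)).ker := by
      rintro _ ⟨τ, rfl⟩
      exact Equiv.ext fun x => h τ x
    intro σ hσ
    have := Subgroup.normalClosure_le_normal hn hσ
    exact Equiv.congr_fun this a

theorem range_le_stabilizer_iff (X : C) (a : (H ⋙ F').obj X) :
    MonoidHom.range u ≤ MulAction.stabilizer (Aut (H ⋙ F')) a ↔
      ∃ s : ⊤_ C' ⟶ H.obj X, ∀ t : F'.obj (⊤_ C'), F'.map s t = a := by
  rw [exists_section_iff F' (X := H.obj X) a]
  exact ⟨fun h τ => h ⟨τ, rfl⟩, fun h σ ⟨τ, hτ⟩ => hτ ▸ h τ⟩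

end Two

section Three

variable {C C' C'' : Type u} [Category.{v} C] [Category.{v} C'] [Category.{v} C'']
  [GaloisCategory C] [GaloisCategory C'] [GaloisCategory C'']
  (H : C ⥤ C') (H' : C' ⥤ C'') (F'' : C'' ⥤ FintypeCat.{w})
  [FiberFunctor F''] [FiberFunctor (H' ⋙ F'')] [FiberFunctor (H ⋙ (H' ⋙ F''))]

local notation "h" => Pi1X.autWhisker H (H' ⋙ F'')
local notation "h'" => Pi1X.autWhisker H' F''

theorem comp_trivial_iff :
    (∀ σ : Aut F'', h (h' σ) = 1) ↔
      ∀ X : C, ∃ n : ℕ, Nonempty (H'.obj (H.obj X) ≅ ∐ fun _ : Fin n => ⊤_ C'') := by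
  simp only [← trivial_iff F'']
  constructor
  · intro hh X τ x
    change h (h' τ) • (show (H ⋙ (H' ⋙ F'')).obj X from x) = x
    rw [hh τ, one_smul]
  · intro hh σ
    ext X x
    exact hh X σ x

theorem ker_le_range_iff [PreservesFiniteLimits H] :
    (MonoidHom.ker h) ≤ MonoidHom.range h' ↔
      ∀ (X' : C') (a' : (H' ⋙ F'').obj X'), IsConnected X' →
        (∃ s : ⊤_ C'' ⟶ H'.obj X', ∀ t : F''.obj (⊤_ C''), F''.map s t = a') →
          ∃ (X : C) (Y' : C') (i : Y' ⟶ H.obj X) (q : Y' ⟶ X'), Mono i ∧ IsConnected Y' := by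
  constructor
  · intro hle X' a' hX' hs
    exact exists_dominating H (H' ⋙ F'') X' a'
      (hle.trans ((range_le_stabilizer_iff H' F'' X' a').mpr hs))
  · intro hh τ hτ
    by_contra hτ'
    obtain ⟨V, hGV, hσV⟩ := exists_openSubgroup_separating (H' ⋙ F'')
      (G := MonoidHom.range h') (isClosed_range H' F'') hτ'
    obtain ⟨X', a', hX', hstab⟩ := exists_object_stabilizer_eq (H' ⋙ F'') V
    obtain ⟨X, Y', i, q, hi, hY'⟩ :=
      hh X' a' hX' ((range_le_stabilizer_iff H' F'' X' a').mp (hstab ▸ hGV))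
    exact hσV (hstab ▸ ker_le_stabilizer H (H' ⋙ F'') X' a' i q hτ)

theorem exact_iff [PreservesFiniteLimits H] [PreservesFiniteColimits H] :
    (Function.Surjective h ∧ (∀ σ : Aut F'', h (h' σ) = 1) ∧
      MonoidHom.ker h = (Subgroup.normalClosure (Set.range h')).topologicalClosure) ↔
    ((H.Full ∧ H.Faithful) ∧
      ∀ X' : C', (∃ X : C, Nonempty (H.obj X ≅ X')) ↔
        ∃ n : ℕ, Nonempty (H'.obj X' ≅ ∐ fun _ : Fin n => ⊤_ C'')) := by
  constructor
  · rintro ⟨hs, ht, hk⟩
    have hfull := full_of_surjective H (H' ⋙ F'') hs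
    refine ⟨⟨hfull, faithful H (H' ⋙ F'')⟩, fun X' => ⟨?_, ?_⟩⟩
    · rintro ⟨X, ⟨e⟩⟩
      obtain ⟨n, ⟨e'⟩⟩ := (comp_trivial_iff H H' F'').mp ht X
      exact ⟨n, ⟨(H'.mapIso e).symm ≪≫ e'⟩⟩
    · intro htriv
      rw [← trivial_iff F''] at htriv
      let T : Set (Aut (H' ⋙ F'')) := {τ | ∀ x : (H' ⋙ F'').obj X', τ • x = x}
      have hT : IsClosed T := by
        simp only [T, Set.ofPred_forall]
        exact isClosed_iInter fun x => isClosed_eq (continuous_id.smul continuous_const)
          continuous_const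
      have hker : ∀ τ ∈ MonoidHom.ker h, ∀ x : (H' ⋙ F'').obj X', τ • x = x := by
        intro τ hτ
        rw [hk] at hτ
        refine hT.closure_subset_iff.mpr ?_ hτ
        have hle : Subgroup.normalClosure (Set.range h') ≤
            (MulAction.toPermHom (Aut (H' ⋙ F'')) ((H' ⋙ F'').obj X')).ker := by
          refine Subgroup.normalClosure_le_normal ?_
          rintro _ ⟨σ, rfl⟩
          exact Equiv.ext fun x => htriv σ x
        exact fun τ' hτ' x => Equiv.congr_fun (hle hτ') x
      have hwd : ∀ (τ τ' : Aut (H' ⋙ F'')), h τ = h τ' →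
          ∀ x : (H' ⋙ F'').obj X', τ • x = τ' • x := by
        intro τ τ' hτ x
        have := hker (τ'⁻¹ * τ) (by rw [MonoidHom.mem_ker, map_mul, map_inv, hτ, inv_mul_cancel]) x
        rwa [mul_smul, inv_smul_eq_iff] at this
      choose s hs' using hs
      let T' : FintypeCat.{w} := (H' ⋙ F'').obj X'
      let _ : MulAction (Aut (H ⋙ (H' ⋙ F''))) T' :=
        { smul := fun σ x => s σ • x
          one_smul := fun x => (hwd (s 1) 1 (by rw [hs', map_one]) x).trans (one_smul _ x)
          mul_smul := fun σ σ' x =>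
            (hwd (s (σ * σ')) (s σ * s σ') (by rw [map_mul, hs', hs', hs']) x).trans
              (mul_smul _ _ x) }
      have hopen : ∀ x : T', IsOpen
          (MulAction.stabilizer (Aut (H ⋙ (H' ⋙ F''))) x : Set (Aut (H ⋙ (H' ⋙ F'')))) := fun x => by
        have hq : Topology.IsQuotientMap h :=
          Topology.IsQuotientMap.of_surjective_continuous (fun σ => ⟨s σ, hs' σ⟩)
            (continuous_autWhisker H (H' ⋙ F''))
        rw [← hq.isOpen_preimage]
        convert stabilizer_isOpen (Aut (H' ⋙ F'')) x using 1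
        ext τ
        exact ⟨fun hτ => (hwd (s (h τ)) τ (hs' _) x).symm.trans hτ,
          fun hτ => (hwd (s (h τ)) τ (hs' _) x).trans hτ⟩
      obtain ⟨X, φ, hb, hφ⟩ := exists_lift (H ⋙ (H' ⋙ F'')) T' hopen
      refine ⟨X, ?_⟩
      obtain ⟨f, -⟩ := exists_iso (H' ⋙ F'') (X := H.obj X) (Y := X') φ hb
        fun τ x => (hφ (h τ) x).trans (hwd (s (h τ)) τ (hs' _) _)
      exact ⟨f⟩
  · rintro ⟨⟨hfull, -⟩, himg⟩
    have ht : ∀ σ : Aut F'', h (h' σ) = 1 :=
      (comp_trivial_iff H H' F'').mpr fun X => (himg (H.obj X)).mp ⟨X, ⟨Iso.refl _⟩⟩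
    refine ⟨surjective_of_full H (H' ⋙ F''), ht, le_antisymm ?_ ?_⟩
    · intro τ hτ
      by_contra hτ'
      obtain ⟨V, hNV, hσV⟩ := exists_openSubgroup_separating (H' ⋙ F'')
        (Subgroup.isClosed_topologicalClosure _) hτ'
      obtain ⟨X', a', hX', hstab⟩ := exists_object_stabilizer_eq (H' ⋙ F'') V
      have htriv : ∃ n : ℕ, Nonempty (H'.obj X' ≅ ∐ fun _ : Fin n => ⊤_ C'') :=
        (normalClosure_le_stabilizer_iff H' F'' X' a').mp
          (hstab ▸ ((Subgroup.le_topologicalClosure _).trans hNV))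
      obtain ⟨X, ⟨e⟩⟩ := (himg X').mpr htriv
      have : Nonempty ((H' ⋙ F'').obj X') := ⟨a'⟩
      exact hσV (hstab ▸ ker_le_stabilizer H (H' ⋙ F'') X' a' e.inv (𝟙 X') hτ)
    · refine Subgroup.topologicalClosure_minimal _ (Subgroup.normalClosure_le_normal ?_) ?_
      · rintro _ ⟨σ, rfl⟩
        exact ht σ
      · exact (isClosed_singleton (x := (1 : Aut (H ⋙ (H' ⋙ F''))))).preimage
          (continuous_autWhisker H (H' ⋙ F''))

end Three

end Groth.Agent.H18Et.GalExact

namespace Groth.Agent.H18Et.GalExact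

variable {C D : Type u} [Category.{v} C] [GaloisCategory C] [Category.{v} D] [GaloisCategory D]

theorem fiberFunctor_of_iso {F G : C ⥤ FintypeCat.{w}} [FiberFunctor F] (e : F ≅ G) :
    FiberFunctor G where
  preservesTerminalObjects := preservesLimitsOfShape_of_natIso e
  preservesPullbacks := preservesLimitsOfShape_of_natIso e
  preservesFiniteCoproducts := ⟨fun _ => preservesColimitsOfShape_of_natIso e⟩
  preservesEpis := Functor.PreservesEpimorphisms.of_iso e
  preservesQuotientsByFiniteGroups _ := preservesColimitsOfShape_of_natIso e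
  reflectsIsos := ⟨fun f _ => by
    have := (NatIso.isIso_map_iff e f).mpr inferInstance
    exact isIso_of_reflects_iso f F⟩

theorem exists_fiberFunctor_comp (H : C ⥤ D) [PreservesFiniteLimits H] [PreservesFiniteColimits H]
    (F' : D ⥤ FintypeCat.{v}) [FiberFunctor F'] : FiberFunctor (H ⋙ F') := by
  obtain ⟨F, ⟨hF⟩⟩ := GaloisCategory.hasFiberFunctor (C := C)
  have : PreservesFiniteLimits (H ⋙ F') := comp_preservesFiniteLimits H F'
  have : PreservesColimitsOfShape (Discrete WalkingPair) (H ⋙ F') :=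
    comp_preservesColimitsOfShape H F'
  obtain ⟨e⟩ := FibreUnique.exists_iso F (H ⋙ F') fun X hX => by
    rw [initial_iff_fiber_empty F]
    by_contra hne
    rw [not_isEmpty_iff] at hne
    have := FibreUnique.epi_to_terminal F (X := X)
    have : Epi (H.map (terminal.from X)) := Functor.map_epi H _
    have : Epi ((H ⋙ F').map (terminal.from X)) :=
      Functor.map_epi F' (H.map (terminal.from X))
    have h1 : IsTerminal ((H ⋙ F').obj (⊤_ C)) := terminalIsTerminal.isTerminalObj (H ⋙ F') _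
    obtain ⟨x, -⟩ := surjective_of_epi (FintypeCat.incl.map ((H ⋙ F').map (terminal.from X)))
      (h1.from (FintypeCat.of PUnit.{v + 1}) PUnit.unit)
    exact hX.false x
  exact fiberFunctor_of_iso e.symm

theorem fullyFaithful_iff (H : C ⥤ D) [PreservesFiniteLimits H] [PreservesFiniteColimits H]
    (F' : D ⥤ FintypeCat.{w}) [FiberFunctor F'] [FiberFunctor (H ⋙ F')] :
    (H.Full ∧ H.Faithful) ↔ ∀ X : C, IsConnected X → IsConnected (H.obj X) :=
  ⟨fun ⟨_, _⟩ => preservesConnected_of_surjective H F' (surjective_of_full H F'),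
    fun h => ⟨full_of_surjective H F' (surjective_of_preservesConnected H F' h), faithful H F'⟩⟩

end Groth.Agent.H18Et.GalExact
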