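import Mathlib.FieldTheory.IsSepClosed
import Mathlib.FieldTheory.Galois.Profinite
import Mathlib.FieldTheory.KrullTopology
import Mathlib.RepresentationTheory.Homological.GroupCohomology.Hilbert90

/-!
# Locally constant cochains on absolute Galois groups live at a finite level
-/

universe u

namespace Groth.Agent.H18Et

variable {K L : Type u} [Field K] [Field L] [Algebra K L] [IsGalois K L]

theorem exists_finite_level {α : Type*} (a : (L ≃ₐ[K] L) → α) (v : α → L)
    (hlc : IsLocallyConstant a) (ha : ∀ σ τ, a τ = a 1 → a (σ * τ) = a σ) :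
    ∃ M : IntermediateField K L, FiniteDimensional K M ∧ IsGalois K M ∧ (∀ σ, v (a σ) ∈ M) ∧
      ∀ σ σ' : L ≃ₐ[K] L, (∀ x ∈ M, σ x = σ' x) → a σ = a σ' := by
  classical
  have hnhd : {σ : L ≃ₐ[K] L | a σ = a 1} ∈ nhds (1 : L ≃ₐ[K] L) :=
    (hlc.isOpen_fiber (a 1)).mem_nhds rfl
  obtain ⟨E, hEfd, hE⟩ := (krullTopology_mem_nhds_one_iff K L _).1 hnhd
  haveI := hEfd
  have hfin : (Set.range (v ∘ a)).Finite := (hlc.comp v).range_finite
  haveI : FiniteDimensional K (IntermediateField.adjoin K (Set.range (v ∘ a))) :=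
    haveI := hfin.to_subtype
    IntermediateField.finiteDimensional_adjoin (fun x _ => Algebra.IsIntegral.isIntegral x)
  let M : IntermediateField K L := IntermediateField.normalClosure K
    (E ⊔ IntermediateField.adjoin K (Set.range (v ∘ a)) : IntermediateField K L) L
  haveI : FiniteDimensional K M := normalClosure.is_finiteDimensional K _ L
  haveI : IsGalois K M := IsGalois.normalClosure K _ L
  refine ⟨M, inferInstance, inferInstance, fun σ =>
    (le_sup_right.trans (IntermediateField.le_normalClosure _) :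
      IntermediateField.adjoin K (Set.range (v ∘ a)) ≤ M) (IntermediateField.subset_adjoin K _ ⟨σ, rfl⟩),
    fun σ σ' h => ?_⟩
  have hτ : σ'⁻¹ * σ ∈ {σ : L ≃ₐ[K] L | a σ = a 1} := hE (by
    rw [SetLike.mem_coe, IntermediateField.mem_fixingSubgroup_iff]
    intro x hx
    have hxM : x ∈ M := (le_sup_left.trans (IntermediateField.le_normalClosure _) : E ≤ M) hx
    rw [AlgEquiv.mul_apply, h x hxM, ← AlgEquiv.mul_apply, inv_mul_cancel]
    rfl)
  have := ha σ' _ hτ
  rwa [mul_inv_cancel_left] at this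

/-- Hilbert 90 for locally constant cocycles. -/
theorem exists_eq_inv_mul_smul (a : (L ≃ₐ[K] L) → Lˣ)
    (ha : ∀ σ τ : L ≃ₐ[K] L, a (σ * τ) = a σ * σ • a τ) (hlc : IsLocallyConstant a) :
    ∃ c : Lˣ, ∀ σ : L ≃ₐ[K] L, a σ = c⁻¹ * σ • c := by
  classical
  have h1 : a 1 = 1 := by
    have := ha 1 1
    simpa using this
  obtain ⟨M, hfd, hgal, hv, hfac⟩ := exists_finite_level a (fun x : Lˣ => (x : L)) hlc
    (fun σ τ h => by rw [ha, h, h1, smul_one, mul_one])
  choose lift hlift using AlgEquiv.restrictNormalHom_surjective (F := K) (K₁ := M) (E := L)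
  have hres : ∀ (σ : L ≃ₐ[K] L) (x : M), (σ.restrictNormal M x : L) = σ x := fun σ x =>
    AlgEquiv.restrictNormal_commutes σ M x
  let b : (M ≃ₐ[K] M) → Mˣ := fun τ => Units.mk0 ⟨(a (lift τ) : L), hv _⟩
    (fun h => (a (lift τ)).ne_zero (congrArg Subtype.val h))
  have hab : ∀ σ : L ≃ₐ[K] L, ((b (σ.restrictNormal M) : M) : L) = a σ := fun σ => by
    refine congrArg Units.val (hfac _ _ fun x hx => ?_)
    rw [← hres (lift _) ⟨x, hx⟩, ← hres σ ⟨x, hx⟩]
    exact congrArg Subtype.val (DFunLike.congr_fun (hlift _) (⟨x, hx⟩ : M))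
  have hb : groupCohomology.IsMulCocycle₁ b := by
    intro τ τ'
    apply Units.ext
    apply Subtype.ext
    have h5 := hab (lift τ * lift τ')
    have h6 : (lift τ * lift τ').restrictNormal M = τ * τ' := by
      show AlgEquiv.restrictNormalHom M (lift τ * lift τ') = _
      rw [map_mul, hlift, hlift]
    rw [h6, ha, Units.val_mul] at h5
    rw [h5, mul_comm (τ • b τ'), Units.val_mul]
    refine congrArg ((a (lift τ) : L) * ·) ?_
    have h7 := hres (lift τ) (b τ' : M)
    have h8 : (lift τ).restrictNormal M = τ := hlift τ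
    rw [h8] at h7
    exact h7.symm
  obtain ⟨c, hc⟩ := groupCohomology.isMulCoboundary₁_of_isMulCocycle₁_of_aut_to_units b hb
  refine ⟨Units.map (algebraMap M L).toMonoidHom c, fun σ => ?_⟩
  have h9 : σ • Units.map (algebraMap M L).toMonoidHom c =
      a σ * Units.map (algebraMap M L).toMonoidHom c := by
    apply Units.ext
    have := congrArg (fun x : Mˣ => ((x : M) : L)) (hc (σ.restrictNormal M))
    simp only [Units.val_div_eq_div_val, IntermediateField.coe_div] at this
    rw [eq_comm] at this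
    rw [hab, eq_div_iff (by simp)] at this
    rw [Units.val_mul]
    exact (hres σ (c : M)).symm.trans this.symm
  rw [h9, mul_comm (a σ), inv_mul_cancel_left]

end Groth.Agent.H18Et
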