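import Groth.Agent.H18Et.RestrictionClass

/-!
# The short exact sequence of free sheaves attached to two open subschemes
-/

set_option autoImplicit false

universe u

open CategoryTheory CategoryTheory.Limits AlgebraicGeometry Opposite Abelian

namespace Groth.Agent.H18Et.MayerVietoris

open FreeSheaf

set_option backward.isDefEq.respectTransparency false
set_option backward.isDefEq.respectTransparency.types false

variable {X : Scheme.{u}}

instance subsingleton_hom_obj {V : Scheme.{u}} (j : V ⟶ X) [Etale j] [Mono j] (Z : X.Etale) :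
    Subsingleton (Z ⟶ obj j) := ⟨fun a b => MorphismProperty.Over.Hom.ext ((cancel_mono j).1 (by
  have ha : a.left ≫ j = Z.hom := (congrArg (a.left ≫ ·) (Category.id_comp j).symm).trans (Over.w a.hom)
  have hb : b.left ≫ j = Z.hom := (congrArg (b.left ≫ ·) (Category.id_comp j).symm).trans (Over.w b.hom)
  rw [ha, hb]))⟩

/-- The projection to the final object. -/
noncomputable abbrev toTop (U : X.Opens) : obj U.ι ⟶ EtCoh.top X := (EtCore.topIsTerminal X).from _

instance mono_toTop (U : X.Opens) : Mono (toTop U) := ⟨fun _ _ _ => Subsingleton.elim _ _⟩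

variable (U V : X.Opens)

/-- The inclusion of the overlap in the first open. -/
noncomputable abbrev m₁ : obj (U ⊓ V).ι ⟶ obj U.ι :=
  mor U.ι (X.homOfLE inf_le_left) (U ⊓ V).ι (X.homOfLE_ι inf_le_left)

/-- The inclusion of the overlap in the second open. -/
noncomputable abbrev m₂ : obj (U ⊓ V).ι ⟶ obj V.ι :=
  mor V.ι (X.homOfLE inf_le_right) (U ⊓ V).ι (X.homOfLE_ι inf_le_right)

theorem aug_comp_eq : (free X).map (m₁ U V) ≫ aug U.ι (toTop U) = (free X).map (m₂ U V) ≫ aug V.ι (toTop V) := by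
  apply (homEquiv _ _).injective
  rw [homEquiv_map, homEquiv_map, aug, aug, Equiv.apply_symm_apply, Equiv.apply_symm_apply,
    ← ConcreteCategory.comp_apply, ← ConcreteCategory.comp_apply, ← Functor.map_comp, ← Functor.map_comp,
    ← op_comp, ← op_comp, PullSections.map_eq_of_terminal _ (m₁ U V ≫ toTop U) (m₂ U V ≫ toTop V)]

/-- `Z[U ∩ V] ⟶ Z[U] ⊞ Z[V] ⟶ Z`. -/
noncomputable def seq : ShortComplex (EtCoh.Ab X) :=
  ShortComplex.mk (biprod.lift ((free X).map (m₁ U V)) (-(free X).map (m₂ U V)))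
    (biprod.desc (aug U.ι (toTop U)) (aug V.ι (toTop V)))
    (by rw [biprod.lift_desc, Preadditive.neg_comp, aug_comp_eq]; exact add_neg_cancel _)

/-- The covering of the final object by two opens. -/
theorem isSheafFor_two (hUV : U ⊔ V = ⊤) (F : EtCoh.Ab X) :
    Presieve.IsSheafFor (F.obj ⋙ CategoryTheory.forget AddCommGrpCat.{u + 1})
      (Presieve.ofArrows (fun b : Bool => bif b then obj U.ι else obj V.ι)
        (fun b => (EtCore.topIsTerminal X).from _)) := by
  refine Presieve.isSheafFor_iff_generate _ |>.2 (((isSheaf_iff_isSheaf_of_type _ _).1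
    ((sheafCompose _ (CategoryTheory.forget AddCommGrpCat.{u + 1})).obj F).property) _
      (mem_topology_of_forall_point _ fun x => ?_))
  have hx : (x : X) ∈ U ⊔ V := hUV ▸ trivial
  rcases hx with h | h
  · exact ⟨obj U.ι, (EtCore.topIsTerminal X).from _, ⟨x, h⟩, Sieve.ofArrows_mk _ _ true, congrArg (· ⟨x, h⟩) ((Category.comp_id _).symm.trans ((Over.w ((EtCore.topIsTerminal X).from (obj U.ι)).hom).trans (Category.id_comp U.ι)))⟩
  · exact ⟨obj V.ι, (EtCore.topIsTerminal X).from _, ⟨x, h⟩, Sieve.ofArrows_mk _ _ false, congrArg (· ⟨x, h⟩) ((Category.comp_id _).symm.trans ((Over.w ((EtCore.topIsTerminal X).from (obj V.ι)).hom).trans (Category.id_comp V.ι)))⟩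

/-- Two maps into the two opens land in the overlap. -/
theorem exists_to_inf {Z : X.Etale} (a : Z ⟶ obj U.ι) (b : Z ⟶ obj V.ι) :
    Nonempty (Z ⟶ obj (U ⊓ V).ι) := by
  have ha : a.left ≫ U.ι = Z.hom := (congrArg (a.left ≫ ·) (Category.id_comp U.ι).symm).trans (Over.w a.hom)
  have hb : b.left ≫ V.ι = Z.hom := (congrArg (b.left ≫ ·) (Category.id_comp V.ι).symm).trans (Over.w b.hom)
  have hr : Set.range Z.hom ⊆ Set.range (U ⊓ V).ι := by
    rintro _ ⟨z, rfl⟩
    rw [Scheme.Opens.range_ι]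
    refine ⟨?_, ?_⟩
    · rw [← ha, Scheme.Hom.comp_apply]; exact (a.left z).2
    · rw [← hb, Scheme.Hom.comp_apply]; exact (b.left z).2
  exact ⟨MorphismProperty.Over.homMk (IsOpenImmersion.lift (U ⊓ V).ι Z.hom hr)
    ((congrArg _ (Category.id_comp _)).trans (IsOpenImmersion.lift_fac _ _ _))⟩

theorem exists_desc (hUV : U ⊔ V = ⊤) {F : EtCoh.Ab X}
    (ψ : (free X).obj (obj U.ι) ⊞ (free X).obj (obj V.ι) ⟶ F) (h : (seq U V).f ≫ ψ = 0) :
    ∃ χ : EtCoh.const X ℤ ⟶ F, (seq U V).g ≫ χ = ψ := by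
  let sU := homEquiv _ F (biprod.inl ≫ ψ)
  let sV := homEquiv _ F (biprod.inr ≫ ψ)
  have h' : F.obj.map (m₁ U V).op sU = F.obj.map (m₂ U V).op sV := by
    rw [← homEquiv_map, ← homEquiv_map]
    refine congrArg _ ?_
    rw [show (seq U V).f = (free X).map (m₁ U V) ≫ biprod.inl + (-(free X).map (m₂ U V)) ≫ biprod.inr from biprod.lift_eq] at h
    rw [Preadditive.add_comp, Preadditive.neg_comp, Preadditive.neg_comp, add_neg_eq_zero] at h
    simpa only [Category.assoc] using h
  let x : ∀ b : Bool, F.obj.obj (op (bif b then obj U.ι else obj V.ι)) := fun b =>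
    match b with
    | true => sU
    | false => sV
  obtain ⟨s, hs, -⟩ := (Presieve.isSheafFor_arrows_iff _ _).1 (isSheafFor_two U V hUV F) x
    (fun i k Z a b hab => by
      show F.obj.map a.op (x i) = F.obj.map b.op (x k)
      cases i <;> cases k <;> dsimp at a b ⊢
      · rw [Subsingleton.elim a b]
      · obtain ⟨c⟩ := exists_to_inf U V b a
        rw [Subsingleton.elim a (c ≫ m₂ U V), Subsingleton.elim b (c ≫ m₁ U V), op_comp, op_comp, Functor.map_comp,
          Functor.map_comp, ConcreteCategory.comp_apply, ConcreteCategory.comp_apply]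
        exact congrArg _ h'.symm
      · obtain ⟨c⟩ := exists_to_inf U V a b
        rw [Subsingleton.elim a (c ≫ m₁ U V), Subsingleton.elim b (c ≫ m₂ U V), op_comp, op_comp, Functor.map_comp,
          Functor.map_comp, ConcreteCategory.comp_apply, ConcreteCategory.comp_apply]
        exact congrArg _ h'
      · rw [Subsingleton.elim a b])
  refine ⟨Ext.addEquiv₀ ((Sheaf.H.equiv₀ F (EtCore.topIsTerminal X)).symm s), ?_⟩
  have he : Sheaf.H.equiv₀ F (EtCore.topIsTerminal X)
      (Ext.mk₀ (Ext.addEquiv₀ ((Sheaf.H.equiv₀ F (EtCore.topIsTerminal X)).symm s))) = s := by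
    rw [show Ext.mk₀ (Ext.addEquiv₀ ((Sheaf.H.equiv₀ F (EtCore.topIsTerminal X)).symm s)) =
      (Sheaf.H.equiv₀ F (EtCore.topIsTerminal X)).symm s from Ext.addEquiv₀.symm_apply_apply _,
      AddEquiv.apply_symm_apply]
  apply biprod.hom_ext'
  · refine (homEquiv _ _).injective ?_
    show homEquiv _ F (biprod.inl ≫ biprod.desc _ _ ≫ _) = sU
    rw [biprod.inl_desc_assoc, homEquiv_aug_comp, he]
    exact hs true
  · refine (homEquiv _ _).injective ?_
    show homEquiv _ F (biprod.inr ≫ biprod.desc _ _ ≫ _) = sV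
    rw [biprod.inr_desc_assoc, homEquiv_aug_comp, he]
    exact hs false

theorem epi_g (hUV : U ⊔ V = ⊤) : Epi (seq U V).g := by
  show Epi (biprod.desc (aug U.ι (toTop U)) (aug V.ι (toTop V)))
  refine Preadditive.epi_of_cancel_zero _ fun {F} χ h => ?_
  have hU : F.obj.map (toTop U).op (Sheaf.H.equiv₀ F (EtCore.topIsTerminal X) (Ext.mk₀ χ)) = 0 := by
    rw [← homEquiv_aug_comp, show aug U.ι (toTop U) ≫ χ = biprod.inl ≫ biprod.desc (aug U.ι (toTop U)) (aug V.ι (toTop V)) ≫ χ from (biprod.inl_desc_assoc _ _ _).symm, h, comp_zero]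
    rw [show (0 : (free X).obj (obj U.ι) ⟶ F) = (0 : (free X).obj (obj U.ι) ⟶ F) ≫ (0 : F ⟶ F) from (zero_comp).symm, homEquiv_comp]
    rfl
  have hV : F.obj.map (toTop V).op (Sheaf.H.equiv₀ F (EtCore.topIsTerminal X) (Ext.mk₀ χ)) = 0 := by
    rw [← homEquiv_aug_comp, show aug V.ι (toTop V) ≫ χ = biprod.inr ≫ biprod.desc (aug U.ι (toTop U)) (aug V.ι (toTop V)) ≫ χ from (biprod.inr_desc_assoc _ _ _).symm, h, comp_zero]
    rw [show (0 : (free X).obj (obj V.ι) ⟶ F) = (0 : (free X).obj (obj V.ι) ⟶ F) ≫ (0 : F ⟶ F) from (zero_comp).symm, homEquiv_comp]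
    rfl
  have hz : Sheaf.H.equiv₀ F (EtCore.topIsTerminal X) (Ext.mk₀ χ) = 0 := by
    refine (isSheafFor_two U V hUV F).isSeparatedFor.ext ?_
    rintro Z k ⟨b⟩
    cases b
    · exact hV.trans (map_zero (F.obj.map _).hom).symm
    · exact hU.trans (map_zero (F.obj.map _).hom).symm
  apply (Ext.mk₀_bijective _ _).injective
  rw [Ext.mk₀_zero]
  exact (Sheaf.H.equiv₀ F (EtCore.topIsTerminal X)).injective (hz.trans (map_zero _).symm)

theorem shortExact_seq (hUV : U ⊔ V = ⊤) : (seq U V).ShortExact := by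
  haveI := epi_g U V hUV
  haveI : Mono (m₁ U V) := ⟨fun _ _ _ => Subsingleton.elim _ _⟩
  haveI := mono_map (m₁ U V)
  haveI : Mono (seq U V).f := mono_of_mono_fac (show (seq U V).f ≫ biprod.fst = (free X).map (m₁ U V) from biprod.lift_fst _ _)
  refine ShortComplex.ShortExact.mk' (ShortComplex.exact_of_g_is_cokernel _ ?_) ‹_› ‹_›
  refine CokernelCofork.IsColimit.ofπ _ _ (fun ψ h => (exists_desc U V hUV ψ h).choose)
    (fun ψ h => (exists_desc U V hUV ψ h).choose_spec) (fun ψ h m hm => ?_)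
  rw [← cancel_epi (seq U V).g, (exists_desc U V hUV ψ h).choose_spec]
  exact hm

end Groth.Agent.H18Et.MayerVietoris
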