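import Groth.Agent.H18Et.IntegralLift
import Groth.Prelude.Def_BigSite

/-!
# Condition (C) for morphisms along which etale neighbourhoods lift
-/

universe u

open CategoryTheory CategoryTheory.Limits AlgebraicGeometry Opposite

namespace Groth.Agent.H18Et

set_option backward.isDefEq.respectTransparency.types false in
theorem propC_of_liftsEtale {X Y : Scheme.{u}} (f : X ⟶ Y) (hf : LiftsEtale f) :
    BigSite.PropC f := by
  intro U g hg
  choose V q hq a ha w hw using fun u : U => hf g hg u
  let v : (∐ V) ⟶ Y := Sigma.desc q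
  have hv : Etale v := by
    have : IsZariskiLocalAtSource (EtCoh.etaleMP.{u}) := inferInstance
    exact IsZariskiLocalAtSource.sigmaDesc (P := EtCoh.etaleMP.{u}) hq
  let s : ∀ u : U, pullback (q u) f ⟶ pullback f v := fun u =>
    pullback.lift (pullback.snd _ _) (pullback.fst _ _ ≫ Sigma.ι V u)
      (by rw [Category.assoc, Sigma.ι_desc]; exact pullback.condition.symm)
  have hsq : ∀ u : U, IsPullback (s u) (pullback.fst (q u) f) (pullback.snd f v) (Sigma.ι V u) := by
    intro u
    refine IsPullback.of_right (h₁₂ := pullback.fst f v) (v₁₃ := f) (h₂₂ := v) ?_ ?_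
      (IsPullback.of_hasPullback f v)
    · exact (congrArg₂ (fun k l => IsPullback k (pullback.fst (q u) f) f l)
        (pullback.lift_fst _ _ _) (Sigma.ι_desc _ _)).mpr (IsPullback.of_hasPullback (q u) f).flip
    · exact pullback.lift_snd _ _ _
  have hso : ∀ u : U, IsOpenImmersion (s u) := fun u =>
    MorphismProperty.of_isPullback (P := @IsOpenImmersion) (hsq u).flip
      (inferInstanceAs (IsOpenImmersion (Sigma.ι V u)))
  have hrange : ∀ u, ∀ p ∈ Set.range (s u).base,
      (pullback.snd f v).base p ∈ Set.range (Sigma.ι V u).base := by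
    rintro u _ ⟨p', rfl⟩
    exact ⟨(pullback.fst (q u) f).base p', ((Scheme.Hom.comp_apply _ _ _).symm.trans
      ((congrArg (fun k => k.base p') (hsq u).w.symm).trans (Scheme.Hom.comp_apply _ _ _)))⟩
  have : IsOpenImmersion (Sigma.desc s) := isOpenImmersion_sigmaDesc _ _ fun i j hij => by
    refine Set.disjoint_left.2 fun p hp hp' => ?_
    exact Set.disjoint_left.1 (TopologicalSpace.Opens.coe_disjoint.2 (disjoint_opensRange_sigmaι V i j hij))
      (hrange i p hp) (hrange j p hp')
  have : Surjective (Sigma.desc s) := by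
    refine Surjective.sigmaDesc_of_union_range_eq_univ (Set.eq_univ_of_forall fun p => ?_)
    obtain ⟨u, y, hy⟩ := (sigmaOpenCover V).exists_eq ((pullback.snd f v).base p)
    obtain ⟨w', hw₁, -⟩ := Scheme.Pullback.exists_preimage_pullback (f := pullback.snd f v)
      (g := Sigma.ι V u) p y hy.symm
    refine Set.mem_iUnion.2 ⟨u, (hsq u).isoPullback.inv.base w', ?_⟩
    exact (Scheme.Hom.comp_apply _ _ _).symm.trans
      ((congrArg (fun k : pullback (pullback.snd f v) (Sigma.ι V u) ⟶ pullback f v => k.base w')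
        (hsq u).isoPullback_inv_fst).trans hw₁)
  have : IsIso (Sigma.desc s) := (isIso_iff_isOpenImmersion_and_surjective _).2 ⟨‹_›, ‹_›⟩
  refine ⟨∐ V, v, hv, inv (Sigma.desc s) ≫ Sigma.desc a, ?_, ⟨fun u => ?_⟩⟩
  · rw [Category.assoc, IsIso.inv_comp_eq]
    refine Sigma.hom_ext _ _ fun u => ?_
    rw [Sigma.ι_desc_assoc, Sigma.ι_desc_assoc, ha]
    exact (pullback.lift_fst _ _ _).symm
  · refine ⟨(s u).base (w u), ?_⟩
    have : s u ≫ inv (Sigma.desc s) ≫ Sigma.desc a = a u := by
      rw [← Sigma.ι_desc (fun b => s b) u, Category.assoc, IsIso.hom_inv_id_assoc, Sigma.ι_desc]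
    exact (Scheme.Hom.comp_apply _ _ _).symm.trans ((congrArg (fun k => k.base (w u)) this).trans (hw u))

end Groth.Agent.H18Et
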