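import Groth.Agent.H18Et.PurityFlat
import Groth.Agent.H05EGA4.SerreCond

/-!
# A finite flat morphism étale off a closed subset of depth two is étale
-/

set_option autoImplicit false
set_option linter.style.haveILetI false

universe u

open CategoryTheory CategoryTheory.Limits AlgebraicGeometry

namespace Groth.Agent.H18Et.PurityFlat

theorem etale_of_depth_affine {X Y : Scheme.{u}} [IsAffine X] [IsLocallyNoetherian X] (U : X.Opens)
    (hU : ∀ x : X, x ∉ U → (2 : ℕ∞) ≤ LocCoh.depth (X.presheaf.stalk x) (X.presheaf.stalk x)) (π : Y ⟶ X)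
    [IsFinite π] [Flat π] (hπ : Etale ((π ⁻¹ᵁ U).ι ≫ π)) : Etale π := by
  haveI : IsAffine Y := isAffine_of_isAffineHom π
  haveI : IsNoetherianRing Γ(X, ⊤) := IsLocallyNoetherian.component_noetherian ⟨⊤, isAffineOpen_top X⟩
  have hfin : π.appTop.hom.Finite := π.finite_app _ (isAffineOpen_top X)
  have hflat : π.appTop.hom.Flat := HasRingHomProperty.appTop @Flat π ‹_›
  rw [HasRingHomProperty.iff_of_isAffine (P := @Etale)]
  algebraize [π.appTop.hom]
  haveI : Algebra.FiniteType Γ(X, ⊤) Γ(Y, ⊤) := inferInstance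
  haveI : Algebra.FinitePresentation Γ(X, ⊤) Γ(Y, ⊤) := Algebra.FinitePresentation.of_finiteType.mp inferInstance
  suffices Algebra.Etale Γ(X, ⊤) Γ(Y, ⊤) from RingHom.etale_algebraMap.mpr this
  refine etale_of_depth fun p hp => ?_
  have hX := isAffineOpen_top X
  let x : X := hX.fromSpec ⟨p, hp⟩
  by_cases hx : x ∈ U
  · refine Or.inr fun q hq hqp => ?_
    obtain ⟨g, hgU, hxg⟩ := hX.exists_basicOpen_le (V := U) ⟨x, hx⟩ trivial
    let W := Y.basicOpen (π.appTop g)
    have hWg : W = π ⁻¹ᵁ X.basicOpen g := (Scheme.preimage_basicOpen π g).symm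
    have hWU : W ≤ π ⁻¹ᵁ U := hWg ▸ Scheme.Hom.preimage_mono π hgU
    have hW : IsAffineOpen W := (isAffineOpen_top Y).basicOpen _
    haveI : IsAffine (W : Scheme.{u}) := hW
    haveI het : Etale (W.ι ≫ π) := by
      haveI := hπ
      rw [← Scheme.homOfLE_ι Y hWU, Category.assoc]
      infer_instance
    have he : W ≤ π ⁻¹ᵁ ⊤ := le_top
    have he' : (⊤ : (W : Scheme.{u}).Opens) ≤ W.ι ⁻¹ᵁ W := fun z _ => z.2
    have h1 : (π.appLE ⊤ W he).hom.Etale := by
      have h2 := HasRingHomProperty.appLE @Etale (W.ι ≫ π) het ⟨⊤, hX⟩ ⟨⊤, isAffineOpen_top _⟩ le_top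
      rw [← Scheme.Hom.appLE_comp_appLE W.ι π _ W _ he he'] at h2
      haveI : IsIso (W.ι.appLE W ⊤ he') := by
        rw [show W.ι.appLE W ⊤ he' = W.ι.app W ≫ (W : Scheme.{u}).presheaf.map (homOfLE he').op from rfl]
        haveI : IsIso (W.ι.app W) := W.ι.isIso_app W (by rw [Scheme.Opens.opensRange_ι])
        have : W.ι ⁻¹ᵁ W = (⊤ : (W : Scheme.{u}).Opens) := top_le_iff.1 he'
        haveI : IsIso (homOfLE he').op := by
          haveI : IsIso (homOfLE he') := ⟨homOfLE this.le, Subsingleton.elim _ _, Subsingleton.elim _ _⟩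
          infer_instance
        infer_instance
      exact (RingHom.Etale.respectsIso.cancel_right_isIso _ _).1 h2
    letI : Algebra Γ(Y, ⊤) Γ(Y, W) := (Y.presheaf.map (homOfLE (le_top : W ≤ ⊤)).op).hom.toAlgebra
    haveI : IsLocalization.Away (π.appTop g) Γ(Y, W) := (isAffineOpen_top Y).isLocalization_basicOpen _
    letI : Algebra Γ(X, ⊤) Γ(Y, W) := (π.appLE ⊤ W he).hom.toAlgebra
    haveI : IsScalarTower Γ(X, ⊤) Γ(Y, ⊤) Γ(Y, W) := .of_algebraMap_eq fun _ => rfl
    haveI : Algebra.Etale Γ(X, ⊤) Γ(Y, W) := RingHom.etale_algebraMap.mp h1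
    haveI : Algebra.Etale Γ(X, ⊤) (Localization.Away (π.appTop g)) :=
      Algebra.Etale.of_equiv
        ((IsLocalization.algEquiv (Submonoid.powers (π.appTop g)) Γ(Y, W) _).restrictScalars Γ(X, ⊤))
    refine (Algebra.basicOpen_subset_etaleLocus_iff_etale.mpr this)
      (show (⟨q, hq⟩ : PrimeSpectrum Γ(Y, ⊤)) ∈ PrimeSpectrum.basicOpen (π.appTop g) from ?_)
    intro hgq
    have hgp : g ∈ p := hqp ▸ hgq
    have : (⟨p, hp⟩ : PrimeSpectrum Γ(X, ⊤)) ∈ PrimeSpectrum.basicOpen g := by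
      have h3 := hX.fromSpec_preimage_basicOpen g
      exact h3.le hxg
    exact this hgp
  · refine Or.inl ?_
    have hxtop : x ∈ (⊤ : X.Opens) := trivial
    letI := TopCat.Presheaf.algebra_section_stalk X.presheaf (⟨x, hxtop⟩ : (⊤ : X.Opens))
    haveI : IsLocalization.AtPrime (X.presheaf.stalk x) p := hX.isLocalization_stalk' ⟨p, hp⟩ hxtop
    let E : X.presheaf.stalk x ≃+* Localization.AtPrime p :=
      (IsLocalization.algEquiv p.primeCompl _ _).toRingEquiv
    rw [← H05EGA4.depth_eq_of_ringEquiv E]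
    exact hU x hx

theorem etale_of_depth_scheme {X Y : Scheme.{u}} [IsLocallyNoetherian X] (U : X.Opens)
    (hU : ∀ x : X, x ∉ U → (2 : ℕ∞) ≤ LocCoh.depth (X.presheaf.stalk x) (X.presheaf.stalk x)) (π : Y ⟶ X)
    [IsFinite π] [Flat π] [Etale (pullback.snd π U.ι)] : Etale π := by
  rw [IsZariskiLocalAtTarget.iff_of_iSup_eq_top (P := @Etale) (fun V : X.affineOpens => (V : X.Opens))
    (iSup_affineOpens_eq_top X)]
  intro V
  haveI : IsAffine ((V : X.Opens) : Scheme.{u}) := V.2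
  haveI : IsFinite (π ∣_ (V : X.Opens)) := IsZariskiLocalAtTarget.restrict ‹_› _
  haveI : Flat (π ∣_ (V : X.Opens)) := IsZariskiLocalAtTarget.restrict ‹_› _
  refine etale_of_depth_affine ((V : X.Opens).ι ⁻¹ᵁ U) (fun x hx => ?_) _ ?_
  · rw [← H05EGA4.depth_eq_of_ringEquiv
      (asIso ((V : X.Opens).ι.stalkMap x)).commRingCatIsoToRingEquiv]
    exact hU _ hx
  · have h1 : Etale (π ∣_ U) := by
      refine (MorphismProperty.cancel_left_of_respectsIso @Etale (pullbackRestrictIsoRestrict π U).hom _).mp ?_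
      rw [pullbackRestrictIsoRestrict_hom_morphismRestrict]
      infer_instance
    have h2 : Etale ((π ∣_ U) ≫ U.ι) := inferInstance
    rw [morphismRestrict_ι] at h2
    let W := (π ∣_ (V : X.Opens)) ⁻¹ᵁ ((V : X.Opens).ι ⁻¹ᵁ U)
    haveI : Etale ((W.ι ≫ (π ∣_ (V : X.Opens))) ≫ (V : X.Opens).ι) := by
      rw [Category.assoc, morphismRestrict_ι, ← Category.assoc]
      have hle : Set.range (W.ι ≫ (π ⁻¹ᵁ (V : X.Opens)).ι) ⊆ Set.range (π ⁻¹ᵁ U).ι := by
        rw [Scheme.Opens.range_ι]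
        rintro _ ⟨z, rfl⟩
        show π ((π ⁻¹ᵁ (V : X.Opens)).ι (W.ι z)) ∈ U
        have hz : (V : X.Opens).ι ((π ∣_ (V : X.Opens)) (W.ι z)) ∈ U := z.2
        rw [← Scheme.Hom.comp_apply, morphismRestrict_ι] at hz
        exact hz
      rw [← IsOpenImmersion.lift_fac (π ⁻¹ᵁ U).ι (W.ι ≫ (π ⁻¹ᵁ (V : X.Opens)).ι) hle, Category.assoc]
      infer_instance
    exact Etale.of_comp (W.ι ≫ (π ∣_ (V : X.Opens))) (V : X.Opens).ι

end Groth.Agent.H18Et.PurityFlat
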