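import Groth.Agent.H18Et.TopInvariance
import Groth.Agent.H18Et.FibreSections

/-!
# Essential surjectivity of base change along universal homeomorphisms is local

If every point of an etale scheme over `S'` has an open neighbourhood coming from an etale scheme
over `S`, then the whole scheme comes from `S`.
-/

universe u

open CategoryTheory CategoryTheory.Limits AlgebraicGeometry Opposite

set_option backward.isDefEq.respectTransparency.types false
set_option linter.unusedSectionVars false

namespace Groth.Agent.H18Et.TopInv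

variable {S S' : Scheme.{u}} (g : S' ⟶ S) [IsIntegralHom g] [UniversallyInjective g] [Surjective g]

/-- A morphism of etale schemes whose base change is universally injective is universally injective. -/
theorem universallyInjective_of_bc {W W' : S.Etale} (m : W ⟶ W')
    (h : UniversallyInjective ((EtCoh.bc g).map m).left) : UniversallyInjective m.left := by
  constructor
  intro P T fst e snd hpb a b hab
  let π : ((EtCoh.bc g).obj W).left ⟶ W.left := pullback.fst W.hom g
  let π' : ((EtCoh.bc g).obj W').left ⟶ W'.left := pullback.fst W'.hom g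
  have hsq : IsPullback ((EtCoh.bc g).map m).left π π' m.left := EtCoh.isPullback_bc_map g m
  have : UniversallyInjective π' := MorphismProperty.of_isPullback (P := @UniversallyInjective)
    (IsPullback.of_hasPullback W'.hom g).flip ‹_›
  have : Surjective π' := MorphismProperty.of_isPullback (P := @Surjective)
    (IsPullback.of_hasPullback W'.hom g).flip ‹_›
  let s := pullback.fst snd (pullback.snd π' e)
  have h1 : IsPullback (pullback.fst π' e) (pullback.snd π' e) π' e := IsPullback.of_hasPullback _ _
  have hT : Function.Injective (pullback.snd π' e).base :=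
    (MorphismProperty.of_isPullback (P := @UniversallyInjective) h1 ‹_› :
      UniversallyInjective (pullback.snd π' e)).1 _ _ _ .of_id_snd
  have : Surjective (pullback.snd π' e) :=
    MorphismProperty.of_isPullback (P := @Surjective) h1 ‹_›
  have : Surjective s := MorphismProperty.of_isPullback (P := @Surjective)
    (IsPullback.of_hasPullback snd (pullback.snd π' e)).flip ‹_›
  obtain ⟨a', rfl⟩ := s.surjective a
  obtain ⟨b', rfl⟩ := s.surjective b
  let r := pullback.snd snd (pullback.snd π' e)
  have hr : UniversallyInjective r := by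
    have hbig : IsPullback (s ≫ fst) r m.left (pullback.snd π' e ≫ e) :=
      (IsPullback.of_hasPullback snd (pullback.snd π' e)).paste_horiz hpb.flip
    rw [← h1.w] at hbig
    exact MorphismProperty.of_isPullback (P := @UniversallyInjective)
      (IsPullback.of_right' hbig hsq.flip) h
  refine congrArg s.base (r.injective (hT ?_))
  rw [← Scheme.Hom.comp_apply, ← Scheme.Hom.comp_apply, ← pullback.condition,
    Scheme.Hom.comp_apply, Scheme.Hom.comp_apply]
  exact hab

variable (U₀ : S'.Etale)

/-- The opens of `U₀` which come from `S`. -/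
def Liftable : Type u :=
  {O : U₀.left.Opens // ∃ W : S.Etale, Nonempty ((EtCoh.bc g).obj W ≅ openObj U₀ O)}

instance : Preorder (Liftable g U₀) := inferInstanceAs (Preorder (Subtype _))

variable {g U₀}

/-- A lift of a liftable open. -/
noncomputable def liftObj (i : Liftable g U₀) : S.Etale := i.2.choose

/-- The defining isomorphism of the lift. -/
noncomputable def liftIso (i : Liftable g U₀) : (EtCoh.bc g).obj (liftObj i) ≅ openObj U₀ i.1 :=
  i.2.choose_spec.some

/-- Inclusion of opens. -/
noncomputable def inclHom {i j : Liftable g U₀} (h : i ≤ j) : openObj U₀ i.1 ⟶ openObj U₀ j.1 :=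
  openLift (𝟙 U₀) j.1 i.1 h

theorem inclHom_openHom {i j : Liftable g U₀} (h : i ≤ j) :
    inclHom h ≫ openHom U₀ j.1 = openHom U₀ i.1 :=
  (openLift_openHom _ _ _ _).trans (Category.comp_id _)

theorem inclHom_comp {i j k : Liftable g U₀} (h : i ≤ j) (h' : j ≤ k) :
    inclHom h ≫ inclHom h' = inclHom (h.trans h') := by
  refine (Scheme.Etale.forget _).map_injective (Over.OverMorphism.ext ?_)
  refine (cancel_mono k.1.ι).1 ?_
  refine (Category.assoc _ _ _).trans ((congrArg (_ ≫ ·)
    (congrArg (fun m => m.left) (inclHom_openHom h'))).trans ?_)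
  exact (congrArg (fun m => m.left) (inclHom_openHom h)).trans
    (congrArg (fun m => m.left) (inclHom_openHom (h.trans h'))).symm

theorem inclHom_refl (i : Liftable g U₀) : inclHom (le_refl i) = 𝟙 _ := by
  refine (Scheme.Etale.forget _).map_injective (Over.OverMorphism.ext ?_)
  refine (cancel_mono i.1.ι).1 ?_
  exact (congrArg (fun m => m.left) (inclHom_openHom (le_refl i))).trans (Category.id_comp _).symm

variable (g) in
/-- Base change is fully faithful. -/
noncomputable def bcFF : (EtCoh.bc g).FullyFaithful :=
  haveI : (EtCoh.bc g).Full := (pullback_full_faithful g EtCoh.etaleMP fun _ h => h).1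
  haveI : (EtCoh.bc g).Faithful := (pullback_full_faithful g EtCoh.etaleMP fun _ h => h).2
  Functor.FullyFaithful.ofFullyFaithful (EtCoh.bc g)

variable (g U₀) in
/-- The diagram of lifts. -/
noncomputable def liftFunctor : Liftable g U₀ ⥤ S.Etale where
  obj := liftObj
  map {i j} h := (bcFF g).preimage ((liftIso i).hom ≫ inclHom (leOfHom h) ≫ (liftIso j).inv)
  map_id i := (bcFF g).map_injective (by
    rw [Functor.FullyFaithful.map_preimage, inclHom_refl, Category.id_comp, Iso.hom_inv_id,
      CategoryTheory.Functor.map_id])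
  map_comp {i j k} h h' := (bcFF g).map_injective (by
    rw [Functor.FullyFaithful.map_preimage, CategoryTheory.Functor.map_comp,
      Functor.FullyFaithful.map_preimage, Functor.FullyFaithful.map_preimage]
    simp only [Category.assoc, Iso.inv_hom_id_assoc]
    rw [← Category.assoc (inclHom _), inclHom_comp])

/-- The comparison of a lift with `U₀`. -/
noncomputable def compHom (i : Liftable g U₀) : ((EtCoh.bc g).obj (liftObj i)).left ⟶ U₀.left :=
  (show ((EtCoh.bc g).obj (liftObj i)).left ⟶ i.1.toScheme from (liftIso i).hom.left) ≫ i.1.ι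

theorem isIso_left {X : Scheme.{u}} {A B : X.Etale} (e : A ≅ B) : IsIso e.hom.left :=
  inferInstanceAs (IsIso ((Scheme.Etale.forget _ ⋙ Over.forget _).mapIso e).hom)

instance isOpenImmersion_compHom (i : Liftable g U₀) : IsOpenImmersion (compHom i) := by
  let k : ((EtCoh.bc g).obj (liftObj i)).left ⟶ i.1.toScheme := (liftIso i).hom.left
  have : IsIso k := isIso_left (liftIso i)
  exact inferInstanceAs (IsOpenImmersion (k ≫ i.1.ι))

theorem range_compHom (i : Liftable g U₀) : Set.range (compHom i).base = (i.1 : Set U₀.left) := by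
  have : Surjective (liftIso i).hom.left := by
    have : IsIso (liftIso i).hom.left :=
      inferInstanceAs (IsIso ((Scheme.Etale.forget _ ⋙ Over.forget _).mapIso (liftIso i)).hom)
    infer_instance
  refine Eq.trans ?_ i.1.range_ι
  exact Set.range_comp i.1.ι.base (liftIso i).hom.left.base |>.trans
    ((congrArg (i.1.ι.base '' ·) (liftIso i).hom.left.surjective.range_eq).trans Set.image_univ)

theorem map_compHom {i j : Liftable g U₀} (h : i ⟶ j) :
    ((EtCoh.bc g).map ((liftFunctor g U₀).map h)).left ≫ compHom j = compHom i := by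
  have h1 : (EtCoh.bc g).map ((liftFunctor g U₀).map h) ≫ ((liftIso j).hom ≫ openHom U₀ j.1) =
      (liftIso i).hom ≫ openHom U₀ i.1 := by
    rw [show (EtCoh.bc g).map ((liftFunctor g U₀).map h) = _ from (bcFF g).map_preimage _]
    refine (Category.assoc _ _ _).trans (congrArg ((liftIso i).hom ≫ ·) ?_)
    refine (Category.assoc _ _ _).trans ?_
    exact (congrArg (inclHom (leOfHom h) ≫ ·) (Iso.inv_hom_id_assoc _ _)).trans
      (inclHom_openHom _)
  exact congrArg (fun m => m.left) h1

variable (g U₀) in
/-- The underlying diagram of schemes. -/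
noncomputable def schFunctor : Liftable g U₀ ⥤ Scheme.{u} :=
  liftFunctor g U₀ ⋙ Scheme.Etale.forget S ⋙ Over.forget S

instance isOpenImmersion_map {i j : Liftable g U₀} (h : i ⟶ j) :
    IsOpenImmersion ((schFunctor g U₀).map h) := by
  have h1 : IsOpenImmersion ((EtCoh.bc g).map ((liftFunctor g U₀).map h)).left := by
    have : IsOpenImmersion (((EtCoh.bc g).map ((liftFunctor g U₀).map h)).left ≫ compHom j) := by
      rw [map_compHom]; exact isOpenImmersion_compHom i
    exact @IsOpenImmersion.of_comp _ _ _ ((EtCoh.bc g).map ((liftFunctor g U₀).map h)).left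
      (compHom j) (isOpenImmersion_compHom j) this
  have := universallyInjective_of_bc g _ (inferInstance : UniversallyInjective
    ((EtCoh.bc g).map ((liftFunctor g U₀).map h)).left)
  have := etale_left ((liftFunctor g U₀).map h)
  exact isOpenImmersion_of_etale_of_universallyInjective ((liftFunctor g U₀).map h).left

/-- The projection of a lift. -/
noncomputable abbrev projHom (i : Liftable g U₀) :
    ((EtCoh.bc g).obj (liftObj i)).left ⟶ (liftObj i).left :=
  pullback.fst (liftObj i).hom g

theorem projHom_bijective (i : Liftable g U₀) : Function.Bijective (projHom i).base := by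
  have h1 : UniversallyInjective (projHom i) := MorphismProperty.of_isPullback
    (P := @UniversallyInjective) (IsPullback.of_hasPullback (liftObj i).hom g).flip ‹_›
  have h2 : Surjective (projHom i) := MorphismProperty.of_isPullback
    (P := @Surjective) (IsPullback.of_hasPullback (liftObj i).hom g).flip ‹_›
  exact ⟨(projHom i).injective, (projHom i).surjective⟩

theorem map_projHom {i j : Liftable g U₀} (h : i ⟶ j)
    (p : ((EtCoh.bc g).obj (liftObj i)).left) :
    (projHom j).base (((EtCoh.bc g).map ((liftFunctor g U₀).map h)).left.base p) =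
      ((schFunctor g U₀).map h).base ((projHom i).base p) :=
  (Scheme.Hom.comp_apply _ _ _).symm.trans ((congrArg (fun k => k.base p)
    (EtCoh.isPullback_bc_map g ((liftFunctor g U₀).map h)).w).trans (Scheme.Hom.comp_apply _ _ _))

theorem exists_inf (i j : Liftable g U₀) :
    ∃ l : Liftable g U₀, l ≤ i ∧ l ≤ j ∧ (i.1 : Set U₀.left) ∩ j.1 ⊆ l.1 := by
  obtain ⟨W, ⟨e⟩⟩ := i.2
  let π : ((EtCoh.bc g).obj W).left ⟶ W.left := pullback.fst W.hom g
  have : IsIntegralHom π := inferInstanceAs (IsIntegralHom (pullback.fst W.hom g))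
  have : UniversallyInjective π := MorphismProperty.of_isPullback
    (P := @UniversallyInjective) (IsPullback.of_hasPullback W.hom g).flip ‹_›
  have : Surjective π := MorphismProperty.of_isPullback
    (P := @Surjective) (IsPullback.of_hasPullback W.hom g).flip ‹_›
  let M : ((EtCoh.bc g).obj W).left.Opens := (e.hom ≫ openHom U₀ i.1).left ⁻¹ᵁ j.1
  let N : W.left.Opens := ⟨π.base '' (M : Set _), by
    rw [← isClosed_compl_iff, ← Set.image_compl_eq ⟨π.injective, π.surjective⟩]
    exact π.isClosedMap _ M.2.isClosed_compl⟩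
  have hN : ∀ p, π.base p ∈ N ↔ (e.hom ≫ openHom U₀ i.1).left.base p ∈ j.1 := fun p =>
    ⟨fun ⟨q, hq, hqp⟩ => π.injective hqp ▸ hq, fun h => ⟨p, h, rfl⟩⟩
  let W' := openObj W N
  let a := (EtCoh.bc g).map (openHom W N) ≫ e.hom ≫ openHom U₀ i.1
  have hsq := EtCoh.isPullback_bc_map g (openHom W N)
  have : IsOpenImmersion ((EtCoh.bc g).map (openHom W N)).left :=
    MorphismProperty.of_isPullback (P := @IsOpenImmersion) hsq.flip
      (inferInstanceAs (IsOpenImmersion N.ι))
  let k : ((EtCoh.bc g).obj W).left ⟶ i.1.toScheme := e.hom.left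
  have : IsIso k := isIso_left e
  let b : ((EtCoh.bc g).obj (openObj W N)).left ⟶ ((EtCoh.bc g).obj W).left :=
    ((EtCoh.bc g).map (openHom W N)).left
  have : IsOpenImmersion b := ‹_›
  have : IsOpenImmersion a.left := inferInstanceAs (IsOpenImmersion (b ≫ k ≫ i.1.ι))
  let R : U₀.left.Opens := a.left.opensRange
  let q : ((EtCoh.bc g).obj W').left ⟶ R.toScheme := a.left.isoOpensRange.hom
  let m : (EtCoh.bc g).obj W' ⟶ openObj U₀ R := MorphismProperty.Over.homMk q (by
    refine (Category.assoc _ _ _).symm.trans ?_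
    refine (congrArg (· ≫ U₀.hom) a.left.isoOpensRange_hom_ι).trans ?_
    exact Over.w a.hom) trivial
  have : IsIso m := by
    have : IsIso ((Over.forget _).map ((Scheme.Etale.forget _).map m)) :=
      inferInstanceAs (IsIso a.left.isoOpensRange.hom)
    have : IsIso ((Scheme.Etale.forget _).map m) :=
      isIso_of_reflects_iso ((Scheme.Etale.forget _).map m) (Over.forget _)
    exact isIso_of_reflects_iso m (Scheme.Etale.forget _)
  refine ⟨⟨R, W', ⟨asIso m⟩⟩, ?_, ?_, ?_⟩
  · rintro _ ⟨p, rfl⟩
    exact (e.hom.left.base (((EtCoh.bc g).map (openHom W N)).left.base p)).2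
  · rintro _ ⟨p, rfl⟩
    refine (hN (((EtCoh.bc g).map (openHom W N)).left.base p)).1 ?_
    refine Set.mem_of_eq_of_mem ((Scheme.Hom.comp_apply _ _ _).symm.trans
      ((congrArg (fun k => k.base p) hsq.w).trans (Scheme.Hom.comp_apply _ _ _))) ?_
    exact ((pullback.fst W'.hom g).base p).2
  · rintro u ⟨hu, hu'⟩
    obtain ⟨p, hp⟩ := k.surjective (⟨u, hu⟩ : i.1.toScheme)
    have hp' : (e.hom ≫ openHom U₀ i.1).left.base p = u :=
      (Scheme.Hom.comp_apply k i.1.ι p).trans (congrArg i.1.ι.base hp)
    have hpN : π.base p ∈ N := (hN p).2 (hp'.symm ▸ hu')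
    obtain ⟨z, hz, -⟩ := Scheme.Pullback.exists_preimage_pullback (f := π) (g := (openHom W N).left)
      p (show (openObj W N).left from (⟨π.base p, hpN⟩ : N.toScheme)) rfl
    refine ⟨hsq.isoPullback.inv.base z, ?_⟩
    refine (Scheme.Hom.comp_apply b (k ≫ i.1.ι) _).trans
      ((congrArg (k ≫ i.1.ι).base ?_).trans hp')
    exact ((Scheme.Hom.comp_apply _ _ _).symm.trans
      (congrArg (fun t : pullback π (openHom W N).left ⟶ ((EtCoh.bc g).obj W).left => t.base z)
        hsq.isoPullback_inv_fst)).trans hz

theorem compHom_map_apply {i j : Liftable g U₀} (h : i ⟶ j)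
    (p : ((EtCoh.bc g).obj (liftObj i)).left) :
    (compHom j).base (((EtCoh.bc g).map ((liftFunctor g U₀).map h)).left.base p) =
      (compHom i).base p :=
  (Scheme.Hom.comp_apply _ _ _).symm.trans (congrArg (fun t => t.base p) (map_compHom h))

instance : (schFunctor g U₀ ⋙ Scheme.forget).IsLocallyDirected where
  cond {i j k} fi fj xi xj hx := by
    obtain ⟨pi, hpi⟩ := (projHom_bijective i).2 xi
    obtain ⟨pj, hpj⟩ := (projHom_bijective j).2 xj
    have hu : (compHom i).base pi = (compHom j).base pj := by
      refine (compHom_map_apply fi pi).symm.trans (Eq.trans ?_ (compHom_map_apply fj pj))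
      refine congrArg (compHom k).base ((projHom_bijective k).1 ?_)
      rw [map_projHom, map_projHom, hpi, hpj]
      exact hx
    obtain ⟨l, hli, hlj, hl⟩ := exists_inf i j
    obtain ⟨p, hp⟩ := (range_compHom l).ge (hl ⟨(range_compHom i).le ⟨pi, rfl⟩,
      (range_compHom j).le ⟨pj, hu.symm⟩⟩)
    refine ⟨l, homOfLE hli, homOfLE hlj, (projHom l).base p, ?_, ?_⟩
    · refine (map_projHom (homOfLE hli) p).symm.trans ((congrArg _ ?_).trans hpi)
      refine (compHom i).isOpenEmbedding.injective ?_
      exact (compHom_map_apply (homOfLE hli) p).trans hp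
    · refine (map_projHom (homOfLE hlj) p).symm.trans ((congrArg _ ?_).trans hpj)
      refine (compHom j).isOpenEmbedding.injective ?_
      exact ((compHom_map_apply (homOfLE hlj) p).trans hp).trans hu

theorem exists_bc_iso (hloc : ∀ u : U₀.left, ∃ i : Liftable g U₀, u ∈ i.1) :
    ∃ W : S.Etale, Nonempty ((EtCoh.bc g).obj W ≅ U₀) := by
  let F := schFunctor g U₀
  let c : Cocone F :=
    { pt := S
      ι := { app := fun i => (liftObj i).hom
             naturality := fun i j h => (Over.w ((liftFunctor g U₀).map h).hom).trans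
               (Category.comp_id _).symm } }
  let q : colimit F ⟶ S := colimit.desc F c
  have hq : ∀ i, colimit.ι F i ≫ q = (liftObj i).hom := fun i => colimit.ι_desc c i
  have : Etale q := by
    have : IsZariskiLocalAtSource (EtCoh.etaleMP.{u}) := inferInstance
    refine (IsZariskiLocalAtSource.iff_of_openCover (P := EtCoh.etaleMP.{u})
      (Scheme.IsLocallyDirected.openCover F)).2 fun i => ?_
    exact (congrArg (fun m => EtCoh.etaleMP m) (hq i)).mpr (liftObj i).prop
  let W : S.Etale := MorphismProperty.Over.mk ⊤ q ‹_›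
  let ιW : ∀ i, liftObj i ⟶ W :=
    fun i => MorphismProperty.Over.homMk (colimit.ι F i) (hq i) trivial
  have hιW : ∀ {i j} (h : i ⟶ j), (liftFunctor g U₀).map h ≫ ιW j = ιW i := fun h =>
    (Scheme.Etale.forget _).map_injective (Over.OverMorphism.ext (colimit.w F h))
  have hsq := fun i => EtCoh.isPullback_bc_map g (ιW i)
  have : ∀ i, IsOpenImmersion ((EtCoh.bc g).map (ιW i)).left := fun i =>
    MorphismProperty.of_isPullback (P := @IsOpenImmersion) (hsq i).flip
      (inferInstanceAs (IsOpenImmersion (colimit.ι F i)))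
  let 𝒰 : U₀.left.OpenCover := Scheme.Cover.mkOfCovers (Liftable g U₀) _ compHom
    (fun u => by
      obtain ⟨i, hi⟩ := hloc u
      obtain ⟨p, hp⟩ := (range_compHom i).ge hi
      exact ⟨i, p, hp⟩) (fun i => isOpenImmersion_compHom i)
  let m : ∀ i, ((EtCoh.bc g).obj (liftObj i)).left ⟶ ((EtCoh.bc g).obj W).left :=
    fun i => ((EtCoh.bc g).map (ιW i)).left
  have hm : ∀ i j, pullback.fst (compHom i) (compHom j) ≫ m i =
      pullback.snd (compHom i) (compHom j) ≫ m j := by
    intro i j
    obtain ⟨l, hli, hlj, hl⟩ := exists_inf i j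
    have hrange : Set.range (pullback.fst (compHom i) (compHom j) ≫ compHom i).base ⊆
        Set.range (compHom l).base := by
      rintro _ ⟨p, rfl⟩
      refine (range_compHom l).ge (hl ⟨(range_compHom i).le ⟨_, (Scheme.Hom.comp_apply _ _ _).symm⟩,
        (range_compHom j).le ⟨(pullback.snd (compHom i) (compHom j)).base p, ?_⟩⟩)
      exact (Scheme.Hom.comp_apply _ _ _).symm.trans
        (congrArg (fun k : pullback (compHom i) (compHom j) ⟶ U₀.left => k.base p)
          pullback.condition.symm)
    let r := IsOpenImmersion.lift (compHom l) _ hrange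
    have hr : r ≫ compHom l = pullback.fst (compHom i) (compHom j) ≫ compHom i :=
      IsOpenImmersion.lift_fac _ _ _
    have key : ∀ {k} (h : l ⟶ k) (t : pullback (compHom i) (compHom j) ⟶
        ((EtCoh.bc g).obj (liftObj k)).left), t ≫ compHom k = r ≫ compHom l → t ≫ m k = r ≫ m l := by
      intro k h t ht
      have h1 : t = r ≫ ((EtCoh.bc g).map ((liftFunctor g U₀).map h)).left :=
        (cancel_mono (compHom k)).1 (ht.trans ((Category.assoc _ _ _).trans
          (congrArg (r ≫ ·) (map_compHom h))).symm)
      rw [h1]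
      refine (Category.assoc _ _ _).trans (congrArg (r ≫ ·) ?_)
      refine (congrArg (fun e => e.left) ((EtCoh.bc g).map_comp ((liftFunctor g U₀).map h) (ιW k))).symm.trans ?_
      exact congrArg (fun e => ((EtCoh.bc g).map e).left) (hιW h)
    exact (key (homOfLE hli) _ hr.symm).trans
      (key (homOfLE hlj) _ (pullback.condition.symm.trans hr.symm)).symm
  let φ : U₀.left ⟶ ((EtCoh.bc g).obj W).left := Scheme.Cover.glueMorphisms 𝒰 m hm
  have hφ : ∀ i, compHom i ≫ φ = m i := fun i => Scheme.Cover.ι_glueMorphisms 𝒰 m hm i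
  let Φ : U₀ ⟶ (EtCoh.bc g).obj W := MorphismProperty.Over.homMk φ (by
    refine Scheme.Cover.hom_ext 𝒰 _ _ fun i => ?_
    refine (Category.assoc _ _ _).symm.trans ((congrArg (· ≫ _) (hφ i)).trans ?_)
    refine (Over.w ((EtCoh.bc g).map (ιW i)).hom).trans ?_
    exact (Over.w ((liftIso i).hom ≫ openHom U₀ i.1).hom).symm) trivial
  have hπ : UniversallyInjective (pullback.fst W.hom g) := MorphismProperty.of_isPullback
    (P := @UniversallyInjective) (IsPullback.of_hasPullback W.hom g).flip ‹_›
  have hinj : Function.Injective φ.base := by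
    intro u u' he
    obtain ⟨i, hi⟩ := hloc u
    obtain ⟨j, hj⟩ := hloc u'
    obtain ⟨p, rfl⟩ := (range_compHom i).ge hi
    obtain ⟨p', rfl⟩ := (range_compHom j).ge hj
    rw [← Scheme.Hom.comp_apply, ← Scheme.Hom.comp_apply, hφ, hφ] at he
    have h1 : colimit.ι F i ((projHom i).base p) = colimit.ι F j ((projHom j).base p') := by
      refine ((congrArg (fun k => k.base p) (hsq i).w).symm.trans ?_)
      refine Eq.trans ?_ (congrArg (fun k => k.base p') (hsq j).w)
      exact congrArg (pullback.fst W.hom g).base he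
    obtain ⟨l, fi, fj, x, hxi, hxj⟩ := (Scheme.IsLocallyDirected.ι_eq_ι_iff F).1 h1
    obtain ⟨pl, rfl⟩ := (projHom_bijective l).2 x
    have e1 : ((EtCoh.bc g).map ((liftFunctor g U₀).map fi)).left.base pl = p :=
      (projHom_bijective i).1 ((map_projHom fi pl).trans hxi)
    have e2 : ((EtCoh.bc g).map ((liftFunctor g U₀).map fj)).left.base pl = p' :=
      (projHom_bijective j).1 ((map_projHom fj pl).trans hxj)
    exact ((congrArg (compHom i).base e1.symm).trans (compHom_map_apply fi pl)).trans
      ((compHom_map_apply fj pl).symm.trans (congrArg (compHom j).base e2))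
  have : Surjective φ := ⟨fun c => by
    obtain ⟨i, x, hx⟩ := Scheme.IsLocallyDirected.ι_jointly_surjective F
      ((pullback.fst W.hom g).base c)
    obtain ⟨p, rfl⟩ := (projHom_bijective i).2 x
    refine ⟨(compHom i).base p, ?_⟩
    rw [← Scheme.Hom.comp_apply, hφ]
    refine (pullback.fst W.hom g).injective ?_
    exact ((Scheme.Hom.comp_apply _ _ _).symm.trans ((congrArg (fun k => k.base p) (hsq i).w).trans
      (Scheme.Hom.comp_apply _ _ _))).trans hx⟩
  have : IsOpenImmersion φ := by
    have : Etale φ := etale_left Φ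
    refine IsOpenImmersion.iff_isIso_stalkMap.2
      ⟨.of_continuous_injective_isOpenMap φ.continuous hinj φ.isOpenMap, fun u => ?_⟩
    obtain ⟨i, hi⟩ := hloc u
    obtain ⟨p, rfl⟩ := (range_compHom i).ge hi
    have h1 : IsOpenImmersion (compHom i ≫ φ) := by rw [hφ]; infer_instance
    have h2 : IsIso ((compHom i ≫ φ).stalkMap p) := inferInstance
    rw [Scheme.Hom.stalkMap_comp] at h2
    have : IsOpenImmersion (compHom i) := isOpenImmersion_compHom i
    have h3 : IsIso ((compHom i).stalkMap p) := inferInstance
    exact @IsIso.of_isIso_comp_right _ _ _ _ _ _ _ h3 h2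
  have : IsIso φ := (isIso_iff_isOpenImmersion_and_surjective φ).2 ⟨‹_›, ‹_›⟩
  have : IsIso Φ := by
    have : IsIso ((Over.forget _).map ((Scheme.Etale.forget _).map Φ)) := inferInstanceAs (IsIso φ)
    have : IsIso ((Scheme.Etale.forget _).map Φ) :=
      isIso_of_reflects_iso ((Scheme.Etale.forget _).map Φ) (Over.forget _)
    exact isIso_of_reflects_iso Φ (Scheme.Etale.forget _)
  exact ⟨W, ⟨(asIso Φ).symm⟩⟩

theorem bc_isEquivalence_of_local
    (hloc : ∀ (U₀ : S'.Etale) (u : U₀.left), ∃ i : Liftable g U₀, u ∈ i.1) :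
    (EtCoh.bc g).IsEquivalence := by
  have : (EtCoh.bc g).Full := (pullback_full_faithful g EtCoh.etaleMP fun _ h => h).1
  have : (EtCoh.bc g).Faithful := (pullback_full_faithful g EtCoh.etaleMP fun _ h => h).2
  have h1 : (EtCoh.bc g).EssSurj := ⟨fun U₀ => exists_bc_iso (hloc U₀)⟩
  exact ⟨inferInstanceAs (EtCoh.bc g).Faithful, inferInstanceAs (EtCoh.bc g).Full, h1⟩

end Groth.Agent.H18Et.TopInv
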