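import Groth.Agent.H18Et.TopInvGlue
import Groth.Agent.H12AlgSp.Bootstrap
import Groth.Agent.H12AlgSp.LQFScheme2
import Groth.Agent.H12AlgSp.Sep
import Groth.Agent.H12AlgSp.SourceDescent
import Groth.Agent.H12AlgSp.QuotSheaf
import Groth.Agent.H18Descent.Basic
import Mathlib.AlgebraicGeometry.Sites.Fpqc

/-!
# Descent of étale schemes along universal homeomorphisms: the quotient step

A separated étale scheme over `S'` which is covered by an étale scheme coming from `S` comes from `S`.
-/

set_option autoImplicit false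

universe u

open CategoryTheory CategoryTheory.Limits AlgebraicGeometry Opposite
open AlgSp Groth.Agent.H13AlgSp Groth.Agent.H12AlgSp

set_option backward.isDefEq.respectTransparency false

namespace Groth.Agent.H18Et.TopInvQuot

variable {S S' : Scheme.{u}} (g : S' ⟶ S)

local notation "F" => Over.pullback g

/-- The projection of a base change. -/
noncomputable abbrev proj (X : Over S) : ((Over.pullback g).obj X).left ⟶ X.left :=
  pullback.fst X.hom g

theorem proj_naturality {X Y : Over S} (f : X ⟶ Y) :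
    ((F).map f).left ≫ proj g Y = proj g X ≫ f.left := pullback.lift_fst _ _ _

theorem map_snd {X Y : Over S} (f : X ⟶ Y) :
    ((F).map f).left ≫ pullback.snd Y.hom g = pullback.snd X.hom g := pullback.lift_snd _ _ _

theorem isPullback_map {X Y : Over S} (f : X ⟶ Y) :
    IsPullback (proj g X) ((F).map f).left f.left (proj g Y) := by
  refine IsPullback.of_bot ?_ (proj_naturality g f).symm (IsPullback.of_hasPullback Y.hom g)
  rw [map_snd, Over.w f]
  exact IsPullback.of_hasPullback X.hom g

variable {g} in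
/-- Transposition of a map to a base change. -/
noncomputable def tr {X : Over S} {T' : Over S'} (c : Over.mk (T'.hom ≫ g) ⟶ X) : T' ⟶ (F).obj X :=
  Over.homMk (pullback.lift c.left T'.hom (Over.w c)) (pullback.lift_snd _ _ _)

variable {g} in
/-- Transposition of a map to a base change. -/
noncomputable def untr {X : Over S} {T' : Over S'} (x : T' ⟶ (F).obj X) : Over.mk (T'.hom ≫ g) ⟶ X :=
  Over.homMk (x.left ≫ proj g X) (by
    have h : x.left ≫ pullback.snd X.hom g = T'.hom := Over.w x
    show (x.left ≫ pullback.fst X.hom g) ≫ X.hom = T'.hom ≫ g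
    rw [Category.assoc, pullback.condition, ← Category.assoc, h])

variable {g} in
theorem tr_left_proj {X : Over S} {T' : Over S'} (c : Over.mk (T'.hom ≫ g) ⟶ X) :
    (tr c).left ≫ proj g X = c.left := pullback.lift_fst _ _ _

variable {g} in
theorem tr_untr {X : Over S} {T' : Over S'} (x : T' ⟶ (F).obj X) : tr (untr x) = x := by
  refine Over.OverMorphism.ext (pullback.hom_ext (tr_left_proj _) ?_)
  exact (pullback.lift_snd _ _ _).trans (Over.w x).symm

variable {g} in
theorem tr_comp {X Y : Over S} {T' : Over S'} (c : Over.mk (T'.hom ≫ g) ⟶ X) (f : X ⟶ Y) :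
    tr (c ≫ f) = tr c ≫ (F).map f := by
  refine Over.OverMorphism.ext (pullback.hom_ext ?_ ?_)
  · rw [Over.comp_left, Category.assoc]
    refine (tr_left_proj (c ≫ f)).trans (Eq.trans ?_ (congrArg ((tr c).left ≫ ·)
      (proj_naturality g f)).symm)
    exact (congrArg (· ≫ f.left) (tr_left_proj c).symm).trans (Category.assoc _ _ _)
  · rw [Over.comp_left, Category.assoc, map_snd]
    exact (pullback.lift_snd _ _ _).trans (pullback.lift_snd _ _ _).symm

variable [IsIntegralHom g] [UniversallyInjective g] [Surjective g]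

theorem surjective_proj (X : Over S) : Surjective (proj g X) :=
  MorphismProperty.of_isPullback (P := @Surjective) (IsPullback.of_hasPullback X.hom g).flip ‹_›

theorem injective_proj (X : Over S) : Function.Injective (proj g X) :=
  haveI : UniversallyInjective (proj g X) := MorphismProperty.of_isPullback (P := @UniversallyInjective)
    (IsPullback.of_hasPullback X.hom g).flip ‹_›
  (proj g X).injective

theorem isClosedMap_proj (X : Over S) : IsClosedMap (proj g X) :=
  haveI : IsIntegralHom (proj g X) := inferInstanceAs (IsIntegralHom (pullback.fst X.hom g))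
  (proj g X).isClosedMap

/-- The relation which a morphism `m : bc W ⟶ U₀` to a separated étale scheme defines on `W`. -/
theorem exists_rel {W : Over S} [Etale W.hom] {U₀ : Over S'} [Etale U₀.hom] [IsSeparated U₀.hom]
    (m : (F).obj W ⟶ U₀) :
    ∃ (R : Over S) (s t : R ⟶ W), Etale s.left ∧ Etale t.left ∧ IsClosedImmersion (prod.lift t s).left ∧
      IsEqvRel s t ∧ ∀ {T' : Over S'} (a b : Over.mk (T'.hom ≫ g) ⟶ W),
        tr a ≫ m = tr b ≫ m ↔ ∃ r, r ≫ t = a ∧ r ≫ s = b := by
  let WW : Over S := W ⨯ W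
  let a₀ : (F).obj WW ⟶ U₀ := (F).map prod.fst ≫ m
  let b₀ : (F).obj WW ⟶ U₀ := (F).map prod.snd ≫ m
  let ab : ((F).obj WW).left ⟶ pullback U₀.hom U₀.hom :=
    pullback.lift a₀.left b₀.left ((Over.w a₀).trans (Over.w b₀).symm)
  let e : pullback (pullback.diagonal U₀.hom) ab ⟶ ((F).obj WW).left := pullback.snd _ _
  haveI : IsOpenImmersion (pullback.diagonal U₀.hom) := inferInstance
  haveI : IsClosedImmersion (pullback.diagonal U₀.hom) := IsSeparated.isClosedImmersion_diagonal
  haveI : IsOpenImmersion e := inferInstance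
  haveI : IsClosedImmersion e := inferInstance
  have he : ∀ {Z : Scheme.{u}} (h : Z ⟶ ((F).obj WW).left),
      Set.range h ⊆ Set.range e ↔ h ≫ a₀.left = h ≫ b₀.left := by
    intro Z h
    have h1 : ab ≫ pullback.fst U₀.hom U₀.hom = a₀.left := pullback.lift_fst _ _ _
    have h2 : ab ≫ pullback.snd U₀.hom U₀.hom = b₀.left := pullback.lift_snd _ _ _
    have heq : e ≫ a₀.left = e ≫ b₀.left := by
      rw [← h1, ← h2, ← Category.assoc, ← Category.assoc,
        show e ≫ ab = pullback.fst _ _ ≫ pullback.diagonal U₀.hom from pullback.condition.symm,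
        Category.assoc, Category.assoc, pullback.diagonal_fst, pullback.diagonal_snd]
    constructor
    · intro hh
      rw [← IsOpenImmersion.lift_fac e h hh, Category.assoc, Category.assoc, heq]
    · intro hh
      let l : Z ⟶ pullback (pullback.diagonal U₀.hom) ab := pullback.lift (h ≫ a₀.left) h (by
        refine pullback.hom_ext ?_ ?_
        · rw [Category.assoc, pullback.diagonal_fst, Category.comp_id, Category.assoc, h1]
        · rw [Category.assoc, pullback.diagonal_snd, Category.comp_id, Category.assoc, h2, hh])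
      rintro _ ⟨z, rfl⟩
      exact ⟨l z, by rw [← Scheme.Hom.comp_apply, pullback.lift_snd]⟩
  have hclopen : IsClopen (Set.range e) :=
    ⟨e.isClosedEmbedding.isClosed_range, e.isOpenEmbedding.isOpen_range⟩
  let π := proj g WW
  have hcl : IsClosed (π '' Set.range e) := isClosedMap_proj g WW _ hclopen.1
  let R₀ : WW.left.Opens := ⟨π '' Set.range e, by
    rw [← isClosed_compl_iff,
      ← Set.image_compl_eq ⟨injective_proj g WW, (surjective_proj g WW).surj⟩]
    exact isClosedMap_proj g WW _ hclopen.2.isClosed_compl⟩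
  let R : Over S := Over.mk (R₀.ι ≫ WW.hom)
  let incl : R ⟶ WW := Over.homMk R₀.ι rfl
  let t : R ⟶ W := incl ≫ prod.fst
  let s : R ⟶ W := incl ≫ prod.snd
  have hlift : prod.lift t s = incl := by
    apply Limits.prod.hom_ext <;> simp [t, s, WW]
  have hmono : ∀ {T : Over S} (r r' : T ⟶ R), r ≫ incl = r' ≫ incl → r = r' := fun r r' hr =>
    Over.OverMorphism.ext ((cancel_mono R₀.ι).1 (congrArg (fun k => Over.Hom.left k) hr))
  have hfac : ∀ {T : Over S} (c : T ⟶ WW),
      Set.range c.left ⊆ (R₀ : Set WW.left) ↔ ∃ r, r ≫ incl = c := by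
    intro T c
    constructor
    · intro hc
      let l := IsOpenImmersion.lift R₀.ι c.left (hc.trans R₀.range_ι.ge)
      have hl : l ≫ R₀.ι = c.left := IsOpenImmersion.lift_fac _ _ _
      refine ⟨Over.homMk l ?_, Over.OverMorphism.ext hl⟩
      show l ≫ R₀.ι ≫ WW.hom = T.hom
      rw [← Category.assoc, hl, Over.w]
    · rintro ⟨r, rfl⟩ _ ⟨z, rfl⟩
      exact (r.left z).2
  have hrel : ∀ {T : Over S} (a b : T ⟶ W),
      (∃ r, r ≫ t = a ∧ r ≫ s = b) ↔ Set.range (prod.lift a b : T ⟶ WW).left ⊆ (R₀ : Set WW.left) := by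
    intro T a b
    rw [hfac]
    refine exists_congr fun r => ⟨fun ⟨h₁, h₂⟩ => ?_, fun h => ?_⟩
    · apply Limits.prod.hom_ext
      · rw [Category.assoc, prod.lift_fst]; exact h₁
      · rw [Category.assoc, prod.lift_snd]; exact h₂
    · exact ⟨(Category.assoc _ _ _).symm.trans ((congrArg (· ≫ prod.fst) h).trans (prod.lift_fst _ _)),
        (Category.assoc _ _ _).symm.trans ((congrArg (· ≫ prod.snd) h).trans (prod.lift_snd _ _))⟩
  have hkey : ∀ {T' : Over S'} (a b : Over.mk (T'.hom ≫ g) ⟶ W),
      tr a ≫ m = tr b ≫ m ↔ ∃ r, r ≫ t = a ∧ r ≫ s = b := by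
    intro T' a b
    let c : Over.mk (T'.hom ≫ g) ⟶ WW := prod.lift a b
    have h₁ : tr a ≫ m = tr c ≫ a₀ := by
      rw [← prod.lift_fst a b, tr_comp, Category.assoc]
    have h₂ : tr b ≫ m = tr c ≫ b₀ := by
      rw [← prod.lift_snd a b, tr_comp, Category.assoc]
    have himg : Set.range c.left = π '' Set.range (tr c).left := by
      rw [← Set.range_comp, ← tr_left_proj c]
      rfl
    rw [hrel, h₁, h₂, show (prod.lift a b).left = c.left from rfl, himg]
    refine ⟨fun h => Set.image_mono ((he _).2 (congrArg (fun k => Over.Hom.left k) h)),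
      fun h => Over.OverMorphism.ext ((he _).1 ((Set.image_subset_image_iff (injective_proj g WW)).1 h))⟩
  have hcompare : ∀ {T : Over S} (a b : T ⟶ W),
      (∃ r, r ≫ t = a ∧ r ≫ s = b) ↔ (F).map a ≫ m = (F).map b ≫ m := by
    intro T a b
    let T' := (F).obj T
    let ε : Over.mk (T'.hom ≫ g) ⟶ T := untr (𝟙 T')
    have hε : ∀ {X : Over S} (f : T ⟶ X), tr (ε ≫ f) = (F).map f := fun f => by
      rw [tr_comp, tr_untr, Category.id_comp]
    rw [← hε a, ← hε b, hkey]
    refine ⟨fun ⟨r, h₁, h₂⟩ => ⟨ε ≫ r, by rw [Category.assoc, h₁], by rw [Category.assoc, h₂]⟩,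
      fun h => ?_⟩
    rw [hrel] at h ⊢
    rintro _ ⟨z, rfl⟩
    obtain ⟨z', rfl⟩ := (surjective_proj g T).surj z
    refine h ⟨z', ?_⟩
    rw [← prod.comp_lift, Over.comp_left, Scheme.Hom.comp_apply]
    refine congrArg _ ?_
    show (𝟙 T'.left ≫ proj g T) z' = _
    rw [Category.id_comp]
  have hW : Etale (prod.fst : W ⨯ W ⟶ W).left ∧ Etale (prod.snd : W ⨯ W ⟶ W).left := by
    rw [← Over.prodLeftIsoPullback_hom_fst, ← Over.prodLeftIsoPullback_hom_snd]
    exact ⟨inferInstance, inferInstance⟩
  refine ⟨R, s, t, ?_, ?_, ?_, ⟨fun T r r' e₁ e₂ => hmono r r' ?_, fun T => ⟨fun a => ?_, ?_, ?_⟩⟩,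
    hkey⟩
  · have := hW.2
    exact inferInstanceAs (Etale (R₀.ι ≫ (prod.snd : W ⨯ W ⟶ W).left))
  · have := hW.1
    exact inferInstanceAs (Etale (R₀.ι ≫ (prod.fst : W ⨯ W ⟶ W).left))
  · rw [hlift]
    exact IsClosedImmersion.of_isPreimmersion R₀.ι (R₀.range_ι.symm ▸ hcl)
  · apply Limits.prod.hom_ext
    · simpa [t] using e₁
    · simpa [s] using e₂
  · exact (hcompare a a).2 rfl
  · exact fun h => (hcompare _ _).2 ((hcompare _ _).1 h).symm
  · exact fun h h' => (hcompare _ _).2 (((hcompare _ _).1 h).trans ((hcompare _ _).1 h'))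

/-- A separated étale scheme over `S'` covered by an étale scheme coming from `S` comes from `S`. -/
theorem exists_descent {W : Over S} [Etale W.hom] {U₀ : Over S'} [Etale U₀.hom] [IsSeparated U₀.hom]
    (m : (F).obj W ⟶ U₀) [Etale m.left] [Surjective m.left] :
    ∃ (Q : Over S), Etale Q.hom ∧ Nonempty ((F).obj Q ≅ U₀) := by
  obtain ⟨R, s, t, hs, ht, hcl, heqv, hkey⟩ := exists_rel g m
  obtain ⟨X, p, _, sq⟩ := exists_quotient_sheaf heqv
  obtain ⟨hX, hpe, hps⟩ := isAlgSpace_of_epi_etale sq
  let T₀ : Over S := Over.mk (𝟙 S)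
  have hterm : IsTerminal ((yon S).obj T₀) := IsTerminal.isTerminalObj (yon S) _ Over.mkIdTerminal
  let π : X ⟶ (yon S).obj T₀ := hterm.from X
  have := lqf_of_etale W.hom
  have hqf : LocP (@LocallyQuasiFinite ⊓ @LocallyOfFiniteType) π := by
    refine locP_of_one_chart (etLocal_inf etLocal_lqf etLocal_lft) (b := 𝟙 _) (Over.mkIdTerminal.from W)
      hpe hps ?_ (hterm.hom_ext _ _) ?_
    · exact repWith_id _ T₀
    · have e : (Over.mkIdTerminal.from W).left = W.hom :=
        (Category.comp_id _).symm.trans (Over.w (Over.mkIdTerminal.from W))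
      rw [e]
      exact ⟨‹_›, inferInstance⟩
  have hdiag : RepWith @IsClosedImmersion (Limits.diag X) := by
    refine repWith_of_fppf_base (Qc := fppfMor) hX.diag ?_ (isPullback_diag_prodHom sq)
      ((repWith_yon_map_iff _ _).2 hcl)
    exact MorphismProperty.RespectsIso.precomp _ _ _
      (repWith_fppf_of_etale (repWith_prodMap hpe hpe) (repWith_prodMap hps hps))
  have hsep : IsSeparatedMor π := by
    let c : X ⨯ X ⟶ pullback π π := pullback.lift prod.fst prod.snd (hterm.hom_ext _ _)
    have hc : pullback.diagonal π = Limits.diag X ≫ c := by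
      apply pullback.hom_ext <;> simp [c]
    have : IsIso c := ⟨prod.lift (pullback.fst π π) (pullback.snd π π),
      by apply Limits.prod.hom_ext <;> simp [c], by apply pullback.hom_ext <;> simp [c]⟩
    show RepWith @IsClosedImmersion (pullback.diagonal π)
    rw [hc]
    exact MorphismProperty.RespectsIso.postcomp _ _ _ hdiag
  obtain ⟨Q, -, μ, hμ, -⟩ := exists_iso_of_lqf_separated hX hsep hqf
  obtain ⟨q, hq⟩ := (yon S).map_surjective (p ≫ inv μ)
  have hqe : Etale q.left := (repWith_yon_map_iff _ q).1 (by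
    rw [hq]; exact MorphismProperty.RespectsIso.postcomp _ _ _ hpe)
  have hqs : Surjective q.left := (repWith_yon_map_iff _ q).1 (by
    rw [hq]; exact MorphismProperty.RespectsIso.postcomp _ _ _ hps)
  haveI : Etale (q.left ≫ Q.hom) := by rw [Over.w q]; infer_instance
  have hQ : Etale Q.hom := EtaleSource.etale' q.left Q.hom
  have hpq : (yon S).map q ≫ μ = p := by simp [hq]
  have hker : ∀ {T : Over S} (a b : T ⟶ W), a ≫ q = b ≫ q ↔ ∃ r, r ≫ t = a ∧ r ≫ s = b := by
    intro T a b
    constructor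
    · intro h
      obtain ⟨r, h₁, h₂⟩ := sq.exists_lift ((yon S).map a) ((yon S).map b) (by
        rw [← hpq, ← Functor.map_comp_assoc, h, Functor.map_comp_assoc])
      obtain ⟨r, rfl⟩ := (yon S).map_surjective r
      exact ⟨r, (yon S).map_injective (by rw [Functor.map_comp, h₁]),
        (yon S).map_injective (by rw [Functor.map_comp, h₂])⟩
    · rintro ⟨r, rfl, rfl⟩
      apply (yon S).map_injective
      rw [Functor.map_comp, ← cancel_mono μ, Category.assoc, hpq, Functor.map_comp _ r,
        Category.assoc, sq.w]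
      simp [hpq]
  let fq : (F).obj W ⟶ (F).obj Q := (F).map q
  haveI : Etale fq.left := MorphismProperty.of_isPullback (P := @Etale) (isPullback_map g q) hqe
  haveI : Surjective fq.left := MorphismProperty.of_isPullback (P := @Surjective) (isPullback_map g q) hqs
  have hsame : ∀ {T' : Over S'} (x y : T' ⟶ (F).obj W), x ≫ fq = y ≫ fq ↔ x ≫ m = y ≫ m := by
    intro T' x y
    conv_rhs => rw [← tr_untr x, ← tr_untr y, hkey, ← hker]
    conv_lhs => rw [← tr_untr x, ← tr_untr y, ← tr_comp, ← tr_comp]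
    refine ⟨fun h => Over.OverMorphism.ext ?_, fun h => by rw [h]⟩
    have := congrArg (fun k => Over.Hom.left k ≫ proj g Q) h
    simpa only [tr_left_proj] using this
  have heff : ∀ {A B : Over S'} (f : (F).obj W ⟶ A) (f' : (F).obj W ⟶ B) [Etale f.left] [Surjective f.left],
      (∀ {T' : Over S'} (x y : T' ⟶ (F).obj W), x ≫ f = y ≫ f → x ≫ f' = y ≫ f') →
      ∃ k : A ⟶ B, f ≫ k = f' := by
    intro A B f f' _ _ h
    have hd : ∀ {Z : Scheme.{u}} (z₁ z₂ : Z ⟶ ((F).obj W).left),
        z₁ ≫ f.left = z₂ ≫ f.left → z₁ ≫ f'.left = z₂ ≫ f'.left := fun z₁ z₂ e => by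
      let T' : Over S' := Over.mk (z₁ ≫ ((F).obj W).hom)
      let x : T' ⟶ (F).obj W := Over.homMk z₁ rfl
      let y : T' ⟶ (F).obj W := Over.homMk z₂ (by
        show z₂ ≫ ((F).obj W).hom = z₁ ≫ ((F).obj W).hom
        rw [← Over.w f, ← Category.assoc, ← e, Category.assoc])
      exact congrArg (fun k => Over.Hom.left k) (h x y (Over.OverMorphism.ext e))
    refine ⟨Over.homMk (EffectiveEpi.desc f.left f'.left hd) ?_,
      Over.OverMorphism.ext (EffectiveEpi.fac f.left f'.left hd)⟩
    rw [← cancel_epi f.left, ← Category.assoc, EffectiveEpi.fac, Over.w, Over.w]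
  obtain ⟨φ, hφ⟩ := heff fq m fun x y h => (hsame x y).1 h
  obtain ⟨ψ, hψ⟩ := heff m fq fun x y h => (hsame x y).2 h
  refine ⟨Q, hQ, ⟨⟨φ, ψ, ?_, ?_⟩⟩⟩
  · refine Over.OverMorphism.ext ((cancel_epi fq.left).1 ?_)
    rw [Over.id_left, Category.comp_id, ← Over.comp_left, ← Category.assoc, hφ, hψ]
  · refine Over.OverMorphism.ext ((cancel_epi m.left).1 ?_)
    rw [Over.id_left, Category.comp_id, ← Over.comp_left, ← Category.assoc, hψ, hφ]

end Groth.Agent.H18Et.TopInvQuot
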