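import Groth.Agent.H18Et.TopInvGlue
import Groth.Agent.H9Hens.EtaleQuotLift

/-!
# Etale schemes lift along thickenings
-/

universe u

open CategoryTheory CategoryTheory.Limits AlgebraicGeometry Opposite TensorProduct

set_option backward.isDefEq.respectTransparency.types false

namespace Groth.Agent.H18Et.TopInv

variable {S S' : Scheme.{u}} (g : S' ⟶ S) [IsIntegralHom g] [UniversallyInjective g] [Surjective g]

/-- An open immersion of a base change into `U₀` gives a liftable open. -/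
theorem exists_liftable_range (U₀ : S'.Etale) (W : S.Etale) (m : (EtCoh.bc g).obj W ⟶ U₀)
    [IsOpenImmersion m.left] :
    ∃ i : Liftable g U₀, i.1 = m.left.opensRange := by
  let R : U₀.left.Opens := m.left.opensRange
  let m' : (EtCoh.bc g).obj W ⟶ openObj U₀ R := MorphismProperty.Over.homMk
    (m.left.isoOpensRange.hom : _ ⟶ R.toScheme) (by
      refine (Category.assoc _ _ _).symm.trans ?_
      exact (congrArg (· ≫ U₀.hom) m.left.isoOpensRange_hom_ι).trans (Over.w m.hom)) trivial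
  have : IsIso m' := by
    have : IsIso ((Over.forget _).map ((Scheme.Etale.forget _).map m')) :=
      inferInstanceAs (IsIso m.left.isoOpensRange.hom)
    have : IsIso ((Scheme.Etale.forget _).map m') :=
      isIso_of_reflects_iso ((Scheme.Etale.forget _).map m') (Over.forget _)
    exact isIso_of_reflects_iso m' (Scheme.Etale.forget _)
  exact ⟨⟨R, W, ⟨asIso m'⟩⟩, rfl⟩

theorem exists_pushout_of_surjective {A B C : Type u} [CommRing A] [CommRing B] [CommRing C]
    (φ : A →+* B) (hφ : Function.Surjective φ) (ψ : B →+* C) (hψ : ψ.Etale) :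
    ∃ (D : Type u) (_ : CommRing D) (σ : A →+* D) (β : D →+* C), σ.Etale ∧
      IsPushout (CommRingCat.ofHom φ) (CommRingCat.ofHom σ) (CommRingCat.ofHom ψ)
        (CommRingCat.ofHom β) := by
  let e : A ⧸ RingHom.ker φ ≃+* B := RingHom.quotientKerEquivOfSurjective hφ
  let ψI : A ⧸ RingHom.ker φ →+* C := ψ.comp e.toRingHom
  have hψI : ψI.Etale :=
    RingHom.Etale.respectsIso.2 ψ e hψ
  algebraize [ψI]
  obtain ⟨D, _, _, hD, ⟨t⟩⟩ :=
    H9Hens.exists_etale_lift_quotient A (RingHom.ker φ) C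
  let β : D →+* C :=
    t.toRingEquiv.toRingHom.comp Algebra.TensorProduct.includeRight.toRingHom
  refine ⟨D, _, algebraMap A D, β, RingHom.etale_algebraMap.mpr hD, ?_⟩
  refine (CommRingCat.isPushout_tensorProduct A (A ⧸ RingHom.ker φ) D).of_iso (Iso.refl _)
    e.toCommRingCatIso (Iso.refl _) t.toRingEquiv.toCommRingCatIso ?_ ?_ ?_ ?_
  · ext a; rfl
  · simp
  · ext a
    exact t.commutes a
  · ext a; rfl

theorem exists_lift_at_of_isClosedImmersion {S S₀ : Scheme.{u}} (i : S₀ ⟶ S) [IsClosedImmersion i]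
    [Surjective i] (U₀ : S₀.Etale) (u : U₀.left) :
    ∃ j : Liftable i U₀, u ∈ j.1 := by
  have : Etale U₀.hom := U₀.prop
  obtain ⟨W, hW, hxW, -⟩ := TopologicalSpace.Opens.isBasis_iff_nbhd.mp S.isBasis_affineOpens
    (TopologicalSpace.Opens.mem_top (i.base (U₀.hom.base u)))
  have hZW : IsAffineOpen (i ⁻¹ᵁ W) := hW.preimage i
  obtain ⟨U₁, hU₁, huU₁, hle⟩ := TopologicalSpace.Opens.isBasis_iff_nbhd.mp U₀.left.isBasis_affineOpens
    (show u ∈ U₀.hom ⁻¹ᵁ (i ⁻¹ᵁ W) from hxW)
  let φ := i.app W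
  let ψ := U₀.hom.appLE (i ⁻¹ᵁ W) U₁ hle
  have hψ : ψ.hom.Etale := HasRingHomProperty.appLE @Etale U₀.hom ‹_› ⟨_, hZW⟩ ⟨_, hU₁⟩ hle
  obtain ⟨D, _, σ, β, hσ, hpo⟩ :=
    exists_pushout_of_surjective φ.hom (i.app_surjective W hW) ψ.hom hψ
  have : Etale (Spec.map (CommRingCat.ofHom σ)) := (HasRingHomProperty.Spec_iff (P := @Etale)).2 hσ
  have hsq : IsPullback (Spec.map φ) hZW.fromSpec hW.fromSpec i :=
    IsOpenImmersion.isPullback _ _ _ _
      ((IsAffineOpen.SpecMap_appLE_fromSpec i hW hZW le_rfl).symm.trans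
        congr(Spec.map $((Scheme.Hom.app_eq_appLE i).symm) ≫ hW.fromSpec))
      (by rw [hW.opensRange_fromSpec, hZW.opensRange_fromSpec])
  have hpb : IsPullback (Spec.map (CommRingCat.ofHom β)) (Spec.map ψ ≫ hZW.fromSpec)
      (Spec.map (CommRingCat.ofHom σ) ≫ hW.fromSpec) i :=
    (isPullback_SpecMap_of_isPushout _ _ _ _ hpo).flip.paste_vert hsq
  let Wt : S.Etale := MorphismProperty.Over.mk ⊤
    (Spec.map (CommRingCat.ofHom σ) ≫ hW.fromSpec)
    (inferInstanceAs (Etale (Spec.map (CommRingCat.ofHom σ) ≫ hW.fromSpec)))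
  let a : ((EtCoh.bc i).obj Wt).left ⟶ U₀.left := hpb.isoPullback.inv ≫ hU₁.fromSpec
  let m : (EtCoh.bc i).obj Wt ⟶ U₀ := MorphismProperty.Over.homMk a (by
    refine (Category.assoc _ _ _).trans ?_
    refine (congrArg (hpb.isoPullback.inv ≫ ·)
      (IsAffineOpen.SpecMap_appLE_fromSpec U₀.hom hZW hU₁ hle).symm).trans ?_
    exact hpb.isoPullback_inv_snd) trivial
  have : IsOpenImmersion a :=
    inferInstanceAs (IsOpenImmersion (hpb.isoPullback.inv ≫ hU₁.fromSpec))
  have : IsOpenImmersion m.left := inferInstanceAs (IsOpenImmersion a)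
  obtain ⟨j, hj⟩ := exists_liftable_range i U₀ Wt m
  refine ⟨j, ?_⟩
  rw [hj]
  obtain ⟨p, hp⟩ := (hU₁.range_fromSpec.ge huU₁ : u ∈ Set.range hU₁.fromSpec.base)
  refine ⟨hpb.isoPullback.hom.base p, ?_⟩
  refine (Scheme.Hom.comp_apply _ _ _).symm.trans ?_
  exact ((congrArg (fun k => k.base p) (Iso.hom_inv_id_assoc hpb.isoPullback hU₁.fromSpec)).trans hp)

theorem bc_isEquivalence_of_thickening {S S₀ : Scheme.{u}} (i : S₀ ⟶ S) [IsClosedImmersion i]
    [Surjective i] : (EtCoh.bc i).IsEquivalence :=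
  bc_isEquivalence_of_local fun U₀ u => exists_lift_at_of_isClosedImmersion i U₀ u

end Groth.Agent.H18Et.TopInv
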