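import Groth.Agent.H18Et.UnitConst
import Mathlib.AlgebraicGeometry.Morphisms.Preimmersion
import Groth.Agent.H06Unram.SmoothQF

/-!
# Normal schemes are unibranch along dense subschemes
-/

set_option backward.isDefEq.respectTransparency false
set_option backward.isDefEq.respectTransparency.types false

universe u

open CategoryTheory CategoryTheory.Limits AlgebraicGeometry Opposite Topology

namespace Groth.Agent.H18Et.ConstSheaf

variable {X Z : Scheme.{u}}

theorem isIrreducible_generalisations {W : Scheme.{u}} (w : W)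
    [IsDomain (W.presheaf.stalk w)] : IsIrreducible {y : W | y ⤳ w} := by
  rw [← Scheme.range_fromSpecStalk, ← Set.image_univ]
  exact (IrreducibleSpace.isIrreducible_univ (X := ↥(Spec (W.presheaf.stalk w)))).image _
    (W.fromSpecStalk w).continuous.continuousOn

theorem exists_fst' (f : Z ⟶ X) (hf : DenseRange f.base) {W : Scheme.{u}} (h : W ⟶ X) [Etale h]
    (w : W) (O : Set W) (hO : IsOpen O) (hw : w ∈ O) :
    ∃ c : ↥(pullback h f), (pullback.fst h f).base c ∈ O :=
  exists_fst f hf (MorphismProperty.Over.mk ⊤ h ‹_›) w O hO hw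

theorem locallyQuasiFinite_of_etale {W : Scheme.{u}} (h : W ⟶ X) [Etale h] : LocallyQuasiFinite h :=
  ((Groth.Agent.H06Unram.etale_iff_smooth_and_locallyQuasiFinite h).1 inferInstance).2

theorem unibranchAlong_of_quasiCompact (hX : Pi1.IsNormalScheme X) (j : Z ⟶ X)
    [IsOpenImmersion j] [QuasiCompact j] (hj : DenseRange j.base) : UnibranchAlong j := by
  suffices H : ∀ (W : Scheme.{u}) (h : W ⟶ X) [Etale h] [IsAffine W] (w : W),
      ∃ c₀ : ↥(pullback h _), ∀ C, IsClopen C → c₀ ∈ C →
        w ∉ closure ((pullback.fst h _).base '' Cᶜ) from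
    fun W hW w => @H W.left W.hom W.prop hW w
  intro W h _ _ w
  haveI := (EtaleNormalScheme.isNormalScheme_of_etale h hX w).1
  haveI : IsOpenImmersion (pullback.fst h j) := MorphismProperty.pullback_fst _ _ inferInstance
  have hd : w ∈ closure (Set.range (pullback.fst h j).base) := by
    rw [mem_closure_iff]
    exact fun O hO hw => (exists_fst' j hj h w O hO hw).elim fun c hc => ⟨_, hc, c, rfl⟩
  obtain ⟨c₀, hc₀⟩ := H17.exists_specializes_of_mem_closure_range (pullback.fst h j) hd
  refine ⟨c₀, fun C hC h₀ hw => ?_⟩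
  haveI : CompactSpace ↥(pullback h j) := inferInstance
  let C' : (pullback h j).Opens := ⟨Cᶜ, hC.compl.isOpen⟩
  haveI : CompactSpace ↥C'.toScheme := isCompact_iff_compactSpace.1 hC.compl.isClosed.isCompact
  haveI : QuasiCompact (C'.ι ≫ pullback.fst h j) :=
    (HasAffineProperty.iff_of_isAffine (P := @QuasiCompact)).mpr inferInstance
  have hr : Set.range (C'.ι ≫ pullback.fst h j).base = (pullback.fst h j).base '' Cᶜ := by
    rw [Scheme.Hom.comp_base, TopCat.coe_comp, Set.range_comp, Scheme.Opens.range_ι]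
    rfl
  obtain ⟨c, hc⟩ := H17.exists_specializes_of_mem_closure_range (C'.ι ≫ pullback.fst h j)
    (show w ∈ closure (Set.range (C'.ι ≫ pullback.fst h j).base) by rwa [hr])
  obtain ⟨_, -, ⟨a, ha, rfl⟩, ⟨b, hb, hb'⟩⟩ := (isIrreducible_generalisations w).2 _ _
    ((pullback.fst h j).isOpenEmbedding.isOpenMap C hC.isOpen)
    ((pullback.fst h j).isOpenEmbedding.isOpenMap Cᶜ hC.compl.isOpen)
    ⟨_, hc₀, c₀, h₀, rfl⟩ ⟨_, hc, C'.ι.base c, c.2, (Scheme.Hom.comp_apply _ _ _).symm⟩
  exact hb ((pullback.fst h j).isOpenEmbedding.injective hb' ▸ ha)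

theorem genericPoint_unique {W : Scheme.{u}} [IsIntegral X] (h : W ⟶ X) [Etale h] (w q : W)
    [IsDomain (W.presheaf.stalk w)] (hq : h q = genericPoint X) (hqw : q ⤳ w) :
    ∀ q' : W, h q' = genericPoint X → q' ⤳ w → q' = q := by
  let g := (W.fromSpecStalk w).base (genericPoint ↥(Spec (W.presheaf.stalk w)))
  have hg : ∀ y : W, h y = genericPoint X → y ⤳ w → y = g := by
    intro y hy hyw
    obtain ⟨z, rfl⟩ := Scheme.range_fromSpecStalk.symm.le hyw
    have hgy : g ⤳ (W.fromSpecStalk w).base z :=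
      (genericPoint_specializes z).map (W.fromSpecStalk w).continuous
    have hgη : h g = genericPoint X :=
      ((hy ▸ hgy.map h.continuous).antisymm (genericPoint_specializes _)).eq
    haveI := locallyQuasiFinite_of_etale h
    have hdis : DiscreteTopology (h ⁻¹' {genericPoint X}) :=
      (h.isDiscrete_preimage_singleton (genericPoint X)).to_subtype
    have hs : (⟨g, hgη⟩ : h ⁻¹' {genericPoint X}) ⤳ ⟨_, hy⟩ :=
      (subtype_specializes_iff _ _).2 hgy
    exact (congrArg Subtype.val (specializes_iff_eq.1 hs)).symm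
  exact fun q' hq' hq'w => (hg q' hq' hq'w).trans (hg q hq hqw).symm

theorem unibranchAlong_of_genericPoint [IsIntegral X]
    (hN : ∀ x : X, IsIntegrallyClosed (X.presheaf.stalk x)) (f : Z ⟶ X) [IsPreimmersion f]
    (hη : genericPoint X ∈ Set.range f.base) : UnibranchAlong f := by
  suffices H : ∀ (W : Scheme.{u}) (h : W ⟶ X) [Etale h] [IsAffine W] (w : W),
      ∃ c₀ : ↥(pullback h _), ∀ C, IsClopen C → c₀ ∈ C →
        w ∉ closure ((pullback.fst h _).base '' Cᶜ) from
    fun W hW w => @H W.left W.hom W.prop hW w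
  intro W h _ _ w
  haveI := (EtaleNormalScheme.isNormalScheme_of_etale h (fun x => ⟨inferInstance, hN x⟩) w).1
  let p := pullback.fst h f
  haveI : IsPreimmersion p := MorphismProperty.pullback_fst _ _ inferInstance
  have hF : (h.base ⁻¹' {genericPoint X}).Finite := by
    haveI : QuasiCompact (X.fromSpecResidueField (genericPoint X)) := inferInstance
    have hr : Set.range (pullback.fst h (X.fromSpecResidueField (genericPoint X))).base =
        h.base ⁻¹' {genericPoint X} := by
      rw [Scheme.Pullback.range_fst, Scheme.range_fromSpecResidueField]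
    haveI := locallyQuasiFinite_of_etale h
    refine IsCompact.finite ?_ (h.isDiscrete_preimage_singleton _)
    rw [← hr]
    exact isCompact_range (pullback.fst h (X.fromSpecResidueField (genericPoint X))).continuous
  have key : ∀ C : Set ↥(pullback h f), IsOpen C → w ∈ closure (p.base '' C) →
      ∃ c ∈ C, h.base (p.base c) = genericPoint X ∧ p.base c ⤳ w := by
    intro C hC hw
    obtain ⟨O, hO, rfl⟩ := p.isEmbedding.isInducing.isOpen_iff.1 hC
    have h1 : p.base '' (p.base ⁻¹' O) ⊆ closure (O ∩ h.base ⁻¹' {genericPoint X}) := by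
      rintro _ ⟨c, hc, rfl⟩
      rw [mem_closure_iff]
      intro O' hO' hc'
      obtain ⟨v, hv, hvη⟩ := ((genericPoint_spec X).mem_open_set_iff
        (h.isOpenMap _ (hO.inter hO'))).2 ⟨h.base (p.base c), trivial, _, ⟨hc, hc'⟩, rfl⟩
      exact ⟨v, hv.2, hv.1, hvη⟩
    have h2 := closure_minimal h1 isClosed_closure hw
    rw [← Set.biUnion_of_singleton (O ∩ h.base ⁻¹' {genericPoint X}),
      (hF.inter_of_right O).closure_biUnion] at h2
    obtain ⟨q, ⟨hqO, hqη⟩, hq⟩ := Set.mem_iUnion₂.1 h2
    obtain ⟨z, hz⟩ := hη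
    obtain ⟨c, hc, -⟩ := Scheme.Pullback.exists_preimage_pullback (f := h) (g := f) q z
      ((Set.mem_singleton_iff.1 hqη).trans hz.symm)
    subst hc
    exact ⟨c, hqO, hqη, specializes_iff_mem_closure.2 hq⟩
  have hd : w ∈ closure (p.base '' Set.univ) := by
    rw [Set.image_univ, mem_closure_iff]
    intro O hO hw
    obtain ⟨v, hv, hxη⟩ := ((genericPoint_spec X).mem_open_set_iff (h.isOpenMap _ hO)).2
      ⟨h.base w, trivial, w, hw, rfl⟩
    obtain ⟨z, hz⟩ := hη
    obtain ⟨c, hc, -⟩ := Scheme.Pullback.exists_preimage_pullback (f := h) (g := f) v z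
      (hxη.trans hz.symm)
    exact ⟨v, hv, c, hc⟩
  obtain ⟨c₀, -, hq, hqw⟩ := key _ isOpen_univ hd
  refine ⟨c₀, fun C hC h₀ hw => ?_⟩
  obtain ⟨c, hc, hcη, hcw⟩ := key _ hC.compl.isOpen hw
  exact hc (p.isEmbedding.injective (genericPoint_unique h w _ hq hqw _ hcη hcw) ▸ h₀)

end Groth.Agent.H18Et.ConstSheaf
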