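import Groth.Agent.H18Et.Vanishing

/-!
# Affine schemes all of whose points are closed with separably closed residue fields
-/

universe u

open CategoryTheory CategoryTheory.Limits AlgebraicGeometry Opposite

namespace Groth.Agent.H18Et

/-- An etale covering algebra of a zero-dimensional ring with separably closed residue fields
splits. -/
theorem exists_algHom_of_zeroDim {A C : Type u} [CommRing A] [CommRing C] [Algebra A C]
    [Algebra.Etale A C] (hmax : ∀ P : Ideal A, P.IsPrime → P.IsMaximal)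
    (hsep : ∀ (M : Ideal A) [M.IsMaximal] (k : Type u) [Field k] [Algebra A k],
      Function.Surjective (algebraMap A k) → RingHom.ker (algebraMap A k) = M → IsSepClosed k)
    (hsurj : Function.Surjective (PrimeSpectrum.comap (algebraMap A C))) :
    Nonempty (C →ₐ[A] A) := by
  let N := nilradical A
  have : HenselianRing A N := H9Hens.henselianRing_of_isNilpotent fun x hx => mem_nilradical.1 hx
  have : IsReduced (A ⧸ N) := (Ideal.isRadical_iff_quotient_reduced N).1 (Ideal.radical_isRadical _)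
  have hmax' : ∀ P : Ideal (A ⧸ N), P.IsPrime → P.IsMaximal := fun P hP => by
    have := hmax _ (hP.comap (Ideal.Quotient.mk N))
    rw [← Ideal.map_comap_of_surjective _ Ideal.Quotient.mk_surjective P]
    refine (Ideal.map_eq_top_or_isMaximal_of_surjective _ Ideal.Quotient.mk_surjective this).resolve_left ?_
    rw [Ideal.map_comap_of_surjective _ Ideal.Quotient.mk_surjective]
    exact hP.ne_top
  obtain ⟨σ⟩ := exists_algHom_of_forall_residue (B := A) (C := C) hmax' fun M hM => by
    let k := (A ⧸ N) ⧸ M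
    let : Field k := Ideal.Quotient.field _
    have hAk : Function.Surjective (algebraMap A k) :=
      Ideal.Quotient.mk_surjective.comp Ideal.Quotient.mk_surjective
    have := hmax _ (hM.isPrime.comap (Ideal.Quotient.mk N))
    have : IsSepClosed k := hsep (M.comap (Ideal.Quotient.mk N)) k hAk (by
      ext a; exact Ideal.Quotient.eq_zero_iff_mem)
    have : Etale (Spec.map (CommRingCat.ofHom (algebraMap A C))) :=
      (HasRingHomProperty.Spec_iff (P := @Etale)).2 (RingHom.etale_algebraMap.mpr inferInstance)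
    obtain ⟨Q, hQ⟩ := hsurj
      (PrimeSpectrum.comap (algebraMap A k) (default : (Spec (CommRingCat.of k))))
    obtain ⟨l, hl, -⟩ := Scheme.exists_fac_of_etale_of_isSepClosed
      (Spec.map (CommRingCat.ofHom (algebraMap A C)))
      (Spec.map (CommRingCat.ofHom (algebraMap A k))) Q hQ
    let σ₀ : CommRingCat.of C ⟶ CommRingCat.of k := Spec.preimage l
    have hσ₀ : CommRingCat.ofHom (algebraMap A C) ≫ σ₀ = CommRingCat.ofHom (algebraMap A k) :=
      Spec.map_injective (by rw [Spec.map_comp, Spec.map_preimage]; exact hl)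
    exact ⟨{ σ₀.hom with commutes' := fun b => ConcreteCategory.congr_hom hσ₀ b }⟩
  obtain ⟨τ, -⟩ := H9Hens.exists_algHom_lift σ
  exact ⟨τ⟩

variable {S : Scheme.{u}} [IsAffine S]

theorem isSepClosed_of_surjective (h2 : ∀ s : S, IsSepClosed (S.residueField s)) (k : Type u)
    [Field k] [Algebra Γ(S, ⊤) k] (hk : Function.Surjective (algebraMap Γ(S, ⊤) k)) :
    IsSepClosed k := by
  let l : Spec (CommRingCat.of k) ⟶ S :=
    Spec.map (CommRingCat.ofHom (algebraMap Γ(S, ⊤) k)) ≫ S.isoSpec.inv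
  have h1 : l.appTop ≫ (Scheme.ΓSpecIso (CommRingCat.of k)).hom =
      CommRingCat.ofHom (algebraMap Γ(S, ⊤) k) := by
    rw [Scheme.Hom.comp_appTop, isoSpec_inv_appTop, Category.assoc,
      Scheme.ΓSpecIso_naturality]
    exact Iso.inv_hom_id_assoc _ _
  let p := Scheme.SpecToEquivOfField k S l
  have hl : Spec.map p.2 ≫ S.fromSpecResidueField p.1 = l :=
    (Scheme.SpecToEquivOfField k S).symm_apply_apply l
  let : Algebra (S.residueField p.1) k := p.2.hom.toAlgebra
  have hs : Function.Surjective (algebraMap (S.residueField p.1) k) := fun x => by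
    obtain ⟨a, rfl⟩ := hk x
    refine ⟨(Scheme.ΓSpecIso _).hom ((S.fromSpecResidueField p.1).appTop a), ?_⟩
    have h3 := ConcreteCategory.congr_hom h1 a
    rw [← hl, Scheme.Hom.comp_appTop, Category.assoc, Scheme.ΓSpecIso_naturality] at h3
    exact h3
  have : Algebra.IsAlgebraic (S.residueField p.1) k := ⟨fun x => by
    obtain ⟨y, rfl⟩ := hs x; exact isAlgebraic_algebraMap y⟩
  have := h2 p.1
  exact Algebra.IsAlgebraic.isSepClosed (F := S.residueField p.1)

set_option backward.isDefEq.respectTransparency.types false in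
theorem surjective_app_top_of_zeroDim (h1 : ∀ s : S, IsClosed ({s} : Set S))
    (h2 : ∀ s : S, IsSepClosed (S.residueField s)) {F G : EtCoh.Ab S} (φ : F ⟶ G) [Epi φ] :
    Function.Surjective (φ.hom.app (op (EtCoh.top S))) := by
  classical
  intro t
  have : CategoryTheory.Sheaf.IsLocallySurjective φ :=
    (CategoryTheory.Sheaf.isLocallySurjective_iff_epi' AddCommGrpCat.{u + 1} φ).2 inferInstance
  have hsieve := Presheaf.imageSieve_mem S.smallEtaleTopology φ.hom (U := op (EtCoh.top S)) t
  choose U γ w hs hw using fun p : S =>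
    exists_of_mem_topology hsieve (show (EtCoh.top S).left from p)
  choose O hO hwO _ using fun p : S => TopologicalSpace.Opens.isBasis_iff_nbhd.mp
    (U p).left.isBasis_affineOpens (TopologicalSpace.Opens.mem_top (w p))
  have hγ : ∀ p, (γ p).left = (U p).hom := fun p =>
    (Category.comp_id _).symm.trans (Over.w (γ p).hom)
  have hbase : ∀ p, (U p).hom.base (w p) = p := fun p => by rw [← hγ]; exact hw p
  have := fun p => (U p).prop
  obtain ⟨fin, hfin⟩ := (isCompact_univ (X := S)).elim_finite_subcover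
    (fun p => (U p).hom.base '' (O p : Set (U p).left))
    (fun p => (U p).hom.isOpenMap _ (O p).2)
    (fun p _ => Set.mem_iUnion.2 ⟨p, w p, hwO p, hbase p⟩)
  have : ∀ p : fin, IsAffine (Scheme.Opens.toScheme (O p.1)) := fun p => hO p.1
  let Z : fin → Scheme.{u} := fun p => Scheme.Opens.toScheme (O p.1)
  let d : ∀ p : fin, Z p ⟶ S := fun p => Scheme.Opens.ι (O p.1) ≫ (U p.1).hom
  have : IsZariskiLocalAtSource (EtCoh.etaleMP.{u}) := inferInstance
  have hd : ∀ p, Etale (d p) := fun p => by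
    have : Etale (U p.1).hom := (U p.1).prop
    exact inferInstanceAs (Etale (Scheme.Opens.ι (O p.1) ≫ (U p.1).hom))
  have hdesc : Etale (Limits.Sigma.desc d) :=
    IsZariskiLocalAtSource.sigmaDesc (P := EtCoh.etaleMP.{u}) hd
  let T := ∐ Z
  let ψ : Γ(S, ⊤) ⟶ Γ(T, ⊤) := (Limits.Sigma.desc d).appTop
  let : Algebra Γ(S, ⊤) Γ(T, ⊤) := ψ.hom.toAlgebra
  have hψ : Spec.map ψ = T.isoSpec.inv ≫ Limits.Sigma.desc d ≫ S.isoSpec.hom := by
    rw [← Scheme.isoSpec_hom_naturality, Iso.inv_hom_id_assoc]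
  have : Algebra.Etale Γ(S, ⊤) Γ(T, ⊤) := by
    have : Etale (Spec.map ψ) := by rw [hψ]; infer_instance
    exact (HasRingHomProperty.Spec_iff (P := @Etale)).1 this
  obtain ⟨σ⟩ := exists_algHom_of_zeroDim (A := Γ(S, ⊤)) (C := Γ(T, ⊤))
    (fun P hP => by
      refine (PrimeSpectrum.isClosed_singleton_iff_isMaximal ⟨P, hP⟩).1 ?_
      have := (S.isoSpec.hom.homeomorph.isClosedMap) _ (h1 (S.isoSpec.inv.base ⟨P, hP⟩))
      rwa [Set.image_singleton, Scheme.Hom.homeomorph_apply, ← Scheme.Hom.comp_apply,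
        Iso.inv_hom_id] at this)
    (fun M _ k _ _ hk _ => isSepClosed_of_surjective h2 k hk)
    (fun q => by
      obtain ⟨p, hp⟩ := Set.mem_iUnion.1 (hfin (Set.mem_univ (S.isoSpec.inv.base q)))
      obtain ⟨hpf, v, hv, hvq⟩ := Set.mem_iUnion.1 hp
      refine ⟨T.isoSpec.hom.base ((Limits.Sigma.ι Z ⟨p, hpf⟩).base ⟨v, hv⟩), ?_⟩
      change (Spec.map ψ).base _ = q
      have h3 : Limits.Sigma.ι Z ⟨p, hpf⟩ ≫ T.isoSpec.hom ≫ Spec.map ψ =
          d ⟨p, hpf⟩ ≫ S.isoSpec.hom := by
        rw [hψ, Iso.hom_inv_id_assoc, ← Category.assoc, Sigma.ι_desc]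
      refine (congrArg (fun k => k.base (⟨v, hv⟩ : Z ⟨p, hpf⟩)) h3).trans ?_
      refine (congrArg S.isoSpec.hom.base hvq).trans ?_
      exact (Scheme.Hom.comp_apply _ _ _).symm.trans
        (congrArg (fun k : Spec Γ(S, ⊤) ⟶ Spec Γ(S, ⊤) => k.base q) S.isoSpec.inv_hom_id))
  let a : S ⟶ T := S.isoSpec.hom ≫ Spec.map (CommRingCat.ofHom σ.toRingHom) ≫ T.isoSpec.inv
  have ha : a ≫ Limits.Sigma.desc d = 𝟙 S := by
    have h4 : T.isoSpec.inv ≫ Limits.Sigma.desc d = Spec.map ψ ≫ S.isoSpec.inv := by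
      rw [hψ, Category.assoc, Category.assoc, Iso.hom_inv_id, Category.comp_id]
    have h5 : ψ ≫ CommRingCat.ofHom σ.toRingHom = 𝟙 _ :=
      CommRingCat.hom_ext (RingHom.ext σ.commutes)
    simp only [a, Category.assoc, h4]
    rw [← Spec.map_comp_assoc, h5, Spec.map_id, Category.id_comp, Iso.hom_inv_id]
  let W : fin → S.Opens := fun p => a ⁻¹ᵁ (Limits.Sigma.ι Z p).opensRange
  let P : fin → S.Etale := fun p => MorphismProperty.Over.mk ⊤ (W p).ι inferInstance
  let π : ∀ p, P p ⟶ EtCoh.top S := fun p =>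
    MorphismProperty.Over.homMk (W p).ι (Category.comp_id _) trivial
  let b : ∀ p : fin, (W p).toScheme ⟶ Z p := fun p =>
    IsOpenImmersion.lift (Limits.Sigma.ι Z p) ((W p).ι ≫ a) (by rintro _ ⟨x, rfl⟩; exact x.2)
  let β : ∀ p : fin, P p ⟶ U p.1 := fun p =>
    MorphismProperty.Over.homMk (b p ≫ Scheme.Opens.ι (O p.1)) (by
      refine (Category.assoc _ _ _).trans ?_
      change b p ≫ d p = (W p).ι
      rw [← Sigma.ι_desc d p, ← Category.assoc, IsOpenImmersion.lift_fac, Category.assoc, ha,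
        Category.comp_id]) trivial
  choose s₀ hs₀ using hs
  let s : ∀ p, ToType (F.obj.obj (op (P p))) := fun p => F.obj.map (β p).op (s₀ p.1)
  have hgen : Sieve.generate (Presieve.ofArrows P π) ∈ S.smallEtaleTopology (EtCoh.top S) := by
    refine mem_topology_of_forall_point _ fun x => ?_
    obtain ⟨p, v, hv⟩ := (sigmaOpenCover Z).exists_eq (a.base x)
    exact ⟨P p, π p, ⟨x, v, hv⟩, ⟨P p, 𝟙 _, π p, Presieve.ofArrows.mk p, Category.id_comp _⟩, rfl⟩
  have hsheaf : Presieve.IsSheafFor (F.obj ⋙ CategoryTheory.forget AddCommGrpCat.{u + 1})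
      (Presieve.ofArrows P π) := by
    rw [Presieve.isSheafFor_iff_generate]
    exact ((isSheaf_iff_isSheaf_of_type _ _).1
      ((sheafCompose _ (CategoryTheory.forget AddCommGrpCat.{u + 1})).obj F).property) _ hgen
  have hcomp : Presieve.Arrows.Compatible (F.obj ⋙ CategoryTheory.forget AddCommGrpCat.{u + 1}) π s := by
    intro p p' V gp gp' hV
    by_cases hpp : p = p'
    · subst hpp
      have : gp = gp' := by
        apply (Scheme.Etale.forget _).map_injective
        apply Over.OverMorphism.ext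
        exact (cancel_mono (W p).ι).1 (congrArg (fun e => e.left) hV)
      rw [this]
    · refine sect_ext' (F := F) (U := V) _ _ fun x =>
        ⟨_, _, SeparableClosure.isSepClosed _, geomPt x, geomPt_base x, fun z => ?_⟩
      exfalso
      have hv : (W p).ι.base (gp.left.base (ptOf z)) = (W p').ι.base (gp'.left.base (ptOf z)) :=
        congrArg (fun e => e.left.base (ptOf z)) hV
      exact Set.disjoint_left.1 (TopologicalSpace.Opens.coe_disjoint.2
        (disjoint_opensRange_sigmaι Z p p' hpp)) (gp.left.base (ptOf z)).2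
        ((congrArg (· ∈ (W p' : Set S)) hv).mpr (gp'.left.base (ptOf z)).2)
  obtain ⟨s', hs', -⟩ := (Presieve.isSheafFor_arrows_iff _ _).1 hsheaf s hcomp
  refine ⟨s', ?_⟩
  refine (((isSheaf_iff_isSheaf_of_type _ _).1
    ((sheafCompose _ (CategoryTheory.forget AddCommGrpCat.{u + 1})).obj G).property _ hgen).isSeparatedFor).ext ?_
  rintro V k ⟨_, l, _, ⟨p⟩, rfl⟩
  change G.obj.map (l ≫ π p).op (φ.hom.app (op (EtCoh.top S)) s') = G.obj.map (l ≫ π p).op t
  simp only [op_comp, Functor.map_comp, CategoryTheory.comp_apply]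
  refine congrArg _ ?_
  refine (NatTrans.naturality_apply φ.hom (π p).op s').symm.trans ?_
  refine (congrArg (φ.hom.app (op (P p))) (hs' p)).trans ?_
  refine (NatTrans.naturality_apply φ.hom (β p).op (s₀ p.1)).trans ?_
  refine (congrArg (G.obj.map (β p).op) (hs₀ p.1)).trans ?_
  rw [← CategoryTheory.comp_apply, ← Functor.map_comp, ← op_comp]
  exact congrArg (fun e => G.obj.map e t) (congrArg Quiver.Hom.op
    ((EtCore.topIsTerminal S).hom_ext _ _))

end Groth.Agent.H18Et
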